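import Groth.Agent.Lib.Helper60.TensorRestrictA

set_option autoImplicit false
universe u
open CategoryTheory AlgebraicGeometry TopologicalSpace Opposite TensorProduct

namespace Groth.Agent.Lib.Helper60.TensorRestrict

open Groth.Agent.Lib.Helper35.Gen Groth.Agent.Lib.Helper60.TensorLib

variable {X Y : Scheme.{u}} (j : Y ⟶ X) [IsOpenImmersion j] (M N : X.Modules)

/-- sections of the sectionwise tensor product on `X` -/
abbrev PX (W : X.Opens) : Type u :=
  ↑((CohB1.toPMod M).obj (op W)) ⊗[↑((X.sheaf.obj ⋙ forget₂ CommRingCat RingCat).obj (op W))]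
    ↑((CohB1.toPMod N).obj (op W))

/-- sections of the sectionwise tensor product of the restrictions on `Y` -/
abbrev PY (V : Y.Opens) : Type u :=
  ↑((CohB1.toPMod (M.restrict j)).obj (op V)) ⊗[↑((Y.sheaf.obj ⋙ forget₂ CommRingCat RingCat).obj (op V))]
    ↑((CohB1.toPMod (N.restrict j)).obj (op V))

/-- `toX` as an additive equivalence on the module carriers. -/
def toXEquiv (F : X.Modules) (V : Y.Opens) :
    ↑((CohB1.toPMod (F.restrict j)).obj (op V)) ≃+ ↑((CohB1.toPMod F).obj (op (j ''ᵁ V))) where
  toFun m := m
  invFun m := m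
  left_inv _ := rfl
  right_inv _ := rfl
  map_add' _ _ := rfl

theorem exists_cmp (V : Y.Opens) :
    ∃ c : PY j M N V →+ PX M N (j ''ᵁ V), Function.Bijective c ∧
      ∀ (m : ↑((CohB1.toPMod (M.restrict j)).obj (op V)))
        (n : ↑((CohB1.toPMod (N.restrict j)).obj (op V))),
        c (TensorProduct.tmul ↑((Y.sheaf.obj ⋙ forget₂ CommRingCat RingCat).obj (op V)) m n) =
        TensorProduct.tmul ↑((X.sheaf.obj ⋙ forget₂ CommRingCat RingCat).obj (op (j ''ᵁ V)))
          (toXEquiv j M V m) (toXEquiv j N V n) :=
  exists_tensor_compare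
    (S := ↑((Y.sheaf.obj ⋙ forget₂ CommRingCat RingCat).obj (op V)))
    (R := ↑((X.sheaf.obj ⋙ forget₂ CommRingCat RingCat).obj (op (j ''ᵁ V))))
    ((j.appIso V).inv.hom) ((j.appIso V).symm.commRingCatIsoToRingEquiv.surjective)
    (toXEquiv j M V) (toXEquiv j N V)
    (fun _ _ => rfl) (fun _ _ => rfl)

/-- The comparison `M(jV) ⊗_{O_Y(V)} N(jV) → M(jV) ⊗_{O_X(jV)} N(jV)`. -/
noncomputable def cmp (V : Y.Opens) : PY j M N V →+ PX M N (j ''ᵁ V) :=
  (exists_cmp j M N V).choose

theorem cmp_bijective (V : Y.Opens) : Function.Bijective (cmp j M N V) :=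
  (exists_cmp j M N V).choose_spec.1

theorem cmp_tmul (V : Y.Opens) (m : ↑((CohB1.toPMod (M.restrict j)).obj (op V)))
    (n : ↑((CohB1.toPMod (N.restrict j)).obj (op V))) :
    cmp j M N V (TensorProduct.tmul ↑((Y.sheaf.obj ⋙ forget₂ CommRingCat RingCat).obj (op V)) m n) =
      TensorProduct.tmul ↑((X.sheaf.obj ⋙ forget₂ CommRingCat RingCat).obj (op (j ''ᵁ V)))
        (toXEquiv j M V m) (toXEquiv j N V n) :=
  (exists_cmp j M N V).choose_spec.2 m n

/-- the sectionwise tensor product on `X` -/
noncomputable abbrev PreX : X.PresheafOfModules := CohB1.tensorPre M N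
/-- the sectionwise tensor product of the restrictions on `Y` -/
noncomputable abbrev PreY : Y.PresheafOfModules := CohB1.tensorPre (M.restrict j) (N.restrict j)

/-- restriction on the sectionwise tensor product of the restrictions, as an additive map -/
noncomputable def resY {V V' : Y.Opens} (i : V' ⟶ V) : PY j M N V →+ PY j M N V' :=
  ((PreY j M N).presheaf.map i.op).hom

/-- restriction on the sectionwise tensor product, as an additive map -/
noncomputable def resX {W W' : X.Opens} (i : W' ⟶ W) : PX M N W →+ PX M N W' :=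
  ((PreX M N).presheaf.map i.op).hom

theorem cmp_natural' {V V' : Y.Opens} (i : V' ⟶ V) :
    (cmp j M N V').comp (resY j M N i) = (resX M N (j.opensFunctor.map i)).comp (cmp j M N V) := by
  apply addHom_ext'
  intro m n
  rw [AddMonoidHom.comp_apply, AddMonoidHom.comp_apply, cmp_tmul]
  exact cmp_tmul j M N V' _ _

theorem cmp_natural {V V' : Y.Opens} (i : V' ⟶ V) (z : PY j M N V) :
    cmp j M N V' (resY j M N i z) = resX M N (j.opensFunctor.map i) (cmp j M N V z) :=
  DFunLike.congr_fun (cmp_natural' j M N i) z

/-- the sheafification map of the sectionwise tensor product on `X`, on abelian presheaves -/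
noncomputable abbrev ηX : (PreX M N).presheaf ⟶ (CohB1.tensorMod M N).presheaf :=
  (PresheafOfModules.toPresheaf _).map (SecTwist.toTensor M N)

/-- `β` on abelian presheaves -/
noncomputable abbrev βY : (PreY j M N).presheaf ⟶ ((CohB1.tensorMod M N).restrict j).presheaf :=
  (PresheafOfModules.toPresheaf _).map (β j M N)

theorem β_app' (V : Y.Opens) :
    (show PY j M N V →+ Γ(CohB1.tensorMod M N, j ''ᵁ V) from ((βY j M N).app (op V)).hom) =
      (show PX M N (j ''ᵁ V) →+ Γ(CohB1.tensorMod M N, j ''ᵁ V) from
        ((ηX M N).app (op (j ''ᵁ V))).hom).comp (cmp j M N V) := by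
  apply addHom_ext'
  intro m n
  rw [AddMonoidHom.comp_apply, cmp_tmul]
  rfl

theorem β_app (V : Y.Opens) (z : PY j M N V) :
    (show Γ(CohB1.tensorMod M N, j ''ᵁ V) from ((βY j M N).app (op V)).hom z) =
      ((ηX M N).app (op (j ''ᵁ V))).hom (cmp j M N V z) :=
  DFunLike.congr_fun (β_app' j M N V) z

instance : Presheaf.IsLocallyInjective (Opens.grothendieckTopology X) (ηX M N) := by
  change Presheaf.IsLocallyInjective (Opens.grothendieckTopology X)
    (CategoryTheory.toSheafify (Opens.grothendieckTopology X) (PreX M N).presheaf)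
  infer_instance

instance : Presheaf.IsLocallySurjective (Opens.grothendieckTopology X) (ηX M N) := by
  change Presheaf.IsLocallySurjective (Opens.grothendieckTopology X)
    (CategoryTheory.toSheafify (Opens.grothendieckTopology X) (PreX M N).presheaf)
  infer_instance

/-- `ηX` restricted to `Y`. -/
noncomputable abbrev ηY : j.opensFunctor.op ⋙ (PreX M N).presheaf ⟶
    j.opensFunctor.op ⋙ (CohB1.tensorMod M N).presheaf :=
  Functor.whiskerLeft j.opensFunctor.op (ηX M N)

instance : Presheaf.IsLocallyInjective (Opens.grothendieckTopology Y) (ηY j M N) :=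
  Presheaf.isLocallyInjective_whisker (Opens.grothendieckTopology Y) (Opens.grothendieckTopology X)
    j.opensFunctor (ηX M N)

instance : Presheaf.IsLocallySurjective (Opens.grothendieckTopology Y) (ηY j M N) :=
  Presheaf.isLocallySurjective_whisker (Opens.grothendieckTopology Y) (Opens.grothendieckTopology X)
    j.opensFunctor (ηX M N)

instance isLocallyInjective_βY :
    Presheaf.IsLocallyInjective (Opens.grothendieckTopology Y) (βY j M N) where
  equalizerSieve_mem {V} z z' h := by
    have h' : ((ηY j M N).app V).hom (cmp j M N V.unop z) =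
        ((ηY j M N).app V).hom (cmp j M N V.unop z') := by
      have e1 := β_app j M N V.unop z
      have e2 := β_app j M N V.unop z'
      have h2 : (show Γ(CohB1.tensorMod M N, j ''ᵁ V.unop) from
          ((βY j M N).app (op V.unop)).hom z) =
          (show Γ(CohB1.tensorMod M N, j ''ᵁ V.unop) from
          ((βY j M N).app (op V.unop)).hom z') := h
      exact e1.symm.trans (h2.trans e2)
    have hmem := Presheaf.equalizerSieve_mem (Opens.grothendieckTopology Y) (ηY j M N)
      (cmp j M N V.unop z) (cmp j M N V.unop z') h'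
    refine (Opens.grothendieckTopology Y).superset_covering ?_ hmem
    intro V' i hi
    rw [Presheaf.equalizerSieve_apply] at hi ⊢
    apply (cmp_bijective j M N V').1
    have n1 := cmp_natural j M N i z
    have n2 := cmp_natural j M N i z'
    exact n1.trans (hi.trans n2.symm)

instance isLocallySurjective_βY :
    Presheaf.IsLocallySurjective (Opens.grothendieckTopology Y) (βY j M N) where
  imageSieve_mem {V} t := by
    have hmem := Presheaf.imageSieve_mem (Opens.grothendieckTopology Y) (ηY j M N) t
    refine (Opens.grothendieckTopology Y).superset_covering ?_ hmem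
    intro V' i hi
    rw [Presheaf.imageSieve_apply] at hi ⊢
    obtain ⟨z₀, hz₀⟩ := hi
    obtain ⟨z, rfl⟩ := (cmp_bijective j M N V').2 z₀
    exact ⟨z, (β_app j M N V' z).trans hz₀⟩

/-- **Restriction to an open subscheme commutes with the sheafified tensor product.** -/
noncomputable def restrictTensorHom :
    CohB1.tensorMod (M.restrict j) (N.restrict j) ⟶ (CohB1.tensorMod M N).restrict j :=
  liftHom (PreY j M N) ((CohB1.tensorMod M N).restrict j) (β j M N)

instance : IsIso (restrictTensorHom j M N) :=
  @isIso_liftHom _ (PreY j M N) ((CohB1.tensorMod M N).restrict j) (β j M N)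
    (isLocallyInjective_βY j M N) (isLocallySurjective_βY j M N)

/-- **Restriction to an open subscheme commutes with the sheafified tensor product.** -/
noncomputable def restrictTensorIso :
    (CohB1.tensorMod M N).restrict j ≅ CohB1.tensorMod (M.restrict j) (N.restrict j) :=
  (asIso (restrictTensorHom j M N)).symm

theorem nonempty_restrict_tensorMod_iso :
    Nonempty ((CohB1.tensorMod M N).restrict j ≅ CohB1.tensorMod (M.restrict j) (N.restrict j)) :=
  ⟨restrictTensorIso j M N⟩

end Groth.Agent.Lib.Helper60.TensorRestrict
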