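import Mathlib
import Groth.Prelude.Def_CohB1

universe u
open CategoryTheory CategoryTheory.Limits AlgebraicGeometry TopologicalSpace Opposite MonoidalCategory

namespace Groth.Agent.Lib.Helper60.TensorLib


variable {X : Scheme.{u}}

/-- the morphism from the sheafification induced by a morphism of presheaves of modules to a sheaf. -/
noncomputable def liftHom (P : X.PresheafOfModules) (K : X.Modules) (β : P ⟶ K.val) :
    (CohB1.sheafifyMod X).obj P ⟶ K :=
  (PresheafOfModules.sheafificationHomEquiv (𝟙 X.ringCatSheaf.obj)).symm β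

theorem toSheafify_liftHom (P : X.PresheafOfModules) (K : X.Modules) (β : P ⟶ K.val) :
    CategoryTheory.toSheafify (Opens.grothendieckTopology X) P.presheaf ≫
      (PresheafOfModules.toPresheaf _).map (liftHom P K β).val =
    (PresheafOfModules.toPresheaf _).map β := by
  have := PresheafOfModules.toPresheaf_map_sheafificationHomEquiv_def (𝟙 X.ringCatSheaf.obj)
    (liftHom P K β)
  rw [liftHom, Equiv.apply_symm_apply] at this
  exact this.symm

theorem isIso_of_W {F₁ F₂ : Sheaf (Opens.grothendieckTopology X) AddCommGrpCat.{u}}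
    (ψ : F₁.obj ⟶ F₂.obj) (h : (Opens.grothendieckTopology X).W ψ) : IsIso ψ := by
  have h2 : IsIso (ObjectProperty.homMk ψ : F₁ ⟶ F₂) :=
    ((Opens.grothendieckTopology X).W_sheafToPresheaf_map_iff_isIso (ObjectProperty.homMk ψ : F₁ ⟶ F₂)).mp h
  exact (sheafToPresheaf _ _).map_isIso (ObjectProperty.homMk ψ : F₁ ⟶ F₂)

theorem isIso_liftHom (P : X.PresheafOfModules) (K : X.Modules) (β : P ⟶ K.val)
    [Presheaf.IsLocallyInjective (Opens.grothendieckTopology X) ((PresheafOfModules.toPresheaf _).map β)]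
    [Presheaf.IsLocallySurjective (Opens.grothendieckTopology X) ((PresheafOfModules.toPresheaf _).map β)] :
    IsIso (liftHom P K β) := by
  have hW : (Opens.grothendieckTopology X).W ((PresheafOfModules.toPresheaf _).map β) :=
    (Opens.grothendieckTopology X).W_of_isLocallyBijective _
  rw [← toSheafify_liftHom] at hW
  have hW2 := (Opens.grothendieckTopology X).W.of_precomp _ _
    ((Opens.grothendieckTopology X).W_toSheafify P.presheaf) hW
  have h1 : IsIso ((Scheme.Modules.toPresheaf X).map (liftHom P K β)) :=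
    isIso_of_W (F₁ := (SheafOfModules.toSheaf _).obj ((CohB1.sheafifyMod X).obj P))
      (F₂ := (SheafOfModules.toSheaf _).obj K) _ hW2
  exact isIso_of_reflects_iso _ (Scheme.Modules.toPresheaf X)




theorem isLocallyInjective_of (P : X.PresheafOfModules) (K : X.Modules) (β : P ⟶ K.val)
    (hloc : ∀ x : X, ∃ U : X.Opens, x ∈ U ∧ ∀ W : X.Opens, W ≤ U →
      Function.Injective (β.app (op W))) :
    Presheaf.IsLocallyInjective (Opens.grothendieckTopology X)
      ((PresheafOfModules.toPresheaf _).map β) := by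
  constructor
  intro V s t hst x hx
  obtain ⟨U, hxU, hU⟩ := hloc x
  refine ⟨V.unop ⊓ U, homOfLE inf_le_left, ?_, ⟨hx, hxU⟩⟩
  apply hU _ inf_le_right
  have := congrArg (K.val.map (homOfLE (inf_le_left : V.unop ⊓ U ≤ V.unop)).op) hst
  have n1 := PresheafOfModules.naturality_apply β (homOfLE (inf_le_left : V.unop ⊓ U ≤ V.unop)).op s
  have n2 := PresheafOfModules.naturality_apply β (homOfLE (inf_le_left : V.unop ⊓ U ≤ V.unop)).op t
  exact n1.trans (this.trans n2.symm)

theorem isLocallySurjective_of (P : X.PresheafOfModules) (K : X.Modules) (β : P ⟶ K.val)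
    (hloc : ∀ x : X, ∃ U : X.Opens, x ∈ U ∧ ∀ W : X.Opens, W ≤ U →
      Function.Surjective (β.app (op W))) :
    Presheaf.IsLocallySurjective (Opens.grothendieckTopology X)
      ((PresheafOfModules.toPresheaf _).map β) := by
  refine (TopCat.Presheaf.isLocallySurjective_iff (X := X.toTopCat) _).mpr ?_
  intro V t x hx
  obtain ⟨U, hxU, hU⟩ := hloc x
  refine ⟨V ⊓ U, inf_le_left, ?_, ⟨hx, hxU⟩⟩
  obtain ⟨s, hs⟩ := hU _ inf_le_right (K.val.map (homOfLE (inf_le_left : V ⊓ U ≤ V)).op t)
  exact ⟨s, hs⟩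




noncomputable def tensorPreHom (M N K : X.Modules)
    (b : ∀ U : X.Opens, Γ(M, U) →ₗ[Γ(X, U)] Γ(N, U) →ₗ[Γ(X, U)] Γ(K, U))
    (hb : ∀ {U V : X.Opens} (i : V ⟶ U) (m : Γ(M, U)) (n : Γ(N, U)),
      K.presheaf.map i.op (b U m n) = b V (M.presheaf.map i.op m) (N.presheaf.map i.op n)) :
    CohB1.tensorPre M N ⟶ CohB1.toPMod K where
  app U := ModuleCat.ofHom (TensorProduct.lift (b U.unop))
  naturality := by
    intro U V i
    apply ModuleCat.MonoidalCategory.tensor_ext
    intro m n
    exact (hb i.unop m n).symm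



open TensorProduct in
theorem lift_bijective_of_generators {R M N K : Type*} [CommRing R] [AddCommGroup M] [Module R M]
    [AddCommGroup N] [Module R N] [AddCommGroup K] [Module R K]
    (b : M →ₗ[R] N →ₗ[R] K) (e₁ : M) (e₂ : N)
    (h₁ : Function.Bijective (fun r : R => r • e₁))
    (h₂ : Function.Bijective (fun r : R => r • e₂))
    (h₃ : Function.Bijective (fun r : R => r • b e₁ e₂)) :
    Function.Bijective (TensorProduct.lift b) := by
  let φ₁ : R ≃ₗ[R] M := LinearEquiv.ofBijective (LinearMap.toSpanSingleton R M e₁) h₁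
  let φ₂ : R ≃ₗ[R] N := LinearEquiv.ofBijective (LinearMap.toSpanSingleton R N e₂) h₂
  let Ψ : R ≃ₗ[R] M ⊗[R] N := (TensorProduct.lid R R).symm ≪≫ₗ TensorProduct.congr φ₁ φ₂
  have hΨ : ∀ r : R, TensorProduct.lift b (Ψ r) = r • b e₁ e₂ := by
    intro r
    simp [Ψ, φ₁, φ₂]
  have hcomp : Function.Bijective (fun r : R => TensorProduct.lift b (Ψ r)) := by
    simpa only [hΨ] using h₃
  have : (TensorProduct.lift b : M ⊗[R] N → K) = (fun r : R => TensorProduct.lift b (Ψ r)) ∘ Ψ.symm := by
    funext z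
    simp
  rw [this]
  exact hcomp.comp Ψ.symm.bijective


theorem nonempty_tensorMod_iso (M N K : X.Modules)
    (b : ∀ U : X.Opens, Γ(M, U) →ₗ[Γ(X, U)] Γ(N, U) →ₗ[Γ(X, U)] Γ(K, U))
    (hb : ∀ {U V : X.Opens} (i : V ⟶ U) (m : Γ(M, U)) (n : Γ(N, U)),
      K.presheaf.map i.op (b U m n) = b V (M.presheaf.map i.op m) (N.presheaf.map i.op n))
    (hloc : ∀ x : X, ∃ U : X.Opens, x ∈ U ∧ ∀ W : X.Opens, W ≤ U →
      Function.Bijective (TensorProduct.lift (b W))) :
    Nonempty (CohB1.tensorMod M N ≅ K) := by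
  let β : (show X.PresheafOfModules from CohB1.tensorPre M N) ⟶ K.val := tensorPreHom M N K b hb
  have := isLocallyInjective_of _ K β (fun x => by
    obtain ⟨U, hxU, hU⟩ := hloc x
    exact ⟨U, hxU, fun W hW => (hU W hW).1⟩)
  have := isLocallySurjective_of _ K β (fun x => by
    obtain ⟨U, hxU, hU⟩ := hloc x
    exact ⟨U, hxU, fun W hW => (hU W hW).2⟩)
  have h3 : IsIso (liftHom (CohB1.tensorPre M N) K β) := isIso_liftHom _ K β
  exact ⟨@asIso _ _ _ _ (liftHom (CohB1.tensorPre M N) K β) h3⟩

open TensorProduct in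
theorem lift_bijective_of_generator_right {R M N K : Type*} [CommRing R] [AddCommGroup M] [Module R M]
    [AddCommGroup N] [Module R N] [AddCommGroup K] [Module R K]
    (b : M →ₗ[R] N →ₗ[R] K) (e₂ : N)
    (h₂ : Function.Bijective (fun r : R => r • e₂))
    (h₃ : Function.Bijective (fun m : M => b m e₂)) :
    Function.Bijective (TensorProduct.lift b) := by
  let φ₂ : R ≃ₗ[R] N := LinearEquiv.ofBijective (LinearMap.toSpanSingleton R N e₂) h₂
  let Ψ : M ≃ₗ[R] M ⊗[R] N :=
    (TensorProduct.rid R M).symm ≪≫ₗ TensorProduct.congr (LinearEquiv.refl R M) φ₂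
  have hΨ : ∀ m : M, TensorProduct.lift b (Ψ m) = b m e₂ := by
    intro m
    simp [Ψ, φ₂]
  have hcomp : Function.Bijective (fun m : M => TensorProduct.lift b (Ψ m)) := by
    simpa only [hΨ] using h₃
  have : (TensorProduct.lift b : M ⊗[R] N → K) = (fun m : M => TensorProduct.lift b (Ψ m)) ∘ Ψ.symm := by
    funext z
    simp
  rw [this]
  exact hcomp.comp Ψ.symm.bijective

noncomputable def tensorModCongrLeft {M M' : X.Modules} (e : M ≅ M') (N : X.Modules) :
    CohB1.tensorMod M N ≅ CohB1.tensorMod M' N :=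
  (CohB1.sheafifyMod X).mapIso
    (show (show X.PresheafOfModules from CohB1.tensorPre M N) ≅
        (show X.PresheafOfModules from CohB1.tensorPre M' N) from
      whiskerRightIso (C := CohB1.PMod X)
        (show CohB1.toPMod M ≅ CohB1.toPMod M' from (SheafOfModules.forget _).mapIso e)
        (CohB1.toPMod N))

noncomputable def tensorModCongrRight (M : X.Modules) {N N' : X.Modules} (e : N ≅ N') :
    CohB1.tensorMod M N ≅ CohB1.tensorMod M N' :=
  (CohB1.sheafifyMod X).mapIso
    (show (show X.PresheafOfModules from CohB1.tensorPre M N) ≅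
        (show X.PresheafOfModules from CohB1.tensorPre M N') from
      whiskerLeftIso (C := CohB1.PMod X) (CohB1.toPMod M)
        (show CohB1.toPMod N ≅ CohB1.toPMod N' from (SheafOfModules.forget _).mapIso e))

theorem isIso_of_app_bijective {M N : X.Modules} (φ : M ⟶ N)
    (h : ∀ U : X.Opens, Function.Bijective (φ.app U)) : IsIso φ := by
  have h1 : IsIso ((Scheme.Modules.toPresheaf X).map φ) := by
    refine @NatIso.isIso_of_isIso_app _ _ _ _ _ _ _ (fun U => ?_)
    exact (ConcreteCategory.isIso_iff_bijective _).mpr (h U.unop)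
  exact isIso_of_reflects_iso _ (Scheme.Modules.toPresheaf X)

theorem app_bijective_of_isIso {M N : X.Modules} (φ : M ⟶ N) [IsIso φ] (U : X.Opens) :
    Function.Bijective (φ.app U) := by
  have h1 : IsIso ((Scheme.Modules.toPresheaf X).map φ) := inferInstance
  have h2 : IsIso (((Scheme.Modules.toPresheaf X).map φ).app (op U)) := inferInstance
  exact (ConcreteCategory.isIso_iff_bijective _).mp h2

theorem restrict_map_app {Y : Scheme.{u}} (f : Y ⟶ X) [IsOpenImmersion f] {M N : X.Modules} (φ : M ⟶ N)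
    (V : Y.Opens) : ((Scheme.Modules.restrictFunctor f).map φ).app V = φ.app (f ''ᵁ V) := rfl

theorem nonempty_tensorMod_unit_left (L : X.Modules) :
    Nonempty (CohB1.tensorMod (Coh.structureModule X) L ≅ L) := by
  refine nonempty_tensorMod_iso (Coh.structureModule X) L L
    (fun U => LinearMap.lsmul Γ(X, U) Γ(L, U)) ?_ ?_
  · intro U V i r m
    exact Scheme.Modules.map_smul L i r m
  · intro x
    exact ⟨⊤, trivial, fun W _ => (TensorProduct.lid Γ(X, W) Γ(L, W)).bijective⟩


end Groth.Agent.Lib.Helper60.TensorLib
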