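import Groth.Agent.Lib.Helper60.Seg2

/-!
# The Segre embedding over an arbitrary base scheme (by base change from `ℤ`)
-/

set_option autoImplicit false
universe u
open CategoryTheory CategoryTheory.Limits AlgebraicGeometry TopologicalSpace Opposite

namespace Groth.Agent.Lib.Helper60.Segre

section basechange

variable (S : Scheme.{u}) (n m : ℕ)

/-- **The Segre embedding over a base scheme.** -/
theorem exists_segre_over :
    ∃ φ : pullback (CohB1.ProjSpaceOver.toBase n S) (CohB1.ProjSpaceOver.toBase m S) ⟶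
        CohB1.ProjSpaceOver (n * m + n + m) S,
      IsClosedImmersion φ ∧ φ ≫ CohB1.ProjSpaceOver.toBase (n * m + n + m) S =
        pullback.fst (CohB1.ProjSpaceOver.toBase n S) (CohB1.ProjSpaceOver.toBase m S) ≫
          CohB1.ProjSpaceOver.toBase n S := by
  obtain ⟨σ, hσci, hσ⟩ := exists_segre (ULift.{u} ℤ) n m
  let tS := specULiftZIsTerminal.from S
  let πn := CohB1.ProjSpace.toSpec n (ULift.{u} ℤ)
  let πm := CohB1.ProjSpace.toSpec m (ULift.{u} ℤ)
  let πN := CohB1.ProjSpace.toSpec (n * m + n + m) (ULift.{u} ℤ)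
  let βn : CohB1.ProjSpaceOver n S ⟶ S := pullback.snd πn tS
  let βm : CohB1.ProjSpaceOver m S ⟶ S := pullback.snd πm tS
  let βN : CohB1.ProjSpaceOver (n * m + n + m) S ⟶ S := pullback.snd πN tS
  let αn : CohB1.ProjSpaceOver n S ⟶ CohB1.ProjSpace n (ULift.{u} ℤ) := pullback.fst πn tS
  let αm : CohB1.ProjSpaceOver m S ⟶ CohB1.ProjSpace m (ULift.{u} ℤ) := pullback.fst πm tS
  let αN : CohB1.ProjSpaceOver (n * m + n + m) S ⟶ CohB1.ProjSpace (n * m + n + m) (ULift.{u} ℤ) :=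
    pullback.fst πN tS
  let f1 : pullback βn βm ⟶ CohB1.ProjSpaceOver n S := pullback.fst βn βm
  let f2 : pullback βn βm ⟶ CohB1.ProjSpaceOver m S := pullback.snd βn βm
  let a : pullback βn βm ⟶ XX (ULift.{u} ℤ) n m :=
    pullback.lift (f1 ≫ αn) (f2 ≫ αm) (specULiftZIsTerminal.hom_ext _ _)
  let b : pullback βn βm ⟶ S := f1 ≫ βn
  let φ : pullback βn βm ⟶ CohB1.ProjSpaceOver (n * m + n + m) S :=
    pullback.lift (a ≫ σ) b (specULiftZIsTerminal.hom_ext _ _)
  have hφ2 : φ ≫ βN = b := pullback.lift_snd _ _ _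
  have hφ1 : φ ≫ αN = a ≫ σ := pullback.lift_fst _ _ _
  have ha1 : a ≫ p1 (ULift.{u} ℤ) n m = f1 ≫ αn := pullback.lift_fst _ _ _
  have ha2 : a ≫ p2 (ULift.{u} ℤ) n m = f2 ≫ αm := pullback.lift_snd _ _ _
  refine ⟨φ, ?_, hφ2⟩
  have sqN : IsPullback αN βN πN tS := IsPullback.of_hasPullback πN tS
  have sqn : IsPullback αn βn πn tS := IsPullback.of_hasPullback πn tS
  have sqm : IsPullback αm βm πm tS := IsPullback.of_hasPullback πm tS
  have sqX : IsPullback f1 f2 βn βm := IsPullback.of_hasPullback βn βm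
  have sqZ : IsPullback (p1 (ULift.{u} ℤ) n m) (p2 (ULift.{u} ℤ) n m) πn πm :=
    IsPullback.of_hasPullback πn πm
  -- step 1
  have R1 : IsPullback (f2 ≫ αm) f1 πm (βn ≫ tS) := sqX.flip.paste_horiz sqm
  -- step 2
  have R1' : IsPullback (a ≫ p2 (ULift.{u} ℤ) n m) f1 πm (αn ≫ πn) := by
    rw [ha2, sqn.w]
    exact R1
  have R2 : IsPullback a f1 (p1 (ULift.{u} ℤ) n m) αn := IsPullback.of_right R1' ha1 sqZ.flip
  -- step 3
  have R3 : IsPullback (f1 ≫ βn) a tS (p1 (ULift.{u} ℤ) n m ≫ πn) := R2.flip.paste_horiz sqn.flip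
  -- step 4
  have R3' : IsPullback (φ ≫ βN) a tS (σ ≫ πN) := by
    rw [hφ2, hσ]
    exact R3
  have R4 : IsPullback φ a αN σ := IsPullback.of_right R3' hφ1 sqN.flip
  exact MorphismProperty.of_isPullback (P := @IsClosedImmersion) R4.flip hσci

end basechange

end Groth.Agent.Lib.Helper60.Segre
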