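import Mathlib
import Groth.Prelude.Def_Twist2
import Groth.Prelude.Def_Coh
import Groth.Prelude.Def_FlatMod2
import Groth.Agent.Lib.Helper60.TensorMod

universe u
open CategoryTheory CategoryTheory.Limits AlgebraicGeometry TopologicalSpace Opposite

namespace Groth.Agent.Lib.Helper60.TwistLib

section abstract

variable {X Y : Scheme.{u}} (M : X.Modules) (f : Y ⟶ X) [IsOpenImmersion f]
    (U₀ : X.Opens) (hf : f.opensRange ≤ U₀) (G : Γ(M, U₀))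

include hf in
theorem image_le (V : Y.Opens) : f ''ᵁ V ≤ U₀ := le_trans (by
    intro x hx
    obtain ⟨y, -, rfl⟩ := hx
    exact ⟨y, rfl⟩) hf

noncomputable def resG (V : Y.Opens) : Γ(M.restrict f, V) :=
  M.presheaf.map (homOfLE (image_le f U₀ hf V)).op G

theorem smul_restrict (V : Y.Opens) (r : Γ(Y, V)) (x : Γ(M.restrict f, V)) :
    r • x = ((f.appIso V).inv r • (show Γ(M, f ''ᵁ V) from x) : Γ(M, f ''ᵁ V)) := rfl

theorem resG_map {V W : Y.Opens} (i : W ⟶ V) :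
    (M.restrict f).presheaf.map i.op (resG M f U₀ hf G V) = resG M f U₀ hf G W := by
  change M.presheaf.map _ (M.presheaf.map _ G) = M.presheaf.map _ G
  rw [← ConcreteCategory.comp_apply, ← Functor.map_comp]
  rfl

noncomputable def sectionHom (V : Y.Opens) : Γ(Y, V) →ₗ[Γ(Y, V)] Γ(M.restrict f, V) where
  toFun r := r • resG M f U₀ hf G V
  map_add' := fun a b => add_smul a b _
  map_smul' := fun a b => mul_smul a b _

theorem sectionHom_bijective (hG : ∀ (W : X.Opens) (hW : W ≤ U₀),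
      Function.Bijective (fun r : Γ(X, W) => r • M.presheaf.map (homOfLE hW).op G)) (V : Y.Opens) :
    Function.Bijective (sectionHom M f U₀ hf G V) := by
  have h1 := hG (f ''ᵁ V) (image_le f U₀ hf V)
  have h2 : Function.Bijective (f.appIso V).inv := by
    exact ConcreteCategory.bijective_of_isIso (f.appIso V).inv
  exact h1.comp h2

include hf in
theorem nonempty_restrict_iso_unit
    (hG : ∀ (W : X.Opens) (hW : W ≤ U₀),
      Function.Bijective (fun r : Γ(X, W) => r • M.presheaf.map (homOfLE hW).op G)) :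
    Nonempty (M.restrict f ≅ SheafOfModules.unit Y.ringCatSheaf) := by
  refine ⟨((SheafOfModules.fullyFaithfulForget _).preimageIso <| PresheafOfModules.isoMk (fun V ↦ ?_) ?_).symm⟩
  · exact LinearEquiv.toModuleIso (LinearEquiv.ofBijective (sectionHom M f U₀ hf G V.unop)
      (sectionHom_bijective M f U₀ hf G hG V.unop))
  · intro V W i
    ext
    have h1 : (1 : Γ(Y, W.unop)) • resG M f U₀ hf G W.unop = resG M f U₀ hf G W.unop := one_smul _ _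
    have h2 : (M.restrict f).presheaf.map i ((1 : Γ(Y, V.unop)) • resG M f U₀ hf G V.unop)
        = resG M f U₀ hf G W.unop := by
      rw [one_smul]
      exact resG_map M f U₀ hf G i.unop
    refine Eq.trans ?_ h2.symm
    refine Eq.trans ?_ h1
    have h3 : (Y.ringCatSheaf.obj.map i).hom (1 : Γ(Y, V.unop)) = (1 : Γ(Y, W.unop)) := map_one _
    change (show Γ(Y, W.unop) from (Y.ringCatSheaf.obj.map i).hom (1 : Γ(Y, V.unop))) • resG M f U₀ hf G W.unop = _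
    rw [h3]

end abstract

section pointwise

variable {R A : Type u} [CommRing R] [CommRing A] [Algebra R A] {𝒜 : ℕ → Submodule R A} [GradedAlgebra 𝒜]

theorem exists_val_mul_eq (m : ℤ) {i j : ℕ} (g : 𝒜 i) (h : 𝒜 j) (hij : (i : ℤ) = j + m)
    (x : ProjectiveSpectrum 𝒜)
    (hg : g.1 ∉ x.asHomogeneousIdeal) (hh : h.1 ∉ x.asHomogeneousIdeal) (q : Twist.Loc 𝒜 x)
    (hq : q ∈ Twist.twistAt 𝒜 m x) :
    ∃ c : Twist.A0 𝒜 x, c.val * Localization.mk g.1 ⟨h.1, hh⟩ = q := by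
  induction hq using Submodule.span_induction with
  | mem q hq =>
    obtain ⟨i', j', a, s, hs, hdeg, rfl⟩ := hq
    have e : j' + i = i' + j := by omega
    refine ⟨HomogeneousLocalization.mk ⟨i' + j, ⟨a.1 * h.1, SetLike.mul_mem_graded a.2 h.2⟩,
      ⟨s.1 * g.1, e ▸ SetLike.mul_mem_graded s.2 g.2⟩, ?_⟩, ?_⟩
    · exact fun hmem => (x.isPrime.mem_or_mem hmem).elim hs hg
    · rw [HomogeneousLocalization.val_mk, Localization.mk_mul, Localization.mk_eq_mk_iff,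
        Localization.r_iff_exists]
      exact ⟨1, by simp; ring⟩
  | zero => exact ⟨0, by simp⟩
  | add q₁ q₂ _ _ h₁ h₂ =>
    obtain ⟨c₁, rfl⟩ := h₁
    obtain ⟨c₂, rfl⟩ := h₂
    exact ⟨c₁ + c₂, by rw [HomogeneousLocalization.val_add, add_mul]⟩
  | smul c q _ hq =>
    obtain ⟨c', rfl⟩ := hq
    exact ⟨c * c', by rw [HomogeneousLocalization.val_mul, mul_assoc, Algebra.smul_def]; rfl⟩

theorem mk_mul_cancel (x : ProjectiveSpectrum 𝒜) (g h : A)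
    (hg : g ∉ x.asHomogeneousIdeal) (hh : h ∉ x.asHomogeneousIdeal) (c c' : Twist.Loc 𝒜 x)
    (hc : c * Localization.mk g ⟨h, hh⟩ = c' * Localization.mk g ⟨h, hh⟩) : c = c' := by
  have hu : (Localization.mk g ⟨h, hh⟩ : Twist.Loc 𝒜 x) * Localization.mk h ⟨g, hg⟩ = 1 := by
    rw [Localization.mk_mul, ← Localization.mk_one, Localization.mk_eq_mk_iff, Localization.r_iff_exists]
    exact ⟨1, by simp; ring⟩
  calc c = c * Localization.mk g ⟨h, hh⟩ * Localization.mk h ⟨g, hg⟩ := by rw [mul_assoc, hu, mul_one]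
    _ = c' := by rw [hc, mul_assoc, hu, mul_one]

end pointwise

section sections

variable {R A : Type u} [CommRing R] [CommRing A] [Algebra R A] {𝒜 : ℕ → Submodule R A} [GradedAlgebra 𝒜]

def genSec (m : ℤ) {i j : ℕ} (g : 𝒜 i) (h : 𝒜 j) (hij : (i : ℤ) = j + m)
    (W : Opens (ProjectiveSpectrum.top 𝒜)) (hh : ∀ x ∈ W, h.1 ∉ x.asHomogeneousIdeal) :
    Twist.sectN (𝒜 := 𝒜) m (op W) :=
  ⟨fun x => ⟨Localization.mk g.1 ⟨h.1, hh x.1 x.2⟩, Submodule.subset_span ⟨i, j, g, h, _, hij, rfl⟩⟩,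
   fun x => ⟨W, x.2, 𝟙 _, i, j, g, h, fun y => hh y.1 y.2, Or.inl hij, fun _ => rfl⟩⟩

theorem smul_sect_val (m : ℤ) (W : Opens (ProjectiveSpectrum.top 𝒜)) (r : Twist.O (𝒜 := 𝒜) (op W))
    (s : Twist.sectN (𝒜 := 𝒜) m (op W)) (x : W) :
    (((r • s).1 x : Twist.twistAt 𝒜 m x.1) : Twist.Loc 𝒜 x.1) =
      (r.1 x).val * ((s.1 x : Twist.twistAt 𝒜 m x.1) : Twist.Loc 𝒜 x.1) := by
  rw [Submodule.coe_smul, Twist.smul_apply, Twist.coe_smul_val]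

theorem genSec_bijective (m : ℤ) {i j : ℕ} (g : 𝒜 i) (h : 𝒜 j) (hij : (i : ℤ) = j + m)
    (W : Opens (ProjectiveSpectrum.top 𝒜)) (hg : ∀ x ∈ W, g.1 ∉ x.asHomogeneousIdeal)
    (hh : ∀ x ∈ W, h.1 ∉ x.asHomogeneousIdeal) :
    Function.Bijective (fun r : Twist.O (𝒜 := 𝒜) (op W) => r • genSec m g h hij W hh) := by
  constructor
  · intro r r' hrr
    apply Subtype.ext
    funext x
    have h1 := congrArg (fun s : Twist.sectN (𝒜 := 𝒜) m (op W) => ((s.1 x).1 : Twist.Loc 𝒜 x.1)) hrr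
    apply HomogeneousLocalization.val_injective
    refine mk_mul_cancel x.1 g.1 h.1 (hg x.1 x.2) (hh x.1 x.2) _ _ ?_
    exact h1
  · intro s
    have hex : ∀ x : W, ∃ c : Twist.A0 𝒜 x.1,
        c.val * Localization.mk g.1 ⟨h.1, hh x.1 x.2⟩ = (s.1 x).1 :=
      fun x => exists_val_mul_eq m g h hij x.1 (hg x.1 x.2) (hh x.1 x.2) _ (s.1 x).2
    choose c hc using hex
    have hloc : (ProjectiveSpectrum.StructureSheaf.isLocallyFraction 𝒜).pred c := by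
      intro x
      obtain ⟨V, hxV, iV, i', j', a, t, t_nin, hdeg, hw⟩ := s.2 x
      rcases hdeg with hdeg | ha0
      · have e : j' + i = i' + j := by omega
        refine ⟨V, hxV, iV, i' + j, ⟨a.1 * h.1, SetLike.mul_mem_graded a.2 h.2⟩,
          ⟨t.1 * g.1, e ▸ SetLike.mul_mem_graded t.2 g.2⟩,
          fun y hmem => (y.1.isPrime.mem_or_mem hmem).elim (t_nin y) (hg _ (iV y).2), fun y => ?_⟩
        apply HomogeneousLocalization.val_injective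
        refine mk_mul_cancel y.1 g.1 h.1 (hg _ (iV y).2) (hh _ (iV y).2) _ _ ?_
        erw [hc, hw y]
        rw [HomogeneousLocalization.val_mk, Localization.mk_mul, Localization.mk_eq_mk_iff,
          Localization.r_iff_exists]
        exact ⟨1, by simp; ring⟩
      · refine ⟨V, hxV, iV, 0, 0, ⟨1, SetLike.GradedOne.one_mem⟩,
          fun y hmem => y.1.isPrime.ne_top ((Ideal.eq_top_iff_one _).mpr hmem), fun y => ?_⟩
        apply HomogeneousLocalization.val_injective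
        refine mk_mul_cancel y.1 g.1 h.1 (hg _ (iV y).2) (hh _ (iV y).2) _ _ ?_
        erw [hc, hw y]
        rw [HomogeneousLocalization.val_mk]
        simp [ha0, Localization.mk_zero]
    refine ⟨⟨c, hloc⟩, ?_⟩
    apply Subtype.ext
    funext x
    apply Subtype.ext
    rw [smul_sect_val]
    exact hc x

end sections

section main

variable {R A : Type u} [CommRing R] [CommRing A] [Algebra R A] (𝒜 : ℕ → Submodule R A) [GradedAlgebra 𝒜]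

theorem twist_restrict_iso {Y : Scheme.{u}} (f : Y ⟶ Proj 𝒜) [IsOpenImmersion f] (m : ℤ) {i j : ℕ}
    (g : 𝒜 i) (h : 𝒜 j) (hij : (i : ℤ) = j + m)
    (hg : ∀ y : Y, g.1 ∉ (f y).asHomogeneousIdeal) (hh : ∀ y : Y, h.1 ∉ (f y).asHomogeneousIdeal) :
    Nonempty ((Twist.twist 𝒜 m).restrict f ≅ Coh.structureModule Y) := by
  have hg' : ∀ x ∈ f.opensRange, g.1 ∉ x.asHomogeneousIdeal := by
    rintro x ⟨y, rfl⟩; exact hg y
  have hh' : ∀ x ∈ f.opensRange, h.1 ∉ x.asHomogeneousIdeal := by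
    rintro x ⟨y, rfl⟩; exact hh y
  refine nonempty_restrict_iso_unit (Twist.twist 𝒜 m) f f.opensRange le_rfl
    (genSec m g h hij f.opensRange hh') ?_
  intro W hW
  exact genSec_bijective m g h hij W (fun x hx => hg' x (hW hx)) (fun x hx => hh' x (hW hx))

end main

section gen

variable {R A : Type u} [CommRing R] [CommRing A] [Algebra R A] (𝒜 : ℕ → Submodule R A) [GradedAlgebra 𝒜]

theorem one_notMem (x : ProjectiveSpectrum 𝒜) : (1 : A) ∉ x.asHomogeneousIdeal := fun hmem =>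
  x.isPrime.ne_top ((Ideal.eq_top_iff_one _).mpr hmem)

/-- the family of sections `g/1` of `O(m)` over all opens, for `g` homogeneous of degree `m ≥ 0`. -/
noncomputable def numSections {m : ℕ} (g : 𝒜 m) : (Twist.twist 𝒜 (m : ℤ)).val.sections :=
  PresheafOfModules.sectionsMk
    (fun W => genSec (m : ℤ) g (⟨1, SetLike.GradedOne.one_mem⟩ : 𝒜 0) (by simp) W.unop
      (fun x _ => one_notMem 𝒜 x))
    (fun _ _ _ => rfl)

noncomputable def numHom {m : ℕ} (g : 𝒜 m) : Coh.structureModule (Proj 𝒜) ⟶ Twist.twist 𝒜 (m : ℤ) :=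
  (SheafOfModules.unitHomEquiv (Twist.twist 𝒜 (m : ℤ))).symm (numSections 𝒜 g)

theorem numHom_app_one {m : ℕ} (g : 𝒜 m) (W : (Proj 𝒜).Opens) :
    (numHom 𝒜 g).app W (1 : Γ(Proj 𝒜, W)) =
      genSec (m : ℤ) g (⟨1, SetLike.GradedOne.one_mem⟩ : 𝒜 0) (by simp) W
      (fun x _ => one_notMem 𝒜 x) := by
  have := SheafOfModules.unitHomEquiv_apply_coe (Twist.twist 𝒜 (m : ℤ)) (numHom 𝒜 g) (op W)
  rw [numHom, Equiv.apply_symm_apply] at this
  exact this.symm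

theorem numHom_app {m : ℕ} (g : 𝒜 m) (W : (Proj 𝒜).Opens) (c : Γ(Proj 𝒜, W)) :
    (numHom 𝒜 g).app W (show Γ(Coh.structureModule (Proj 𝒜), W) from c) =
      (show Twist.O (𝒜 := 𝒜) (op W) from c) • genSec (m : ℤ) g (⟨1, SetLike.GradedOne.one_mem⟩ : 𝒜 0) (by simp) W
      (fun x _ => one_notMem 𝒜 x) := by
  have h2 := Scheme.Modules.Hom.app_smul (numHom 𝒜 g) c
    (show Γ(Coh.structureModule (Proj 𝒜), W) from (1 : Γ(Proj 𝒜, W)))
  rw [numHom_app_one] at h2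
  refine Eq.trans ?_ h2
  congr 1
  exact (mul_one c).symm

theorem epi_desc_numHom {k m : ℕ} (g : Fin k → 𝒜 m)
    (hcover : ∀ x : Proj 𝒜, ∃ i, (g i).1 ∉ x.asHomogeneousIdeal) :
    Epi (Sigma.desc (fun i => numHom 𝒜 (g i)) :
      FlatMod.freeMod (Proj 𝒜) k ⟶ Twist.twist 𝒜 (m : ℤ)) := by
  set p : FlatMod.freeMod (Proj 𝒜) k ⟶ Twist.twist 𝒜 (m : ℤ) :=
    Sigma.desc (fun i => numHom 𝒜 (g i)) with hp
  have h1 : Epi ((SheafOfModules.toSheaf _).map p) := by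
    refine (CategoryTheory.Sheaf.isLocallySurjective_iff_epi' (J := Opens.grothendieckTopology (Proj 𝒜)) AddCommGrpCat _).mp ?_
    refine (TopCat.Presheaf.isLocallySurjective_iff (X := (Proj 𝒜).toTopCat) _).mpr ?_
    intro U t x hx
    obtain ⟨i, hi⟩ := hcover x
    refine ⟨U ⊓ Proj.basicOpen 𝒜 (g i).1, inf_le_left, ?_, ⟨hx, hi⟩⟩
    have hV : ∀ y ∈ U ⊓ Proj.basicOpen 𝒜 (g i).1, (g i).1 ∉ y.asHomogeneousIdeal :=
      fun y hy => hy.2
    obtain ⟨c, hc⟩ := (genSec_bijective (m : ℤ) (g i) (⟨1, SetLike.GradedOne.one_mem⟩ : 𝒜 0)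
      (by simp) (U ⊓ Proj.basicOpen 𝒜 (g i).1) hV (fun y _ => one_notMem 𝒜 y)).2
      (t |_ (U ⊓ Proj.basicOpen 𝒜 (g i).1))
    refine ⟨(Sigma.ι (fun _ : Fin k => Coh.structureModule (Proj 𝒜)) i).app
      (U ⊓ Proj.basicOpen 𝒜 (g i).1) c, ?_⟩
    change p.app (U ⊓ Proj.basicOpen 𝒜 (g i).1) ((Sigma.ι (fun _ : Fin k => Coh.structureModule (Proj 𝒜)) i).app
      (U ⊓ Proj.basicOpen 𝒜 (g i).1) c) = _
    rw [← ConcreteCategory.comp_apply, ← Scheme.Modules.Hom.comp_app, hp, Sigma.ι_desc]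
    exact (numHom_app 𝒜 (g i) _ c).trans hc
  exact Functor.epi_of_epi_map (SheafOfModules.toSheaf _) h1

end gen

section mul

variable {R A : Type u} [CommRing R] [CommRing A] [Algebra R A] {𝒜 : ℕ → Submodule R A} [GradedAlgebra 𝒜]

theorem mul_mem_twistAt (m n : ℤ) (x : ProjectiveSpectrum 𝒜) {p q : Twist.Loc 𝒜 x}
    (hp : p ∈ Twist.twistAt 𝒜 m x) (hq : q ∈ Twist.twistAt 𝒜 n x) :
    p * q ∈ Twist.twistAt 𝒜 (m + n) x := by
  induction hp, hq using Submodule.span_induction₂ with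
  | mem_mem p q hp hq =>
    obtain ⟨i, j, a, s, hs, hdeg, rfl⟩ := hp
    obtain ⟨i', j', a', s', hs', hdeg', rfl⟩ := hq
    refine Submodule.subset_span ⟨i + i', j + j', ⟨a.1 * a'.1, SetLike.mul_mem_graded a.2 a'.2⟩,
      ⟨s.1 * s'.1, SetLike.mul_mem_graded s.2 s'.2⟩,
      fun hmem => (x.isPrime.mem_or_mem hmem).elim hs hs', by push_cast; omega, ?_⟩
    rw [Localization.mk_mul]
    rfl
  | zero_left q _ => simp
  | zero_right p _ => simp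
  | add_left p p' q _ _ _ h₁ h₂ => rw [add_mul]; exact add_mem h₁ h₂
  | add_right p q q' _ _ _ h₁ h₂ => rw [mul_add]; exact add_mem h₁ h₂
  | smul_left c p q _ _ h =>
    rw [Algebra.smul_def, mul_assoc, ← Algebra.smul_def]
    exact Submodule.smul_mem _ c h
  | smul_right c p q _ _ h =>
    rw [Algebra.smul_def, mul_left_comm, ← Algebra.smul_def]
    exact Submodule.smul_mem _ c h

theorem mulSec_pred (m n : ℤ) (W : Opens (ProjectiveSpectrum.top 𝒜))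
    (s : Twist.sectN (𝒜 := 𝒜) m (op W)) (t : Twist.sectN (𝒜 := 𝒜) n (op W)) :
    (Twist.isLocFracN 𝒜 (m + n)).pred (fun x : W =>
      (⟨(s.1 x).1 * (t.1 x).1, mul_mem_twistAt m n x.1 (s.1 x).2 (t.1 x).2⟩ :
        Twist.twistAt 𝒜 (m + n) x.1)) := by
  intro x
  obtain ⟨V, hxV, iV, i, j, ⟨a, a_mem⟩, ⟨s₁, s₁_mem⟩, nin, hdeg, hw⟩ := s.2 x
  obtain ⟨V', hxV', iV', i', j', ⟨a', a'_mem⟩, ⟨s₁', s₁'_mem⟩, nin', hdeg', hw'⟩ := t.2 x
  replace hdeg : (i : ℤ) = j + m ∨ a = 0 := hdeg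
  replace hdeg' : (i' : ℤ) = j' + n ∨ a' = 0 := hdeg'
  have nin2 : ∀ y : (V ⊓ V' : Opens _), s₁ * s₁' ∉ y.1.asHomogeneousIdeal := fun y h =>
    ((y.1.isPrime.mem_or_mem h).elim (nin ⟨y.1, y.2.1⟩)) (nin' ⟨y.1, y.2.2⟩)
  refine ⟨V ⊓ V', ⟨hxV, hxV'⟩, Opens.infLELeft _ _ ≫ iV, i + i', j + j',
    ⟨a * a', SetLike.mul_mem_graded a_mem a'_mem⟩, ⟨s₁ * s₁', SetLike.mul_mem_graded s₁_mem s₁'_mem⟩,
    nin2, ?_, fun y => ?_⟩
  · rcases hdeg with h | h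
    · rcases hdeg' with h' | h'
      · exact Or.inl (by push_cast; omega)
      · exact Or.inr (show a * a' = 0 by rw [h', mul_zero])
    · exact Or.inr (show a * a' = 0 by rw [h, zero_mul])
  · have e1 := hw ⟨y.1, y.2.1⟩
    have e2 := hw' ⟨y.1, y.2.2⟩
    dsimp only at e1 e2 ⊢
    erw [e1, e2]
    rw [Localization.mk_mul]
    rfl

def mulSec (m n : ℤ) (W : Opens (ProjectiveSpectrum.top 𝒜))
    (s : Twist.sectN (𝒜 := 𝒜) m (op W)) (t : Twist.sectN (𝒜 := 𝒜) n (op W)) :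
    Twist.sectN (𝒜 := 𝒜) (m + n) (op W) :=
  ⟨fun x => ⟨(s.1 x).1 * (t.1 x).1, mul_mem_twistAt m n x.1 (s.1 x).2 (t.1 x).2⟩,
    mulSec_pred m n W s t⟩

theorem mulSec_val (m n : ℤ) (W : Opens (ProjectiveSpectrum.top 𝒜))
    (s : Twist.sectN (𝒜 := 𝒜) m (op W)) (t : Twist.sectN (𝒜 := 𝒜) n (op W)) (x : W) :
    (((mulSec m n W s t).1 x : Twist.twistAt 𝒜 (m + n) x.1) : Twist.Loc 𝒜 x.1) =
      (s.1 x).1 * (t.1 x).1 := rfl

theorem sect_ext (m : ℤ) (W : Opens (ProjectiveSpectrum.top 𝒜))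
    (s t : Twist.sectN (𝒜 := 𝒜) m (op W))
    (h : ∀ x : W, ((s.1 x : Twist.twistAt 𝒜 m x.1) : Twist.Loc 𝒜 x.1) = (t.1 x).1) : s = t := by
  apply Subtype.ext
  funext x
  exact Subtype.ext (h x)

noncomputable def mulBilin (m n : ℤ) (W : Opens (ProjectiveSpectrum.top 𝒜)) :
    Twist.sectN (𝒜 := 𝒜) m (op W) →ₗ[Twist.O (𝒜 := 𝒜) (op W)]
      Twist.sectN (𝒜 := 𝒜) n (op W) →ₗ[Twist.O (𝒜 := 𝒜) (op W)]
        Twist.sectN (𝒜 := 𝒜) (m + n) (op W) :=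
  LinearMap.mk₂ _ (mulSec m n W)
    (fun s s' t => sect_ext _ _ _ _ fun x => by
      simp only [mulSec_val]
      rw [Submodule.coe_add, Pi.add_apply, Submodule.coe_add, Submodule.coe_add, Pi.add_apply,
        Submodule.coe_add, mulSec_val, mulSec_val, add_mul])
    (fun c s t => sect_ext _ _ _ _ fun x => by
      rw [mulSec_val, smul_sect_val, smul_sect_val, mulSec_val, mul_assoc])
    (fun s t t' => sect_ext _ _ _ _ fun x => by
      simp only [mulSec_val]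
      rw [Submodule.coe_add, Pi.add_apply, Submodule.coe_add, Submodule.coe_add, Pi.add_apply,
        Submodule.coe_add, mulSec_val, mulSec_val, mul_add])
    (fun c s t => sect_ext _ _ _ _ fun x => by
      rw [mulSec_val, smul_sect_val, smul_sect_val, mulSec_val, mul_left_comm])



theorem mulSec_genSec (m n : ℤ) {i₁ j₁ i₂ j₂ : ℕ} (g₁ : 𝒜 i₁) (h₁ : 𝒜 j₁) (g₂ : 𝒜 i₂) (h₂ : 𝒜 j₂)
    (e₁ : (i₁ : ℤ) = j₁ + m) (e₂ : (i₂ : ℤ) = j₂ + n)
    (W : Opens (ProjectiveSpectrum.top 𝒜))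
    (hh₁ : ∀ x ∈ W, h₁.1 ∉ x.asHomogeneousIdeal) (hh₂ : ∀ x ∈ W, h₂.1 ∉ x.asHomogeneousIdeal) :
    mulSec m n W (genSec m g₁ h₁ e₁ W hh₁) (genSec n g₂ h₂ e₂ W hh₂) =
      genSec (m + n) (⟨g₁.1 * g₂.1, SetLike.mul_mem_graded g₁.2 g₂.2⟩ : 𝒜 (i₁ + i₂))
        (⟨h₁.1 * h₂.1, SetLike.mul_mem_graded h₁.2 h₂.2⟩ : 𝒜 (j₁ + j₂)) (by push_cast; omega) W
        (fun x hx hmem => (x.isPrime.mem_or_mem hmem).elim (hh₁ x hx) (hh₂ x hx)) := by
  apply sect_ext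
  intro x
  rw [mulSec_val]
  simp only [genSec]
  rw [Localization.mk_mul]
  rfl

variable (𝒜)

noncomputable def mulΓ (m n : ℤ) (U : (Proj 𝒜).Opens) :
    Γ(Twist.twist 𝒜 m, U) →ₗ[Γ(Proj 𝒜, U)] Γ(Twist.twist 𝒜 n, U) →ₗ[Γ(Proj 𝒜, U)]
      Γ(Twist.twist 𝒜 (m + n), U) :=
  mulBilin m n U

theorem mulΓ_natural (m n : ℤ) {U V : (Proj 𝒜).Opens} (i : V ⟶ U) (s : Γ(Twist.twist 𝒜 m, U))
    (t : Γ(Twist.twist 𝒜 n, U)) :
    (Twist.twist 𝒜 (m + n)).presheaf.map i.op (mulΓ 𝒜 m n U s t) =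
      mulΓ 𝒜 m n V ((Twist.twist 𝒜 m).presheaf.map i.op s) ((Twist.twist 𝒜 n).presheaf.map i.op t) :=
  rfl

theorem mul_lift_bijective (m n : ℤ) {i₁ j₁ i₂ j₂ : ℕ} (g₁ : 𝒜 i₁) (h₁ : 𝒜 j₁) (g₂ : 𝒜 i₂) (h₂ : 𝒜 j₂)
    (e₁ : (i₁ : ℤ) = j₁ + m) (e₂ : (i₂ : ℤ) = j₂ + n)
    (W : Opens (ProjectiveSpectrum.top 𝒜))
    (hg₁ : ∀ x ∈ W, g₁.1 ∉ x.asHomogeneousIdeal) (hg₂ : ∀ x ∈ W, g₂.1 ∉ x.asHomogeneousIdeal)
    (hh₁ : ∀ x ∈ W, h₁.1 ∉ x.asHomogeneousIdeal) (hh₂ : ∀ x ∈ W, h₂.1 ∉ x.asHomogeneousIdeal) :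
    Function.Bijective (TensorProduct.lift (mulBilin (𝒜 := 𝒜) m n W)) := by
  have key := @TensorLib.lift_bijective_of_generators (Twist.O (𝒜 := 𝒜) (op W))
    (Twist.sectN (𝒜 := 𝒜) m (op W)) (Twist.sectN (𝒜 := 𝒜) n (op W))
    (Twist.sectN (𝒜 := 𝒜) (m + n) (op W)) _ _ _ _ _ _ _
    (mulBilin m n W) (genSec m g₁ h₁ e₁ W hh₁)
    (genSec n g₂ h₂ e₂ W hh₂) (genSec_bijective m g₁ h₁ e₁ W hg₁ hh₁)
    (genSec_bijective n g₂ h₂ e₂ W hg₂ hh₂)
  refine key ?_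
  have e' : (mulBilin m n W) (genSec m g₁ h₁ e₁ W hh₁) (genSec n g₂ h₂ e₂ W hh₂) = _ :=
    mulSec_genSec m n g₁ h₁ g₂ h₂ e₁ e₂ W hh₁ hh₂
  rw [e']
  exact genSec_bijective (m + n) _ _ _ W
    (fun y hy hmem => (y.isPrime.mem_or_mem hmem).elim (hg₁ y hy) (hg₂ y hy))
    (fun y hy hmem => (y.isPrime.mem_or_mem hmem).elim (hh₁ y hy) (hh₂ y hy))

theorem twist_tensor_iso (m n : ℤ)
    (hloc : ∀ x : Proj 𝒜, ∃ U : (Proj 𝒜).Opens, x ∈ U ∧
      ∃ (i₁ j₁ i₂ j₂ : ℕ) (g₁ : 𝒜 i₁) (h₁ : 𝒜 j₁) (g₂ : 𝒜 i₂) (h₂ : 𝒜 j₂),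
        (i₁ : ℤ) = j₁ + m ∧ (i₂ : ℤ) = j₂ + n ∧
        ∀ y ∈ U, g₁.1 ∉ y.asHomogeneousIdeal ∧ h₁.1 ∉ y.asHomogeneousIdeal ∧
          g₂.1 ∉ y.asHomogeneousIdeal ∧ h₂.1 ∉ y.asHomogeneousIdeal) :
    Nonempty (CohB1.tensorMod (Twist.twist 𝒜 m) (Twist.twist 𝒜 n) ≅ Twist.twist 𝒜 (m + n)) := by
  refine TensorLib.nonempty_tensorMod_iso (Twist.twist 𝒜 m) (Twist.twist 𝒜 n) (Twist.twist 𝒜 (m + n))
    (mulΓ 𝒜 m n) (mulΓ_natural 𝒜 m n) ?_
  intro x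
  obtain ⟨U, hxU, i₁, j₁, i₂, j₂, g₁, h₁, g₂, h₂, e₁, e₂, hU⟩ := hloc x
  refine ⟨U, hxU, fun W hW => ?_⟩
  exact mul_lift_bijective 𝒜 m n g₁ h₁ g₂ h₂ e₁ e₂ W
    (fun y hy => (hU y (hW hy)).1) (fun y hy => (hU y (hW hy)).2.2.1)
    (fun y hy => (hU y (hW hy)).2.1) (fun y hy => (hU y (hW hy)).2.2.2)

end mul

section degreeOne

variable {R A : Type u} [CommRing R] [CommRing A] [Algebra R A] (𝒜 : ℕ → Submodule R A) [GradedAlgebra 𝒜]

theorem exists_notMem_of_gen (hgen : (HomogeneousIdeal.irrelevant 𝒜).toIdeal = Ideal.span (𝒜 1 : Set A))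
    (x : ProjectiveSpectrum 𝒜) : ∃ f : 𝒜 1, f.1 ∉ x.asHomogeneousIdeal := by
  by_contra hcon
  push Not at hcon
  apply x.not_irrelevant_le
  change (HomogeneousIdeal.irrelevant 𝒜).toIdeal ≤ x.asHomogeneousIdeal.toIdeal
  rw [hgen, Ideal.span_le]
  intro f hf
  exact hcon ⟨f, hf⟩

theorem exists_gens_pow {d : ℕ} (f : 𝒜 d) (k : ℤ) :
    ∃ (i j : ℕ) (g : 𝒜 i) (h : 𝒜 j), (i : ℤ) = j + k * d ∧
      ∀ x : ProjectiveSpectrum 𝒜, f.1 ∉ x.asHomogeneousIdeal →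
        g.1 ∉ x.asHomogeneousIdeal ∧ h.1 ∉ x.asHomogeneousIdeal := by
  refine ⟨k.toNat • d, (-k).toNat • d, ⟨f.1 ^ k.toNat, SetLike.pow_mem_graded _ f.2⟩,
    ⟨f.1 ^ (-k).toNat, SetLike.pow_mem_graded _ f.2⟩, ?_, fun x hx => ⟨?_, ?_⟩⟩
  · have := Int.toNat_sub_toNat_neg k
    rw [smul_eq_mul, smul_eq_mul]
    push_cast
    linear_combination (d : ℤ) * this
  · exact fun hmem => hx (x.isPrime.mem_of_pow_mem _ hmem)
  · exact fun hmem => hx (x.isPrime.mem_of_pow_mem _ hmem)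

end degreeOne

section genLocus

variable {R A : Type u} [CommRing R] [CommRing A] [Algebra R A] (𝒜 : ℕ → Submodule R A) [GradedAlgebra 𝒜]

theorem notMem_of_val_mul_eq (x : ProjectiveSpectrum 𝒜) (f g h : A)
    (hg : g ∉ x.asHomogeneousIdeal) (hh : h ∉ x.asHomogeneousIdeal) (c : Twist.A0 𝒜 x)
    (hc : c.val * (Localization.mk f ⟨1, one_notMem 𝒜 x⟩ : Twist.Loc 𝒜 x) = Localization.mk g ⟨h, hh⟩) :
    f ∉ x.asHomogeneousIdeal := by
  intro hf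
  rw [c.eq_num_div_den] at hc
  change Localization.mk c.num ⟨c.den, c.den_mem⟩ * Localization.mk f ⟨1, _⟩ =
    Localization.mk g ⟨h, hh⟩ at hc
  rw [Localization.mk_mul, Localization.mk_eq_mk_iff, Localization.r_iff_exists] at hc
  obtain ⟨u, hu⟩ := hc
  have hu2 : (u : A) * (h * (c.num * f)) = (u : A) * (c.den * 1 * g) := hu
  have hu' : (u : A) * (c.den * 1 * g) ∈ x.asHomogeneousIdeal.toIdeal := by
    rw [← hu2]
    exact Ideal.mul_mem_left _ _ (Ideal.mul_mem_left _ _ (Ideal.mul_mem_left _ _ hf))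
  rcases x.isPrime.mem_or_mem hu' with h' | h'
  · exact u.2 h'
  · rcases x.isPrime.mem_or_mem h' with h' | h'
    · rcases x.isPrime.mem_or_mem h' with h' | h'
      · exact c.den_mem h'
      · exact one_notMem 𝒜 x h'
    · exact hg h'

theorem numHom_app_bijective {m : ℕ} (f : 𝒜 m) (W : (Proj 𝒜).Opens)
    (hW : W ≤ Proj.basicOpen 𝒜 f.1) : Function.Bijective ((numHom 𝒜 f).app W) := by
  have h1 := genSec_bijective (m : ℤ) f (⟨1, SetLike.GradedOne.one_mem⟩ : 𝒜 0) (by simp) W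
    (fun x hx => (Proj.mem_basicOpen 𝒜 f.1 x).mp (hW hx)) (fun x _ => one_notMem 𝒜 x)
  have h2 : (⇑(ConcreteCategory.hom ((numHom 𝒜 f).app W)) : _ → _) =
      fun c : Γ(Proj 𝒜, W) => (show Twist.O (𝒜 := 𝒜) (op W) from c) •
        genSec (m : ℤ) f (⟨1, SetLike.GradedOne.one_mem⟩ : 𝒜 0) (by simp) W
          (fun x _ => one_notMem 𝒜 x) := by
    funext c
    exact numHom_app 𝒜 f W c
  rw [h2]
  exact h1

theorem isIso_restrict_numHom_iff {m : ℕ} (f : 𝒜 m) (U : (Proj 𝒜).Opens)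
    (hloc : ∀ y ∈ U, ∃ (i j : ℕ) (g : 𝒜 i) (h : 𝒜 j), (i : ℤ) = j + m ∧
      g.1 ∉ y.asHomogeneousIdeal ∧ h.1 ∉ y.asHomogeneousIdeal) :
    IsIso ((Scheme.Modules.restrictFunctor U.ι).map (numHom 𝒜 f)) ↔ U ≤ Proj.basicOpen 𝒜 f.1 := by
  constructor
  · intro hiso y hy
    obtain ⟨i, j, g, h, hij, hg, hh⟩ := hloc y hy
    let V : (U : Scheme.{u}).Opens := U.ι ⁻¹ᵁ (Proj.basicOpen 𝒜 g.1 ⊓ Proj.basicOpen 𝒜 h.1)
    have hyW : y ∈ U.ι ''ᵁ V := ⟨⟨y, hy⟩, ⟨hg, hh⟩, rfl⟩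
    have hW : ∀ z ∈ U.ι ''ᵁ V, g.1 ∉ z.asHomogeneousIdeal ∧ h.1 ∉ z.asHomogeneousIdeal := by
      rintro z ⟨z', hz', rfl⟩
      exact hz'
    have bij := TensorLib.app_bijective_of_isIso ((Scheme.Modules.restrictFunctor U.ι).map (numHom 𝒜 f)) V
    rw [TensorLib.restrict_map_app] at bij
    obtain ⟨c, hc⟩ := bij.2 (genSec (m : ℤ) g h hij (U.ι ''ᵁ V) (fun z hz => (hW z hz).2))
    have h1 := (numHom_app 𝒜 f (U.ι ''ᵁ V) c).symm.trans hc
    have h2 := congrArg (fun s : Twist.sectN (𝒜 := 𝒜) (m : ℤ) (op (U.ι ''ᵁ V)) =>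
      ((s.1 ⟨y, hyW⟩ : Twist.twistAt 𝒜 (m : ℤ) y) : Twist.Loc 𝒜 y)) h1
    simp only at h2
    exact (Proj.mem_basicOpen 𝒜 f.1 y).mpr (notMem_of_val_mul_eq 𝒜 y f.1 g.1 h.1 hg hh _ h2)
  · intro hU
    refine TensorLib.isIso_of_app_bijective _ (fun V => ?_)
    rw [TensorLib.restrict_map_app]
    exact numHom_app_bijective 𝒜 f _ (le_trans (Scheme.Opens.ι_image_le U V) hU)

end genLocus

end Groth.Agent.Lib.Helper60.TwistLib
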