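import Mathlib
import Groth.Agent.Lib.Helper60.Twist
import Groth.Agent.Lib.Helper60.TensorMod
import Groth.Prelude.Def_GrMod2

universe u
open CategoryTheory CategoryTheory.Limits AlgebraicGeometry TopologicalSpace Opposite

namespace Groth.Agent.Lib.Helper60.TwistLib

section tilde

variable {R A : Type u} [CommRing R] [CommRing A] [Algebra R A] {𝒜 : ℕ → Submodule R A} [GradedAlgebra 𝒜]
variable {M : Type u} [AddCommGroup M] [Module R M] [Module A M] {ℳ : ℕ → Submodule R M}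
  [SetLike.GradedSMul 𝒜 ℳ]

theorem smul_mem_tildeAt (k n l : ℤ) (hl : l = k + n) (x : ProjectiveSpectrum 𝒜)
    {q : Twist.Loc 𝒜 x} {μ : GrTilde.LocMod 𝒜 (M := M) x}
    (hq : q ∈ Twist.twistAt 𝒜 n x) (hμ : μ ∈ GrTilde.tildeAt 𝒜 ℳ k x) :
    q • μ ∈ GrTilde.tildeAt 𝒜 ℳ l x := by
  subst hl
  induction hq, hμ using Submodule.span_induction₂ with
  | mem_mem q μ hq hμ =>
    obtain ⟨i, j, a, s, hs, hdeg, rfl⟩ := hq
    obtain ⟨i', j', m, s', hs', hdeg', rfl⟩ := hμ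
    refine Submodule.subset_span ⟨i + i', j + j', ⟨a.1 • m.1, SetLike.GradedSMul.smul_mem a.2 m.2⟩,
      ⟨s.1 * s'.1, SetLike.mul_mem_graded s.2 s'.2⟩,
      fun hmem => (x.isPrime.mem_or_mem hmem).elim hs hs', by push_cast; omega, ?_⟩
    rw [LocalizedModule.mk_smul_mk]
    rfl
  | zero_left μ _ => simp
  | zero_right q _ => simp
  | add_left q q' μ _ _ _ h₁ h₂ => rw [add_smul]; exact add_mem h₁ h₂
  | add_right q μ μ' _ _ _ h₁ h₂ => rw [smul_add]; exact add_mem h₁ h₂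
  | smul_left c q μ _ _ h =>
    rw [Algebra.smul_def, mul_smul]
    exact Submodule.smul_mem _ c h
  | smul_right c q μ _ _ h =>
    rw [GrTilde.a0_smul_def, smul_comm]
    exact Submodule.smul_mem _ c h

theorem actSec_pred (k n l : ℤ) (hl : l = k + n) (W : Opens (ProjectiveSpectrum.top 𝒜))
    (s : GrTilde.sect 𝒜 ℳ k (op W)) (t : Twist.sectN (𝒜 := 𝒜) n (op W)) :
    (GrTilde.isLocFrac 𝒜 ℳ l).pred (fun x : W =>
      (⟨(t.1 x).1 • (s.1 x).1, smul_mem_tildeAt k n l hl x.1 (t.1 x).2 (s.1 x).2⟩ :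
        GrTilde.tildeAt 𝒜 ℳ l x.1)) := by
  intro x
  obtain ⟨V, hxV, iV, i, j, ⟨m, m_mem⟩, ⟨s₁, s₁_mem⟩, nin, hdeg, hw⟩ := s.2 x
  obtain ⟨V', hxV', iV', i', j', ⟨a, a_mem⟩, ⟨t₁, t₁_mem⟩, nin', hdeg', hw'⟩ := t.2 x
  replace hdeg : (i : ℤ) = j + k ∨ m = 0 := hdeg
  replace hdeg' : (i' : ℤ) = j' + n ∨ a = 0 := hdeg'
  have nin2 : ∀ y : (V ⊓ V' : Opens _), t₁ * s₁ ∉ y.1.asHomogeneousIdeal := fun y h =>
    ((y.1.isPrime.mem_or_mem h).elim (nin' ⟨y.1, y.2.2⟩)) (nin ⟨y.1, y.2.1⟩)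
  refine ⟨V ⊓ V', ⟨hxV, hxV'⟩, Opens.infLELeft _ _ ≫ iV, i' + i, j' + j,
    ⟨a • m, SetLike.GradedSMul.smul_mem a_mem m_mem⟩, ⟨t₁ * s₁, SetLike.mul_mem_graded t₁_mem s₁_mem⟩,
    nin2, ?_, fun y => ?_⟩
  · rcases hdeg with h | h
    · rcases hdeg' with h' | h'
      · exact Or.inl (by push_cast; omega)
      · exact Or.inr (show a • m = 0 by rw [h', zero_smul])
    · exact Or.inr (show a • m = 0 by rw [h, smul_zero])
  · have e1 := hw ⟨y.1, y.2.1⟩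
    have e2 := hw' ⟨y.1, y.2.2⟩
    dsimp only at e1 e2 ⊢
    erw [e1, e2]
    rw [LocalizedModule.mk_smul_mk]
    rfl

def actSec (k n l : ℤ) (hl : l = k + n) (W : Opens (ProjectiveSpectrum.top 𝒜))
    (s : GrTilde.sect 𝒜 ℳ k (op W)) (t : Twist.sectN (𝒜 := 𝒜) n (op W)) :
    GrTilde.sect 𝒜 ℳ l (op W) :=
  ⟨fun x => ⟨(t.1 x).1 • (s.1 x).1, smul_mem_tildeAt k n l hl x.1 (t.1 x).2 (s.1 x).2⟩,
    actSec_pred k n l hl W s t⟩

theorem actSec_val (k n l : ℤ) (hl : l = k + n) (W : Opens (ProjectiveSpectrum.top 𝒜))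
    (s : GrTilde.sect 𝒜 ℳ k (op W)) (t : Twist.sectN (𝒜 := 𝒜) n (op W)) (x : W) :
    (((actSec k n l hl W s t).1 x : GrTilde.tildeAt 𝒜 ℳ l x.1) : GrTilde.LocMod 𝒜 (M := M) x.1) =
      (t.1 x).1 • (s.1 x).1 := rfl

theorem tsect_ext (k : ℤ) (W : Opens (ProjectiveSpectrum.top 𝒜))
    (s t : GrTilde.sect 𝒜 ℳ k (op W))
    (h : ∀ x : W, ((s.1 x : GrTilde.tildeAt 𝒜 ℳ k x.1) : GrTilde.LocMod 𝒜 (M := M) x.1) = (t.1 x).1) :
    s = t := by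
  apply Subtype.ext
  funext x
  exact Subtype.ext (h x)

theorem smul_tsect_val (k : ℤ) (W : Opens (ProjectiveSpectrum.top 𝒜)) (r : Twist.O (𝒜 := 𝒜) (op W))
    (s : GrTilde.sect 𝒜 ℳ k (op W)) (x : W) :
    (((r • s).1 x : GrTilde.tildeAt 𝒜 ℳ k x.1) : GrTilde.LocMod 𝒜 (M := M) x.1) =
      (r.1 x).val • ((s.1 x : GrTilde.tildeAt 𝒜 ℳ k x.1) : GrTilde.LocMod 𝒜 (M := M) x.1) := by
  rw [Submodule.coe_smul, GrTilde.smul_apply, GrTilde.coe_smul_val]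

noncomputable def actBilin (k n l : ℤ) (hl : l = k + n) (W : Opens (ProjectiveSpectrum.top 𝒜)) :
    GrTilde.sect 𝒜 ℳ k (op W) →ₗ[Twist.O (𝒜 := 𝒜) (op W)]
      Twist.sectN (𝒜 := 𝒜) n (op W) →ₗ[Twist.O (𝒜 := 𝒜) (op W)]
        GrTilde.sect 𝒜 ℳ l (op W) :=
  LinearMap.mk₂ _ (actSec k n l hl W)
    (fun s s' t => tsect_ext _ _ _ _ fun x => by
      simp only [actSec_val]
      rw [Submodule.coe_add, Pi.add_apply, Submodule.coe_add, Submodule.coe_add, Pi.add_apply,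
        Submodule.coe_add, actSec_val, actSec_val, smul_add])
    (fun c s t => tsect_ext _ _ _ _ fun x => by
      rw [actSec_val, smul_tsect_val, smul_tsect_val, actSec_val, smul_comm])
    (fun s t t' => tsect_ext _ _ _ _ fun x => by
      simp only [actSec_val]
      rw [Submodule.coe_add, Pi.add_apply, Submodule.coe_add, Submodule.coe_add, Pi.add_apply,
        Submodule.coe_add, actSec_val, actSec_val, add_smul])
    (fun c s t => tsect_ext _ _ _ _ fun x => by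
      rw [actSec_val, smul_sect_val, smul_tsect_val, actSec_val, mul_smul])

omit [Module R M] in
theorem mk_smul_mk_cancel (x : ProjectiveSpectrum 𝒜) (g h : A)
    (hg : g ∉ x.asHomogeneousIdeal) (hh : h ∉ x.asHomogeneousIdeal)
    (μ : GrTilde.LocMod 𝒜 (M := M) x) :
    (Localization.mk g ⟨h, hh⟩ : Twist.Loc 𝒜 x) • ((Localization.mk h ⟨g, hg⟩ : Twist.Loc 𝒜 x) • μ) = μ := by
  have hu : (Localization.mk g ⟨h, hh⟩ : Twist.Loc 𝒜 x) * Localization.mk h ⟨g, hg⟩ = 1 := by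
    rw [Localization.mk_mul, ← Localization.mk_one, Localization.mk_eq_mk_iff, Localization.r_iff_exists]
    exact ⟨1, by simp; ring⟩
  rw [← mul_smul, hu, one_smul]

theorem actSec_genSec_bijective (k n l : ℤ) (hl : l = k + n) {i j : ℕ} (g : 𝒜 i) (h : 𝒜 j)
    (hij : (i : ℤ) = j + n) (W : Opens (ProjectiveSpectrum.top 𝒜))
    (hg : ∀ x ∈ W, g.1 ∉ x.asHomogeneousIdeal) (hh : ∀ x ∈ W, h.1 ∉ x.asHomogeneousIdeal) :
    Function.Bijective (fun s : GrTilde.sect 𝒜 ℳ k (op W) =>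
      actSec k n l hl W s (genSec n g h hij W hh)) := by
  have hji : (j : ℤ) = i + (-n) := by omega
  have hk : k = l + (-n) := by omega
  refine Function.bijective_iff_has_inverse.mpr
    ⟨fun u => actSec l (-n) k hk W u (genSec (-n) h g hji W hg), ?_, ?_⟩
  · intro s
    apply tsect_ext
    intro x
    rw [actSec_val, actSec_val]
    exact mk_smul_mk_cancel x.1 h.1 g.1 (hh x.1 x.2) (hg x.1 x.2) _
  · intro u
    apply tsect_ext
    intro x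
    rw [actSec_val, actSec_val]
    exact mk_smul_mk_cancel x.1 g.1 h.1 (hg x.1 x.2) (hh x.1 x.2) _

variable (𝒜 ℳ)

noncomputable def actΓ (k n l : ℤ) (hl : l = k + n) (U : (Proj 𝒜).Opens) :
    Γ(GrTilde.tilde 𝒜 ℳ k, U) →ₗ[Γ(Proj 𝒜, U)] Γ(Twist.twist 𝒜 n, U) →ₗ[Γ(Proj 𝒜, U)]
      Γ(GrTilde.tilde 𝒜 ℳ l, U) :=
  actBilin k n l hl U

theorem actΓ_natural (k n l : ℤ) (hl : l = k + n) {U V : (Proj 𝒜).Opens} (i : V ⟶ U)
    (s : Γ(GrTilde.tilde 𝒜 ℳ k, U)) (t : Γ(Twist.twist 𝒜 n, U)) :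
    (GrTilde.tilde 𝒜 ℳ l).presheaf.map i.op (actΓ 𝒜 ℳ k n l hl U s t) =
      actΓ 𝒜 ℳ k n l hl V ((GrTilde.tilde 𝒜 ℳ k).presheaf.map i.op s)
        ((Twist.twist 𝒜 n).presheaf.map i.op t) :=
  rfl

theorem act_lift_bijective (k n l : ℤ) (hl : l = k + n) {i j : ℕ} (g : 𝒜 i) (h : 𝒜 j)
    (hij : (i : ℤ) = j + n) (W : Opens (ProjectiveSpectrum.top 𝒜))
    (hg : ∀ x ∈ W, g.1 ∉ x.asHomogeneousIdeal) (hh : ∀ x ∈ W, h.1 ∉ x.asHomogeneousIdeal) :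
    Function.Bijective (TensorProduct.lift (actBilin (𝒜 := 𝒜) (ℳ := ℳ) k n l hl W)) := by
  have key := @TensorLib.lift_bijective_of_generator_right (Twist.O (𝒜 := 𝒜) (op W))
    (GrTilde.sect 𝒜 ℳ k (op W)) (Twist.sectN (𝒜 := 𝒜) n (op W))
    (GrTilde.sect 𝒜 ℳ l (op W)) _ _ _ _ _ _ _
    (actBilin k n l hl W) (genSec n g h hij W hh) (genSec_bijective n g h hij W hg hh)
  refine key ?_
  exact actSec_genSec_bijective k n l hl g h hij W hg hh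

theorem tilde_tensor_iso (k n l : ℤ) (hl : l = k + n)
    (hloc : ∀ x : Proj 𝒜, ∃ U : (Proj 𝒜).Opens, x ∈ U ∧
      ∃ (i j : ℕ) (g : 𝒜 i) (h : 𝒜 j), (i : ℤ) = j + n ∧
        ∀ y ∈ U, g.1 ∉ y.asHomogeneousIdeal ∧ h.1 ∉ y.asHomogeneousIdeal) :
    Nonempty (CohB1.tensorMod (GrTilde.tilde 𝒜 ℳ k) (Twist.twist 𝒜 n) ≅ GrTilde.tilde 𝒜 ℳ l) := by
  refine TensorLib.nonempty_tensorMod_iso (GrTilde.tilde 𝒜 ℳ k) (Twist.twist 𝒜 n) (GrTilde.tilde 𝒜 ℳ l)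
    (actΓ 𝒜 ℳ k n l hl) (actΓ_natural 𝒜 ℳ k n l hl) ?_
  intro x
  obtain ⟨U, hxU, i, j, g, h, hij, hU⟩ := hloc x
  refine ⟨U, hxU, fun W hW => ?_⟩
  exact act_lift_bijective 𝒜 ℳ k n l hl g h hij W
    (fun y hy => (hU y (hW hy)).1) (fun y hy => (hU y (hW hy)).2)

end tilde

end Groth.Agent.Lib.Helper60.TwistLib
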