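import Groth.Agent.Lib.Helper60.ProjUP5

/-!
# Universal property of `Proj`: chart maps `W ⟶ D₊(f) ⊆ Proj` from ring maps `A_(f) → Γ(X, W)`
-/

set_option autoImplicit false
universe u
open CategoryTheory AlgebraicGeometry TopologicalSpace Opposite

namespace Groth.Agent.Lib.Helper60.ProjUPLib

open Groth.Agent.Lib.Helper35.Gen Groth.Agent.Lib.Helper35.PbInv Groth.Agent.Lib.Helper35.AbSheaf
open Groth.Agent.Lib.Helper60.TwistLib Groth.Agent.Lib.Helper60.ProjFrac

variable {R A : Type u} [CommRing R] [CommRing A] [Algebra R A] (𝒜 : ℕ → Submodule R A) [GradedAlgebra 𝒜]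

section awayLift

variable {B : Type*} [CommRing B] (φ : A →+* B) (f : A) (hu : IsUnit (φ f))

/-- the ring map `A_(f) → B` induced by `φ : A → B` with `φ f` a unit -/
noncomputable def awayLift : HomogeneousLocalization.Away 𝒜 f →+* B :=
  (IsLocalization.Away.lift (S := Localization.Away f) f hu).comp
    (algebraMap (HomogeneousLocalization.Away 𝒜 f) (Localization.Away f))

theorem awayLift_mk_mul {d : ℕ} (hf : f ∈ 𝒜 d) (n : ℕ) (a : A) (ha : a ∈ 𝒜 (n • d)) :
    awayLift 𝒜 φ f hu (HomogeneousLocalization.Away.mk 𝒜 hf n a ha) * φ f ^ n = φ a := by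
  unfold awayLift
  rw [RingHom.comp_apply, HomogeneousLocalization.algebraMap_apply,
    HomogeneousLocalization.Away.val_mk, Localization.mk_eq_mk']
  have key : ∀ v : B, IsLocalization.Away.lift (S := Localization.Away f) f hu
      (IsLocalization.mk' (Localization.Away f) a (⟨f ^ n, n, rfl⟩ : Submonoid.powers f)) = v ↔
        φ a = φ (f ^ n) * v := fun v =>
    IsLocalization.lift_mk'_spec (M := Submonoid.powers f) (S := Localization.Away f) _ a v _
  have h := (key _).mp rfl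
  rw [h, map_pow, mul_comm]

theorem awayLift_mk {d : ℕ} (hf : f ∈ 𝒜 d) (h1 : φ f = 1) (n : ℕ) (a : A) (ha : a ∈ 𝒜 (n • d)) :
    awayLift 𝒜 φ f hu (HomogeneousLocalization.Away.mk 𝒜 hf n a ha) = φ a := by
  have h := awayLift_mk_mul 𝒜 φ f hu hf n a ha
  rw [h1, one_pow, mul_one] at h
  exact h

end awayLift

section chart

variable {X : Scheme.{u}} {f : A} {d : ℕ} (hf : f ∈ 𝒜 d) (hd : 0 < d)

/-- the morphism `W ⟶ Proj` through the chart `D₊(f)` given by a ring map `A_(f) → Γ(X, W)` -/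
noncomputable def chartMap (W : X.Opens) (ψ : HomogeneousLocalization.Away 𝒜 f →+* Γ(X, W)) :
    (W : Scheme.{u}) ⟶ Proj 𝒜 :=
  (W.toSpecΓ ≫ Spec.map (CommRingCat.ofHom ψ)) ≫ Proj.awayι 𝒜 f hf hd

theorem chartMap_preimage (W : X.Opens) (ψ : HomogeneousLocalization.Away 𝒜 f →+* Γ(X, W)) :
    chartMap 𝒜 hf hd W ψ ⁻¹ᵁ Proj.basicOpen 𝒜 f = ⊤ :=
  comp_awayι_preimage 𝒜 hf hd _

theorem chartMap_appLE (W : X.Opens) (ψ : HomogeneousLocalization.Away 𝒜 f →+* Γ(X, W))
    (z : HomogeneousLocalization.Away 𝒜 f) :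
    ((chartMap 𝒜 hf hd W ψ).appLE (Proj.basicOpen 𝒜 f) ⊤ (chartMap_preimage 𝒜 hf hd W ψ).ge).hom
      ((Proj.awayToSection 𝒜 f).hom z) = W.topIso.inv.hom (ψ z) := by
  have h1 := awayToSection_comp_appLE 𝒜 hf hd (W.toSpecΓ ≫ Spec.map (CommRingCat.ofHom ψ))
  have h2 : (Scheme.ΓSpecIso _).inv ≫ (W.toSpecΓ ≫ Spec.map (CommRingCat.ofHom ψ)).appTop =
      CommRingCat.ofHom ψ ≫ W.topIso.inv := by
    rw [Scheme.Hom.comp_appTop, ← Category.assoc, ← Scheme.ΓSpecIso_inv_naturality,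
      Category.assoc, Scheme.Opens.toSpecΓ_appTop, Iso.inv_hom_id_assoc]
  exact congrArg (fun φ => φ.hom z) (h1.trans h2)

theorem homOfLE_chartMap {W W' : X.Opens} (h : W' ≤ W)
    (ψ : HomogeneousLocalization.Away 𝒜 f →+* Γ(X, W)) :
    X.homOfLE h ≫ chartMap 𝒜 hf hd W ψ =
      chartMap 𝒜 hf hd W' ((X.presheaf.map (homOfLE h).op).hom.comp ψ) := by
  unfold chartMap
  rw [← Category.assoc, ← Category.assoc, ← Scheme.Opens.toSpecΓ_SpecMap_presheaf_map _ _ h,
    Category.assoc _ _ (Spec.map (CommRingCat.ofHom ψ)), ← Spec.map_comp]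
  rfl

/-- the composite with the structure morphism -/
theorem chartMap_strMap (W : X.Opens) (ψ : HomogeneousLocalization.Away 𝒜 f →+* Γ(X, W)) :
    chartMap 𝒜 hf hd W ψ ≫ strMap 𝒜 = W.toSpecΓ ≫ Spec.map (CommRingCat.ofHom
      ((ψ.comp (HomogeneousLocalization.fromZeroRingHom 𝒜 _)).comp (algebraMap R (𝒜 0)))) := by
  unfold chartMap strMap
  rw [Category.assoc, Category.assoc, ← Category.assoc (Proj.awayι 𝒜 f hf hd),
    Proj.awayι_toSpecZero, ← Spec.map_comp, ← Spec.map_comp]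
  rfl

end chart

end Groth.Agent.Lib.Helper60.ProjUPLib
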