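import Groth.Agent.Lib.Helper60.Pic1
import Groth.Agent.Lib.Helper60.ProjUP6
import Groth.Agent.Lib.Helper5.Dehomog

/-!
# Charts of projective space over a UFD are spectra of UFDs; invertible modules are trivial on them
-/

set_option autoImplicit false
universe u
open CategoryTheory AlgebraicGeometry TopologicalSpace Opposite

namespace Groth.Agent.Lib.Helper60.PicPn

open Groth.Agent.Lib.Helper35.Gen Groth.Agent.Lib.Helper35.AbSheaf Scheme.Modules
open Groth.Agent.Lib.Helper60.ProjFrac Groth.Agent.Lib.Helper60.ProjUPLib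
open HomogeneousLocalization

variable (n : ℕ) (R : Type u) [CommRing R]

/-- the coordinate `X i` as an element of degree one -/
noncomputable def gX (i : Fin (n + 1)) : CohB1.polyGrading n R 1 :=
  ⟨MvPolynomial.X i, MvPolynomial.isHomogeneous_X R i⟩

theorem gX_val (i : Fin (n + 1)) : (gX n R i).1 = MvPolynomial.X i := rfl

theorem hX (i : Fin (n + 1)) :
    (MvPolynomial.X i : MvPolynomial (Fin (n + 1)) R) ∈ CohB1.polyGrading n R 1 :=
  MvPolynomial.isHomogeneous_X R i

/-- evaluation `X i ↦ 1` -/
noncomputable def evOne (i : Fin (n + 1)) :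
    MvPolynomial (Fin (n + 1)) R →+* MvPolynomial {j : Fin (n + 1) // j ≠ i} R :=
  (MvPolynomial.eval₂Hom MvPolynomial.C
    (fun j => if h : j = i then 1 else MvPolynomial.X ⟨j, h⟩))

theorem evOne_X_self (i : Fin (n + 1)) : evOne n R i (MvPolynomial.X i) = 1 := by
  unfold evOne
  simp

theorem evOne_X_ne (i j : Fin (n + 1)) (h : j ≠ i) :
    evOne n R i (MvPolynomial.X j) = MvPolynomial.X ⟨j, h⟩ := by
  unfold evOne
  simp [h]

theorem evOne_C (i : Fin (n + 1)) (c : R) : evOne n R i (MvPolynomial.C c) = MvPolynomial.C c := by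
  unfold evOne
  simp

/-- the chart ring map `A_(X i) → R[X j, j ≠ i]` -/
noncomputable def chartFwd (i : Fin (n + 1)) :
    Away (CohB1.polyGrading n R) (MvPolynomial.X i) →+* MvPolynomial {j : Fin (n + 1) // j ≠ i} R :=
  awayLift (CohB1.polyGrading n R) (evOne n R i) (MvPolynomial.X i)
    (by rw [evOne_X_self]; exact isUnit_one)

/-- the inverse chart ring map -/
noncomputable def chartBwd (i : Fin (n + 1)) :
    MvPolynomial {j : Fin (n + 1) // j ≠ i} R →+* Away (CohB1.polyGrading n R) (MvPolynomial.X i) :=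
  (Groth.Agent.Lib.Helper5.dehomog (CohB1.polyGrading n R) (hX n R i)).comp
    (MvPolynomial.rename (R := R) (Subtype.val : {j : Fin (n + 1) // j ≠ i} → Fin (n + 1))).toRingHom

theorem dehomog_X_self (i : Fin (n + 1)) :
    Groth.Agent.Lib.Helper5.dehomog (CohB1.polyGrading n R) (hX n R i) (MvPolynomial.X i) = 1 := by
  rw [Groth.Agent.Lib.Helper5.dehomog_of_mem (CohB1.polyGrading n R) (hX n R i) (hX n R i)]
  apply HomogeneousLocalization.val_injective
  rw [Groth.Agent.Lib.Helper5.val_awayMkOne, HomogeneousLocalization.val_one]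
  rw [Localization.mk_eq_mk', IsLocalization.mk'_eq_iff_eq_mul]
  simp

theorem chartFwd_dehomog (i : Fin (n + 1)) (a : MvPolynomial (Fin (n + 1)) R) :
    chartFwd n R i (Groth.Agent.Lib.Helper5.dehomog (CohB1.polyGrading n R) (hX n R i) a) =
      evOne n R i a := by
  induction a using MvPolynomial.induction_on' with
  | monomial u c =>
    have hm : MvPolynomial.monomial u c ∈ CohB1.polyGrading n R (u.degree) :=
      MvPolynomial.isHomogeneous_monomial c rfl
    rw [Groth.Agent.Lib.Helper5.dehomog_of_mem (CohB1.polyGrading n R) (hX n R i) hm]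
    unfold Groth.Agent.Lib.Helper5.awayMkOne chartFwd
    rw [awayLift_mk (CohB1.polyGrading n R) (evOne n R i) (MvPolynomial.X i) _ (hX n R i)
      (evOne_X_self n R i)]
  | add p q hp hq => rw [map_add, map_add, map_add, hp, hq]

theorem chartFwd_chartBwd (i : Fin (n + 1)) (b : MvPolynomial {j : Fin (n + 1) // j ≠ i} R) :
    chartFwd n R i (chartBwd n R i b) = b := by
  unfold chartBwd
  rw [RingHom.comp_apply, chartFwd_dehomog]
  induction b using MvPolynomial.induction_on with
  | C c =>
    change evOne n R i (MvPolynomial.rename _ (MvPolynomial.C c)) = _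
    rw [MvPolynomial.rename_C, evOne_C]
  | add p q hp hq =>
    rw [map_add, map_add, hp, hq]
  | mul_X p j hp =>
    rw [map_mul, map_mul, hp]
    congr 1
    change evOne n R i (MvPolynomial.rename _ (MvPolynomial.X j)) = _
    rw [MvPolynomial.rename_X, evOne_X_ne n R i j.1 j.2]

theorem dehomog_rename_evOne (i : Fin (n + 1)) (a : MvPolynomial (Fin (n + 1)) R) :
    chartBwd n R i (evOne n R i a) =
      Groth.Agent.Lib.Helper5.dehomog (CohB1.polyGrading n R) (hX n R i) a := by
  induction a using MvPolynomial.induction_on with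
  | C c =>
    rw [evOne_C]
    unfold chartBwd
    rw [RingHom.comp_apply]
    change Groth.Agent.Lib.Helper5.dehomog _ _ (MvPolynomial.rename _ (MvPolynomial.C c)) = _
    rw [MvPolynomial.rename_C]
  | add p q hp hq =>
    rw [map_add, map_add, map_add, hp, hq]
  | mul_X p j hp =>
    rw [map_mul, map_mul, map_mul, hp]
    congr 1
    by_cases h : j = i
    · subst h
      rw [evOne_X_self, map_one, dehomog_X_self]
    · rw [evOne_X_ne n R i j h]
      unfold chartBwd
      rw [RingHom.comp_apply]
      change Groth.Agent.Lib.Helper5.dehomog _ _ (MvPolynomial.rename _ (MvPolynomial.X _)) = _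
      rw [MvPolynomial.rename_X]

theorem chartBwd_chartFwd (i : Fin (n + 1))
    (z : Away (CohB1.polyGrading n R) (MvPolynomial.X i)) :
    chartBwd n R i (chartFwd n R i z) = z := by
  obtain ⟨k, a, ha, rfl⟩ := Away.mk_surjective (CohB1.polyGrading n R) (hX n R i) z
  unfold chartFwd
  rw [awayLift_mk (CohB1.polyGrading n R) (evOne n R i) (MvPolynomial.X i) _ (hX n R i)
      (evOne_X_self n R i), dehomog_rename_evOne]
  have ha' : a ∈ CohB1.polyGrading n R k := by simpa using ha
  rw [Groth.Agent.Lib.Helper5.dehomog_of_mem (CohB1.polyGrading n R) (hX n R i) ha']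
  rfl

/-- the chart ring `A_(X i)` is a polynomial ring -/
noncomputable def chartEquiv (i : Fin (n + 1)) :
    Away (CohB1.polyGrading n R) (MvPolynomial.X i) ≃+* MvPolynomial {j : Fin (n + 1) // j ≠ i} R :=
  RingEquiv.ofRingHom (chartFwd n R i) (chartBwd n R i)
    (RingHom.ext (chartFwd_chartBwd n R i)) (RingHom.ext (chartBwd_chartFwd n R i))

instance isDomain_chart [IsDomain R] (i : Fin (n + 1)) :
    IsDomain (Away (CohB1.polyGrading n R) (MvPolynomial.X i)) :=
  (chartEquiv n R i).toMulEquiv.isDomain _

instance ufm_chart [IsDomain R] [UniqueFactorizationMonoid R] (i : Fin (n + 1)) :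
    UniqueFactorizationMonoid (Away (CohB1.polyGrading n R) (MvPolynomial.X i)) :=
  (chartEquiv n R i).symm.toMulEquiv.uniqueFactorizationMonoid inferInstance

end Groth.Agent.Lib.Helper60.PicPn
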