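import Groth.Agent.Lib.Helper60.TensorRestrict
import Groth.Agent.Lib.Helper35.GenLocus
import Groth.Agent.Lib.Helper35.ModRestrict
import Groth.Agent.Lib.Lead.Inv4
import Groth.Agent.Lib.Helper35.Ample1

set_option autoImplicit false
universe u
open CategoryTheory AlgebraicGeometry TopologicalSpace Opposite TensorProduct

namespace Groth.Agent.Lib.Helper60.TensorRestrict

open Groth.Agent.Lib.Helper60.TensorLib

variable {X Y : Scheme.{u}} (j : Y ⟶ X) [IsOpenImmersion j]

/-- **Restriction to an open subscheme commutes with tensor powers.** -/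
noncomputable def restrictTensorPowIso (L : X.Modules) : ∀ n : ℕ,
    (CohB1.tensorPow L n).restrict j ≅ CohB1.tensorPow (L.restrict j) n
  | 0 => Scheme.Modules.restrictUnitIso j
  | n + 1 => restrictTensorIso j (CohB1.tensorPow L n) L ≪≫
      tensorModCongrLeft (restrictTensorPowIso L n) (L.restrict j)

theorem nonempty_restrict_tensorPow_iso (L : X.Modules) (n : ℕ) :
    Nonempty ((CohB1.tensorPow L n).restrict j ≅ CohB1.tensorPow (L.restrict j) n) :=
  ⟨restrictTensorPowIso j L n⟩

/-- Restriction of a global section `s : O_X ⟶ F` to an open subscheme. -/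
noncomputable def restrictSec (F : X.Modules) (s : Coh.structureModule X ⟶ F) :
    Coh.structureModule Y ⟶ F.restrict j :=
  (Scheme.Modules.restrictUnitIso j).inv ≫ (Scheme.Modules.restrictFunctor j).map s

theorem restrictSec_app_bijective_iff (F : X.Modules) (s : Coh.structureModule X ⟶ F)
    (W : Y.Opens) :
    Function.Bijective ((restrictSec j F s).app W).hom ↔
      Function.Bijective (s.app (j ''ᵁ W)).hom := by
  have h1 : Function.Bijective ((Scheme.Modules.restrictUnitIso j).inv.app W) :=
    app_bijective_of_isIso _ W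
  have h2 : ⇑((restrictSec j F s).app W).hom =
      ⇑(s.app (j ''ᵁ W)).hom ∘ ⇑((Scheme.Modules.restrictUnitIso j).inv.app W) := by
    ext r
    rfl
  rw [h2]
  exact Function.Bijective.of_comp_iff _ h1

/-- The generating locus of the restricted section is the preimage of the generating locus. -/
theorem genLocus_restrictSec (F : X.Modules) (s : Coh.structureModule X ⟶ F) :
    CohB1.genLocus (F.restrict j) (restrictSec j F s) = j ⁻¹ᵁ CohB1.genLocus F s := by
  refine eq_of_forall_le_iff fun V => ?_
  have hle : V ≤ j ⁻¹ᵁ CohB1.genLocus F s ↔ j ''ᵁ V ≤ CohB1.genLocus F s := by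
    constructor
    · intro h
      exact (Scheme.Hom.image_mono j h).trans (Scheme.Hom.image_preimage_le j _)
    · intro h
      have := Scheme.Hom.preimage_mono j h
      rwa [Scheme.Hom.preimage_image_eq] at this
  rw [Groth.Agent.Lib.Helper35.GenLocus.le_genLocus_iff, hle,
    Groth.Agent.Lib.Helper35.GenLocus.le_genLocus_iff]
  constructor
  · intro h W' hW'
    have hW'' : j ''ᵁ (j ⁻¹ᵁ W') = W' := by
      rw [Scheme.Hom.image_preimage_eq_opensRange_inf]
      exact inf_eq_right.mpr (hW'.trans (Scheme.Hom.image_le_opensRange j V))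
    have h3 : j ⁻¹ᵁ W' ≤ V := by
      have := Scheme.Hom.preimage_mono j hW'
      rwa [Scheme.Hom.preimage_image_eq] at this
    have := (restrictSec_app_bijective_iff j F s (j ⁻¹ᵁ W')).mp (h _ h3)
    exact (Groth.Agent.Lib.Helper35.GenLocus.app_bijective_congr s hW'').mp this
  · intro h W hW
    exact (restrictSec_app_bijective_iff j F s W).mpr (h _ (Scheme.Hom.image_mono j hW))

/-- Restriction of a global section of a tensor power to an open subscheme, as a section of the
tensor power of the restriction. -/
noncomputable def restrictPowSec (L : X.Modules) (n : ℕ)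
    (s : Coh.structureModule X ⟶ CohB1.tensorPow L n) :
    Coh.structureModule Y ⟶ CohB1.tensorPow (L.restrict j) n :=
  restrictSec j _ s ≫ (restrictTensorPowIso j L n).hom

theorem genLocus_restrictPowSec (L : X.Modules) (n : ℕ)
    (s : Coh.structureModule X ⟶ CohB1.tensorPow L n) :
    CohB1.genLocus _ (restrictPowSec j L n s) = j ⁻¹ᵁ CohB1.genLocus _ s := by
  unfold restrictPowSec
  rw [Groth.Agent.Lib.Lead.Inv.genLocus_comp_iso, genLocus_restrictSec]

/-- A section of a tensor power restricts to a section of the tensor power of the restriction,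
with generating locus the preimage. -/
theorem exists_restrict_pow_section (L : X.Modules) (n : ℕ)
    (s : Coh.structureModule X ⟶ CohB1.tensorPow L n) :
    ∃ s' : Coh.structureModule Y ⟶ CohB1.tensorPow (L.restrict j) n,
      CohB1.genLocus _ s' = j ⁻¹ᵁ CohB1.genLocus _ s :=
  ⟨restrictPowSec j L n s, genLocus_restrictPowSec j L n s⟩

/-- Ampleness is transported along isomorphisms of schemes. -/
theorem isAmple_restrict_of_isIso [IsIso j] (L : X.Modules) (h : CohB1.IsAmple L) :
    CohB1.IsAmple (L.restrict j) := by
  obtain ⟨hinv, hc, hx⟩ := h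
  refine ⟨Groth.Agent.Lib.Helper35.ModRestrict.isInvertible_restrict j L hinv, ?_, ?_⟩
  · exact (j.homeomorph).symm.compactSpace
  · intro y
    obtain ⟨n, s, hs, haff⟩ := hx (j y)
    refine ⟨n, restrictPowSec j L (n + 1) s, ?_, ?_⟩
    · rw [genLocus_restrictPowSec]
      exact hs
    · rw [genLocus_restrictPowSec]
      exact haff.preimage_of_isIso j

/-- Ampleness of a restriction only depends on the range of the open immersion. -/
theorem isAmple_restrict_of_range_eq {Y' : Scheme.{u}} (j' : Y' ⟶ X) [IsOpenImmersion j']
    (hr : Set.range j = Set.range j') (L : X.Modules)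
    (h : CohB1.IsAmple (L.restrict j')) : CohB1.IsAmple (L.restrict j) := by
  have h1 := isAmple_restrict_of_isIso (IsOpenImmersion.isoOfRangeEq j j' hr).hom _ h
  have e1 : (L.restrict j').restrict (IsOpenImmersion.isoOfRangeEq j j' hr).hom ≅
      L.restrict ((IsOpenImmersion.isoOfRangeEq j j' hr).hom ≫ j') :=
    ((Scheme.Modules.restrictFunctorComp _ _).app L).symm
  have e2 : L.restrict ((IsOpenImmersion.isoOfRangeEq j j' hr).hom ≫ j') ≅ L.restrict j :=
    (Scheme.Modules.restrictFunctorCongr (IsOpenImmersion.isoOfRangeEq_hom_fac j j' hr)).app L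
  exact Groth.Agent.Lib.Helper35.Ample.isAmple_of_iso (e1 ≪≫ e2) h1

/-- Ampleness of the restriction to an open only depends on the open. -/
theorem isAmple_restrict_iff_of_opensRange_eq {Y' : Scheme.{u}} (j' : Y' ⟶ X) [IsOpenImmersion j']
    (hr : j.opensRange = j'.opensRange) (L : X.Modules) :
    CohB1.IsAmple (L.restrict j) ↔ CohB1.IsAmple (L.restrict j') := by
  have hr' : Set.range j = Set.range j' := congrArg (fun U : X.Opens => (U : Set X)) hr
  exact ⟨isAmple_restrict_of_range_eq j' j hr'.symm L, isAmple_restrict_of_range_eq j j' hr' L⟩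

/-- Ampleness of `L|_U` via any open immersion with range `U`. -/
theorem isAmple_restrict_iff_ι (L : X.Modules) :
    CohB1.IsAmple (L.restrict j) ↔ CohB1.IsAmple (L.restrict j.opensRange.ι) :=
  isAmple_restrict_iff_of_opensRange_eq j j.opensRange.ι (by simp) L

end Groth.Agent.Lib.Helper60.TensorRestrict
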