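import Groth.Agent.Lib.Helper60.ProjUP11
import Groth.Agent.Lib.Helper35.GlobGen

/-!
# Universal property of `Proj`: existence for symmetric algebras and polynomial rings
-/

set_option autoImplicit false
universe u
open CategoryTheory CategoryTheory.Limits AlgebraicGeometry TopologicalSpace Opposite

namespace Groth.Agent.Lib.Helper60.ProjUPLib

open Groth.Agent.Lib.Helper35.Gen Groth.Agent.Lib.Helper35.PbInv Groth.Agent.Lib.Helper35.AbSheaf
open Groth.Agent.Lib.Helper35.GlobGen

section locus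

variable {X : Scheme.{u}} (L : X.Modules)

/-- the locus where a global section generates -/
noncomputable def genOpen (s : Γ(L, ⊤)) : X.Opens := CohB1.genLocus L (secHom L s)

theorem val_secHom (s : Γ(L, ⊤)) (W : X.Opens) :
    SecTwist.val (secHom L s) W = rs L le_top s := secHom_app_one L s W

theorem isGen_genOpen (s : Γ(L, ⊤)) : IsGen L (genOpen L s) (rs L le_top s) := by
  have h := (isGen_val_iff (secHom L s) (genOpen L s)).mpr le_rfl
  rwa [val_secHom] at h

theorem le_genOpen (s : Γ(L, ⊤)) (W : X.Opens) (h : IsGen L W (rs L le_top s)) :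
    W ≤ genOpen L s := by
  rw [← val_secHom] at h
  exact (isGen_val_iff (secHom L s) W).mp h

theorem exists_mem_genOpen (hL : PicF.IsInvertible L) {ι : Type*}
    (s : ι → ProjUP.Γm L) (hs : ProjUP.GeneratedBy L s) (x : X) : ∃ i, x ∈ genOpen L (s i) := by
  obtain ⟨i, W, hxW, hW⟩ := exists_isGen_of_generatedBy hL s hs x
  exact ⟨i, le_genOpen L (s i) W hW hxW⟩

end locus

section sym

variable {A : Type u} [CommRing A] {S : Type u} [CommRing S] [Algebra A S]
  (𝒮 : ℕ → Submodule A S) [GradedAlgebra 𝒮]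
  {M : Type u} [AddCommGroup M] [Module A M] (ι : M →ₗ[A] S) (hι : ∀ m : M, ι m ∈ 𝒮 1)
  (hsym : IsSymmetricAlgebra ι)
  {X : Scheme.{u}} (q : X ⟶ Spec (CommRingCat.of A)) (L : X.Modules) (hL : PicF.IsInvertible L)
  (v : M →+ ProjUP.Γm L) (hv : ∀ (a : A) (m : M), v (a • m) = ProjUP.toGlobal q a • v m)
  (hgen : ProjUP.GeneratedBy L v)

include hsym in
theorem adjoin_range_eq_top_of_isSymmetricAlgebra :
    Algebra.adjoin A (Set.range (fun m : M => ι m)) = ⊤ := by
  rw [eq_top_iff]
  rintro s -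
  induction s using hsym.induction with
  | algebraMap a => exact Subalgebra.algebraMap_mem _ a
  | ι m => exact Algebra.subset_adjoin ⟨m, rfl⟩
  | mul a b ha hb => exact Subalgebra.mul_mem _ ha hb
  | add a b ha hb => exact Subalgebra.add_mem _ ha hb

include hι hsym hL hv hgen in
/-- **Existence in the universal property of `Proj (Sym M)`.** -/
theorem exists_projSym :
    ∃ (r : X ⟶ Proj 𝒮) (_ : r ≫ strMap 𝒮 = q)
      (τ : (Scheme.Modules.pullback r).obj (Twist.twist 𝒮 ((1 : ℕ) : ℤ)) ≅ L),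
      ∀ m : M, (τ.hom.app ⊤).hom (psec 𝒮 r ⟨ι m, hι m⟩) = v m := by
  have hadj := adjoin_range_eq_top_of_isSymmetricAlgebra ι hsym
  let XX : M → X.Opens := fun m => genOpen L (v m)
  have hgenL : ∀ m, IsGen L (XX m) (rs L le_top (v m)) := fun m => isGen_genOpen L (v m)
  have hcov : ∀ x : X, ∃ m, x ∈ XX m := exists_mem_genOpen L hL v hgen
  -- the ring maps
  have key : ∀ m : M, ∃ φ : S →+* Γ(X, XX m),
      (∀ c : A, φ (algebraMap A S c) = rr X le_top (ProjUP.toGlobal q c)) ∧
      (∀ m' : M, rs L (le_top : XX m ≤ ⊤) (v m') = φ (ι m') • rs L le_top (v m)) := by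
    intro m
    letI : Algebra A Γ(X, XX m) := ((rr X (le_top : XX m ≤ ⊤)).comp (ProjUP.toGlobal q)).toAlgebra
    let lam : M →ₗ[A] Γ(X, XX m) :=
      { toFun := fun m' => HomOfGen.coef (hgenL m) (XX m) le_rfl (rs L le_top (v m'))
        map_add' := fun m₁ m₂ => by
          rw [map_add, rs_add, HomOfGen.coef_add]
        map_smul' := fun a m' => by
          rw [hv, rs_smul, HomOfGen.coef_smul]
          rfl }
    refine ⟨(hsym.lift lam).toRingHom, fun c => ?_, fun m' => ?_⟩
    · exact (hsym.lift lam).commutes c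
    · have h1 : (hsym.lift lam).toRingHom (ι m') = lam m' := hsym.lift_eq lam m'
      rw [h1]
      have h2 := HomOfGen.coef_spec (hgenL m) (XX m) le_rfl (rs L le_top (v m'))
      rw [rs_self] at h2
      exact h2.symm
  choose φ hφc hφv using key
  exact exists_morphism_iso 𝒮 q (fun m : M => ι m) hι hadj (fun m => v m) XX hgenL hcov φ hφc hφv

end sym

section poly

variable {R : Type u} [CommRing R] (n : ℕ) {X : Scheme.{u}}
    (q : X ⟶ Spec (CommRingCat.of R)) (L : X.Modules) (hL : PicF.IsInvertible L)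
    (s : Fin (n + 1) → ProjUP.Γm L) (hs : ProjUP.GeneratedBy L s)

include hL hs in
/-- **Existence in the universal property of projective space.** -/
theorem exists_projSpace :
    ∃ (r : X ⟶ Proj (CohB1.polyGrading n R)) (_ : r ≫ strMap (CohB1.polyGrading n R) = q)
      (τ : (Scheme.Modules.pullback r).obj (Twist.twist (CohB1.polyGrading n R) ((1 : ℕ) : ℤ)) ≅ L),
      ∀ i, (τ.hom.app ⊤).hom (psec (CohB1.polyGrading n R) r
        ⟨MvPolynomial.X i, MvPolynomial.isHomogeneous_X R i⟩) = s i := by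
  have hadj : Algebra.adjoin R (Set.range (fun i : Fin (n + 1) =>
      (MvPolynomial.X i : MvPolynomial (Fin (n + 1)) R))) = ⊤ := MvPolynomial.adjoin_range_X
  let XX : Fin (n + 1) → X.Opens := fun i => genOpen L (s i)
  have hgenL : ∀ i, IsGen L (XX i) (rs L le_top (s i)) := fun i => isGen_genOpen L (s i)
  have hcov : ∀ x : X, ∃ i, x ∈ XX i := exists_mem_genOpen L hL s hs
  let φ : ∀ i, MvPolynomial (Fin (n + 1)) R →+* Γ(X, XX i) := fun i =>
    MvPolynomial.eval₂Hom ((rr X (le_top : XX i ≤ ⊤)).comp (ProjUP.toGlobal q))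
      (fun j => HomOfGen.coef (hgenL i) (XX i) le_rfl (rs L le_top (s j)))
  have hφc : ∀ i (c : R), φ i (algebraMap R _ c) = rr X le_top (ProjUP.toGlobal q c) := by
    intro i c
    change MvPolynomial.eval₂ _ _ (MvPolynomial.C c) = _
    rw [MvPolynomial.eval₂_C]
    rfl
  have hφv : ∀ i j, rs L (le_top : XX i ≤ ⊤) (s j) =
      φ i (MvPolynomial.X j) • rs L le_top (s i) := by
    intro i j
    have h1 : φ i (MvPolynomial.X j) =
        HomOfGen.coef (hgenL i) (XX i) le_rfl (rs L le_top (s j)) := MvPolynomial.eval₂_X _ _ _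
    rw [h1]
    have h2 := HomOfGen.coef_spec (hgenL i) (XX i) le_rfl (rs L le_top (s j))
    rw [rs_self] at h2
    exact h2.symm
  exact exists_morphism_iso (CohB1.polyGrading n R) q
    (fun i : Fin (n + 1) => (MvPolynomial.X i : MvPolynomial (Fin (n + 1)) R))
    (fun i => MvPolynomial.isHomogeneous_X R i) hadj s XX hgenL hcov φ hφc hφv

end poly

end Groth.Agent.Lib.Helper60.ProjUPLib
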