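import Mathlib

/-!
# helper60: injectivity of `(A ⊗[K] R₀) ⊗[A] N → (A ⊗[K] R) ⊗[A] N` over a field (for S4911 / RCM)
-/

set_option autoImplicit false
universe u
open TensorProduct

namespace Groth.Agent.Lib.Helper60.SDMPUR

variable {K : Type u} [Field K] (A : Type u) [CommRing A] [Algebra K A] {R : Type u} [CommRing R]
  [Algebra K R]

/-- `A ⊗ R₀ → A ⊗ R` as an `A`-algebra map -/
noncomputable abbrev inclA (R₀ : Subalgebra K R) : A ⊗[K] R₀ →ₐ[A] A ⊗[K] R :=
  Algebra.TensorProduct.map (AlgHom.id A A) R₀.val

theorem inclN_injective (R₀ : Subalgebra K R) (N : Type u) [AddCommGroup N] [Module A N] :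
    Function.Injective (LinearMap.rTensor N (inclA A R₀).toLinearMap) := by
  letI : Module K N := Module.compHom N (algebraMap K A)
  haveI : IsScalarTower K A N := ⟨fun c a n => by
    change (c • a) • n = (algebraMap K A c) • (a • n)
    rw [Algebra.smul_def, mul_smul]⟩
  let e : ∀ (S : Type u) [CommRing S] [Algebra K S], (A ⊗[K] S) ⊗[A] N ≃ₗ[A] N ⊗[K] S :=
    fun S _ _ => (TensorProduct.comm A (A ⊗[K] S) N) ≪≫ₗ
      TensorProduct.AlgebraTensorModule.cancelBaseChange K A A N S
  have hcomm : ∀ z : (A ⊗[K] R₀) ⊗[A] N,
      e R (LinearMap.rTensor N (inclA A R₀).toLinearMap z) =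
        LinearMap.lTensor N R₀.val.toLinearMap (e R₀ z) := by
    intro z
    induction z using TensorProduct.induction_on with
    | zero => simp
    | tmul w n =>
      induction w using TensorProduct.induction_on with
      | zero => simp
      | tmul a r => simp [e, inclA]
      | add x y hx hy =>
        rw [TensorProduct.add_tmul, map_add, map_add, map_add, map_add, hx, hy]
    | add x y hx hy => simp only [map_add, hx, hy]
  intro z₁ z₂ h
  have h1 := congrArg (e R) h
  rw [hcomm, hcomm] at h1
  have hinj : Function.Injective (LinearMap.lTensor N R₀.val.toLinearMap) :=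
    Module.Flat.lTensor_preserves_injective_linearMap _ Subtype.val_injective
  exact (e R₀).injective (hinj h1)

end Groth.Agent.Lib.Helper60.SDMPUR
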