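import Groth.Agent.Lib.Helper60.SecKer3
import Groth.Agent.Lib.Helper2.RankSections
import Groth.Prelude.Def_PicF2

/-!
# Zero schemes of sections of invertible modules: the ideals `zeroIdealOn` form an ideal sheaf
-/

set_option autoImplicit false
universe u
open CategoryTheory CategoryTheory.Limits AlgebraicGeometry TopologicalSpace Opposite

namespace Groth.Agent.Lib.Helper60.ZeroSch

open Groth.Agent.Lib.Helper35.Gen Groth.Agent.Lib.Helper35.AbSheaf
open Groth.Agent.Lib.Helper35.QcohSec Groth.Agent.Lib.Helper60.SecKer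

variable {X : Scheme.{u}} (L : X.Modules) (s : Coh.structureModule X ⟶ L)

/-- the value of `s` over `U`, typed as a section of `L` -/
noncomputable def sval (U : X.Opens) : Γ(L, U) := SecTwist.val s U

theorem rs_sval {U V : X.Opens} (h : V ≤ U) : rs L h (sval L s U) = sval L s V := rs_val s h

theorem mem_zeroIdealOn (U : X.Opens) (a : Γ(X, U)) :
    a ∈ PicF2.zeroIdealOn L s U ↔
      ∀ m : Γ(L, U), ∃ b : Γ(X, U), a • m = b • sval L s U := Iff.rfl

/-- local description: where `L` is generated by `e` and `s = c e`, the ideal is `(c)` -/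
theorem mem_zeroIdealOn_of_isGen {V : X.Opens} {e : Γ(L, V)} (he : IsGen L V e) (c : Γ(X, V))
    (hc : sval L s V = c • e) (a : Γ(X, V)) :
    a ∈ PicF2.zeroIdealOn L s V ↔ ∃ b : Γ(X, V), a = b * c := by
  rw [mem_zeroIdealOn]
  constructor
  · intro h
    obtain ⟨b, hb⟩ := h e
    refine ⟨b, he.smul_injective ?_⟩
    rw [hb, hc, mul_smul]
  · rintro ⟨b, rfl⟩ m
    obtain ⟨r, rfl⟩ := he.exists_eq_smul m
    refine ⟨b * r, ?_⟩
    rw [hc, ← mul_smul, ← mul_smul]
    congr 1
    ring

section qcoh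

variable [L.IsQuasicoherent]

/-- restriction to a basic open preserves membership -/
theorem res_mem_zeroIdealOn {U : X.Opens} (hU : IsAffineOpen U) (f : Γ(X, U)) (a : Γ(X, U))
    (ha : a ∈ PicF2.zeroIdealOn L s U) :
    rr X (X.basicOpen_le f) a ∈ PicF2.zeroIdealOn L s (X.basicOpen f) := by
  rw [mem_zeroIdealOn] at ha ⊢
  intro m'
  obtain ⟨k, m, hm⟩ := exists_extension_of_affine L hU f m'
  obtain ⟨b, hb⟩ := ha m
  have hu : IsUnit (rr X (X.basicOpen_le f) f ^ k) := (isUnit_rr_basicOpen f).pow k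
  obtain ⟨u, hu'⟩ := hu
  have h1 := congrArg (rs L (X.basicOpen_le f)) hb
  rw [rs_smul, rs_smul, hm, rs_sval] at h1
  refine ⟨↑u⁻¹ * rr X (X.basicOpen_le f) b, ?_⟩
  have h2 : rr X (X.basicOpen_le f) a • m' =
      (↑u⁻¹ : Γ(X, X.basicOpen f)) • (rr X (X.basicOpen_le f) a •
        (rr X (X.basicOpen_le f) f ^ k • m')) := by
    rw [← hu', smul_comm (rr X (X.basicOpen_le f) a), ← mul_smul, Units.inv_mul, one_smul]
  rw [h2, h1, mul_smul]

/-- the hard direction: an element of the ideal over a basic open comes from the ideal over `U` -/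
theorem mem_map_of_mem_zeroIdealOn_basicOpen {U : X.Opens} (hU : IsAffineOpen U) (f : Γ(X, U))
    [Module.Finite Γ(X, U) Γ(L, U)] (a' : Γ(X, X.basicOpen f))
    (ha' : a' ∈ PicF2.zeroIdealOn L s (X.basicOpen f)) :
    a' ∈ (PicF2.zeroIdealOn L s U).map (rr X (X.basicOpen_le f)) := by
  classical
  have hloc : IsLocalization.Away f Γ(X, X.basicOpen f) := hU.isLocalization_basicOpen f
  set ρ := rr X (X.basicOpen_le f) with hρ
  have hfu : ∀ k : ℕ, IsUnit (ρ f ^ k) := fun k => (isUnit_rr_basicOpen f).pow k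
  obtain ⟨⟨a, ⟨_, k, rfl⟩⟩, hak⟩ := IsLocalization.surj (Submonoid.powers f) a'
  have hak' : a' * ρ (f ^ k) = ρ a := hak
  rw [mem_zeroIdealOn] at ha'
  -- for each section over `U`, a power of `f` times `a` moves it into `Γ(X, U) • s`
  have key : ∀ m : Γ(L, U), ∃ N : ℕ, ∃ b : Γ(X, U), (f ^ N * a) • m = b • sval L s U := by
    intro m
    obtain ⟨b', hb'⟩ := ha' (rs L (X.basicOpen_le f) m)
    obtain ⟨⟨b, ⟨_, j, rfl⟩⟩, hbj⟩ := IsLocalization.surj (Submonoid.powers f) b'
    have hbj' : b' * ρ (f ^ j) = ρ b := hbj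
    have h0 : rs L (X.basicOpen_le f) ((f ^ j * a) • m - (f ^ k * b) • sval L s U) = 0 := by
      rw [map_sub, rs_smul, rs_smul, rs_sval]
      change ρ (f ^ j * a) • rs L (X.basicOpen_le f) m - ρ (f ^ k * b) • sval L s (X.basicOpen f) = 0
      have e1 : ρ (f ^ j * a) • rs L (X.basicOpen_le f) m =
          (ρ (f ^ j) * ρ (f ^ k)) • (a' • rs L (X.basicOpen_le f) m) := by
        rw [map_mul, ← hak', ← mul_smul]
        congr 1
        ring
      rw [e1, hb', ← mul_smul, map_mul, ← hbj', sub_eq_zero]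
      congr 1
      ring
    obtain ⟨N, hN⟩ := exists_pow_smul_eq_zero_of_affine L hU f _ h0
    refine ⟨N + j, f ^ N * (f ^ k * b), ?_⟩
    rw [smul_sub, sub_eq_zero, ← mul_smul, ← mul_smul] at hN
    rw [← hN]
    congr 1
    ring
  -- uniformly for a finite generating family
  obtain ⟨n, g, hg⟩ := Module.Finite.exists_fin (R := Γ(X, U)) (M := Γ(L, U))
  choose N b hb using key
  let K : ℕ := ∑ i, N (g i)
  have hK : ∀ i, N (g i) ≤ K := fun i =>
    Finset.single_le_sum (f := fun i => N (g i)) (fun _ _ => Nat.zero_le _) (Finset.mem_univ i)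
  have hmem : f ^ K * a ∈ PicF2.zeroIdealOn L s U := by
    rw [mem_zeroIdealOn]
    intro m
    have hm : m ∈ Submodule.span Γ(X, U) (Set.range g) := by rw [hg]; trivial
    induction hm using Submodule.span_induction with
    | mem x hx =>
      obtain ⟨i, rfl⟩ := hx
      refine ⟨f ^ (K - N (g i)) * b (g i), ?_⟩
      have : f ^ K * a = f ^ (K - N (g i)) * (f ^ N (g i) * a) := by
        rw [← mul_assoc, ← pow_add, Nat.sub_add_cancel (hK i)]
      rw [this, mul_smul, hb, mul_smul]
    | zero => exact ⟨0, by rw [smul_zero, zero_smul]⟩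
    | add x y _ _ hx hy =>
      obtain ⟨bx, hbx⟩ := hx
      obtain ⟨by', hby⟩ := hy
      exact ⟨bx + by', by rw [smul_add, hbx, hby, add_smul]⟩
    | smul r x _ hx =>
      obtain ⟨bx, hbx⟩ := hx
      exact ⟨r * bx, by rw [smul_comm, hbx, mul_smul]⟩
  -- conclude
  obtain ⟨u, hu⟩ := hfu (K + k)
  have h2 : ρ (f ^ K * a) = ↑u * a' := by
    rw [hu, map_mul, ← hak', map_pow, map_pow, pow_add]
    ring
  have h1 : a' = ↑u⁻¹ * ρ (f ^ K * a) := by
    rw [h2, ← mul_assoc, Units.inv_mul, one_mul]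
  rw [h1]
  exact Ideal.mul_mem_left _ _ (Ideal.mem_map_of_mem _ hmem)

end qcoh

section inv

open Groth.Agent.Lib.Helper2.FinLocFreeAff Groth.Agent.Lib.Helper2.RankSections

variable (hL : PicF.IsInvertible L)

include hL in
theorem isFinLocFree_of_isInvertible : FlatMod.IsFinLocFree L := by
  intro x
  obtain ⟨U, hxU, ⟨e⟩⟩ := hL x
  exact ⟨U, 1, hxU, ⟨e ≪≫ (coproductUniqueIso (fun _ : Fin 1 => Coh.structureModule _)).symm⟩⟩

include hL in
theorem finite_sections_of_isInvertible {U : X.Opens} (hU : IsAffineOpen U) :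
    Module.Finite Γ(X, U) Γ(L, U) := by
  haveI : L.IsQuasicoherent := Groth.Agent.Lib.Helper35.Ample.isQuasicoherent_of_isInvertible hL
  haveI := finitePresentation_sections_of_isFinLocFree L (isFinLocFree_of_isInvertible L hL) hU
  infer_instance

/-- the ideal sheaf of the zero scheme: its values are exactly the ideals `zeroIdealOn` -/
noncomputable def zIdeal : X.IdealSheafData where
  ideal U := PicF2.zeroIdealOn L s U.1
  map_ideal_basicOpen U f := by
    haveI : L.IsQuasicoherent := Groth.Agent.Lib.Helper35.Ample.isQuasicoherent_of_isInvertible hL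
    haveI := finite_sections_of_isInvertible L hL U.2
    apply le_antisymm
    · rw [Ideal.map_le_iff_le_comap]
      intro a ha
      exact res_mem_zeroIdealOn L s U.2 f a ha
    · intro a' ha'
      exact mem_map_of_mem_zeroIdealOn_basicOpen L s U.2 f a' ha'

theorem zeroScheme_eq_zIdeal : PicF2.zeroScheme L s = zIdeal L s hL :=
  Scheme.IdealSheafData.ofIdeals_ideal (zIdeal L s hL)

include hL in
theorem zeroScheme_ideal (U : X.affineOpens) :
    (PicF2.zeroScheme L s).ideal U = PicF2.zeroIdealOn L s U.1 := by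
  rw [zeroScheme_eq_zIdeal L s hL]
  rfl

end inv

end Groth.Agent.Lib.Helper60.ZeroSch
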