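import Groth.Agent.Lib.Helper60.Fr3
import Groth.Agent.Lib.Helper60.ZeroSch1

/-!
# Locally free modules on integral schemes are torsion free
-/

set_option autoImplicit false
universe u
open CategoryTheory CategoryTheory.Limits AlgebraicGeometry TopologicalSpace Opposite

namespace Groth.Agent.Lib.Helper60.NonSimple

open Groth.Agent.Lib.Helper35.Gen Groth.Agent.Lib.Helper35.AbSheaf
open Groth.Agent.Lib.Helper60.ProjUPLib Groth.Agent.Lib.Helper60.FrameLib

variable {X : Scheme.{u}} {r : ℕ} (E : X.Modules)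

theorem exists_local_frame (hE : FlatMod.IsFinLocFreeOfRank r E) (x : X) :
    ∃ U : X.Opens, x ∈ U ∧ ∃ e : Fin r → Γ(E, U), IsFrame E U e := by
  obtain ⟨U, hxU, ⟨θ⟩⟩ := hE x
  have h1 : IsFrame (FlatMod.freeMod (↑U) r) ⊤ _ :=
    isFrame_sigma (fun _ : Fin r => Coh.structureModule (↑U : Scheme.{u})) ⊤ _
      (fun _ => isGen_one ⊤)
  have h2 := h1.map_iso θ.symm
  have h3 := isFrame_of_restrict E U.ι ⊤ _ h2
  exact ⟨U, hxU, _, isFrame_of_eq U.ι_image_top h3⟩

theorem rr_injective [IsIntegral X] {U V : X.Opens} (h : V ≤ U) (hV : (V : Set X).Nonempty) :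
    Function.Injective (rr X h) := by
  obtain ⟨x, hx⟩ := hV
  have : Nonempty V := ⟨⟨x, hx⟩⟩
  exact map_injective_of_isIntegral X (homOfLE h)

/-- a frame makes the sections over a nonempty open torsion free -/
theorem frame_torsion_free [IsIntegral X] {U : X.Opens} {e : Fin r → Γ(E, U)} (he : IsFrame E U e)
    (hU : (U : Set X).Nonempty) (a : Γ(X, U)) (ha : a ≠ 0) (m : Γ(E, U)) (h : a • m = 0) :
    m = 0 := by
  obtain ⟨x, hx⟩ := hU
  have : Nonempty U := ⟨⟨x, hx⟩⟩
  obtain ⟨c, rfl⟩ := he.bij.2 m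
  simp only at h ⊢
  rw [Finset.smul_sum] at h
  simp_rw [← mul_smul] at h
  have h0 : (fun c : Fin r → Γ(X, U) => ∑ i, c i • e i) (fun i => a * c i) =
      (fun c : Fin r → Γ(X, U) => ∑ i, c i • e i) 0 := by
    simp only [Pi.zero_apply, zero_smul, Finset.sum_const_zero]
    exact h
  have h1 := he.bij.1 h0
  have h2 : ∀ i, c i = 0 := by
    intro i
    have := congrFun h1 i
    simp only [Pi.zero_apply] at this
    exact (mul_eq_zero.1 this).resolve_left ha
  apply Finset.sum_eq_zero
  intro i _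
  rw [h2 i, zero_smul]

variable (hE : FlatMod.IsFinLocFreeOfRank r E)

include hE in
/-- torsion freeness of a locally free module on an integral scheme -/
theorem eq_zero_of_smul_eq_zero [IsIntegral X] (U : X.Opens) (a : Γ(X, U)) (ha : a ≠ 0)
    (m : Γ(E, U)) (h : a • m = 0) : m = 0 := by
  choose V hV e he using fun z : X => exists_local_frame E hE z
  have hm : m = (0 : Γ(E, U)) := by
    apply ext_cover E.presheaf E.isSheaf (fun z : U => U ⊓ V z.1) (fun z => inf_le_left)
    · intro y hy
      exact Opens.mem_iSup.2 ⟨⟨y, hy⟩, hy, hV y⟩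
    · intro z
      have hne : ((U ⊓ V z.1 : X.Opens) : Set X).Nonempty := ⟨z.1, z.2, hV z.1⟩
      have hfr := (he z.1).mono (inf_le_right : U ⊓ V z.1 ≤ V z.1)
      have ha' : rr X (inf_le_left : U ⊓ V z.1 ≤ U) a ≠ 0 := by
        intro h0
        apply ha
        apply rr_injective inf_le_left hne
        rw [h0, map_zero]
      have h1 : rr X (inf_le_left : U ⊓ V z.1 ≤ U) a • rs E (inf_le_left : U ⊓ V z.1 ≤ U) m = 0 := by
        rw [← rs_smul, h, map_zero]
      have h2 := frame_torsion_free E hfr hne _ ha' _ h1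
      change rs E _ m = rs E _ 0
      rw [h2, map_zero]
  exact hm

include hE in
/-- a section vanishing on a nonempty open vanishes -/
theorem eq_zero_of_rs_eq_zero [IsIntegral X] {U W : X.Opens} (hWU : W ≤ U)
    (hW : (W : Set X).Nonempty) (m : Γ(E, U)) (h : rs E hWU m = 0) : m = 0 := by
  choose V hV e he using fun z : X => exists_local_frame E hE z
  have hm : m = (0 : Γ(E, U)) := by
    apply ext_cover E.presheaf E.isSheaf (fun z : U => U ⊓ V z.1) (fun z => inf_le_left)
    · intro y hy
      exact Opens.mem_iSup.2 ⟨⟨y, hy⟩, hy, hV y⟩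
    · intro z
      set Wz : X.Opens := U ⊓ V z.1 with hWz
      have hne : (Wz : Set X).Nonempty := ⟨z.1, z.2, hV z.1⟩
      have hfr := (he z.1).mono (inf_le_right : Wz ≤ V z.1)
      -- the smaller open
      have hne2 : ((Wz ⊓ W : X.Opens) : Set X).Nonempty :=
        nonempty_preirreducible_inter Wz.2 W.2 hne hW
      obtain ⟨c, hc⟩ := hfr.bij.2 (rs E (inf_le_left : Wz ≤ U) m)
      simp only at hc
      have hfr2 := hfr.mono (inf_le_left : Wz ⊓ W ≤ Wz)
      have h3 : rs E (inf_le_left : Wz ⊓ W ≤ Wz) (rs E (inf_le_left : Wz ≤ U) m) = 0 := by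
        rw [rs_rs]
        have : rs E ((inf_le_right : Wz ⊓ W ≤ W).trans hWU) m = 0 := by
          rw [← rs_rs E hWU (inf_le_right : Wz ⊓ W ≤ W), h, map_zero]
        exact this
      rw [← hc, rs_sum] at h3
      simp_rw [rs_smul] at h3
      have h0 : (fun c' : Fin r → Γ(X, Wz ⊓ W) => ∑ i, c' i •
          (fun i => rs E (inf_le_left : Wz ⊓ W ≤ Wz) (rs E (inf_le_right : Wz ≤ V z.1) (e z.1 i))) i)
          (fun i => rr X (inf_le_left : Wz ⊓ W ≤ Wz) (c i)) =
          (fun c' : Fin r → Γ(X, Wz ⊓ W) => ∑ i, c' i •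
          (fun i => rs E (inf_le_left : Wz ⊓ W ≤ Wz) (rs E (inf_le_right : Wz ≤ V z.1) (e z.1 i))) i)
          0 := by
        simp only [Pi.zero_apply, zero_smul, Finset.sum_const_zero]
        exact h3
      have h1 := hfr2.bij.1 h0
      have h2 : ∀ i, c i = 0 := by
        intro i
        have := congrFun h1 i
        simp only [Pi.zero_apply] at this
        apply rr_injective inf_le_left hne2
        rw [this, map_zero]
      change rs E _ m = rs E _ 0
      rw [← hc, map_zero]
      apply Finset.sum_eq_zero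
      intro i _
      rw [h2 i, zero_smul]
  exact hm

end Groth.Agent.Lib.Helper60.NonSimple
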