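import Groth.Agent.Lib.Helper60.ProjUP4

/-!
# Universal property of `Proj`: uniqueness of the morphism
-/

set_option autoImplicit false
universe u
open CategoryTheory AlgebraicGeometry TopologicalSpace Opposite

namespace Groth.Agent.Lib.Helper60.ProjUPLib

open Groth.Agent.Lib.Helper35.Gen Groth.Agent.Lib.Helper35.PbInv Groth.Agent.Lib.Helper35.AbSheaf
open Groth.Agent.Lib.Helper60.TwistLib Groth.Agent.Lib.Helper60.ProjFrac

section general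

variable {X : Scheme.{u}}

theorem hom_rs {N N' : X.Modules} (φ : N ⟶ N') {U V : X.Opens} (h : V ≤ U) (n : Γ(N, U)) :
    (φ.app V).hom (rs N h n) = rs N' h ((φ.app U).hom n) :=
  nat_res φ.mapPresheaf h n

/-- an isomorphism maps generators to generators -/
theorem IsGen.map_iso {N N' : X.Modules} (τ : N ≅ N') {U : X.Opens} {e : Γ(N, U)}
    (he : IsGen N U e) : IsGen N' U ((τ.hom.app U).hom e) := by
  intro W hW
  have hb : Function.Bijective (τ.hom.app W).hom := by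
    have : IsIso (τ.hom.app W) := by
      change IsIso ((Scheme.Modules.toPresheaf X ⋙ (evaluation _ _).obj (op W)).map τ.hom)
      infer_instance
    exact ConcreteCategory.bijective_of_isIso (τ.hom.app W)
  have key : (fun r : Γ(X, W) => r • rs N' hW ((τ.hom.app U).hom e)) =
      (τ.hom.app W).hom ∘ (fun r : Γ(X, W) => r • rs N hW e) := by
    funext r
    change r • rs N' hW ((τ.hom.app U).hom e) = (τ.hom.app W).hom (r • rs N hW e)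
    rw [Scheme.Modules.Hom.app_smul, hom_rs]
  rw [key]
  exact hb.comp (he W hW)

end general

variable {R A : Type u} [CommRing R] [CommRing A] [Algebra R A] (𝒜 : ℕ → Submodule R A) [GradedAlgebra 𝒜]
variable {Z : Scheme.{u}}

section uniq

variable {ι : Type*} (g : ι → A) (hg : ∀ i, g i ∈ 𝒜 1) (hgen : Algebra.adjoin R (Set.range g) = ⊤)

include hg hgen in
/-- if the pulled back coordinate `r^* b` generates over `W` then `W ⊆ r⁻¹ D₊(b)` -/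
theorem le_preimage_of_isGen_psec (r : Z ⟶ Proj 𝒜) (b : 𝒜 1) (W : Z.Opens)
    (h : IsGen ((Scheme.Modules.pullback r).obj (Twist.twist 𝒜 ((1 : ℕ) : ℤ))) W
      (rs _ le_top (psec 𝒜 r b))) : W ≤ r ⁻¹ᵁ Proj.basicOpen 𝒜 b.1 := by
  intro x hx
  obtain ⟨i, hi⟩ := exists_mem_basicOpen 𝒜 g hgen (r x)
  let gi : 𝒜 1 := ⟨g i, hg i⟩
  let Wi : Z.Opens := W ⊓ r ⁻¹ᵁ Proj.basicOpen 𝒜 gi.1
  have hWi : Wi ≤ r ⁻¹ᵁ Proj.basicOpen 𝒜 gi.1 := inf_le_right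
  have h1 := congrArg (rs _ hWi) (rs_psec_eq_smul 𝒜 r b gi)
  rw [rs_smul, rs_rs, rs_rs] at h1
  have h2 : IsGen _ Wi (rs _ (le_top : Wi ≤ ⊤) (psec 𝒜 r gi)) := by
    have := (isGen_psec 𝒜 r gi).mono hWi
    rwa [rs_rs] at this
  have h3 : IsGen _ Wi (rs _ (le_top : Wi ≤ ⊤) (psec 𝒜 r b)) := by
    have := h.mono (inf_le_left : Wi ≤ W)
    rwa [rs_rs] at this
  rw [h1, isGen_smul_iff h2] at h3
  have hx' : x ∈ Z.basicOpen (rr Z hWi (cfun 𝒜 r b gi)) := h3 ⟨hx, hi⟩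
  have h4 : Z.basicOpen (rr Z hWi (cfun 𝒜 r b gi)) = Wi ⊓ Z.basicOpen (cfun 𝒜 r b gi) :=
    Scheme.basicOpen_res Z _ (homOfLE hWi).op
  rw [h4, basicOpen_cfun] at hx'
  exact hx'.2.2

variable (r r' : Z ⟶ Proj 𝒜)
  (τ : (Scheme.Modules.pullback r).obj (Twist.twist 𝒜 ((1 : ℕ) : ℤ)) ≅
    (Scheme.Modules.pullback r').obj (Twist.twist 𝒜 ((1 : ℕ) : ℤ)))
  (hτ : ∀ i, (τ.hom.app ⊤).hom (psec 𝒜 r ⟨g i, hg i⟩) = psec 𝒜 r' ⟨g i, hg i⟩)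

include hgen hτ in
theorem preimage_le_of_iso (i : ι) :
    r ⁻¹ᵁ Proj.basicOpen 𝒜 (g i) ≤ r' ⁻¹ᵁ Proj.basicOpen 𝒜 (g i) := by
  apply le_preimage_of_isGen_psec 𝒜 g hg hgen r' ⟨g i, hg i⟩
  have h1 := IsGen.map_iso τ (isGen_psec 𝒜 r ⟨g i, hg i⟩)
  rw [hom_rs, hτ] at h1
  exact h1

include hτ in
theorem cfun_eq_of_iso (i j : ι)
    (hle : r ⁻¹ᵁ Proj.basicOpen 𝒜 (g i) ≤ r' ⁻¹ᵁ Proj.basicOpen 𝒜 (g i)) :
    rr Z hle (cfun 𝒜 r' ⟨g j, hg j⟩ ⟨g i, hg i⟩) = cfun 𝒜 r ⟨g j, hg j⟩ ⟨g i, hg i⟩ := by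
  have h1 := congrArg (fun s => (τ.hom.app _).hom s) (rs_psec_eq_smul 𝒜 r ⟨g j, hg j⟩ ⟨g i, hg i⟩)
  simp only at h1
  rw [Scheme.Modules.Hom.app_smul, hom_rs, hom_rs, hτ, hτ] at h1
  have h2 := congrArg (rs _ hle) (rs_psec_eq_smul 𝒜 r' ⟨g j, hg j⟩ ⟨g i, hg i⟩)
  rw [rs_smul, rs_rs, rs_rs] at h2
  have h3 : IsGen _ (r ⁻¹ᵁ Proj.basicOpen 𝒜 (g i))
      (rs _ (le_top : r ⁻¹ᵁ Proj.basicOpen 𝒜 (g i) ≤ ⊤) (psec 𝒜 r' ⟨g i, hg i⟩)) := by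
    have := (isGen_psec 𝒜 r' ⟨g i, hg i⟩).mono hle
    rwa [rs_rs] at this
  exact h3.smul_injective (h2.symm.trans h1)

include hgen in
/-- **Uniqueness in the universal property of `Proj`** (degree one generators). -/
theorem eq_of_iso (hover : r ≫ strMap 𝒜 = r' ≫ strMap 𝒜)
    (hτ : ∀ i, (τ.hom.app ⊤).hom (psec 𝒜 r ⟨g i, hg i⟩) = psec 𝒜 r' ⟨g i, hg i⟩) : r = r' := by
  have hτ' : ∀ i, (τ.symm.hom.app ⊤).hom (psec 𝒜 r' ⟨g i, hg i⟩) = psec 𝒜 r ⟨g i, hg i⟩ := by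
    intro i
    rw [← hτ i]
    have h := congrArg (fun φ => (Scheme.Modules.Hom.app φ ⊤).hom (psec 𝒜 r ⟨g i, hg i⟩))
      τ.hom_inv_id
    exact h
  have hpre : ∀ i, r ⁻¹ᵁ Proj.basicOpen 𝒜 (g i) = r' ⁻¹ᵁ Proj.basicOpen 𝒜 (g i) := fun i =>
    le_antisymm (preimage_le_of_iso 𝒜 g hg hgen r r' τ hτ i)
      (preimage_le_of_iso 𝒜 g hg hgen r' r τ.symm hτ' i)
  exact hom_ext_of_charts 𝒜 g hg hgen r r' hover hpre
    (fun i j => cfun_eq_of_iso 𝒜 g hg r r' τ hτ i j (hpre i).le)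

end uniq

end Groth.Agent.Lib.Helper60.ProjUPLib
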