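import Groth.Agent.Lib.Helper60.Mul1
import Groth.Agent.Lib.Helper35.PbTensor
import Groth.Agent.S3573

/-!
# Morphisms to projective space described by sections: composition and comparison
-/

set_option autoImplicit false
universe u
open CategoryTheory CategoryTheory.Limits AlgebraicGeometry TopologicalSpace Opposite

namespace Groth.Agent.Lib.Helper60.Mult

open Groth.Agent.Lib.Helper35.Gen Groth.Agent.Lib.Helper35.AbSheaf
open Groth.Agent.Lib.Helper60.ProjUPLib Groth.Agent.Lib.Helper60.TwistLib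
open Groth.Agent.Lib.Helper60.ProjFrac Groth.Agent.Lib.Helper60.SecKer
open Groth.Agent.Lib.Helper60.PbComp Groth.Agent.Lib.Helper35.PbInv
open Groth.Agent.Lib.Helper60.Segre Groth.Agent.Lib.Helper60.Hyper

section data

variable {R : Type u} [CommRing R] (N : ℕ) {Y : Scheme.{u}}

/-- the morphism `r` to projective space is described by the module `L` with sections `s` -/
def IsData (r : Y ⟶ CohB1.ProjSpace N R) (L : Y.Modules) (s : Fin (N + 1) → Γ(L, ⊤)) : Prop :=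
  ∃ τ : (Scheme.Modules.pullback r).obj (Twist.twistProjSpace N R 1) ≅ L,
    ∀ i, (τ.hom.app ⊤).hom (tsec N r i) = s i

variable {N}

theorem IsData.map_iso {r : Y ⟶ CohB1.ProjSpace N R} {L L' : Y.Modules}
    {s : Fin (N + 1) → Γ(L, ⊤)} (h : IsData N r L s) (θ : L ≅ L') :
    IsData N r L' (fun i => (θ.hom.app ⊤).hom (s i)) := by
  obtain ⟨τ, hτ⟩ := h
  refine ⟨τ ≪≫ θ, fun i => ?_⟩
  change _ = (θ.hom.app ⊤).hom (s i)
  rw [← hτ i]
  rfl

theorem IsData.comp {Z : Scheme.{u}} (z : Z ⟶ Y) {r : Y ⟶ CohB1.ProjSpace N R} {L : Y.Modules}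
    {s : Fin (N + 1) → Γ(L, ⊤)} (h : IsData N r L s) :
    IsData N (z ≫ r) ((Scheme.Modules.pullback z).obj L) (fun i => ProjUP.pullSec z L (s i)) := by
  obtain ⟨τ, hτ⟩ := h
  refine ⟨compIso z r (Twist.twistProjSpace N R 1) ≪≫ (Scheme.Modules.pullback z).mapIso τ,
    fun i => ?_⟩
  change _ = ProjUP.pullSec z L (s i)
  rw [← hτ i]
  have h1 := compIso_pullSec z r (Twist.twistProjSpace N R 1) (ProjUP.coord N R i)
  have h2 := map_pullSec z τ.hom (tsec N r i)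
  change (((Scheme.Modules.pullback z).map τ.hom).app ⊤).hom
    (((compIso z r (Twist.twistProjSpace N R 1)).hom.app ⊤).hom (tsec N (z ≫ r) i)) = _
  rw [← h2]
  exact congrArg _ h1

/-- a global generator gives a morphism between modules -/
theorem exists_iso_of_gen {L L' : Y.Modules} {E : Γ(L, ⊤)} {E' : Γ(L', ⊤)}
    (hE : IsGen L ⊤ E) (hE' : IsGen L' ⊤ E') :
    ∃ θ : L ≅ L', (θ.hom.app ⊤).hom E = E' := by
  have ht : ∀ _ : Unit, IsGen L ((fun _ : Unit => (⊤ : Y.Opens)) ()) E := fun _ => hE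
  have hp : ∀ (i j : Unit) (c : Γ(Y, (⊤ : Y.Opens) ⊓ ⊤)),
      rs L (inf_le_right : (⊤ : Y.Opens) ⊓ ⊤ ≤ ⊤) E = c • rs L inf_le_left E →
      rs L' (inf_le_right : (⊤ : Y.Opens) ⊓ ⊤ ≤ ⊤) E' = c • rs L' inf_le_left E' := by
    intro _ _ c hc
    have h1 : c = 1 := by
      apply (hE _ (inf_le_left : (⊤ : Y.Opens) ⊓ ⊤ ≤ ⊤)).1
      change c • rs L inf_le_left E = (1 : Γ(Y, (⊤ : Y.Opens) ⊓ ⊤)) • rs L inf_le_left E
      rw [one_smul]
      exact hc.symm
    rw [h1, one_smul]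
  have hcov : ∀ x : Y, ∃ _ : Unit, x ∈ (⊤ : Y.Opens) := fun x => ⟨(), trivial⟩
  let θ : L ⟶ L' := HomOfGen.hom (D := fun _ : Unit => (⊤ : Y.Opens)) (t := fun _ => E) ht
    (fun _ => E') hp hcov
  have hθ : (θ.app ⊤).hom E = E' :=
    HomOfGen.hom_app_gen (D := fun _ : Unit => (⊤ : Y.Opens)) (t := fun _ => E) ht
      (fun _ => E') hp hcov ()
  have hiso : IsIso θ := by
    apply Groth.Agent.Lib.Helper35.PbTensor.isIso_of_isGen_map
    intro x
    refine ⟨⊤, trivial, E, hE, ?_⟩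
    rw [hθ]
    exact hE'
  exact ⟨asIso θ, hθ⟩

/-- two morphisms described by modules with global generators and the same coefficients agree -/
theorem eq_of_isData_gen {r r' : Y ⟶ CohB1.ProjSpace N R}
    (hrr' : r ≫ CohB1.ProjSpace.toSpec N R = r' ≫ CohB1.ProjSpace.toSpec N R)
    {L L' : Y.Modules} {s : Fin (N + 1) → Γ(L, ⊤)} {s' : Fin (N + 1) → Γ(L', ⊤)}
    (h : IsData N r L s) (h' : IsData N r' L' s')
    {E : Γ(L, ⊤)} {E' : Γ(L', ⊤)} (hE : IsGen L ⊤ E) (hE' : IsGen L' ⊤ E')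
    (c : Fin (N + 1) → Γ(Y, ⊤)) (hs : ∀ i, s i = c i • E) (hs' : ∀ i, s' i = c i • E') :
    r = r' := by
  obtain ⟨τ, hτ⟩ := h
  obtain ⟨τ', hτ'⟩ := h'
  obtain ⟨θ, hθ⟩ := exists_iso_of_gen hE hE'
  apply Groth.Agent.S3573.result N r r' hrr' (τ ≪≫ θ ≪≫ τ'.symm)
  intro i
  change (τ'.inv.app ⊤).hom ((θ.hom.app ⊤).hom ((τ.hom.app ⊤).hom (tsec N r i))) = tsec N r' i
  rw [hτ i, hs i, Scheme.Modules.Hom.app_smul, hθ, ← hs' i, ← hτ' i]
  exact congrArg (fun φ => (Scheme.Modules.Hom.app φ ⊤).hom (tsec N r' i)) τ'.hom_inv_id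

end data

end Groth.Agent.Lib.Helper60.Mult
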