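import Groth.Agent.Lib.Helper60.Hyper2
import Groth.Agent.Lib.Helper60.Mul2

/-!
# Linear automorphisms of projective space: the morphisms `r_g`
-/

set_option autoImplicit false
universe u
open CategoryTheory CategoryTheory.Limits AlgebraicGeometry TopologicalSpace Opposite

namespace Groth.Agent.Lib.Helper60.AutPn

open Groth.Agent.Lib.Helper35.Gen Groth.Agent.Lib.Helper35.AbSheaf
open Groth.Agent.Lib.Helper60.ProjUPLib Groth.Agent.Lib.Helper60.TwistLib
open Groth.Agent.Lib.Helper60.ProjFrac Groth.Agent.Lib.Helper60.SecKer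
open Groth.Agent.Lib.Helper60.PbComp Groth.Agent.Lib.Helper60.Hyper
open Groth.Agent.Lib.Helper60.Mult

variable (k : Type u) [Field k] (n : ℕ)

/-- the linear form given by the `i`-th row of `g` -/
noncomputable def lform (g : Matrix (Fin (n + 1)) (Fin (n + 1)) k) (i : Fin (n + 1)) :
    CohB1.polyGrading n k 1 := ∑ j, g i j • Xdeg k n j

/-- the section of `O(1)` given by the `i`-th row of `g` -/
noncomputable def lin (g : Matrix (Fin (n + 1)) (Fin (n + 1)) k) (i : Fin (n + 1)) :
    Γ(Twist.twistProjSpace n k 1, ⊤) :=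
  gsec (CohB1.polyGrading n k) (lform k n g i)

theorem lin_eq (g : Matrix (Fin (n + 1)) (Fin (n + 1)) k) (i : Fin (n + 1)) :
    lin k n g i = ∑ j, cst k n (g i j) • ProjUP.coord n k j :=
  gsec_linear k n (g i)

theorem lin_one (i : Fin (n + 1)) : lin k n 1 i = ProjUP.coord n k i := by
  rw [lin_eq, Finset.sum_eq_single i]
  · rw [Matrix.one_apply_eq, map_one, one_smul]
  · intro j _ hji
    rw [Matrix.one_apply_ne hji.symm, map_zero, zero_smul]
  · intro h
    exact absurd (Finset.mem_univ i) h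

theorem lin_mul (g h : Matrix (Fin (n + 1)) (Fin (n + 1)) k) (i : Fin (n + 1)) :
    ∑ j, cst k n (g i j) • lin k n h j = lin k n (g * h) i := by
  rw [lin_eq]
  simp_rw [lin_eq, Finset.smul_sum, ← mul_smul]
  rw [Finset.sum_comm]
  apply Finset.sum_congr rfl
  intro l _
  rw [← Finset.sum_smul]
  congr 1
  rw [Matrix.mul_apply, map_sum]
  apply Finset.sum_congr rfl
  intro j _
  rw [map_mul]

/-- the sections `lin g` generate `O(1)` when `g` is invertible -/
theorem lin_cov (g : Matrix (Fin (n + 1)) (Fin (n + 1)) k) (hg : IsUnit g.det)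
    (x : CohB1.ProjSpace n k) :
    ∃ i, x ∈ genOpen (Twist.twistProjSpace n k 1) (lin k n g i) := by
  obtain ⟨j, hj⟩ := mem_genOpen_coord k n x
  have hrel : (1 : Γ(CohB1.ProjSpace n k, ⊤)) • ProjUP.coord n k j =
      ∑ i, cst k n (g⁻¹ j i) • lin k n g i := by
    rw [one_smul, lin_mul, Matrix.nonsing_inv_mul _ hg, lin_one]
  exact exists_mem_genOpen_of_unit_relation (ProjUP.coord n k j) (lin k n g) 1 isUnit_one
    (fun i => cst k n (g⁻¹ j i)) hrel x hj

/-- existence of the morphism `r_g` -/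
theorem exists_rg (g : Matrix (Fin (n + 1)) (Fin (n + 1)) k) (hg : IsUnit g.det) :
    ∃ r : CohB1.ProjSpace n k ⟶ CohB1.ProjSpace n k,
      r ≫ CohB1.ProjSpace.toSpec n k = CohB1.ProjSpace.toSpec n k ∧
      IsData n r (Twist.twistProjSpace n k 1) (lin k n g) := by
  obtain ⟨r, hr, τ, hτ⟩ := exists_projSpace' n (CohB1.ProjSpace.toSpec n k)
    (Twist.twistProjSpace n k 1) (lin k n g) (lin_cov k n g hg)
  exact ⟨r, hr, τ, hτ⟩

variable {k n}

/-- uniqueness of a morphism with given data -/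
theorem eq_of_isData {Y : Scheme.{u}} {r r' : Y ⟶ CohB1.ProjSpace n k}
    (hrr' : r ≫ CohB1.ProjSpace.toSpec n k = r' ≫ CohB1.ProjSpace.toSpec n k)
    {L : Y.Modules} {s : Fin (n + 1) → Γ(L, ⊤)} (h : IsData n r L s) (h' : IsData n r' L s) :
    r = r' := by
  obtain ⟨τ, hτ⟩ := h
  obtain ⟨τ', hτ'⟩ := h'
  apply Groth.Agent.S3573.result n r r' hrr' (τ ≪≫ τ'.symm)
  intro i
  change (τ'.inv.app ⊤).hom ((τ.hom.app ⊤).hom (tsec n r i)) = tsec n r' i
  rw [hτ i, ← hτ' i]
  exact iso_inv_hom_apply τ' _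

/-- composition of morphisms with linear data -/
theorem isData_comp_lin {r r' : CohB1.ProjSpace n k ⟶ CohB1.ProjSpace n k}
    (hr' : r' ≫ CohB1.ProjSpace.toSpec n k = CohB1.ProjSpace.toSpec n k)
    (g h : Matrix (Fin (n + 1)) (Fin (n + 1)) k)
    (hd : IsData n r (Twist.twistProjSpace n k 1) (lin k n g))
    (hd' : IsData n r' (Twist.twistProjSpace n k 1) (lin k n h)) :
    IsData n (r' ≫ r) (Twist.twistProjSpace n k 1) (lin k n (g * h)) := by
  obtain ⟨τ', hτ'⟩ := hd'
  have h1 := (hd.comp r').map_iso τ'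
  have h2 : (fun i => (τ'.hom.app ⊤).hom
      (ProjUP.pullSec r' (Twist.twistProjSpace n k 1) (lin k n g i))) = lin k n (g * h) := by
    funext i
    rw [← lin_mul]
    have h3 : ProjUP.pullSec r' (Twist.twistProjSpace n k 1) (lin k n g i) =
        ∑ j, ProjUP.toGlobal (r' ≫ CohB1.ProjSpace.toSpec n k) (g i j) • tsec n r' j :=
      pullSec_linear k n r' (g i)
    rw [h3, map_sum, hr']
    apply Finset.sum_congr rfl
    intro j _
    rw [Scheme.Modules.Hom.app_smul, hτ']
    rfl
  rw [h2] at h1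
  exact h1

variable (k n)

/-- the identity has the data of the identity matrix -/
theorem isData_id : IsData n (𝟙 (CohB1.ProjSpace n k)) (Twist.twistProjSpace n k 1)
    (lin k n 1) := by
  refine ⟨idIso (Twist.twistProjSpace n k 1), fun i => ?_⟩
  rw [lin_one]
  exact idIso_pullSec _ _

end Groth.Agent.Lib.Helper60.AutPn
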