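import Groth.Agent.Lib.Helper60.Pic9
import Groth.Agent.Lib.Helper60.ProjUP5

/-!
# `O(d) ≅ O(e)` on projective space of positive dimension over a domain forces `d = e`
-/

set_option autoImplicit false
universe u
open CategoryTheory AlgebraicGeometry TopologicalSpace Opposite

namespace Groth.Agent.Lib.Helper60.PicPn

open Groth.Agent.Lib.Helper35.Gen Groth.Agent.Lib.Helper35.AbSheaf Scheme.Modules
open Groth.Agent.Lib.Helper60.ProjFrac Groth.Agent.Lib.Helper60.ProjUPLib
open Groth.Agent.Lib.Helper60.PConeLib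
open HomogeneousLocalization

variable {n : ℕ} {R : Type u} [CommRing R] [IsDomain R]

theorem exp_eq_of_C_mul_pow' (a b : R) (ha : a ≠ 0) (hb : b ≠ 0) (p q : ℕ)
    (h : Polynomial.C a * Polynomial.X ^ p = (Polynomial.C b * Polynomial.X ^ q : Polynomial R)) :
    p = q := by
  have h1 := congrArg Polynomial.natDegree h
  rw [Polynomial.natDegree_C_mul_X_pow p a ha, Polynomial.natDegree_C_mul_X_pow q b hb] at h1
  exact h1

theorem twist_injective (hn : 1 ≤ n) (d e : ℤ)
    (θ : Twist.twist (CohB1.polyGrading n R) d ≅ Twist.twist (CohB1.polyGrading n R) e) :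
    d = e := by
  let o : Fin (n + 1) := 0
  let i : Fin (n + 1) := Fin.last n
  have hio : i ≠ o := by
    intro h
    have := congrArg Fin.val h
    simp only [i, o, Fin.val_last, Fin.val_zero] at this
    omega
  let 𝒜 := CohB1.polyGrading n R
  -- generators
  have gdo := isGen_tgen 𝒜 d (gX n R o)
  have gdi := isGen_tgen 𝒜 d (gX n R i)
  have geo := isGen_tgen 𝒜 e (gX n R o)
  have gei := isGen_tgen 𝒜 e (gX n R i)
  obtain ⟨uo, huo, huo'⟩ := exists_unit_smul geo (IsGen.map_iso θ gdo)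
  obtain ⟨ui, hui, hui'⟩ := exists_unit_smul gei (IsGen.map_iso θ gdi)
  obtain ⟨ao, hao⟩ := unit_struct_single n R o (DD n R o) rfl uo huo
  obtain ⟨ai, hai⟩ := unit_struct_single n R i (DD n R i) rfl ui hui
  let W : (Proj 𝒜).Opens := DD n R o ⊓ DD n R i
  have hWo : W ≤ DD n R o := inf_le_left
  have hWi : W ≤ DD n R i := inf_le_right
  -- restrict to `W`
  have e1 : (θ.hom.app W).hom (tgen 𝒜 d (gX n R i) W hWi) =
      cst n R (ai : R) W • tgen 𝒜 e (gX n R i) W hWi := by
    have h1 := hom_rs θ.hom hWi (tgen 𝒜 d (gX n R i) (DD n R i) le_rfl)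
    rw [hui', rs_smul, hai] at h1
    exact h1
  have e2 : (θ.hom.app W).hom (tgen 𝒜 d (gX n R o) W hWo) =
      cst n R (ao : R) W • tgen 𝒜 e (gX n R o) W hWo := by
    have h1 := hom_rs θ.hom hWo (tgen 𝒜 d (gX n R o) (DD n R o) le_rfl)
    rw [huo', rs_smul, hao] at h1
    exact h1
  have e3 : (cst n R (ai : R) W * mono n R o i e W hWo hWi) • tgen 𝒜 e (gX n R o) W hWo =
      (mono n R o i d W hWo hWi * cst n R (ao : R) W) • tgen 𝒜 e (gX n R o) W hWo := by
    rw [mul_smul, mul_smul, ← tgen_mono n R e o i W hWo hWi, ← e1, ← e2,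
      tgen_mono n R d o i W hWo hWi, Scheme.Modules.Hom.app_smul]
  have e4 := (geo.mono hWo).smul_injective e3
  unfold cst mono at e4
  rw [fr_mul, fr_mul] at e4
  have hy : genPt n R ∈ W := ⟨genPt_mem n R o, genPt_mem n R i⟩
  have h0 := mul_eq_of_fr_eq (CohB1.polyGrading n R) _ _ _ _ _ _ _ _ W _ _ (genPt n R) hy e4
  simp only [gX_val] at h0
  have h1 := congrArg (evT n R i) h0
  simp only [map_mul, map_pow, evT_X_self, evT_X_ne n R i o (Ne.symm hio),
    evT_C, one_pow, mul_one, one_mul] at h1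
  have h2 : Polynomial.C (ai : R) * Polynomial.X ^ (ni e + nk d) =
      (Polynomial.C (ao : R) * Polynomial.X ^ (ni d + nk e) : Polynomial R) := by
    rw [pow_add, pow_add]
    linear_combination h1
  have h3 := exp_eq_of_C_mul_pow' (ai : R) (ao : R) ai.ne_zero ao.ne_zero _ _ h2
  have e5 := ni_eq d
  have e6 := ni_eq e
  omega

end Groth.Agent.Lib.Helper60.PicPn
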