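import Groth.Agent.Lib.Helper60.Au1
import Groth.Agent.Lib.Helper60.Pic10
import Groth.Agent.Lib.Helper2.SmulEnd

/-!
# Endomorphisms of `O(1)` acting linearly on the coordinates are scalars
-/

set_option autoImplicit false
universe u
open CategoryTheory CategoryTheory.Limits AlgebraicGeometry TopologicalSpace Opposite

namespace Groth.Agent.Lib.Helper60.AutPn

open Groth.Agent.Lib.Helper35.Gen Groth.Agent.Lib.Helper35.AbSheaf
open Groth.Agent.Lib.Helper60.ProjUPLib Groth.Agent.Lib.Helper60.TwistLib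
open Groth.Agent.Lib.Helper60.ProjFrac Groth.Agent.Lib.Helper60.SecKer
open Groth.Agent.Lib.Helper60.PbComp Groth.Agent.Lib.Helper60.Hyper
open Groth.Agent.Lib.Helper60.Mult Groth.Agent.Lib.Helper60.PicPn

variable (k : Type u) [Field k] (n : ℕ)

theorem lform_val (g : Matrix (Fin (n + 1)) (Fin (n + 1)) k) (i : Fin (n + 1)) :
    (lform k n g i).1 = ∑ j, g i j • (MvPolynomial.X j : MvPolynomial (Fin (n + 1)) k) := by
  unfold lform
  rw [Submodule.coe_sum]
  rfl

theorem coeff_lform (g : Matrix (Fin (n + 1)) (Fin (n + 1)) k) (i j : Fin (n + 1)) :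
    MvPolynomial.coeff (Finsupp.single j 1) (lform k n g i).1 = g i j := by
  classical
  rw [lform_val, MvPolynomial.coeff_sum, Finset.sum_eq_single j]
  · rw [MvPolynomial.coeff_smul, MvPolynomial.coeff_X, if_pos rfl, smul_eq_mul, mul_one]
  · intro l _ hlj
    rw [MvPolynomial.coeff_smul, MvPolynomial.coeff_X, if_neg, smul_zero]
    intro h
    apply hlj
    have := congrArg (fun f => f j) h
    simp only [Finsupp.single_eq_same] at this
    by_contra hne
    rw [Finsupp.single_eq_of_ne (Ne.symm hne)] at this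
    exact zero_ne_one this
  · intro h
    exact absurd (Finset.mem_univ j) h

variable {k n}

/-- an endomorphism of `O(1)` acting on the coordinates by the matrix `g` gives cross relations -/
theorem cross_rel (α₀ : Twist.twistProjSpace n k 1 ⟶ Twist.twistProjSpace n k 1)
    (g : Matrix (Fin (n + 1)) (Fin (n + 1)) k)
    (hα₀ : ∀ i, (α₀.app ⊤).hom (ProjUP.coord n k i) = lin k n g i) (i l : Fin (n + 1)) :
    (lform k n g l).1 * MvPolynomial.X i = MvPolynomial.X l * (lform k n g i).1 := by
  let α : Twist.twist (CohB1.polyGrading n k) ((1 : ℕ) : ℤ) ⟶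
    Twist.twist (CohB1.polyGrading n k) ((1 : ℕ) : ℤ) := α₀
  have hα : ∀ i, (α.app ⊤).hom (gsec (CohB1.polyGrading n k) (Xdeg k n i)) =
      gsec (CohB1.polyGrading n k) (lform k n g i) := hα₀
  let W : (Proj (CohB1.polyGrading n k)).Opens := Proj.basicOpen (CohB1.polyGrading n k) (Xdeg k n i).1
  have he : IsGen (Twist.twist (CohB1.polyGrading n k) ((1 : ℕ) : ℤ)) W
      (rs (Twist.twist (CohB1.polyGrading n k) ((1 : ℕ) : ℤ)) le_top
        (gsec (CohB1.polyGrading n k) (Xdeg k n i))) :=
    isGen_gsec (CohB1.polyGrading n k) (Xdeg k n i)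
  have h1 := rs_gsec_eq_fr_smul (CohB1.polyGrading n k) (Xdeg k n l) (Xdeg k n i) W le_rfl
  have h2 := rs_gsec_eq_fr_smul (CohB1.polyGrading n k) (lform k n g l) (Xdeg k n i) W le_rfl
  have h3 := rs_gsec_eq_fr_smul (CohB1.polyGrading n k) (lform k n g i) (Xdeg k n i) W le_rfl
  have h4 := congrArg (α.app W).hom h1
  rw [hom_rs, Scheme.Modules.Hom.app_smul, hom_rs] at h4
  rw [hα l, hα i, h2, h3, ← mul_smul] at h4
  have h7 := he.smul_injective h4
  rw [fr_mul] at h7
  have h8 := mul_eq_of_fr_eq (CohB1.polyGrading n k) _ _ _ _ _ _ _ _ W _ _ (genPt n k)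
    (genPt_mem n k i) h7
  have hXi : (Xdeg k n i).1 = MvPolynomial.X i := rfl
  have hXl : (Xdeg k n l).1 = MvPolynomial.X l := rfl
  rw [hXi, hXl] at h8
  have hne : (MvPolynomial.X i : MvPolynomial (Fin (n + 1)) k) ≠ 0 := MvPolynomial.X_ne_zero _
  apply mul_right_cancel₀ hne
  rw [mul_assoc, h8]

/-- the cross relations force the matrix to be scalar -/
theorem entries_of_cross (g : Matrix (Fin (n + 1)) (Fin (n + 1)) k)
    (h : ∀ i l : Fin (n + 1),
      (lform k n g l).1 * MvPolynomial.X i = MvPolynomial.X l * (lform k n g i).1) :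
    (∀ l j i : Fin (n + 1), i ≠ l → j ≠ l → g l j = 0) ∧
      (∀ l i : Fin (n + 1), i ≠ l → g l l = g i i) := by
  classical
  constructor
  · intro l j i hil hjl
    have h1 := congrArg (MvPolynomial.coeff (Finsupp.single i 1 + Finsupp.single j 1)) (h i l)
    rw [MvPolynomial.coeff_mul_X', MvPolynomial.coeff_X_mul'] at h1
    have hi : i ∈ (Finsupp.single i 1 + Finsupp.single j 1 : Fin (n + 1) →₀ ℕ).support := by
      rw [Finsupp.mem_support_iff, Finsupp.add_apply, Finsupp.single_eq_same]
      omega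
    have hl : l ∉ (Finsupp.single i 1 + Finsupp.single j 1 : Fin (n + 1) →₀ ℕ).support := by
      rw [Finsupp.mem_support_iff, Finsupp.add_apply, Finsupp.single_eq_of_ne hil.symm,
        Finsupp.single_eq_of_ne hjl.symm]
      simp
    rw [if_pos hi, if_neg hl, add_tsub_cancel_left, coeff_lform] at h1
    exact h1
  · intro l i hil
    have h1 := congrArg (MvPolynomial.coeff (Finsupp.single i 1 + Finsupp.single l 1)) (h i l)
    rw [MvPolynomial.coeff_mul_X', MvPolynomial.coeff_X_mul'] at h1
    have hi : i ∈ (Finsupp.single i 1 + Finsupp.single l 1 : Fin (n + 1) →₀ ℕ).support := by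
      rw [Finsupp.mem_support_iff, Finsupp.add_apply, Finsupp.single_eq_same]
      omega
    have hl : l ∈ (Finsupp.single i 1 + Finsupp.single l 1 : Fin (n + 1) →₀ ℕ).support := by
      rw [Finsupp.mem_support_iff, Finsupp.add_apply, Finsupp.single_eq_same]
      omega
    rw [if_pos hi, if_pos hl, add_tsub_cancel_left, add_tsub_cancel_right, coeff_lform,
      coeff_lform] at h1
    exact h1

theorem scalar_of_cross (g : Matrix (Fin (n + 1)) (Fin (n + 1)) k)
    (h : ∀ i l : Fin (n + 1),
      (lform k n g l).1 * MvPolynomial.X i = MvPolynomial.X l * (lform k n g i).1) :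
    g = Matrix.scalar (Fin (n + 1)) (g 0 0) := by
  obtain ⟨h1, h2⟩ := entries_of_cross g h
  ext l j
  rw [Matrix.scalar_apply, Matrix.diagonal_apply]
  by_cases hlj : l = j
  · rw [if_pos hlj, ← hlj]
    by_cases hl : l = 0
    · rw [hl]
    · exact h2 l 0 (fun h => hl h.symm)
  · rw [if_neg hlj]
    exact h1 l j j (fun h => hlj h.symm) (fun h => hlj h.symm)

end Groth.Agent.Lib.Helper60.AutPn
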