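import Groth.Agent.Lib.Helper60.Au2

/-!
# The data of the identity of projective space are exactly the scalar matrices
-/

set_option autoImplicit false
universe u
open CategoryTheory CategoryTheory.Limits AlgebraicGeometry TopologicalSpace Opposite

namespace Groth.Agent.Lib.Helper60.AutPn

open Groth.Agent.Lib.Helper35.Gen Groth.Agent.Lib.Helper35.AbSheaf
open Groth.Agent.Lib.Helper60.ProjUPLib Groth.Agent.Lib.Helper60.TwistLib
open Groth.Agent.Lib.Helper60.ProjFrac Groth.Agent.Lib.Helper60.SecKer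
open Groth.Agent.Lib.Helper60.PbComp Groth.Agent.Lib.Helper60.Hyper
open Groth.Agent.Lib.Helper60.Mult Groth.Agent.Lib.Helper60.PicPn
open Groth.Agent.Lib.Helper2.QCAlgMod

section general

variable {X : Scheme.{u}}

theorem resTop_top (c : Γ(X, ⊤)) : resTop c ⊤ = c := by
  unfold resTop
  have h : (homOfLE (le_top : (⊤ : X.Opens) ≤ ⊤)) = 𝟙 _ := Subsingleton.elim _ _
  rw [h, op_id, X.presheaf.map_id]
  rfl

theorem resTop_mul (c d : Γ(X, ⊤)) (U : X.Opens) :
    resTop (c * d) U = resTop c U * resTop d U := map_mul _ _ _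

theorem resTop_one (U : X.Opens) : resTop (1 : Γ(X, ⊤)) U = 1 := map_one _

theorem smulEnd_comp (c d : Γ(X, ⊤)) (M : X.Modules) :
    smulEnd c M ≫ smulEnd d M = smulEnd (d * c) M := by
  apply Scheme.Modules.hom_ext
  intro U
  ext s
  change resTop d U • (resTop c U • s) = resTop (d * c) U • s
  rw [resTop_mul, mul_smul]

theorem smulEnd_one (M : X.Modules) : smulEnd (1 : Γ(X, ⊤)) M = 𝟙 M := by
  apply Scheme.Modules.hom_ext
  intro U
  ext s
  change resTop (1 : Γ(X, ⊤)) U • s = s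
  rw [resTop_one, one_smul]

/-- multiplication by a global unit, as an automorphism of a module -/
noncomputable def smulIso (c : Γ(X, ⊤)ˣ) (M : X.Modules) : M ≅ M where
  hom := smulEnd (c : Γ(X, ⊤)) M
  inv := smulEnd ((c⁻¹ : Γ(X, ⊤)ˣ) : Γ(X, ⊤)) M
  hom_inv_id := by rw [smulEnd_comp, Units.inv_mul, smulEnd_one]
  inv_hom_id := by rw [smulEnd_comp, Units.mul_inv, smulEnd_one]

theorem smulIso_hom_top (c : Γ(X, ⊤)ˣ) (M : X.Modules) (s : Γ(M, ⊤)) :
    ((smulIso c M).hom.app ⊤).hom s = (c : Γ(X, ⊤)) • s := by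
  change resTop (c : Γ(X, ⊤)) ⊤ • s = _
  rw [resTop_top]

theorem not_mem_genOpen_zero (L : X.Modules) (x : X) : x ∉ genOpen L (0 : Γ(L, ⊤)) := by
  intro hx
  have hg := isGen_genOpen L (0 : Γ(L, ⊤))
  rw [map_zero] at hg
  have h1 : (1 : Γ(X, genOpen L (0 : Γ(L, ⊤)))) = 0 := by
    apply hg.smul_injective
    rw [smul_zero, smul_zero]
  have h2 : X.basicOpen (1 : Γ(X, genOpen L (0 : Γ(L, ⊤)))) = genOpen L (0 : Γ(L, ⊤)) :=
    Scheme.basicOpen_of_isUnit _ isUnit_one
  rw [h1, Scheme.basicOpen_zero] at h2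
  rw [← h2] at hx
  exact hx

end general

variable (k : Type u) [Field k] (n : ℕ)

theorem lin_zero (i : Fin (n + 1)) : lin k n 0 i = 0 := by
  rw [lin_eq]
  apply Finset.sum_eq_zero
  intro j _
  rw [Matrix.zero_apply, map_zero, zero_smul]

theorem lin_scalar (c : k) (i : Fin (n + 1)) :
    lin k n (Matrix.scalar (Fin (n + 1)) c) i = cst k n c • ProjUP.coord n k i := by
  classical
  rw [lin_eq, Finset.sum_eq_single i]
  · rw [Matrix.scalar_apply, Matrix.diagonal_apply_eq]
  · intro j _ hji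
    rw [Matrix.scalar_apply, Matrix.diagonal_apply_ne _ hji.symm, map_zero, zero_smul]
  · intro h
    exact absurd (Finset.mem_univ i) h

variable {k n}

/-- data of the identity are scalar -/
theorem scalar_of_isData_id (g : Matrix (Fin (n + 1)) (Fin (n + 1)) k)
    (h : IsData n (𝟙 (CohB1.ProjSpace n k)) (Twist.twistProjSpace n k 1) (lin k n g)) :
    ∃ c : k, c ≠ 0 ∧ g = Matrix.scalar (Fin (n + 1)) c := by
  obtain ⟨τ, hτ⟩ := h
  let α : Twist.twistProjSpace n k 1 ≅ Twist.twistProjSpace n k 1 :=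
    (idIso (Twist.twistProjSpace n k 1)).symm ≪≫ τ
  have hα : ∀ i, (α.hom.app ⊤).hom (ProjUP.coord n k i) = lin k n g i := by
    intro i
    have h2 : ((idIso (Twist.twistProjSpace n k 1)).inv.app ⊤).hom (ProjUP.coord n k i) =
        tsec n (𝟙 (CohB1.ProjSpace n k)) i := by
      have h1 := idIso_pullSec (Twist.twistProjSpace n k 1) (ProjUP.coord n k i)
      rw [← h1]
      exact iso_inv_hom_apply _ _
    change (τ.hom.app ⊤).hom (((idIso (Twist.twistProjSpace n k 1)).inv.app ⊤).hom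
      (ProjUP.coord n k i)) = _
    rw [h2, hτ i]
  have hg := scalar_of_cross g (cross_rel α.hom g hα)
  refine ⟨g 0 0, ?_, hg⟩
  intro h0
  rw [h0, map_zero] at hg
  obtain ⟨j, hj⟩ := mem_genOpen_coord k n (genPt n k)
  have h2 : ProjUP.coord n k j = 0 := by
    apply iso_hom_injective α
    rw [hα j, hg, lin_zero, map_zero]
  rw [h2] at hj
  exact not_mem_genOpen_zero _ _ hj

variable (k n)

/-- scalar matrices are data of the identity -/
theorem isData_id_scalar (c : k) (hc : c ≠ 0) :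
    IsData n (𝟙 (CohB1.ProjSpace n k)) (Twist.twistProjSpace n k 1)
      (lin k n (Matrix.scalar (Fin (n + 1)) c)) := by
  have hu : IsUnit (cst k n c) := (IsUnit.mk0 c hc).map (cst k n)
  refine ⟨idIso (Twist.twistProjSpace n k 1) ≪≫ smulIso hu.unit _, fun i => ?_⟩
  rw [lin_scalar]
  change ((smulIso hu.unit _).hom.app ⊤).hom (((idIso (Twist.twistProjSpace n k 1)).hom.app ⊤).hom
    (tsec n (𝟙 (CohB1.ProjSpace n k)) i)) = _
  rw [smulIso_hom_top]
  congr 1
  exact idIso_pullSec _ _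

end Groth.Agent.Lib.Helper60.AutPn
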