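import Groth.Agent.Lib.Helper60.Au3
import Groth.Agent.Lib.Helper14.PicCalc
import Groth.Agent.Lib.Helper93.ProjOverIso
import Groth.Agent.S2352
import Groth.Agent.S10960
import Groth.Agent.S0844

/-!
# An automorphism of projective space pulls `O(1)` back to `O(1)`
-/

set_option autoImplicit false
universe u
open CategoryTheory CategoryTheory.Limits AlgebraicGeometry TopologicalSpace Opposite

namespace Groth.Agent.Lib.Helper60.AutPn

open Groth.Agent.Lib.Helper35.Gen Groth.Agent.Lib.Helper35.AbSheaf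
open Groth.Agent.Lib.Helper60.ProjUPLib Groth.Agent.Lib.Helper60.TwistLib
open Groth.Agent.Lib.Helper60.ProjFrac Groth.Agent.Lib.Helper60.SecKer
open Groth.Agent.Lib.Helper60.PbComp Groth.Agent.Lib.Helper60.Hyper
open Groth.Agent.Lib.Helper60.Mult Groth.Agent.Lib.Helper60.PicPn
open Groth.Agent.Lib.Helper14.PicCalc

section hgen

variable (n : ℕ) (R : Type u) [CommRing R]

theorem hgen_poly : (HomogeneousIdeal.irrelevant (CohB1.polyGrading n R)).toIdeal =
    Ideal.span (CohB1.polyGrading n R 1 : Set (MvPolynomial (Fin (n + 1)) R)) := by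
  apply le_antisymm
  · refine (Groth.Agent.Lib.Helper93.ProjOverIso.irrelevant_le_span_X n R).trans ?_
    apply Ideal.span_mono
    rintro _ ⟨i, -, rfl⟩
    exact MvPolynomial.isHomogeneous_X R i
  · rw [Ideal.span_le]
    intro a ha
    change a ∈ (HomogeneousIdeal.irrelevant (CohB1.polyGrading n R)).toIdeal
    rw [Groth.Agent.Lib.Helper93.ProjOverIso.mem_irrelevant_iff]
    have ha' : a.IsHomogeneous 1 := ha
    rw [MvPolynomial.constantCoeff_eq]
    exact ha'.coeff_eq_zero (by simp)

end hgen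

variable (k : Type u) [Field k] (n : ℕ)

theorem isInvertible_twist (d : ℤ) : PicF.IsInvertible (Twist.twistProjSpace n k d) :=
  (Groth.Agent.S2352.result (CohB1.polyGrading n k) (hgen_poly n k)).1 d

/-- the class of `O(d)` in the Picard group -/
noncomputable def o (d : ℤ) : Pic (CohB1.ProjSpace n k) :=
  Pic.mk (Twist.twistProjSpace n k d) (isInvertible_twist k n d)

theorem o_add (m m' : ℤ) : o k n (m + m') = o k n m * o k n m' := by
  symm
  unfold o
  rw [Pic.mk_mul_eq_iff]
  exact (Groth.Agent.S2352.result (CohB1.polyGrading n k) (hgen_poly n k)).2.1 m m'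

theorem o_injective (hn : 1 ≤ n) : Function.Injective (o k n) := by
  intro d e hde
  unfold o at hde
  rw [Pic.mk_eq_mk] at hde
  obtain ⟨θ⟩ := hde
  exact twist_injective hn d e θ

theorem o_surjective (hn : 1 ≤ n) : Function.Surjective (o k n) := by
  intro c
  obtain ⟨L, hL, rfl⟩ := Pic.exists_rep c
  obtain ⟨d, ⟨θ⟩, -⟩ := Groth.Agent.S10960.result k n hn L hL
  refine ⟨d, ?_⟩
  unfold o
  rw [Pic.mk_eq_mk]
  exact ⟨θ.symm⟩

theorem o_zpow (d : ℤ) : o k n d = (o k n 1) ^ d := by
  let f : ℤ →+ Additive (Pic (CohB1.ProjSpace n k)) :=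
    AddMonoidHom.mk' (fun m => Additive.ofMul (o k n m)) (fun a b => by
      change Additive.ofMul (o k n (a + b)) = Additive.ofMul (o k n a * o k n b)
      rw [o_add])
  have h : f d = d • f 1 := by rw [← map_zsmul, smul_eq_mul, mul_one]
  exact congrArg Additive.toMul h

/-- negative twists have no nonzero global sections -/
theorem subsingleton_sections_neg (hn : 1 ≤ n) (d : ℤ) (hd : d < 0) :
    Subsingleton Γ(Twist.twistProjSpace n k d, ⊤) := by
  have h := Groth.Agent.S0844.result k n d 0 (fun h => by omega) (fun h => by omega)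
  have e := Sheaf.H.equiv₀ (Coh.toAb (Twist.twistProjSpace n k d))
    (isTerminalTop : IsTerminal (⊤ : Opens (CohB1.ProjSpace n k)))
  have h2 : Subsingleton ((Coh.toAb (Twist.twistProjSpace n k d)).obj.obj (op ⊤)) :=
    e.symm.injective.subsingleton
  exact h2

variable {k n}

/-- an automorphism of projective space pulls `O(1)` back to `O(1)` -/
theorem nonempty_pullback_iso (hn : 1 ≤ n) (σ τ : CohB1.ProjSpace n k ⟶ CohB1.ProjSpace n k)
    (hτσ : τ ≫ σ = 𝟙 _) :
    Nonempty ((Scheme.Modules.pullback σ).obj (Twist.twistProjSpace n k 1) ≅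
      Twist.twistProjSpace n k 1) := by
  obtain ⟨d, hd⟩ := o_surjective k n hn (pull σ (o k n 1))
  obtain ⟨e, he⟩ := o_surjective k n hn (pull τ (o k n 1))
  have h1 : pull τ (pull σ (o k n 1)) = o k n 1 := by
    rw [pull_pull τ σ _ hτσ, pull_id]
  rw [← hd, o_zpow, map_zpow, ← he] at h1
  rw [o_zpow k n e, ← zpow_mul, ← o_zpow] at h1
  have h2 : e * d = 1 := o_injective k n hn h1
  have h3 : d = 1 ∨ d = -1 := Int.isUnit_iff.1 (IsUnit.of_mul_eq_one e (by rw [mul_comm]; exact h2))
  have h4 : Nonempty ((Scheme.Modules.pullback σ).obj (Twist.twistProjSpace n k 1) ≅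
      Twist.twistProjSpace n k d) := by
    unfold o at hd
    rw [pull_mk, Pic.mk_eq_mk] at hd
    obtain ⟨θ⟩ := hd
    exact ⟨θ.symm⟩
  rcases h3 with rfl | rfl
  · exact h4
  · exfalso
    obtain ⟨θ⟩ := h4
    haveI := subsingleton_sections_neg k n hn (-1) (by omega)
    obtain ⟨i, hi⟩ := exists_mem_genOpen_tsec n σ (genPt n k)
    have h5 : tsec n σ i = 0 := by
      apply iso_hom_injective θ
      exact Subsingleton.elim _ _
    rw [h5] at hi
    exact not_mem_genOpen_zero _ _ hi

end Groth.Agent.Lib.Helper60.AutPn
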