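import Mathlib

/-!
# Reduction of polynomial matrices: making the leading coefficient matrix invertible
-/

set_option autoImplicit false
open Polynomial Matrix

namespace Groth.Agent.Lib.Helper60.Birkhoff

variable {k : Type*} [Field k]

theorem natDegree_le_pred {p : k[X]} {n : ℕ} (h : p.natDegree ≤ n) (hc : p.coeff n = 0)
    (hn : 0 < n) : p.natDegree ≤ n - 1 := by
  rw [Polynomial.natDegree_le_iff_coeff_eq_zero]
  intro N hN
  by_cases hNn : N = n
  · rw [hNn]; exact hc
  · apply Polynomial.coeff_eq_zero_of_natDegree_lt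
    omega

theorem eq_zero_of_natDegree_le_zero {p : k[X]} (h : p.natDegree ≤ 0) (hc : p.coeff 0 = 0) :
    p = 0 := by
  rw [Polynomial.eq_C_of_natDegree_le_zero h, hc, map_zero]

theorem coeff_helper (p : k[X]) (c : k) (n e : ℕ) :
    (p * (C c * X ^ e)).coeff (n + e) = p.coeff n * c := by
  rw [← mul_assoc, Polynomial.coeff_mul_X_pow, Polynomial.coeff_mul_C]

variable {r : ℕ}

theorem sum_update_pred (d : Fin r → ℕ) (j₀ : Fin r) (h : 0 < d j₀) :
    ∑ j, Function.update d j₀ (d j₀ - 1) j + 1 = ∑ j, d j := by
  rw [Finset.sum_update_of_mem (Finset.mem_univ j₀), Finset.sdiff_singleton_eq_erase]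
  have := Finset.add_sum_erase Finset.univ d (Finset.mem_univ j₀)
  omega

/-- the leading coefficient matrix with respect to column degree bounds -/
noncomputable def lead (M : Matrix (Fin r) (Fin r) k[X]) (d : Fin r → ℕ) :
    Matrix (Fin r) (Fin r) k :=
  Matrix.of fun i j => (M i j).coeff (d j)

theorem det_updateCol_one (j₀ : Fin r) (v : Fin r → k[X]) :
    ((1 : Matrix (Fin r) (Fin r) k[X]).updateCol j₀ v).det = v j₀ := by
  rw [← Matrix.cramer_apply, Matrix.cramer_one]
  rfl

theorem mul_updateCol_one_of_ne (M : Matrix (Fin r) (Fin r) k[X]) (j₀ : Fin r)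
    (v : Fin r → k[X]) (i j : Fin r) (hj : j ≠ j₀) :
    (M * (1 : Matrix (Fin r) (Fin r) k[X]).updateCol j₀ v) i j = M i j := by
  rw [Matrix.mul_apply]
  have : ∀ l, M i l * ((1 : Matrix (Fin r) (Fin r) k[X]).updateCol j₀ v) l j =
      M i l * (1 : Matrix (Fin r) (Fin r) k[X]) l j := by
    intro l
    rw [Matrix.updateCol_ne hj]
  simp_rw [this]
  rw [← Matrix.mul_apply, Matrix.mul_one]

theorem mul_updateCol_one_self (M : Matrix (Fin r) (Fin r) k[X]) (j₀ : Fin r)
    (v : Fin r → k[X]) (i : Fin r) :
    (M * (1 : Matrix (Fin r) (Fin r) k[X]).updateCol j₀ v) i j₀ = ∑ l, M i l * v l := by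
  rw [Matrix.mul_apply]
  apply Finset.sum_congr rfl
  intro l _
  rw [Matrix.updateCol_self]

/-- **Reduction**: a polynomial matrix with nonzero determinant can be multiplied on the right by
a unimodular polynomial matrix so that the leading coefficient matrix (with respect to suitable
column degree bounds) becomes invertible. -/
theorem reduce : ∀ (N : ℕ) (M : Matrix (Fin r) (Fin r) k[X]) (d : Fin r → ℕ), M.det ≠ 0 →
    (∀ i j, (M i j).natDegree ≤ d j) → ∑ j, d j = N →
    ∃ (a : Matrix (Fin r) (Fin r) k[X]) (d' : Fin r → ℕ), IsUnit a.det ∧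
      (∀ i j, ((M * a) i j).natDegree ≤ d' j) ∧ (lead (M * a) d').det ≠ 0 := by
  intro N
  induction N using Nat.strong_induction_on with
  | _ N ih =>
    intro M d hM hd hN
    classical
    by_cases hL : (lead M d).det = 0
    swap
    · exact ⟨1, d, by simp, by simpa using hd, by simpa using hL⟩
    obtain ⟨c, hc0, hLc⟩ := Matrix.exists_mulVec_eq_zero_iff.mpr hL
    have hS : (Finset.univ.filter fun j => c j ≠ 0).Nonempty := by
      obtain ⟨j, hj⟩ := Function.ne_iff.mp hc0
      exact ⟨j, by simpa using hj⟩
    obtain ⟨j₀, hj₀S, hmax⟩ := Finset.exists_max_image _ d hS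
    have hcj₀ : c j₀ ≠ 0 := by simpa using hj₀S
    have hmax' : ∀ j, c j ≠ 0 → d j ≤ d j₀ := fun j hj => hmax j (by simp [hj])
    let v : Fin r → k[X] := fun j => C (c j) * X ^ (d j₀ - d j)
    let a' : Matrix (Fin r) (Fin r) k[X] := (1 : Matrix (Fin r) (Fin r) k[X]).updateCol j₀ v
    have hdet' : a'.det = C (c j₀) := by
      rw [det_updateCol_one]
      simp [v]
    have hua' : IsUnit a'.det := by
      rw [hdet']
      exact (isUnit_C).mpr (isUnit_iff_ne_zero.mpr hcj₀)
    have hM' : (M * a').det ≠ 0 := by
      rw [Matrix.det_mul]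
      exact mul_ne_zero hM hua'.ne_zero
    -- the new column
    have hcol_deg : ∀ i, ((M * a') i j₀).natDegree ≤ d j₀ := by
      intro i
      rw [mul_updateCol_one_self]
      apply Polynomial.natDegree_sum_le_of_forall_le
      intro l _
      by_cases hl : c l = 0
      · simp [v, hl]
      · have h1 : (M i l * v l).natDegree ≤ (M i l).natDegree + (v l).natDegree :=
          Polynomial.natDegree_mul_le
        have h2 : (v l).natDegree ≤ d j₀ - d l := by
          simp only [v]
          exact (Polynomial.natDegree_C_mul_X_pow_le _ _)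
        have h3 := hd i l
        have h4 := hmax' l hl
        omega
    have hcol_coeff : ∀ i, ((M * a') i j₀).coeff (d j₀) = 0 := by
      intro i
      rw [mul_updateCol_one_self, Polynomial.finsetSum_coeff]
      have h1 : ∀ l, (M i l * v l).coeff (d j₀) = (lead M d) i l * c l := by
        intro l
        by_cases hl : c l = 0
        · simp [v, hl]
        · have h4 := hmax' l hl
          obtain ⟨e, he⟩ : ∃ e, d j₀ = d l + e := ⟨d j₀ - d l, by omega⟩
          simp only [v, lead, Matrix.of_apply]
          rw [he, Nat.add_sub_cancel_left]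
          exact coeff_helper _ _ _ _
      simp_rw [h1]
      have := congrFun hLc i
      simpa [Matrix.mulVec, dotProduct] using this
    by_cases hd0 : d j₀ = 0
    · exfalso
      apply hM'
      apply Matrix.det_eq_zero_of_column_eq_zero j₀
      intro i
      apply eq_zero_of_natDegree_le_zero
      · rw [← hd0]; exact hcol_deg i
      · rw [← hd0]; exact hcol_coeff i
    · let d'' : Fin r → ℕ := Function.update d j₀ (d j₀ - 1)
      have hd'' : ∀ i j, ((M * a') i j).natDegree ≤ d'' j := by
        intro i j
        by_cases hj : j = j₀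
        · subst hj
          simp only [d'', Function.update_self]
          exact natDegree_le_pred (hcol_deg i) (hcol_coeff i) (Nat.pos_of_ne_zero hd0)
        · simp only [d'', Function.update_of_ne hj]
          rw [mul_updateCol_one_of_ne M j₀ v i j hj]
          exact hd i j
      have hsum : ∑ j, d'' j < N := by
        have h1 : ∑ j, d'' j + 1 = ∑ j, d j :=
          sum_update_pred d j₀ (Nat.pos_of_ne_zero hd0)
        omega
      obtain ⟨a'', d', hua'', hbd, hlead⟩ := ih _ hsum (M * a') d'' hM' hd'' rfl
      refine ⟨a' * a'', d', ?_, ?_, ?_⟩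
      · rw [Matrix.det_mul]
        exact hua'.mul hua''
      · rw [← Matrix.mul_assoc]
        exact hbd
      · rw [← Matrix.mul_assoc]
        exact hlead

end Groth.Agent.Lib.Helper60.Birkhoff
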