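import Groth.Agent.Lib.Helper60.Bk1

/-!
# Birkhoff factorisation over a Laurent-type ring `B = k[t, t⁻¹]`
-/

set_option autoImplicit false
open Polynomial Matrix

namespace Groth.Agent.Lib.Helper60.Birkhoff

variable {k : Type*} [Field k] {B : Type*} [CommRing B] [Algebra k B] (t s : B) (hts : t * s = 1)

include hts in
/-- `ι₊ p = ι₋ (reflect n p) * t ^ n` when `deg p ≤ n` -/
theorem aeval_eq_reflect (n : ℕ) (p : k[X]) (hp : p.natDegree ≤ n) :
    aeval t p = aeval s (reflect n p) * t ^ n := by
  let _ : Invertible t := ⟨s, by rw [mul_comm]; exact hts, hts⟩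
  have := eval₂_reflect_mul_pow (algebraMap k B) t n p hp
  rw [Polynomial.aeval_def, Polynomial.aeval_def, ← this]
  rfl

variable (hinj : Function.Injective (aeval t : k[X] → B))
  (hsurj : ∀ b : B, ∃ (p : k[X]) (n : ℕ), b * t ^ n = aeval t p)

include hts hinj hsurj in
theorem isUnit_of_isUnit_aeval (q : k[X]) (h0 : q.eval 0 ≠ 0) (hu : IsUnit (aeval s q)) :
    IsUnit q := by
  obtain ⟨w, hw⟩ := hu.exists_right_inv
  obtain ⟨p, n, hp⟩ := hsurj w
  set e := q.natDegree with he
  have hq0 : q ≠ 0 := by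
    intro h
    rw [h, eval_zero] at h0
    exact h0 rfl
  have hre : (reflect e q).natDegree ≤ e := by
    have := natDegree_reflect_le (N := e) (p := q)
    rw [← he, max_self] at this
    exact this
  have h1 : aeval t (reflect e q) = aeval s q * t ^ e := by
    rw [aeval_eq_reflect t s hts e (reflect e q) hre, reflect_reflect]
  have h2 : aeval t (reflect e q * p) = aeval t ((X : k[X]) ^ (e + n)) := by
    rw [map_mul, h1, ← hp, map_pow, aeval_X, pow_add]
    calc aeval s q * t ^ e * (w * t ^ n) = (aeval s q * w) * (t ^ e * t ^ n) := by ring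
      _ = t ^ e * t ^ n := by rw [hw, one_mul]
  have h3 : reflect e q * p = (X : k[X]) ^ (e + n) := hinj h2
  have h4 : reflect e q ∣ (X : k[X]) ^ (e + n) := ⟨p, h3.symm⟩
  obtain ⟨l, -, hl⟩ := (dvd_prime_pow Polynomial.prime_X _).mp h4
  obtain ⟨u, hu⟩ := hl.symm
  -- `X ^ l * u = reflect e q`
  have hc0 : (reflect e q).coeff 0 ≠ 0 := by
    rw [coeff_reflect, revAt_zero, he, Polynomial.coeff_natDegree]
    exact Polynomial.leadingCoeff_ne_zero.mpr hq0
  have hl0 : l = 0 := by
    by_contra hl0
    apply hc0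
    rw [← hu]
    obtain ⟨l', rfl⟩ := Nat.exists_eq_succ_of_ne_zero hl0
    rw [pow_succ, mul_assoc, mul_comm X, ← mul_assoc]
    exact Polynomial.coeff_mul_X_zero _
  rw [hl0, pow_zero, one_mul] at hu
  obtain ⟨c, hc, hcu⟩ := Polynomial.isUnit_iff.mp u.isUnit
  have h5 : q = C c * X ^ e := by
    have : reflect e (reflect e q) = reflect e (C c) := by rw [← hu, ← hcu]
    rw [reflect_reflect, reflect_C] at this
    exact this
  have he0 : e = 0 := by
    by_contra hne
    apply h0
    rw [h5]
    simp [hne]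
  rw [h5, he0, pow_zero, mul_one]
  exact Polynomial.isUnit_C.mpr hc

include hinj in
theorem nontrivial_of_inj : (1 : B) ≠ 0 := by
  intro h
  have h1 : aeval t (1 : k[X]) = aeval t (0 : k[X]) := by rw [map_one, map_zero, h]
  exact one_ne_zero (hinj h1)

variable {r : ℕ}

include hts hinj hsurj in
/-- **Birkhoff factorisation.** -/
theorem birkhoff (g : Matrix (Fin r) (Fin r) B) (hg : IsUnit g.det) :
    ∃ (U a : Matrix (Fin r) (Fin r) k[X]) (e : Fin r → ℕ) (N : ℕ), IsUnit U.det ∧ IsUnit a.det ∧
      (t ^ N • g) * a.map (aeval t) = U.map (aeval s) * Matrix.diagonal (fun j => t ^ e j) := by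
  have htu : IsUnit t := IsUnit.of_mul_eq_one s hts
  -- clear denominators
  choose p n hpn using fun i j => hsurj (g i j)
  let N : ℕ := ∑ i, ∑ j, n i j
  have hnN : ∀ i j, n i j ≤ N := by
    intro i j
    calc n i j ≤ ∑ j', n i j' := Finset.single_le_sum (f := fun j' => n i j')
          (fun _ _ => Nat.zero_le _) (Finset.mem_univ j)
      _ ≤ N := Finset.single_le_sum (f := fun i' => ∑ j', n i' j')
          (fun _ _ => Nat.zero_le _) (Finset.mem_univ i)
  let M : Matrix (Fin r) (Fin r) k[X] := Matrix.of fun i j => p i j * X ^ (N - n i j)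
  have hMg : M.map (aeval t) = t ^ N • g := by
    ext i j
    simp only [M, Matrix.map_apply, Matrix.of_apply, Matrix.smul_apply, smul_eq_mul, map_mul,
      map_pow, aeval_X, ← hpn]
    have : N = n i j + (N - n i j) := by have := hnN i j; omega
    conv_rhs => rw [this, pow_add]
    ring
  have hdetM : aeval t M.det = (t ^ N) ^ r * g.det := by
    have h1 : aeval t M.det = ((aeval t : k[X] →ₐ[k] B).toRingHom.mapMatrix M).det :=
      (RingHom.map_det _ M)
    rw [h1]
    have h2 : (aeval t : k[X] →ₐ[k] B).toRingHom.mapMatrix M = M.map (aeval t) := rfl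
    rw [h2, hMg, Matrix.det_smul, Fintype.card_fin]
  have hM : M.det ≠ 0 := by
    intro h
    rw [h, map_zero] at hdetM
    have hu : IsUnit ((t ^ N) ^ r * g.det) := ((htu.pow N).pow r).mul hg
    rw [← hdetM] at hu
    exact nontrivial_of_inj t hinj (isUnit_zero_iff.mp hu).symm
  let d₀ : Fin r → ℕ := fun j => ∑ i, (M i j).natDegree
  have hd₀ : ∀ i j, (M i j).natDegree ≤ d₀ j := fun i j =>
    Finset.single_le_sum (f := fun i' => (M i' j).natDegree) (fun _ _ => Nat.zero_le _)
      (Finset.mem_univ i)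
  obtain ⟨a, d', hua, hbd, hlead⟩ := reduce _ M d₀ hM hd₀ rfl
  let U : Matrix (Fin r) (Fin r) k[X] := Matrix.of fun i j => reflect (d' j) ((M * a) i j)
  have hE : (M * a).map (aeval t) = U.map (aeval s) * Matrix.diagonal (fun j => t ^ d' j) := by
    ext i j
    rw [Matrix.mul_diagonal]
    simp only [U, Matrix.map_apply, Matrix.of_apply]
    exact aeval_eq_reflect t s hts (d' j) _ (hbd i j)
  have hE' : (t ^ N • g) * a.map (aeval t) =
      U.map (aeval s) * Matrix.diagonal (fun j => t ^ d' j) := by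
    rw [← hE, ← hMg]
    exact (Matrix.map_mul (f := (aeval t : k[X] →ₐ[k] B))).symm
  refine ⟨U, a, d', N, ?_, hua, hE'⟩
  apply isUnit_of_isUnit_aeval t s hts hinj hsurj
  · -- constant term of `det U` is `det (lead ..)`
    have h1 : U.det.eval 0 = ((evalRingHom (0 : k)).mapMatrix U).det :=
      (RingHom.map_det (evalRingHom (0 : k)) U)
    rw [h1]
    have h2 : (evalRingHom (0 : k)).mapMatrix U = lead (M * a) d' := by
      ext i j
      simp only [U, lead, RingHom.mapMatrix_apply, Matrix.map_apply, Matrix.of_apply,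
        coe_evalRingHom]
      rw [← Polynomial.coeff_zero_eq_eval_zero, coeff_reflect, revAt_zero]
    rw [h2]
    exact hlead
  · have h1 : aeval s U.det = ((aeval s : k[X] →ₐ[k] B).toRingHom.mapMatrix U).det :=
      (RingHom.map_det _ U)
    have h2 : (aeval s : k[X] →ₐ[k] B).toRingHom.mapMatrix U = U.map (aeval s) := rfl
    have h3 := congrArg Matrix.det hE'
    rw [Matrix.det_mul, Matrix.det_mul, Matrix.det_smul, Matrix.det_diagonal, Fintype.card_fin] at h3
    have h4 : IsUnit (((t ^ N) ^ r * g.det) * (a.map (aeval t)).det) := by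
      refine (((htu.pow N).pow r).mul hg).mul ?_
      have h5 : (a.map (aeval t)).det = aeval t a.det :=
        (RingHom.map_det (aeval t : k[X] →ₐ[k] B).toRingHom a).symm
      rw [h5]
      exact hua.map (aeval t)
    rw [h3] at h4
    rw [h1, h2]
    exact isUnit_of_mul_isUnit_left h4

end Groth.Agent.Lib.Helper60.Birkhoff
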