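import Mathlib

/-!
# A pushout criterion for commutative rings via compatible bases
-/

set_option autoImplicit false
universe u
open CategoryTheory CategoryTheory.Limits

namespace Groth.Agent.Lib.Helper60.ConstFin

open TensorProduct

/-- algebra version: if `b` is a `K`-basis of `B` whose image in `C` is an `R`-basis,
then `C = R ⊗[K] B`. -/
theorem algebra_isPushout_of_bases {K R B C : Type u} [CommRing K] [CommRing R] [CommRing B]
    [CommRing C] [Algebra K R] [Algebra K B] [Algebra R C] [Algebra B C] [Algebra K C]
    [IsScalarTower K R C] [IsScalarTower K B C] {d : ℕ} (b : Fin d → B)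
    (h1 : Function.Bijective (fun c : Fin d → K => ∑ i, c i • b i))
    (h2 : Function.Bijective (fun c : Fin d → R => ∑ i, c i • algebraMap B C (b i))) :
    Algebra.IsPushout K R B C := by
  constructor
  -- the `K`-linear equivalence `K^d ≃ B`
  let e1 : (Fin d → K) ≃ₗ[K] B := LinearEquiv.ofBijective (Fintype.linearCombination K b) (by
    have : (Fintype.linearCombination K b : (Fin d → K) → B) =
        fun c : Fin d → K => ∑ i, c i • b i := by
      funext c
      rw [Fintype.linearCombination_apply]
    rw [this]
    exact h1)
  -- the `R`-basis of `C`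
  let e2 : (Fin d → R) ≃ₗ[R] C := LinearEquiv.ofBijective
    (Fintype.linearCombination R (fun i => algebraMap B C (b i))) (by
    have : (Fintype.linearCombination R (fun i => algebraMap B C (b i)) : (Fin d → R) → C) =
        fun c : Fin d → R => ∑ i, c i • algebraMap B C (b i) := by
      funext c
      rw [Fintype.linearCombination_apply]
    rw [this]
    exact h2)
  let bC : Module.Basis (Fin d) R C := Module.Basis.ofEquivFun e2.symm
  have hbC : ∀ i, bC i = algebraMap B C (b i) := by
    intro i
    have : bC i = e2 (Pi.single i 1) := by
      simp [bC, Module.Basis.ofEquivFun]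
    rw [this]
    change Fintype.linearCombination R (fun i => algebraMap B C (b i)) (Pi.single i 1) = _
    rw [Fintype.linearCombination_apply_single, one_smul]
  have hbc := IsBaseChange.of_fintype_basis K bC
  -- compose with the equivalence
  have hcomp : ((IsScalarTower.toAlgHom K B C).toLinearMap : B →ₗ[K] C) =
      (Fintype.linearCombination K bC) ∘ₗ e1.symm.toLinearMap := by
    apply LinearMap.ext
    intro x
    obtain ⟨c, rfl⟩ := e1.surjective x
    rw [LinearMap.comp_apply, LinearEquiv.coe_coe, LinearEquiv.symm_apply_apply]
    change algebraMap B C (Fintype.linearCombination K b c) = _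
    rw [Fintype.linearCombination_apply, Fintype.linearCombination_apply, map_sum]
    apply Finset.sum_congr rfl
    intro i _
    rw [hbC, Algebra.smul_def, map_mul, ← IsScalarTower.algebraMap_apply, Algebra.smul_def]
  rw [hcomp]
  exact IsBaseChange.comp_equiv e1.symm _ hbc

/-- categorical version -/
theorem isPushout_of_bases {K R B C : CommRingCat.{u}} (α : K ⟶ R) (β : K ⟶ B) (γ : B ⟶ C)
    (δ : R ⟶ C) (comm : α ≫ δ = β ≫ γ) {d : ℕ} (b : Fin d → B)
    (h1 : Function.Bijective (fun c : Fin d → K => ∑ i, β.hom (c i) * b i))
    (h2 : Function.Bijective (fun c : Fin d → R => ∑ i, δ.hom (c i) * γ.hom (b i))) :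
    IsPushout β α γ δ := by
  letI : Algebra K R := α.hom.toAlgebra
  letI : Algebra K B := β.hom.toAlgebra
  letI : Algebra B C := γ.hom.toAlgebra
  letI : Algebra R C := δ.hom.toAlgebra
  letI : Algebra K C := (α ≫ δ).hom.toAlgebra
  haveI : IsScalarTower K R C := IsScalarTower.of_algebraMap_eq (fun x => rfl)
  haveI : IsScalarTower K B C := IsScalarTower.of_algebraMap_eq (fun x => by
    change (α ≫ δ).hom x = (β ≫ γ).hom x
    rw [comm])
  have hP : Algebra.IsPushout K R B C := by
    apply algebra_isPushout_of_bases b
    · have : (fun c : Fin d → K => ∑ i, c i • b i) = fun c : Fin d → K => ∑ i, β.hom (c i) * b i := by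
        funext c
        apply Finset.sum_congr rfl
        intro i _
        rw [Algebra.smul_def]
        rfl
      rw [this]
      exact h1
    · have : (fun c : Fin d → R => ∑ i, c i • algebraMap B C (b i)) =
          fun c : Fin d → R => ∑ i, δ.hom (c i) * γ.hom (b i) := by
        funext c
        apply Finset.sum_congr rfl
        intro i _
        rw [Algebra.smul_def]
        rfl
      rw [this]
      exact h2
  have := (CommRingCat.isPushout_iff_isPushout (R := K) (S := R) (R' := B) (S' := C)).mpr hP.symm
  exact this

end Groth.Agent.Lib.Helper60.ConstFin
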