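import Groth.Agent.Lib.Helper60.Fr3
import Groth.Agent.Lib.Helper35.PbSec

/-!
# Frames of a free pushforward of the structure sheaf
-/

set_option autoImplicit false
universe u
open CategoryTheory CategoryTheory.Limits AlgebraicGeometry TopologicalSpace Opposite

namespace Groth.Agent.Lib.Helper60.ConstFin

open Groth.Agent.Lib.Helper35.Gen Groth.Agent.Lib.Helper35.AbSheaf Scheme.Modules
open Groth.Agent.Lib.Helper60.FrameLib

variable {X Y : Scheme.{u}} (f : X ⟶ Y) {d : ℕ}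

theorem exists_frame
    (e : (Scheme.Modules.pushforward f).obj (SheafOfModules.unit X.ringCatSheaf) ≅
      ∐ fun _ : ULift.{u} (Fin d) => (SheafOfModules.unit Y.ringCatSheaf : Y.Modules)) :
    ∃ b : Fin d → Γ((Scheme.Modules.pushforward f).obj (SheafOfModules.unit X.ringCatSheaf), ⊤),
      IsFrame _ ⊤ b := by
  let F : Fin d → Y.Modules := fun _ => SheafOfModules.unit Y.ringCatSheaf
  have h1 : IsFrame (∐ F) ⊤ (fun i => ((Sigma.ι F i).app ⊤).hom (1 : Γ(Y, ⊤))) :=
    isFrame_sigma F ⊤ (fun _ => (1 : Γ(Y, ⊤))) (fun _ => isGen_one ⊤)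
  let ρ : (∐ F) ≅ ∐ fun _ : ULift.{u} (Fin d) => (SheafOfModules.unit Y.ringCatSheaf : Y.Modules) :=
    Sigma.reindex (Equiv.ulift.symm : Fin d ≃ ULift.{u} (Fin d))
      (fun _ : ULift.{u} (Fin d) => (SheafOfModules.unit Y.ringCatSheaf : Y.Modules))
  exact ⟨_, h1.map_iso (ρ ≪≫ e.symm)⟩

/-- ring-theoretic form of the frame -/
theorem exists_ring_frame
    (e : (Scheme.Modules.pushforward f).obj (SheafOfModules.unit X.ringCatSheaf) ≅
      ∐ fun _ : ULift.{u} (Fin d) => (SheafOfModules.unit Y.ringCatSheaf : Y.Modules)) :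
    ∃ b : Fin d → Γ(X, ⊤), ∀ (W : Y.Opens) (V : X.Opens) (hV : V = f ⁻¹ᵁ W),
      Function.Bijective (fun c : Fin d → Γ(Y, W) =>
        ∑ i, (f.appLE W V hV.le).hom (c i) * X.presheaf.map (homOfLE le_top).op (b i)) := by
  obtain ⟨b, hb⟩ := exists_frame f e
  refine ⟨b, ?_⟩
  intro W V hV
  subst hV
  have h := hb W le_top
  have key : (fun c : Fin d → Γ(Y, W) =>
      ∑ i, (f.appLE W (f ⁻¹ᵁ W) le_rfl).hom (c i) * X.presheaf.map (homOfLE le_top).op (b i)) =
      (fun c : Fin d → Γ(Y, W) => (show Γ(X, f ⁻¹ᵁ W) from ∑ i, c i •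
        rs ((Scheme.Modules.pushforward f).obj (SheafOfModules.unit X.ringCatSheaf))
          (le_top : W ≤ ⊤) (b i))) := by
    funext c
    rw [← Scheme.Hom.app_eq_appLE]
    show _ = ∑ i, (show Γ(X, f ⁻¹ᵁ W) from c i •
        rs ((Scheme.Modules.pushforward f).obj (SheafOfModules.unit X.ringCatSheaf))
          (le_top : W ≤ ⊤) (b i))
    apply Finset.sum_congr rfl
    intro i _
    rfl
  rw [key]
  exact h

end Groth.Agent.Lib.Helper60.ConstFin
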