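import Groth.Agent.Lib.Helper60.Cf1

/-!
# A scheme affine over `P` with a global frame is constant
-/

set_option autoImplicit false
universe u
open CategoryTheory CategoryTheory.Limits AlgebraicGeometry TopologicalSpace Opposite

namespace Groth.Agent.Lib.Helper60.ConstFin

variable {S Z P F : Scheme.{u}} (π : P ⟶ S) (gB : Z ⟶ S) (q : F ⟶ Z) (f : F ⟶ P)
  (hq : q ≫ gB = f ≫ π)

include hq

/-- the pushout square of sections -/
theorem isPushout_sections (hqtop : IsIso q.appTop)
    (hπ : Function.Bijective π.appTop.hom) {d : ℕ} (b : Fin d → Γ(F, ⊤))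
    (hb : ∀ (W : P.Opens) (V : F.Opens) (hV : V = f ⁻¹ᵁ W),
      Function.Bijective (fun c : Fin d → Γ(P, W) =>
        ∑ i, (f.appLE W V hV.le).hom (c i) * F.presheaf.map (homOfLE le_top).op (b i)))
    (W : P.Opens) (V : F.Opens) (hV : V = f ⁻¹ᵁ W) :
    IsPushout (gB.appLE ⊤ ⊤ (by simp)) (π.appLE ⊤ W (by simp)) (q.appLE ⊤ V (by simp))
      (f.appLE W V hV.le) := by
  have hqbij : Function.Bijective q.appTop.hom := ConcreteCategory.bijective_of_isIso q.appTop
  -- the basis of `Γ(Z, ⊤)`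
  choose b' hb' using fun i => hqbij.2 (b i)
  have hcomm : π.appLE ⊤ W (by simp) ≫ f.appLE W V hV.le =
      gB.appLE ⊤ ⊤ (by simp) ≫ q.appLE ⊤ V (by simp) := by
    rw [Scheme.Hom.appLE_comp_appLE, Scheme.Hom.appLE_comp_appLE]
    simp only [hq]
  apply isPushout_of_bases (π.appLE ⊤ W (by simp)) (gB.appLE ⊤ ⊤ (by simp)) (q.appLE ⊤ V (by simp))
    (f.appLE W V hV.le) hcomm b'
  · -- `b'` is a basis over `Γ(S, ⊤)`
    have h1 := hb ⊤ ⊤ rfl
    have hres : ∀ x : Γ(F, ⊤), (F.presheaf.map (homOfLE (le_top : (⊤ : F.Opens) ≤ ⊤)).op).hom x = x := by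
      intro x
      have h : (homOfLE (le_top : (⊤ : F.Opens) ≤ ⊤)) = 𝟙 _ := Subsingleton.elim _ _
      rw [h, op_id, F.presheaf.map_id]
      rfl
    have hqq : q.appLE ⊤ ⊤ (by simp) = q.appTop := (Scheme.Hom.app_eq_appLE q).symm
    have hc2 : π.appLE ⊤ ⊤ (by simp) ≫ f.appLE ⊤ ⊤ (by simp) =
        gB.appLE ⊤ ⊤ (by simp) ≫ q.appTop := by
      rw [← hqq, Scheme.Hom.appLE_comp_appLE, Scheme.Hom.appLE_comp_appLE]
      simp only [hq]
    have hππ : π.appLE ⊤ ⊤ (by simp) = π.appTop := (Scheme.Hom.app_eq_appLE π).symm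
    have key : q.appTop.hom ∘ (fun c : Fin d → Γ(S, ⊤) =>
        ∑ i, (gB.appLE ⊤ ⊤ (by simp)).hom (c i) * b' i) =
        (fun c : Fin d → Γ(P, ⊤) => ∑ i, (f.appLE ⊤ ⊤ (by simp)).hom (c i) *
          F.presheaf.map (homOfLE le_top).op (b i)) ∘ (fun c i => π.appTop.hom (c i)) := by
      funext c
      simp only [Function.comp_apply]
      rw [map_sum]
      apply Finset.sum_congr rfl
      intro i _
      rw [map_mul, hb', hres]
      congr 1
      have := congrArg (fun φ => φ.hom (c i)) hc2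
      simp only [CommRingCat.hom_comp, RingHom.comp_apply] at this
      rw [← this, hππ]
    have hbij2 : Function.Bijective (fun (c : Fin d → Γ(S, ⊤)) (i : Fin d) => π.appTop.hom (c i)) := by
      constructor
      · intro c c' h
        funext i
        exact hπ.1 (congrFun h i)
      · intro c
        choose c' hc' using fun i => hπ.2 (c i)
        exact ⟨c', funext hc'⟩
    have h3 : Function.Bijective (q.appTop.hom ∘ (fun c : Fin d → Γ(S, ⊤) =>
        ∑ i, (gB.appLE ⊤ ⊤ (by simp)).hom (c i) * b' i)) := by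
      rw [key]
      exact h1.comp hbij2
    exact (Function.Bijective.of_comp_iff' hqbij _).mp h3
  · have h2 := hb W V hV
    have key : (fun c : Fin d → Γ(P, W) =>
        ∑ i, (f.appLE W V hV.le).hom (c i) * (q.appLE ⊤ V (by simp)).hom (b' i)) =
        (fun c : Fin d → Γ(P, W) =>
        ∑ i, (f.appLE W V hV.le).hom (c i) * F.presheaf.map (homOfLE le_top).op (b i)) := by
      funext c
      apply Finset.sum_congr rfl
      intro i _
      congr 1
      rw [← hb']
      rfl
    rw [key]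
    exact h2

/-- the comparison morphism to the constant scheme is an isomorphism -/
theorem isIso_lift [IsAffine S] [IsAffine Z] [IsAffineHom f] (hqtop : IsIso q.appTop)
    (hπ : Function.Bijective π.appTop.hom) {d : ℕ} (b : Fin d → Γ(F, ⊤))
    (hb : ∀ (W : P.Opens) (V : F.Opens) (hV : V = f ⁻¹ᵁ W),
      Function.Bijective (fun c : Fin d → Γ(P, W) =>
        ∑ i, (f.appLE W V hV.le).hom (c i) * F.presheaf.map (homOfLE le_top).op (b i))) :
    IsIso (pullback.lift q f hq : F ⟶ pullback gB π) := by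
  set φ := pullback.lift q f hq with hφ
  have hφ1 : φ ≫ pullback.fst gB π = q := pullback.lift_fst _ _ _
  have hφ2 : φ ≫ pullback.snd gB π = f := pullback.lift_snd _ _ _
  have : IsAffineHom gB := inferInstance
  have : IsAffineHom (pullback.snd gB π) := MorphismProperty.pullback_snd _ _ ‹IsAffineHom gB›
  have : IsAffineHom (φ ≫ pullback.snd gB π) := by rw [hφ2]; infer_instance
  have : IsAffineHom φ := IsAffineHom.of_comp φ (pullback.snd gB π)
  rw [← MorphismProperty.isomorphisms.iff]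
  apply IsZariskiLocalAtTarget.of_iSup_eq_top (P := MorphismProperty.isomorphisms Scheme)
    (fun W : P.affineOpens => pullback.snd gB π ⁻¹ᵁ W.1)
  · exact Scheme.Hom.iSup_preimage_eq_top _ (iSup_affineOpens_eq_top P)
  · intro W
    rw [MorphismProperty.isomorphisms.iff]
    have hV : IsAffineOpen (pullback.snd gB π ⁻¹ᵁ W.1) := W.2.preimage _
    refine (isIso_morphismRestrict_iff_isIso_app (f := φ) hV).mpr ?_
    have H := IsPullback.of_hasPullback gB π
    have hP1 := (isIso_pushoutSection_iff H (US := ⊤) (UT := W.1) (UX := ⊤)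
      (UY := pullback.snd gB π ⁻¹ᵁ W.1) (by simp) (by simp) (by simp)).mp
      (isIso_pushoutSection_of_isAffineOpen H _ _ _ (isAffineOpen_top S) W.2 (isAffineOpen_top Z))
    have hP2 := isPushout_sections π gB q f hq hqtop hπ b hb W.1 (φ ⁻¹ᵁ (pullback.snd gB π ⁻¹ᵁ W.1))
      (by rw [← Scheme.Hom.comp_preimage, hφ2])
    have hl : (pullback.fst gB π).appLE ⊤ (pullback.snd gB π ⁻¹ᵁ W.1) (by simp) ≫
        φ.app (pullback.snd gB π ⁻¹ᵁ W.1) =
        q.appLE ⊤ (φ ⁻¹ᵁ (pullback.snd gB π ⁻¹ᵁ W.1)) (by simp) := by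
      rw [Scheme.Hom.app_eq_appLE, Scheme.Hom.appLE_comp_appLE]
      simp only [hφ1]
    have hr : (pullback.snd gB π).appLE W.1 (pullback.snd gB π ⁻¹ᵁ W.1) le_rfl ≫
        φ.app (pullback.snd gB π ⁻¹ᵁ W.1) =
        f.appLE W.1 (φ ⁻¹ᵁ (pullback.snd gB π ⁻¹ᵁ W.1))
          (by rw [← Scheme.Hom.comp_preimage, hφ2]) := by
      rw [Scheme.Hom.app_eq_appLE, Scheme.Hom.appLE_comp_appLE]
      simp only [hφ2]
    have hψ : φ.app (pullback.snd gB π ⁻¹ᵁ W.1) = (hP1.isoIsPushout _ _ hP2).hom := by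
      apply hP1.hom_ext
      · rw [IsPushout.inl_isoIsPushout_hom]
        exact hl
      · rw [IsPushout.inr_isoIsPushout_hom]
        exact hr
    rw [hψ]
    infer_instance

end Groth.Agent.Lib.Helper60.ConstFin
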