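import Groth.Agent.Lib.Helper60.Cf2
import Groth.Agent.Lib.Helper60.Cf3
import Groth.Agent.Lib.Helper60.Cf4

/-!
# Finite schemes over projective space with free direct image are constant
-/

set_option autoImplicit false
universe u
open CategoryTheory CategoryTheory.Limits AlgebraicGeometry TopologicalSpace Opposite

namespace Groth.Agent.Lib.Helper60.ConstFin

section general

variable {S P F : Scheme.{u}} [IsAffine S] (π : P ⟶ S) (s : S ⟶ P) (hs : s ≫ π = 𝟙 S)
  (f : F ⟶ P) [IsAffineHom f]

include hs in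
/-- general form: a scheme affine over `P` with a global frame is the base change of its fibre -/
theorem nonempty_over_iso_of_frame (hπ : Function.Bijective π.appTop.hom) {d : ℕ}
    (b : Fin d → Γ(F, ⊤))
    (hb : ∀ (W : P.Opens) (V : F.Opens) (hV : V = f ⁻¹ᵁ W),
      Function.Bijective (fun c : Fin d → Γ(P, W) =>
        ∑ i, (f.appLE W V hV.le).hom (c i) * F.presheaf.map (homOfLE le_top).op (b i))) :
    Nonempty (Over.mk f ≅ Over.mk (pullback.snd (pullback.snd f s) π)) := by
  let q : F ⟶ Spec Γ(F, ⊤) := F.toSpecΓ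
  let gB : Spec Γ(F, ⊤) ⟶ S := Spec.map (f ≫ π).appTop ≫ S.isoSpec.inv
  have hq : q ≫ gB = f ≫ π := by
    change F.toSpecΓ ≫ Spec.map (f ≫ π).appTop ≫ S.isoSpec.inv = f ≫ π
    rw [← Category.assoc, ← Scheme.toSpecΓ_naturality, Category.assoc]
    have : S.toSpecΓ ≫ S.isoSpec.inv = 𝟙 S := by
      rw [← Scheme.isoSpec_hom, Iso.hom_inv_id]
    rw [this, Category.comp_id]
  have hqtop : IsIso q.appTop := by
    change IsIso F.toSpecΓ.appTop
    rw [Scheme.toSpecΓ_appTop]
    infer_instance
  have hφ : IsIso (pullback.lift q f hq : F ⟶ pullback gB π) :=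
    isIso_lift π gB q f hq hqtop hπ b hb
  set φ := pullback.lift q f hq with hφdef
  have hφ1 : φ ≫ pullback.fst gB π = q := pullback.lift_fst _ _ _
  have hφ2 : φ ≫ pullback.snd gB π = f := pullback.lift_snd _ _ _
  -- the right square is a pullback
  have hR : IsPullback q f gB π :=
    IsPullback.of_iso_pullback ⟨hq⟩ (asIso φ) hφ1 hφ2
  have hL : IsPullback (pullback.fst f s) (pullback.snd f s) f s := IsPullback.of_hasPullback f s
  have hLR := hL.paste_horiz hR
  rw [hs] at hLR
  have hθ : IsIso (pullback.fst f s ≫ q) := hLR.isIso_fst_of_isIso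
  have hθw : (pullback.fst f s ≫ q) ≫ gB = pullback.snd f s := by
    rw [hLR.w, Category.comp_id]
  -- the comparison of the two base changes
  let χ : pullback (pullback.snd f s) π ⟶ pullback gB π :=
    pullback.map (pullback.snd f s) π gB π (pullback.fst f s ≫ q) (𝟙 P) (𝟙 S)
      (by rw [hθw, Category.comp_id]) (by simp)
  have hχ : IsIso χ := by
    dsimp only [χ]
    infer_instance
  have hχ2 : χ ≫ pullback.snd gB π = pullback.snd (pullback.snd f s) π := by
    dsimp only [χ]
    rw [pullback.lift_snd, Category.comp_id]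
  refine ⟨Over.isoMk (asIso φ ≪≫ (asIso χ).symm) ?_⟩
  change (φ ≫ inv χ) ≫ pullback.snd (pullback.snd f s) π = f
  rw [← hχ2, Category.assoc, IsIso.inv_hom_id_assoc, hφ2]

end general

theorem bijective_appTop (k : Type u) [Field k] (n : ℕ) :
    Function.Bijective (CohB1.ProjSpace.toSpec n k).appTop.hom := by
  have h := toGlobal_bijective k n
  have h2 : ((CohB1.ProjSpace.toSpec n k).appTop.hom : _ → _) =
      (ProjUP.toGlobal (CohB1.ProjSpace.toSpec n k)) ∘
        (Scheme.ΓSpecIso (CommRingCat.of k)).hom.hom := by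
    funext x
    change _ = (CohB1.ProjSpace.toSpec n k).appTop.hom
      ((Scheme.ΓSpecIso (CommRingCat.of k)).inv.hom
        ((Scheme.ΓSpecIso (CommRingCat.of k)).hom.hom x))
    congr 1
    exact (ConcreteCategory.congr_hom (Scheme.ΓSpecIso (CommRingCat.of k)).hom_inv_id x).symm
  rw [h2]
  exact h.comp (ConcreteCategory.bijective_of_isIso (Scheme.ΓSpecIso (CommRingCat.of k)).hom)

/-- a finite scheme over `P^n_k` whose structure sheaf has free direct image is constant -/
theorem nonempty_over_iso (k : Type u) [Field k] (n d : ℕ)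
    (s : Spec (CommRingCat.of k) ⟶ CohB1.ProjSpace n k) (hs : s ≫ CohB1.ProjSpace.toSpec n k = 𝟙 _)
    (F : Scheme.{u}) (f : F ⟶ CohB1.ProjSpace n k) [IsFinite f]
    (e : (Scheme.Modules.pushforward f).obj (SheafOfModules.unit F.ringCatSheaf) ≅
      ∐ fun _ : ULift.{u} (Fin d) => (SheafOfModules.unit (CohB1.ProjSpace n k).ringCatSheaf :
        (CohB1.ProjSpace n k).Modules)) :
    Nonempty (Over.mk f ≅ Over.mk (pullback.snd (pullback.snd f s) (CohB1.ProjSpace.toSpec n k))) := by
  obtain ⟨b, hb⟩ := exists_ring_frame f e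
  exact nonempty_over_iso_of_frame (CohB1.ProjSpace.toSpec n k) s hs f (bijective_appTop k n) b hb

end Groth.Agent.Lib.Helper60.ConstFin
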