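import Groth.Agent.Lib.Helper60.ProjUP12
import Groth.Agent.Lib.Helper5.ProjClosed

/-!
# Closed subschemes of projective space: fractions under `Proj.map`
-/

set_option autoImplicit false
universe u
open CategoryTheory CategoryTheory.Limits AlgebraicGeometry TopologicalSpace Opposite

namespace Groth.Agent.Lib.Helper60.ClosedProj

open Groth.Agent.Lib.Helper35.Gen Groth.Agent.Lib.Helper35.AbSheaf
open Groth.Agent.Lib.Helper60.ProjUPLib Groth.Agent.Lib.Helper60.TwistLib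
open Groth.Agent.Lib.Helper60.ProjFrac Groth.Agent.Lib.Helper60.TildeSec

section map

variable {A B σ τ : Type u} [CommRing A] [SetLike σ A] [AddSubgroupClass σ A]
  [CommRing B] [SetLike τ B] [AddSubgroupClass τ B]
  {𝒜 : ℕ → σ} {ℬ : ℕ → τ} [GradedRing 𝒜] [GradedRing ℬ]
  (φ : 𝒜 →+*ᵍ ℬ) (hφ : HomogeneousIdeal.irrelevant ℬ ≤ (HomogeneousIdeal.irrelevant 𝒜).map φ)

theorem map_notMem {b : A} {V : (Proj 𝒜).Opens} (hV : ∀ y ∈ V, b ∉ y.asHomogeneousIdeal) :
    ∀ y ∈ (Proj.map φ hφ) ⁻¹ᵁ V, φ b ∉ y.asHomogeneousIdeal := by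
  intro y hy hb
  exact hV _ hy hb

/-- the action of `Proj.map` on fractions -/
theorem map_app_fr {k : ℕ} (a b : A) (ha : a ∈ 𝒜 k) (hb : b ∈ 𝒜 k) (V : (Proj 𝒜).Opens)
    (hV : ∀ y ∈ V, b ∉ y.asHomogeneousIdeal) :
    ((Proj.map φ hφ).app V).hom (fr 𝒜 a b ha hb V hV) =
      fr ℬ (φ a) (φ b) (φ.2 ha) (φ.2 hb) ((Proj.map φ hφ) ⁻¹ᵁ V) (map_notMem φ hφ hV) := by
  apply oext
  intro y
  rw [oval_fr]
  rfl

end map

section zero

variable {B τ : Type u} [CommRing B] [SetLike τ B] [AddSubgroupClass τ B]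
  (ℬ : ℕ → τ) [GradedRing ℬ]

/-- a fraction with denominator a power of `g` vanishes on `D₊(g)` iff a power of `g` kills the
numerator -/
theorem fr_pow_eq_zero_iff (g : B) (hg : g ∈ ℬ 1) (k : ℕ) (a : B) (ha : a ∈ ℬ k)
    (hgk : g ^ k ∈ ℬ k) (hV : ∀ y ∈ Proj.basicOpen ℬ g, g ^ k ∉ y.asHomogeneousIdeal) :
    fr ℬ a (g ^ k) ha hgk (Proj.basicOpen ℬ g) hV = 0 ↔ ∃ N : ℕ, g ^ N * a = 0 := by
  constructor
  · intro h
    have ha' : a ∈ ℬ (k • 1) := by rwa [smul_eq_mul, mul_one]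
    let z : HomogeneousLocalization.Away ℬ g := HomogeneousLocalization.Away.mk ℬ hg k a ha'
    have h1 : (Proj.basicOpenIsoAway ℬ g hg one_pos).hom z =
        fr ℬ a (g ^ k) ha hgk (Proj.basicOpen ℬ g) hV := by
      rw [Proj.basicOpenIsoAway_hom]
      apply oext
      intro y
      rw [oval_fr]
      rfl
    have h2 : z = 0 := by
      have h3 : (Proj.basicOpenIsoAway ℬ g hg one_pos).hom z =
          (Proj.basicOpenIsoAway ℬ g hg one_pos).hom 0 := by
        rw [h1, h, map_zero]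
      have h4 := congrArg (Proj.basicOpenIsoAway ℬ g hg one_pos).inv h3
      rwa [← CommRingCat.comp_apply, ← CommRingCat.comp_apply, Iso.hom_inv_id] at h4
    have h5 : z.val = 0 := by rw [h2, HomogeneousLocalization.val_zero]
    rw [HomogeneousLocalization.Away.val_mk, Localization.mk_eq_mk', IsLocalization.mk'_eq_zero_iff]
      at h5
    obtain ⟨⟨m, N, rfl⟩, hm⟩ := h5
    exact ⟨N, hm⟩
  · rintro ⟨N, hN⟩
    have hgN : g ^ N ∈ ℬ N := by
      have := SetLike.pow_mem_graded N hg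
      rwa [smul_eq_mul, mul_one] at this
    rw [← fr_zero ℬ (g ^ N * g ^ k) (SetLike.GradedMul.mul_mem hgN hgk) (Proj.basicOpen ℬ g)
      (fun y hy h => (y.isPrime.mem_or_mem h).elim
        (fun h' => (Proj.mem_basicOpen ℬ g y).1 hy (y.isPrime.mem_of_pow_mem N h')) (hV y hy))]
    apply fr_eq_of_mul_eq
    rw [zero_mul, ← mul_assoc, mul_comm a, hN, zero_mul]

/-- every function on `D₊(g)`, `g` of degree one, is a fraction with denominator a power of `g` -/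
theorem exists_eq_fr_pow (g : B) (hg : g ∈ ℬ 1) (x : Γ(Proj ℬ, Proj.basicOpen ℬ g)) :
    ∃ (k : ℕ) (a : B) (ha : a ∈ ℬ k) (hgk : g ^ k ∈ ℬ k)
      (hV : ∀ y ∈ Proj.basicOpen ℬ g, g ^ k ∉ y.asHomogeneousIdeal),
      x = fr ℬ a (g ^ k) ha hgk (Proj.basicOpen ℬ g) hV := by
  obtain ⟨k, a, ha, hval⟩ := exists_eq_away ℬ one_pos hg x
  rw [mul_one] at ha
  have hgk : g ^ k ∈ ℬ k := by
    have := SetLike.pow_mem_graded k hg
    rwa [smul_eq_mul, mul_one] at this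
  refine ⟨k, a, ha, hgk, fun y hy h => (Proj.mem_basicOpen ℬ g y).1 hy
    (y.isPrime.mem_of_pow_mem k h), ?_⟩
  apply oext
  intro y
  exact hval y

end zero

end Groth.Agent.Lib.Helper60.ClosedProj
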