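import Groth.Agent.Lib.Helper60.Ci1
import Groth.Agent.Lib.Helper35.PbFam

/-!
# Closed subschemes of projective space: vanishing of pulled back forms
-/

set_option autoImplicit false
universe u
open CategoryTheory CategoryTheory.Limits AlgebraicGeometry TopologicalSpace Opposite

namespace Groth.Agent.Lib.Helper60.ClosedProj

open Groth.Agent.Lib.Helper35.Gen Groth.Agent.Lib.Helper35.AbSheaf
open Groth.Agent.Lib.Helper60.ProjUPLib Groth.Agent.Lib.Helper60.TwistLib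
open Groth.Agent.Lib.Helper60.ProjFrac Groth.Agent.Lib.Helper60.TildeSec
open Groth.Agent.Lib.Helper35.PbInv

variable {R A : Type u} [CommRing R] [CommRing A] [Algebra R A] (𝒜 : ℕ → Submodule R A)
  [GradedAlgebra 𝒜] {Z : Scheme.{u}} (i : Z ⟶ Proj 𝒜)

theorem pow_mem_deg {T : A} (hT : T ∈ 𝒜 1) (d : ℕ) : T ^ d ∈ 𝒜 d := by
  have := SetLike.pow_mem_graded d hT
  rwa [smul_eq_mul, mul_one] at this

theorem pow_notMem {T : A} (d : ℕ) :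
    ∀ y ∈ Proj.basicOpen 𝒜 T, T ^ d ∉ y.asHomogeneousIdeal :=
  fun y hy h => (Proj.mem_basicOpen 𝒜 T y).1 hy (y.isPrime.mem_of_pow_mem d h)

theorem basicOpen_le_pow (T : A) (d : ℕ) : Proj.basicOpen 𝒜 T ≤ Proj.basicOpen 𝒜 (T ^ d) := by
  intro y hy
  exact (Proj.mem_basicOpen 𝒜 (T ^ d) y).2 (pow_notMem 𝒜 d y hy)

/-- the restriction of the pulled back form to the preimage of a chart -/
theorem rs_pullSec_eq {T : A} (hT : T ∈ 𝒜 1) {d : ℕ} (F : A) (hF : F ∈ 𝒜 d) :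
    rs ((Scheme.Modules.pullback i).obj (Twist.twist 𝒜 (d : ℤ)))
        (le_top : i ⁻¹ᵁ Proj.basicOpen 𝒜 T ≤ ⊤)
        (ProjUP.pullSec i (Twist.twist 𝒜 (d : ℤ)) (gsec 𝒜 ⟨F, hF⟩)) =
      (i.app (Proj.basicOpen 𝒜 T)).hom
          (fr 𝒜 F (T ^ d) hF (pow_mem_deg 𝒜 hT d) (Proj.basicOpen 𝒜 T) (pow_notMem 𝒜 d)) •
        pbSec i (Twist.twist 𝒜 (d : ℤ)) (Proj.basicOpen 𝒜 T)
          (rs (Twist.twist 𝒜 (d : ℤ)) le_top (gsec 𝒜 ⟨T ^ d, pow_mem_deg 𝒜 hT d⟩)) := by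
  have h1 := rs_gsec_eq_fr_smul 𝒜 ⟨F, hF⟩ ⟨T ^ d, pow_mem_deg 𝒜 hT d⟩ (Proj.basicOpen 𝒜 T)
    (basicOpen_le_pow 𝒜 T d)
  have h2 := pbSec_rs i (Twist.twist 𝒜 (d : ℤ)) (le_top : Proj.basicOpen 𝒜 T ≤ ⊤)
    (gsec 𝒜 ⟨F, hF⟩)
  rw [h1, pbSec_smul] at h2
  exact h2

theorem isGen_pbSec_pow {T : A} (hT : T ∈ 𝒜 1) (d : ℕ) :
    IsGen ((Scheme.Modules.pullback i).obj (Twist.twist 𝒜 (d : ℤ))) (i ⁻¹ᵁ Proj.basicOpen 𝒜 T)
      (pbSec i (Twist.twist 𝒜 (d : ℤ)) (Proj.basicOpen 𝒜 T)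
        (rs (Twist.twist 𝒜 (d : ℤ)) le_top (gsec 𝒜 ⟨T ^ d, pow_mem_deg 𝒜 hT d⟩))) := by
  apply isGen_pbSec
  have h := isGen_gsec 𝒜 (⟨T ^ d, pow_mem_deg 𝒜 hT d⟩ : 𝒜 d)
  have h2 := h.mono (basicOpen_le_pow 𝒜 T d)
  rw [rs_rs] at h2
  exact h2

/-- if the pulled back form vanishes, so do its dehomogenisations -/
theorem app_fr_eq_zero_of_pullSec {T : A} (hT : T ∈ 𝒜 1) {d : ℕ} (F : A) (hF : F ∈ 𝒜 d)
    (h : ProjUP.pullSec i (Twist.twist 𝒜 (d : ℤ)) (gsec 𝒜 ⟨F, hF⟩) = 0) :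
    (i.app (Proj.basicOpen 𝒜 T)).hom
      (fr 𝒜 F (T ^ d) hF (pow_mem_deg 𝒜 hT d) (Proj.basicOpen 𝒜 T) (pow_notMem 𝒜 d)) = 0 := by
  have h1 := rs_pullSec_eq 𝒜 i hT F hF
  rw [h, map_zero] at h1
  apply (isGen_pbSec_pow 𝒜 i hT d).smul_injective
  rw [← h1, zero_smul]

/-- if all dehomogenisations of a form vanish on the subscheme, the pulled back form vanishes -/
theorem pullSec_eq_zero_of_app_fr {ι : Type u} (T : ι → A) (hT : ∀ l, T l ∈ 𝒜 1)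
    (hcov : ∀ y : Proj 𝒜, ∃ l, T l ∉ y.asHomogeneousIdeal) {d : ℕ} (F : A) (hF : F ∈ 𝒜 d)
    (h : ∀ l, (i.app (Proj.basicOpen 𝒜 (T l))).hom
      (fr 𝒜 F (T l ^ d) hF (pow_mem_deg 𝒜 (hT l) d) (Proj.basicOpen 𝒜 (T l))
        (pow_notMem 𝒜 d)) = 0) :
    ProjUP.pullSec i (Twist.twist 𝒜 (d : ℤ)) (gsec 𝒜 ⟨F, hF⟩) = 0 := by
  apply ext_cover ((Scheme.Modules.pullback i).obj (Twist.twist 𝒜 (d : ℤ))).presheaf
    ((Scheme.Modules.pullback i).obj (Twist.twist 𝒜 (d : ℤ))).isSheaf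
    (fun l => i ⁻¹ᵁ Proj.basicOpen 𝒜 (T l)) (fun l => le_top)
  · intro z _
    obtain ⟨l, hl⟩ := hcov (i z)
    exact Opens.mem_iSup.2 ⟨l, (Proj.mem_basicOpen 𝒜 (T l) (i z)).2 hl⟩
  · intro l
    have h1 := rs_pullSec_eq 𝒜 i (hT l) F hF
    rw [h l, zero_smul] at h1
    rw [map_zero]
    exact h1

end Groth.Agent.Lib.Helper60.ClosedProj
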