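import Groth.Agent.Lib.Helper60.Ci2

/-!
# Closed subschemes of projective space: clearing denominators on an affine morphism
-/

set_option autoImplicit false
universe u
open CategoryTheory CategoryTheory.Limits AlgebraicGeometry TopologicalSpace Opposite

namespace Groth.Agent.Lib.Helper60.ClosedProj

open Groth.Agent.Lib.Helper35.Gen Groth.Agent.Lib.Helper35.AbSheaf
open Groth.Agent.Lib.Helper60.ProjUPLib Groth.Agent.Lib.Helper60.TwistLib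
open Groth.Agent.Lib.Helper60.ProjFrac Groth.Agent.Lib.Helper60.TildeSec
open Groth.Agent.Lib.Helper35.PbInv

variable {R A : Type u} [CommRing R] [CommRing A] [Algebra R A] (𝒜 : ℕ → Submodule R A)
  [GradedAlgebra 𝒜] {Z : Scheme.{u}} (i : Z ⟶ Proj 𝒜)

theorem notMem_self (T : A) : ∀ y ∈ Proj.basicOpen 𝒜 T, T ∉ y.asHomogeneousIdeal :=
  fun y hy => (Proj.mem_basicOpen 𝒜 T y).1 hy

theorem exists_pow_single [IsAffineHom i] (Tl Tm : A) (hTl : Tl ∈ 𝒜 1) (hTm : Tm ∈ 𝒜 1) {d : ℕ}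
    (F : A) (hF : F ∈ 𝒜 d)
    (h : (i.app (Proj.basicOpen 𝒜 Tl)).hom
      (fr 𝒜 F (Tl ^ d) hF (pow_mem_deg 𝒜 hTl d) (Proj.basicOpen 𝒜 Tl) (pow_notMem 𝒜 d)) = 0) :
    ∃ N : ℕ, ((i.app (Proj.basicOpen 𝒜 Tm)).hom
        (fr 𝒜 Tl Tm hTl hTm (Proj.basicOpen 𝒜 Tm) (notMem_self 𝒜 Tm))) ^ N *
      (i.app (Proj.basicOpen 𝒜 Tm)).hom
        (fr 𝒜 F (Tm ^ d) hF (pow_mem_deg 𝒜 hTm d) (Proj.basicOpen 𝒜 Tm) (pow_notMem 𝒜 d)) = 0 := by
  set Um := Proj.basicOpen 𝒜 Tm with hUm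
  set Ul := Proj.basicOpen 𝒜 Tl with hUl
  set t0 := fr 𝒜 Tl Tm hTl hTm Um (notMem_self 𝒜 Tm) with ht0
  set g0 := fr 𝒜 F (Tm ^ d) hF (pow_mem_deg 𝒜 hTm d) Um (pow_notMem 𝒜 d) with hg0
  have haff : IsAffineOpen (i ⁻¹ᵁ Um) :=
    (Proj.isAffineOpen_basicOpen 𝒜 Tm hTm one_pos).preimage i
  let W : (Proj 𝒜).Opens := (Proj 𝒜).basicOpen t0
  have hWm : W ≤ Um := (Proj 𝒜).basicOpen_le t0
  have hWl : W ≤ Ul := by
    intro y hy
    have := (mem_basicOpen_fr 𝒜 Tl Tm hTl hTm Um (notMem_self 𝒜 Tm) y).1 hy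
    exact (Proj.mem_basicOpen 𝒜 Tl y).2 this.2
  have e : i ⁻¹ᵁ W = Z.basicOpen ((i.app Um).hom t0) := Scheme.preimage_basicOpen i t0
  have key : ∀ (V : Z.Opens) (hV : V ≤ i ⁻¹ᵁ Um), V = i ⁻¹ᵁ W →
      rr Z hV ((i.app Um).hom g0) = 0 := by
    intro V hV eV
    subst eV
    rw [← Groth.Agent.Lib.Helper35.PbInv.app_rr i hWm g0]
    have h1 : rr (Proj 𝒜) hWm g0 =
        rr (Proj 𝒜) hWl (fr 𝒜 F (Tl ^ d) hF (pow_mem_deg 𝒜 hTl d) Ul (pow_notMem 𝒜 d)) *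
          fr 𝒜 (Tl ^ d) (Tm ^ d) (pow_mem_deg 𝒜 hTl d) (pow_mem_deg 𝒜 hTm d) W
            (fun y hy => pow_notMem 𝒜 d y (hWm hy)) := by
      change fr 𝒜 F (Tm ^ d) hF (pow_mem_deg 𝒜 hTm d) W
          (fun y hy => pow_notMem 𝒜 d y (hWm hy)) =
        fr 𝒜 F (Tl ^ d) hF (pow_mem_deg 𝒜 hTl d) W
          (fun y hy => pow_notMem 𝒜 d y (hWl hy)) * _
      rw [fr_mul]
      apply fr_eq_of_mul_eq
      ring
    rw [h1, map_mul, Groth.Agent.Lib.Helper35.PbInv.app_rr i hWl, h, map_zero, zero_mul]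
  have H := key (Z.basicOpen ((i.app Um).hom t0)) (Z.basicOpen_le _) e.symm
  exact exists_pow_mul_eq_zero_of_res_basicOpen_eq_zero_of_isAffineOpen Z haff
    ((i.app Um).hom g0) ((i.app Um).hom t0) H

/-- clearing denominators: if a dehomogenisation of `F` vanishes on the subscheme, then all
dehomogenisations of some `T_l ^ N * F` do -/
theorem exists_pow_app_fr_eq_zero [IsAffineHom i] {ι : Type u} [Finite ι] (T : ι → A)
    (hT : ∀ l, T l ∈ 𝒜 1) (l : ι) {d : ℕ} (F : A) (hF : F ∈ 𝒜 d)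
    (h : (i.app (Proj.basicOpen 𝒜 (T l))).hom
      (fr 𝒜 F (T l ^ d) hF (pow_mem_deg 𝒜 (hT l) d) (Proj.basicOpen 𝒜 (T l))
        (pow_notMem 𝒜 d)) = 0) :
    ∃ N : ℕ, ∀ m, (i.app (Proj.basicOpen 𝒜 (T m))).hom
      (fr 𝒜 (T l ^ N * F) (T m ^ (N + d))
        (SetLike.GradedMul.mul_mem (pow_mem_deg 𝒜 (hT l) N) hF)
        (pow_mem_deg 𝒜 (hT m) (N + d)) (Proj.basicOpen 𝒜 (T m)) (pow_notMem 𝒜 (N + d))) = 0 := by
  classical
  have := Fintype.ofFinite ι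
  choose N hN using fun m => exists_pow_single 𝒜 i (T l) (T m) (hT l) (hT m) F hF h
  refine ⟨Finset.univ.sup N, fun m => ?_⟩
  have hle : N m ≤ Finset.univ.sup N := Finset.le_sup (Finset.mem_univ m)
  have h1 : fr 𝒜 (T l ^ Finset.univ.sup N * F) (T m ^ (Finset.univ.sup N + d))
      (SetLike.GradedMul.mul_mem (pow_mem_deg 𝒜 (hT l) _) hF)
      (pow_mem_deg 𝒜 (hT m) _) (Proj.basicOpen 𝒜 (T m)) (pow_notMem 𝒜 _) =
      fr 𝒜 (T l) (T m) (hT l) (hT m) (Proj.basicOpen 𝒜 (T m)) (notMem_self 𝒜 (T m)) ^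
          Finset.univ.sup N *
        fr 𝒜 F (T m ^ d) hF (pow_mem_deg 𝒜 (hT m) d) (Proj.basicOpen 𝒜 (T m))
          (pow_notMem 𝒜 d) := by
    rw [fr_pow, fr_mul]
    apply fr_eq_of_mul_eq
    ring
  rw [h1, map_mul, map_pow]
  obtain ⟨c, hc⟩ := Nat.exists_eq_add_of_le hle
  rw [hc, add_comm, pow_add, mul_assoc, hN m, mul_zero]

end Groth.Agent.Lib.Helper60.ClosedProj
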