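import Groth.Agent.Lib.Helper60.Ci3
import Groth.Agent.Lib.Helper93.ProjOverIso

/-!
# A closed subscheme of projective space is the `Proj` of the quotient by its ideal of forms
-/

set_option autoImplicit false
universe u
open CategoryTheory CategoryTheory.Limits AlgebraicGeometry TopologicalSpace Opposite

namespace Groth.Agent.Lib.Helper60.ClosedProj

open Groth.Agent.Lib.Helper35.Gen Groth.Agent.Lib.Helper35.AbSheaf
open Groth.Agent.Lib.Helper60.ProjUPLib Groth.Agent.Lib.Helper60.TwistLib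
open Groth.Agent.Lib.Helper60.ProjFrac Groth.Agent.Lib.Helper60.TildeSec
open Groth.Agent.Lib.Helper35.PbInv

variable {R : Type u} [CommRing R] (n : ℕ)

/-- the coordinates, indexed in the universe `u` -/
noncomputable def TT (l : ULift.{u} (Fin (n + 1))) : MvPolynomial (Fin (n + 1)) R :=
  MvPolynomial.X l.down

theorem hTT (l : ULift.{u} (Fin (n + 1))) : TT (R := R) n l ∈ CohB1.polyGrading n R 1 :=
  MvPolynomial.isHomogeneous_X R l.down

theorem hcovTT (y : Proj (CohB1.polyGrading n R)) :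
    ∃ l : ULift.{u} (Fin (n + 1)), TT (R := R) n l ∉ y.asHomogeneousIdeal := by
  by_contra hcon
  push Not at hcon
  apply y.not_irrelevant_le
  intro a ha
  have h1 := Groth.Agent.Lib.Helper93.ProjOverIso.irrelevant_le_span_X n R ha
  refine (Ideal.span_le.mpr ?_ : Ideal.span _ ≤ y.asHomogeneousIdeal.toIdeal) h1
  rintro _ ⟨j, -, rfl⟩
  exact hcon ⟨j⟩

/-- the standard affine charts -/
noncomputable def UU (l : ULift.{u} (Fin (n + 1))) : (Proj (CohB1.polyGrading n R)).affineOpens :=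
  ⟨Proj.basicOpen (CohB1.polyGrading n R) (TT n l),
    Proj.isAffineOpen_basicOpen (CohB1.polyGrading n R) (TT n l) (hTT n l) one_pos⟩

theorem iSup_UU : ⨆ l, (UU (R := R) n l).1 = ⊤ := by
  rw [eq_top_iff]
  intro y _
  obtain ⟨l, hl⟩ := hcovTT n y
  exact Opens.mem_iSup.2 ⟨l, (Proj.mem_basicOpen _ (TT n l) y).2 hl⟩

variable {n} {Z : Scheme.{u}} (i : Z ⟶ Proj (CohB1.polyGrading n R)) [IsClosedImmersion i]
  {B : Type u} [CommRing B] [Algebra R B] (ℬ : ℕ → Submodule R B) [GradedAlgebra ℬ]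
  (φ : CohB1.polyGrading n R →+*ᵍ ℬ)
  (hker : ∀ (d : ℕ) (F : MvPolynomial (Fin (n + 1)) R) (hF : F ∈ CohB1.polyGrading n R d),
    φ F = 0 ↔ ProjUP.pullSec i (Twist.twist (CohB1.polyGrading n R) (d : ℤ))
      (gsec (CohB1.polyGrading n R) ⟨F, hF⟩) = 0)
  (hφ : HomogeneousIdeal.irrelevant ℬ ≤ (HomogeneousIdeal.irrelevant (CohB1.polyGrading n R)).map φ)

include hker in
theorem ker_app_eq (l : ULift.{u} (Fin (n + 1))) :
    RingHom.ker (i.app (UU n l).1).hom = RingHom.ker ((Proj.map φ hφ).app (UU n l).1).hom := by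
  ext x
  obtain ⟨k, F, hF, hgk, hV, rfl⟩ := exists_eq_fr_pow (CohB1.polyGrading n R) (TT n l) (hTT n l) x
  rw [RingHom.mem_ker, RingHom.mem_ker]
  have hφT : φ (TT n l) ∈ ℬ 1 := φ.2 (hTT n l)
  -- the image under `Proj.map`
  have hj : ((Proj.map φ hφ).app (UU n l).1).hom
      (fr (CohB1.polyGrading n R) F (TT n l ^ k) hF hgk (Proj.basicOpen _ (TT n l)) hV) =
      fr ℬ (φ F) (φ (TT n l) ^ k) (φ.2 hF) (pow_mem_deg ℬ hφT k)
        (Proj.basicOpen ℬ (φ (TT n l))) (pow_notMem ℬ k) := by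
    refine (map_app_fr φ hφ F (TT n l ^ k) hF hgk (Proj.basicOpen _ (TT n l)) hV).trans ?_
    change fr ℬ (φ F) (φ (TT n l ^ k)) _ _ (Proj.basicOpen ℬ (φ (TT n l))) _ = _
    apply fr_eq_of_mul_eq
    rw [map_pow]
  constructor
  · intro h
    obtain ⟨N, hN⟩ := exists_pow_app_fr_eq_zero (CohB1.polyGrading n R) i (TT n) (hTT n) l F hF h
    have h1 := pullSec_eq_zero_of_app_fr (CohB1.polyGrading n R) i (TT n) (hTT n) (hcovTT n)
      (TT n l ^ N * F) (SetLike.GradedMul.mul_mem (pow_mem_deg _ (hTT n l) N) hF) hN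
    have h2 := (hker (N + k) (TT n l ^ N * F) _).2 h1
    rw [map_mul, map_pow] at h2
    rw [hj]
    exact (fr_pow_eq_zero_iff ℬ (φ (TT n l)) hφT k (φ F) (φ.2 hF) _ _).2 ⟨N, h2⟩
  · intro h
    rw [hj] at h
    obtain ⟨N, hN⟩ := (fr_pow_eq_zero_iff ℬ (φ (TT n l)) hφT k (φ F) (φ.2 hF) _ _).1 h
    have h2 : φ (TT n l ^ N * F) = 0 := by rw [map_mul, map_pow, hN]
    have h1 := (hker (N + k) (TT n l ^ N * F)
      (SetLike.GradedMul.mul_mem (pow_mem_deg _ (hTT n l) N) hF)).1 h2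
    have h3 := app_fr_eq_zero_of_pullSec (CohB1.polyGrading n R) i (hTT n l) (TT n l ^ N * F) _ h1
    have h4 : fr (CohB1.polyGrading n R) F (TT n l ^ k) hF hgk (Proj.basicOpen _ (TT n l)) hV =
        fr (CohB1.polyGrading n R) (TT n l ^ N * F) (TT n l ^ (N + k))
          (SetLike.GradedMul.mul_mem (pow_mem_deg _ (hTT n l) N) hF)
          (pow_mem_deg _ (hTT n l) (N + k)) (Proj.basicOpen _ (TT n l)) (pow_notMem _ (N + k)) := by
      apply fr_eq_of_mul_eq
      ring
    change (i.app (Proj.basicOpen _ (TT n l))).hom _ = 0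
    rw [h4]
    exact h3

include hker in
theorem ker_eq [IsClosedImmersion (Proj.map φ hφ)] : i.ker = (Proj.map φ hφ).ker := by
  apply Scheme.IdealSheafData.ext_of_iSup_eq_top (UU n) (iSup_UU n)
  intro l
  rw [Scheme.Hom.ker_apply, Scheme.Hom.ker_apply]
  exact ker_app_eq i ℬ φ hker hφ l

include hker in
/-- a closed subscheme of projective space is `Proj` of the quotient by its ideal of forms -/
theorem exists_iso_proj (hφs : Function.Surjective φ) :
    ∃ e : Z ≅ Proj ℬ, e.hom ≫ Proj.map φ hφ = i := by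
  have : IsClosedImmersion (Proj.map φ hφ) :=
    Groth.Agent.Lib.Helper5.isClosedImmersion_map φ hφs hφ
  have hk := ker_eq i ℬ φ hker hφ
  let f := IsClosedImmersion.lift (Proj.map φ hφ) i hk.ge
  have hf : f ≫ Proj.map φ hφ = i := IsClosedImmersion.lift_fac _ _ _
  have : IsIso f := IsClosedImmersion.isIso_of_ker_eq i (Proj.map φ hφ) f hf hk
  exact ⟨asIso f, hf⟩

end Groth.Agent.Lib.Helper60.ClosedProj
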