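import Groth.Agent.Lib.Helper60.Rg5

/-!
# Mumford's lemma on `0 → F(-1) → F → G → 0`: cohomological tools
-/

set_option autoImplicit false
universe u
open CategoryTheory CategoryTheory.Limits AlgebraicGeometry TopologicalSpace Opposite

namespace Groth.Agent.Lib.Helper60.Koszul

open Groth.Agent.Lib.Helper97.TwistExact Groth.Agent.Lib.Helper78.ModStalkExact Abelian

section Abstract

variable {C : Type*} [Category C] [Abelian C] [HasExt C]

lemma comp_extClass_comp_f {S : ShortComplex C} (hS : S.ShortExact) (P : C) (i : ℕ)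
    (x : Ext P S.X₃ i) :
    (x.comp hS.extClass rfl).comp (Ext.mk₀ S.f) (add_zero (i + 1)) = 0 := by
  rw [Ext.comp_assoc_of_third_deg_zero, hS.extClass_comp, Ext.comp_zero]

end Abstract

section General

variable (A : Type u) [CommRing A] {X : Scheme.{u}} [X.Over (Spec (CommRingCat.of A))]

/-- `H^p(X₁) → H^p(X₂)` is onto when `H^p(X₃) = 0` -/
theorem HHlin_f_surjective {S : ShortComplex X.Modules} (hS : S.ShortExact) (p : ℕ)
    (h3 : Subsingleton (Coh.HH X S.X₃ p)) : Function.Surjective (Canon.HHlin A S.f p) := by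
  have hT := shortExact_toSh S hS
  intro x₂
  have h : x₂.comp (Ext.mk₀ (S.map (toSh X)).g) (add_zero p) = 0 :=
    @Subsingleton.elim (Coh.HH X S.X₃ p) h3 _ _
  obtain ⟨x₁, hx₁⟩ := Ext.covariant_sequence_exact₂ _ hT x₂ h
  exact ⟨x₁, hx₁⟩

/-- `H^1(X₁) → H^1(X₂)` is injective when `Γ(X₂) → Γ(X₃)` is onto -/
theorem HHlin_f_injective_of_surjective {S : ShortComplex X.Modules} (hS : S.ShortExact)
    (hsurj : Function.Surjective (S.g.val.app (op ⊤)).hom) :
    Function.Injective (Canon.HHlin A S.f 1) := by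
  have hT := shortExact_toSh S hS
  have hTop : IsTerminal (⊤ : Opens X) := isTerminalTop
  rw [injective_iff_map_eq_zero]
  intro x₁ hx₁
  have h : x₁.comp (Ext.mk₀ (S.map (toSh X)).f) (add_zero 1) = 0 := hx₁
  obtain ⟨x₃, rfl⟩ := Ext.covariant_sequence_exact₁ _ hT x₁ h (rfl : 0 + 1 = 1)
  obtain ⟨y, hy⟩ := hsurj (Sheaf.H.equiv₀ (Coh.toAb S.X₃) hTop x₃)
  let x₂ : Coh.HH X S.X₂ 0 := (Sheaf.H.equiv₀ (Coh.toAb S.X₂) hTop).symm y
  have hx : Sheaf.H.map ((S.map (toSh X)).g) 0 x₂ = x₃ := by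
    have h1 := Sheaf.H.equiv₀_symm_naturality (hT := hTop) ((S.map (toSh X)).g) y
    refine h1.trans ?_
    apply (Sheaf.H.equiv₀ (Coh.toAb S.X₃) hTop).injective
    exact ((Sheaf.H.equiv₀ (Coh.toAb S.X₃) hTop).apply_symm_apply _).trans hy
  rw [← hx, Sheaf.H.map_apply]
  exact Groth.Agent.Lib.Helper93.CohFin.comp_g_comp_extClass hT _ 0 x₂

/-- `Γ(X₂) → Γ(X₃)` is onto when `H^1(X₁) → H^1(X₂)` is injective -/
theorem surjective_of_HHlin_f_injective {S : ShortComplex X.Modules} (hS : S.ShortExact)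
    (hinj : Function.Injective (Canon.HHlin A S.f 1)) :
    Function.Surjective (S.g.val.app (op ⊤)).hom := by
  have hT := shortExact_toSh S hS
  have hTop : IsTerminal (⊤ : Opens X) := isTerminalTop
  intro y
  let x₃ : Coh.HH X S.X₃ 0 := (Sheaf.H.equiv₀ (Coh.toAb S.X₃) hTop).symm y
  have h0 : Canon.HHlin A S.f 1 (x₃.comp hT.extClass (rfl : 0 + 1 = 1)) = 0 := by
    exact comp_extClass_comp_f hT _ 0 x₃
  have h1 : x₃.comp hT.extClass (rfl : 0 + 1 = 1) = 0 := hinj (h0.trans (map_zero _).symm)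
  obtain ⟨x₂, hx₂⟩ := Ext.covariant_sequence_exact₃ _ hT x₃ (rfl : 0 + 1 = 1) h1
  refine ⟨Sheaf.H.equiv₀ (Coh.toAb S.X₂) hTop x₂, ?_⟩
  have hn := Sheaf.H.equiv₀_naturality (hT := hTop) ((S.map (toSh X)).g) x₂
  refine hn.trans ?_
  have h2 : Sheaf.H.map ((S.map (toSh X)).g) 0 x₂ = x₃ := hx₂
  rw [h2]
  exact (Sheaf.H.equiv₀ (Coh.toAb S.X₃) hTop).apply_symm_apply y

/-- isomorphic modules have linearly equivalent cohomology -/
noncomputable def HHlinEquiv {M N : X.Modules} (e : M ≅ N) (p : ℕ) :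
    Coh.HH X M p ≃ₗ[A] Coh.HH X N p :=
  LinearEquiv.ofLinear (Canon.HHlin A e.hom p) (Canon.HHlin A e.inv p)
    (by
      ext x
      change Canon.HHlin A e.hom p (Canon.HHlin A e.inv p x) = x
      rw [← Groth.Agent.Lib.Helper93.CohFin.HHlin_comp, e.inv_hom_id,
        Groth.Agent.Lib.Helper93.CohFin.HHlin_id])
    (by
      ext x
      change Canon.HHlin A e.inv p (Canon.HHlin A e.hom p x) = x
      rw [← Groth.Agent.Lib.Helper93.CohFin.HHlin_comp, e.hom_inv_id,
        Groth.Agent.Lib.Helper93.CohFin.HHlin_id])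

theorem finrank_HH_eq_of_iso {M N : X.Modules} (e : M ≅ N) (p : ℕ) :
    Module.finrank A (Coh.HH X M p) = Module.finrank A (Coh.HH X N p) :=
  (HHlinEquiv A e p).finrank_eq

end General

end Groth.Agent.Lib.Helper60.Koszul
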