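import Groth.Agent.Lib.Helper60.Cm1
import Groth.Agent.S3224

/-!
# Mumford's lemma on `0 → F(-1) → F → G → 0`: parts (i) and (ii)
-/

set_option autoImplicit false
universe u
open CategoryTheory CategoryTheory.Limits AlgebraicGeometry TopologicalSpace Opposite

namespace Groth.Agent.Lib.Helper60.Koszul

open Groth.Agent.Lib.Helper97.TwistExact Groth.Agent.Lib.Helper78.ModStalkExact Abelian

section Pn

variable (k : Type u) [Field k] (n : ℕ)

theorem finite_HH (M : (CohB1.ProjSpace n k).Modules) (hM : Coh.IsCoh M) (p : ℕ) :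
    Module.Finite k (Coh.HH (CohB1.ProjSpace n k) M p) := by
  haveI : _root_.IsNoetherian k (Coh.HH (CohB1.ProjSpace n k) M p) :=
    Groth.Agent.Lib.Helper93.PnFin.isNoetherian_HH n k (n + 1) p (by omega) M hM
  infer_instance

theorem isCoh_twist' (M : (CohB1.ProjSpace n k).Modules) (hM : Coh.IsCoh M) (d : ℤ) :
    Coh.IsCoh (CohB1.tensorMod M (Twist.twistProjSpace n k d)) :=
  Groth.Agent.Lib.Lead.Inv.isCoh_tensorMod_right hM
    (Groth.Agent.Lib.Helper60.AutPn.isInvertible_twist k n d)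

/-- all the vanishing of an `m`-regular coherent module -/
theorem regular_vanishing (G : (CohB1.ProjSpace n k).Modules) (hG : Coh.IsCoh G) (m : ℤ)
    (h : Curv2.IsMRegular k n G m) (q : ℕ) (r : ℤ) (hq : 1 ≤ q) (hr : m - q ≤ r) :
    Subsingleton (Coh.HH (CohB1.ProjSpace n k)
      (CohB1.tensorMod G (Twist.twistProjSpace n k r)) q) := by
  refine Groth.Agent.S3224.result k n G hG m (fun i hi => ?_) q r hq hr
  by_cases hin : i ≤ n
  · exact h i hi hin
  · exact subsingleton_HH_twist_of_lt k n G hG.1 _ _ (by omega)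

variable (F : (CohB1.ProjSpace n k).Modules) (hF : Coh.IsCoh F)
  (ι : CohB1.tensorMod F (Twist.twistProjSpace n k (-1)) ⟶ F) [Mono ι]

/-- the basic sequence `0 → F(-1) → F → G → 0` -/
noncomputable def mumSeq : ShortComplex (CohB1.ProjSpace n k).Modules :=
  ShortComplex.mk ι (cokernel.π ι) (cokernel.condition ι)

theorem mumSeq_shortExact : (mumSeq k n F ι).ShortExact :=
  { exact := ShortComplex.exact_cokernel ι
    mono_f := inferInstanceAs (Mono ι)
    epi_g := inferInstanceAs (Epi (cokernel.π ι)) }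

/-- the sequence twisted by `O(j)` -/
theorem mumSeq_twist_shortExact (j : ℤ) :
    ((mumSeq k n F ι).map (twistF (Twist.twistProjSpace n k j))).ShortExact :=
  shortExact_twist _ (isFlat_twistProjSpace k n j) _ (mumSeq_shortExact k n F ι)

theorem nonempty_left_iso (j : ℤ) :
    Nonempty (((mumSeq k n F ι).map (twistF (Twist.twistProjSpace n k j))).X₁ ≅
      CohB1.tensorMod F (Twist.twistProjSpace n k (j - 1))) := by
  obtain ⟨e⟩ := nonempty_twist_twist_iso k n F (-1) j
  have h0 : -1 + j = j - 1 := by ring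
  rw [h0] at e
  exact ⟨e⟩

include hF in
theorem isCoh_cokernel_ι : Coh.IsCoh (cokernel ι) :=
  Groth.Agent.Lib.Helper21.Devissage.isCoh_cokernel ι (isCoh_twist' k n F hF (-1)) hF

include hF in
/-- one step of the descending induction for part (i) -/
theorem part_i_step (m : ℤ) (hG : Curv2.IsMRegular k n (cokernel ι) m) (p : ℕ) (hp : 1 ≤ p)
    (j : ℤ) (hj : m - (p + 1 : ℕ) ≤ j)
    (h2 : Subsingleton (Coh.HH (CohB1.ProjSpace n k)
      (CohB1.tensorMod F (Twist.twistProjSpace n k (j + 1))) (p + 1))) :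
    Subsingleton (Coh.HH (CohB1.ProjSpace n k)
      (CohB1.tensorMod F (Twist.twistProjSpace n k j)) (p + 1)) := by
  have hS := mumSeq_twist_shortExact k n F ι (j + 1)
  have h3 : Subsingleton (Coh.HH (CohB1.ProjSpace n k)
      (CohB1.tensorMod (cokernel ι) (Twist.twistProjSpace n k (j + 1))) p) :=
    regular_vanishing k n _ (isCoh_cokernel_ι k n F hF ι) m hG p (j + 1) hp (by push_cast at hj; omega)
  have h1 := subsingleton_HH_X₁ hS p h3 h2
  obtain ⟨e⟩ := nonempty_left_iso k n F ι (j + 1)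
  have h0 : j + 1 - 1 = j := by ring
  rw [h0] at e
  exact subsingleton_HH_of_iso' e (p + 1) h1

include hF in
/-- **part (i)** -/
theorem part_i (m : ℤ) (hG : Curv2.IsMRegular k n (cokernel ι) m) (i : ℕ) (j : ℤ) (hi : 2 ≤ i)
    (hj : m - i ≤ j) :
    Subsingleton (Coh.HH (CohB1.ProjSpace n k)
      (CohB1.tensorMod F (Twist.twistProjSpace n k j)) i) := by
  obtain ⟨d₀, hd₀⟩ := Groth.Agent.Lib.Helper93.SerreVan.serre_vanishing n k F hF
  obtain ⟨p, rfl⟩ : ∃ p : ℕ, i = p + 1 := ⟨i - 1, by omega⟩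
  have key : ∀ t : ℕ, ∀ j : ℤ, m - (p + 1 : ℕ) ≤ j → d₀ ≤ j + t →
      Subsingleton (Coh.HH (CohB1.ProjSpace n k)
        (CohB1.tensorMod F (Twist.twistProjSpace n k j)) (p + 1)) := by
    intro t
    induction t with
    | zero =>
      intro j _ hj2
      exact hd₀ j (by simpa using hj2) (p + 1) (by omega)
    | succ t ih =>
      intro j hj1 hj2
      refine part_i_step k n F hF ι m hG p (by omega) j hj1 (ih (j + 1) (by omega) ?_)
      push_cast at hj2
      omega
  obtain ⟨t, ht⟩ := Int.eq_ofNat_of_zero_le (by omega : 0 ≤ max (d₀ - j) 0)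
  exact key t j hj (by omega)

include hF in
/-- **part (ii)** -/
theorem part_ii (m : ℤ) (hG : Curv2.IsMRegular k n (cokernel ι) m) (j : ℤ) (hj : m - 1 ≤ j) :
    Module.finrank k (Coh.HH (CohB1.ProjSpace n k)
        (CohB1.tensorMod F (Twist.twistProjSpace n k j)) 1) ≤
      Module.finrank k (Coh.HH (CohB1.ProjSpace n k)
        (CohB1.tensorMod F (Twist.twistProjSpace n k (j - 1))) 1) := by
  have hS := mumSeq_twist_shortExact k n F ι j
  have h3 : Subsingleton (Coh.HH (CohB1.ProjSpace n k)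
      (CohB1.tensorMod (cokernel ι) (Twist.twistProjSpace n k j)) 1) :=
    regular_vanishing k n _ (isCoh_cokernel_ι k n F hF ι) m hG 1 j le_rfl (by push_cast; omega)
  have hsurj := HHlin_f_surjective k hS 1 h3
  obtain ⟨e⟩ := nonempty_left_iso k n F ι j
  haveI : Module.Finite k (Coh.HH (CohB1.ProjSpace n k)
      ((mumSeq k n F ι).map (twistF (Twist.twistProjSpace n k j))).X₁ 1) :=
    finite_HH k n _ (isCoh_twist' k n _ (isCoh_twist' k n F hF (-1)) j) 1
  have h1 := LinearMap.finrank_le_finrank_of_surjective hsurj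
  rw [finrank_HH_eq_of_iso k e 1] at h1
  exact h1

end Pn

end Groth.Agent.Lib.Helper60.Koszul
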