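import Groth.Agent.Lib.Helper60.Cm2

/-!
# Mumford's lemma on `0 → F(-1) → F → G → 0`: the iterated system
-/

set_option autoImplicit false
universe u
open CategoryTheory CategoryTheory.Limits AlgebraicGeometry TopologicalSpace Opposite

namespace Groth.Agent.Lib.Helper60.Koszul

open Groth.Agent.Lib.Helper97.TwistExact Groth.Agent.Lib.Helper78.ModStalkExact Abelian
  Groth.Agent.Lib.Helper35.Gen

section Pn

variable (k : Type u) [Field k] (n : ℕ)

/-- surjectivity on global sections propagates through a twist by `O(1)` when the quotient is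
`0`-regular -/
theorem gamma_surjective_twist_one {S : ShortComplex (CohB1.ProjSpace n k).Modules}
    (hreg : ∀ j : ℕ, 1 ≤ j → j ≤ n → Subsingleton (Coh.HH (CohB1.ProjSpace n k)
      (CohB1.tensorMod S.X₃ (Twist.twistProjSpace n k (-(j : ℤ)))) j))
    (hsurj : Function.Surjective (S.g.val.app (op ⊤)).hom) :
    Function.Surjective
      (((S.map (twistF (Twist.twistProjSpace n k 1))).g).val.app (op ⊤)).hom := by
  intro s
  have hs : s ∈ Dec S.X₃ (Twist.twistProjSpace n k 1) := allDecR_one k n S.X₃ hreg s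
  let φ : Γ(CohB1.tensorMod S.X₂ (Twist.twistProjSpace n k 1), ⊤) →+
      Γ(CohB1.tensorMod S.X₃ (Twist.twistProjSpace n k 1), ⊤) :=
    ((((tB (CohB1.ProjSpace n k)).map S.g).app (Twist.twistProjSpace n k 1)).app ⊤).hom
  have hle : Dec S.X₃ (Twist.twistProjSpace n k 1) ≤ φ.range := by
    unfold Dec
    rw [AddSubgroup.closure_le]
    rintro _ ⟨c, y, rfl⟩
    obtain ⟨b, rfl⟩ := hsurj c
    exact ⟨tm S.X₂ (Twist.twistProjSpace n k 1) b y,
      tB_map_left_tm S.g (Twist.twistProjSpace n k 1) ⊤ b y⟩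
  exact hle hs

theorem nonempty_iter_iso (M : (CohB1.ProjSpace n k).Modules) (a : ℤ)
    (Y : ℕ → (CohB1.ProjSpace n k).Modules)
    (h0 : Nonempty (Y 0 ≅ CohB1.tensorMod M (Twist.twistProjSpace n k a)))
    (hstep : ∀ t, Nonempty (Y (t + 1) ≅ CohB1.tensorMod (Y t) (Twist.twistProjSpace n k 1))) :
    ∀ t : ℕ, Nonempty (Y t ≅ CohB1.tensorMod M (Twist.twistProjSpace n k (a + t)))
  | 0 => by
    have e : a + ((0 : ℕ) : ℤ) = a := by simp
    rw [e]
    exact h0
  | t + 1 => by
    obtain ⟨e⟩ := nonempty_iter_iso M a Y h0 hstep t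
    obtain ⟨s⟩ := hstep t
    obtain ⟨tt⟩ := nonempty_twist_twist_iso k n M (a + t) 1
    have h1 : a + (t : ℤ) + 1 = a + ((t + 1 : ℕ) : ℤ) := by push_cast; ring
    rw [h1] at tt
    exact ⟨s ≪≫ (twistF (Twist.twistProjSpace n k 1)).mapIso e ≪≫ tt⟩

variable (F : (CohB1.ProjSpace n k).Modules) (hF : Coh.IsCoh F)
  (ι : CohB1.tensorMod F (Twist.twistProjSpace n k (-1)) ⟶ F) [Mono ι] (m : ℤ)

/-- the iterated twists of the basic sequence, starting from the twist by `O(m-1)` -/
noncomputable def mumIter : ℕ → ShortComplex (CohB1.ProjSpace n k).Modules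
  | 0 => (mumSeq k n F ι).map (twistF (Twist.twistProjSpace n k (m - 1)))
  | t + 1 => (mumIter t).map (twistF (Twist.twistProjSpace n k 1))

theorem mumIter_succ (t : ℕ) : mumIter k n F ι m (t + 1) =
    (mumIter k n F ι m t).map (twistF (Twist.twistProjSpace n k 1)) := rfl

theorem mumIter_shortExact : ∀ t, (mumIter k n F ι m t).ShortExact
  | 0 => mumSeq_twist_shortExact k n F ι (m - 1)
  | t + 1 => shortExact_twist _ (isFlat_twistProjSpace k n 1) _ (mumIter_shortExact t)

theorem nonempty_X₂_iso (t : ℕ) : Nonempty ((mumIter k n F ι m t).X₂ ≅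
    CohB1.tensorMod F (Twist.twistProjSpace n k (m - 1 + t))) :=
  nonempty_iter_iso k n F (m - 1) (fun t => (mumIter k n F ι m t).X₂) ⟨Iso.refl _⟩
    (fun _ => ⟨Iso.refl _⟩) t

theorem nonempty_X₃_iso (t : ℕ) : Nonempty ((mumIter k n F ι m t).X₃ ≅
    CohB1.tensorMod (cokernel ι) (Twist.twistProjSpace n k (m - 1 + t))) :=
  nonempty_iter_iso k n (cokernel ι) (m - 1) (fun t => (mumIter k n F ι m t).X₃) ⟨Iso.refl _⟩
    (fun _ => ⟨Iso.refl _⟩) t

theorem nonempty_X₁_iso (t : ℕ) : Nonempty ((mumIter k n F ι m t).X₁ ≅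
    CohB1.tensorMod F (Twist.twistProjSpace n k (m - 2 + t))) := by
  refine nonempty_iter_iso k n F (m - 2) (fun t => (mumIter k n F ι m t).X₁) ?_
    (fun _ => ⟨Iso.refl _⟩) t
  obtain ⟨e⟩ := nonempty_left_iso k n F ι (m - 1)
  have h0 : m - 1 - 1 = m - 2 := by ring
  rw [h0] at e
  exact ⟨e⟩

end Pn

end Groth.Agent.Lib.Helper60.Koszul
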