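import Groth.Agent.Lib.Helper60.Cm3

/-!
# Mumford's lemma on `0 → F(-1) → F → G → 0`: part (iii)
-/

set_option autoImplicit false
universe u
open CategoryTheory CategoryTheory.Limits AlgebraicGeometry TopologicalSpace Opposite

namespace Groth.Agent.Lib.Helper60.Koszul

open Groth.Agent.Lib.Helper97.TwistExact Groth.Agent.Lib.Helper78.ModStalkExact Abelian
  Groth.Agent.Lib.Helper35.Gen

section Pn

variable (k : Type u) [Field k] (n : ℕ)

variable (F : (CohB1.ProjSpace n k).Modules)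

/-- `h^1(F(j))` -/
noncomputable def h1dim (j : ℤ) : ℕ :=
  Module.finrank k (Coh.HH (CohB1.ProjSpace n k)
    (CohB1.tensorMod F (Twist.twistProjSpace n k j)) 1)

variable (hF : Coh.IsCoh F)
  (ι : CohB1.tensorMod F (Twist.twistProjSpace n k (-1)) ⟶ F) [Mono ι] (m : ℤ)

theorem fin₂ (t : ℕ) : Module.finrank k (Coh.HH (CohB1.ProjSpace n k)
    (mumIter k n F ι m t).X₂ 1) = h1dim k n F (m - 1 + t) := by
  obtain ⟨e⟩ := nonempty_X₂_iso k n F ι m t
  exact finrank_HH_eq_of_iso k e 1

theorem fin₁ (t : ℕ) : Module.finrank k (Coh.HH (CohB1.ProjSpace n k)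
    (mumIter k n F ι m t).X₁ 1) = h1dim k n F (m - 2 + t) := by
  obtain ⟨e⟩ := nonempty_X₁_iso k n F ι m t
  exact finrank_HH_eq_of_iso k e 1

include hF in
theorem finite₂ (t : ℕ) : Module.Finite k (Coh.HH (CohB1.ProjSpace n k)
    (mumIter k n F ι m t).X₂ 1) := by
  obtain ⟨e⟩ := nonempty_X₂_iso k n F ι m t
  haveI := finite_HH k n _ (isCoh_twist' k n F hF (m - 1 + t)) 1
  exact Module.Finite.equiv (HHlinEquiv k e 1).symm

include hF in
theorem finite₁ (t : ℕ) : Module.Finite k (Coh.HH (CohB1.ProjSpace n k)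
    (mumIter k n F ι m t).X₁ 1) := by
  obtain ⟨e⟩ := nonempty_X₁_iso k n F ι m t
  haveI := finite_HH k n _ (isCoh_twist' k n F hF (m - 2 + t)) 1
  exact Module.Finite.equiv (HHlinEquiv k e 1).symm

include hF in
theorem van₃ (hG : Curv2.IsMRegular k n (cokernel ι) m) (t : ℕ) :
    Subsingleton (Coh.HH (CohB1.ProjSpace n k) (mumIter k n F ι m t).X₃ 1) := by
  obtain ⟨e⟩ := nonempty_X₃_iso k n F ι m t
  refine subsingleton_HH_of_iso' e.symm 1 ?_
  exact regular_vanishing k n _ (isCoh_cokernel_ι k n F hF ι) m hG 1 _ le_rfl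
    (by push_cast; omega)

include hF in
theorem reg₃ (hG : Curv2.IsMRegular k n (cokernel ι) m) (t : ℕ) (ht : 1 ≤ t) (q : ℕ)
    (hq : 1 ≤ q) :
    Subsingleton (Coh.HH (CohB1.ProjSpace n k)
      (CohB1.tensorMod (mumIter k n F ι m t).X₃ (Twist.twistProjSpace n k (-(q : ℤ)))) q) := by
  obtain ⟨e⟩ := nonempty_X₃_iso k n F ι m t
  obtain ⟨e'⟩ := nonempty_twist_twist_iso k n (cokernel ι) (m - 1 + t) (-(q : ℤ))
  refine subsingleton_HH_of_iso'
    ((twistF (Twist.twistProjSpace n k (-(q : ℤ)))).mapIso e ≪≫ e').symm q ?_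
  exact regular_vanishing k n _ (isCoh_cokernel_ι k n F hF ι) m hG q _ hq
    (by push_cast; omega)

include hF in
theorem surj_f (hG : Curv2.IsMRegular k n (cokernel ι) m) (t : ℕ) :
    Function.Surjective (Canon.HHlin k (mumIter k n F ι m t).f 1) :=
  HHlin_f_surjective k (mumIter_shortExact k n F ι m t) 1 (van₃ k n F hF ι m hG t)

/-- the property: global sections of the middle term surject -/
def GSurj (t : ℕ) : Prop :=
  Function.Surjective ((mumIter k n F ι m t).g.val.app (op ⊤)).hom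

include hF in
theorem gsurj_succ (hG : Curv2.IsMRegular k n (cokernel ι) m) (t : ℕ) (ht : 1 ≤ t)
    (h : GSurj k n F ι m t) : GSurj k n F ι m (t + 1) :=
  gamma_surjective_twist_one k n (fun q hq _ => reg₃ k n F hF ι m hG t ht q hq) h

include hF in
theorem eq_of_gsurj (hG : Curv2.IsMRegular k n (cokernel ι) m) (t : ℕ)
    (h : GSurj k n F ι m t) : h1dim k n F (m - 1 + t) = h1dim k n F (m - 2 + t) := by
  have hinj := HHlin_f_injective_of_surjective k (mumIter_shortExact k n F ι m t) h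
  have hsurj := surj_f k n F hF ι m hG t
  have e := LinearEquiv.ofBijective (Canon.HHlin k (mumIter k n F ι m t).f 1) ⟨hinj, hsurj⟩
  rw [← fin₂ k n F ι m t, ← fin₁ k n F ι m t]
  exact e.finrank_eq.symm

include hF in
theorem gsurj_of_eq (hG : Curv2.IsMRegular k n (cokernel ι) m) (t : ℕ)
    (h : h1dim k n F (m - 1 + t) = h1dim k n F (m - 2 + t)) : GSurj k n F ι m t := by
  haveI := finite₁ k n F hF ι m t
  haveI := finite₂ k n F hF ι m t
  have hsurj := surj_f k n F hF ι m hG t
  have hdim : Module.finrank k (Coh.HH (CohB1.ProjSpace n k) (mumIter k n F ι m t).X₁ 1) =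
      Module.finrank k (Coh.HH (CohB1.ProjSpace n k) (mumIter k n F ι m t).X₂ 1) := by
    rw [fin₂ k n F ι m t, fin₁ k n F ι m t, h]
  have hinj := (LinearMap.injective_iff_surjective_of_finrank_eq_finrank hdim).2 hsurj
  exact surjective_of_HHlin_f_injective k (mumIter_shortExact k n F ι m t) hinj

end Pn

end Groth.Agent.Lib.Helper60.Koszul
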