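import Groth.Agent.Lib.Helper60.Cm4

/-!
# Mumford's lemma on `0 → F(-1) → F → G → 0`: the numerical argument
-/

set_option autoImplicit false
universe u
open CategoryTheory CategoryTheory.Limits AlgebraicGeometry TopologicalSpace Opposite

namespace Groth.Agent.Lib.Helper60.Koszul

open Groth.Agent.Lib.Helper97.TwistExact Groth.Agent.Lib.Helper78.ModStalkExact Abelian
  Groth.Agent.Lib.Helper35.Gen

section Pn

variable (k : Type u) [Field k] (n : ℕ)

variable (F : (CohB1.ProjSpace n k).Modules) (hF : Coh.IsCoh F)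
  (ι : CohB1.tensorMod F (Twist.twistProjSpace n k (-1)) ⟶ F) [Mono ι] (m : ℤ)
  (hG : Curv2.IsMRegular k n (cokernel ι) m)

include hF hG in
theorem h1dim_mono (t : ℕ) : h1dim k n F (m - 1 + t) ≤ h1dim k n F (m - 2 + t) := by
  have h := part_ii k n F hF ι m hG (m - 1 + t) (by omega)
  have e : m - 1 + (t : ℤ) - 1 = m - 2 + t := by ring
  rw [e] at h
  exact h

include hF in
omit [Mono ι] in
theorem h1dim_eventually_zero : ∃ d₀ : ℤ, ∀ j : ℤ, d₀ ≤ j → h1dim k n F j = 0 := by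
  obtain ⟨d₀, hd₀⟩ := Groth.Agent.Lib.Helper93.SerreVan.serre_vanishing n k F hF
  refine ⟨d₀, fun j hj => ?_⟩
  haveI := hd₀ j hj 1 (by omega)
  exact Module.finrank_zero_of_subsingleton

include hF hG in
theorem const_of_gsurj (t₀ : ℕ) (ht₀ : 1 ≤ t₀) (h : GSurj k n F ι m t₀) :
    ∀ s : ℕ, GSurj k n F ι m (t₀ + s) ∧
      h1dim k n F (m - 1 + ((t₀ + s : ℕ) : ℤ)) = h1dim k n F (m - 2 + t₀)
  | 0 => ⟨h, eq_of_gsurj k n F hF ι m hG t₀ h⟩
  | s + 1 => by
    obtain ⟨h1, h2⟩ := const_of_gsurj t₀ ht₀ h s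
    have h3 : GSurj k n F ι m (t₀ + s + 1) := gsurj_succ k n F hF ι m hG (t₀ + s) (by omega) h1
    refine ⟨h3, ?_⟩
    have h4 := eq_of_gsurj k n F hF ι m hG (t₀ + s + 1) h3
    have e : m - 2 + ((t₀ + s + 1 : ℕ) : ℤ) = m - 1 + ((t₀ + s : ℕ) : ℤ) := by push_cast; ring
    rw [e] at h4
    exact h4.trans h2

include hF hG in
theorem zero_of_gsurj (t₀ : ℕ) (ht₀ : 1 ≤ t₀) (h : GSurj k n F ι m t₀) :
    h1dim k n F (m - 2 + t₀) = 0 := by
  obtain ⟨d₀, hd₀⟩ := h1dim_eventually_zero k n F hF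
  obtain ⟨s, hs⟩ : ∃ s : ℕ, d₀ ≤ m - 1 + ((t₀ + s : ℕ) : ℤ) :=
    ⟨(d₀ - (m - 1 + t₀)).toNat, by push_cast; omega⟩
  have h1 := (const_of_gsurj k n F hF ι m hG t₀ ht₀ h s).2
  rw [← h1]
  exact hd₀ _ hs

include hF hG in
theorem dich (t : ℕ) (ht : 1 ≤ t) :
    h1dim k n F (m - 1 + t) < h1dim k n F (m - 2 + t) ∨ h1dim k n F (m - 2 + t) = 0 := by
  rcases (h1dim_mono k n F hF ι m hG t).lt_or_eq with h | h
  · exact Or.inl h
  · exact Or.inr (zero_of_gsurj k n F hF ι m hG t ht (gsurj_of_eq k n F hF ι m hG t h))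

include hF hG in
theorem h1dim_bound : ∀ t : ℕ,
    h1dim k n F (m - 1 + t) + t ≤ h1dim k n F (m - 1) ∨ h1dim k n F (m - 1 + t) = 0
  | 0 => Or.inl (by simp)
  | t + 1 => by
    have e : m - 2 + ((t + 1 : ℕ) : ℤ) = m - 1 + (t : ℤ) := by push_cast; ring
    have hm := h1dim_mono k n F hF ι m hG (t + 1)
    rw [e] at hm
    have hd := dich k n F hF ι m hG (t + 1) (by omega)
    rw [e] at hd
    rcases h1dim_bound t with h1 | h1
    · rcases hd with h2 | h2
      · left; omega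
      · right; omega
    · right; omega

include hF hG in
/-- **part (iii)** -/
theorem part_iii (j : ℤ) (hj : m - 1 + (h1dim k n F (m - 1) : ℤ) ≤ j) :
    Subsingleton (Coh.HH (CohB1.ProjSpace n k)
      (CohB1.tensorMod F (Twist.twistProjSpace n k j)) 1) := by
  obtain ⟨t, ht⟩ := Int.eq_ofNat_of_zero_le (by omega : 0 ≤ j - (m - 1))
  have ej : j = m - 1 + t := by omega
  subst ej
  have h0 : h1dim k n F (m - 1 + t) = 0 := by
    rcases h1dim_bound k n F hF ι m hG t with h | h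
    · omega
    · exact h
  haveI := finite_HH k n _ (isCoh_twist' k n F hF (m - 1 + t)) 1
  exact (Module.finrank_eq_zero_iff_of_free k _).1 h0

end Pn

end Groth.Agent.Lib.Helper60.Koszul
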