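import Groth.Agent.Lib.Helper60.PCone1
import Groth.Agent.Lib.Helper60.ProjUP5
import Groth.Agent.Lib.Helper40.AffBC1

/-!
# Frames (local bases) of sheaves of modules; sections of finite coproducts
-/

set_option autoImplicit false
universe u
open CategoryTheory CategoryTheory.Limits AlgebraicGeometry TopologicalSpace Opposite

namespace Groth.Agent.Lib.Helper60.FrameLib

open Groth.Agent.Lib.Helper35.Gen Groth.Agent.Lib.Helper35.AbSheaf Scheme.Modules
open Groth.Agent.Lib.Helper60.ProjUPLib

variable {X : Scheme.{u}}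

section Sum

variable {M N : X.Modules}

theorem sum_app {ι : Type*} (s : Finset ι) (φ : ι → (M ⟶ N)) (U : X.Opens) (x : Γ(M, U)) :
    ((∑ i ∈ s, φ i).app U).hom x = ∑ i ∈ s, ((φ i).app U).hom x := by
  classical
  induction s using Finset.induction_on with
  | empty => simp
  | insert a s ha ih =>
    rw [Finset.sum_insert ha, Finset.sum_insert ha, Scheme.Modules.Hom.add_app]
    change ((φ a).app U).hom x + ((∑ i ∈ s, φ i).app U).hom x = _
    rw [ih]

end Sum

section Coprod

variable {r : ℕ} (F : Fin r → X.Modules)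

/-- the projections of a finite coproduct -/
noncomputable def prj (i : Fin r) : (∐ F) ⟶ F i :=
  Sigma.desc (fun j => if h : j = i then eqToHom (by rw [h]) else 0)

theorem ι_prj_self (i : Fin r) : Sigma.ι F i ≫ prj F i = 𝟙 _ := by
  unfold prj
  rw [Sigma.ι_desc, dif_pos rfl]
  rfl

theorem ι_prj_ne (i j : Fin r) (h : j ≠ i) : Sigma.ι F j ≫ prj F i = 0 := by
  unfold prj
  rw [Sigma.ι_desc, dif_neg h]

theorem sum_prj_ι : ∑ i, prj F i ≫ Sigma.ι F i = 𝟙 (∐ F) := by
  apply Sigma.hom_ext
  intro j
  rw [Preadditive.comp_sum, Category.comp_id]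
  rw [Finset.sum_eq_single j]
  · rw [← Category.assoc, ι_prj_self, Category.id_comp]
  · intro i _ hij
    rw [← Category.assoc, ι_prj_ne F i j (Ne.symm hij), zero_comp]
  · intro h
    exact absurd (Finset.mem_univ j) h

theorem section_eq_sum (U : X.Opens) (s : Γ(∐ F, U)) :
    s = ∑ i, ((Sigma.ι F i).app U).hom (((prj F i).app U).hom s) := by
  have h1 : ((∑ i, prj F i ≫ Sigma.ι F i).app U).hom s = s :=
    congrArg (fun φ => (φ.app U).hom s) (sum_prj_ι F)
  rw [sum_app] at h1
  exact h1.symm

theorem prj_ι_app_self (i : Fin r) (U : X.Opens) (x : Γ(F i, U)) :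
    ((prj F i).app U).hom (((Sigma.ι F i).app U).hom x) = x := by
  have h1 := congrArg (fun φ => (φ.app U).hom x) (ι_prj_self F i)
  exact h1

theorem prj_ι_app_ne (i j : Fin r) (h : j ≠ i) (U : X.Opens) (x : Γ(F j, U)) :
    ((prj F i).app U).hom (((Sigma.ι F j).app U).hom x) = 0 := by
  have h1 := congrArg (fun φ => (φ.app U).hom x) (ι_prj_ne F i j h)
  exact h1

end Coprod

end Groth.Agent.Lib.Helper60.FrameLib
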