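import Groth.Agent.Lib.Helper60.Fr1
import Groth.Agent.Lib.Helper35.Triv

/-!
# Frames (local bases) of sheaves of modules
-/

set_option autoImplicit false
universe u
open CategoryTheory CategoryTheory.Limits AlgebraicGeometry TopologicalSpace Opposite

namespace Groth.Agent.Lib.Helper60.FrameLib

open Groth.Agent.Lib.Helper35.Gen Groth.Agent.Lib.Helper35.AbSheaf Scheme.Modules
open Groth.Agent.Lib.Helper60.ProjUPLib

variable {X : Scheme.{u}} {r : ℕ}

/-- `e` is a basis of the sections of `E` over every open `W ≤ U` -/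
def IsFrame (E : X.Modules) (U : X.Opens) (e : Fin r → Γ(E, U)) : Prop :=
  ∀ (W : X.Opens) (hW : W ≤ U),
    Function.Bijective (fun c : Fin r → Γ(X, W) => ∑ i, c i • rs E hW (e i))

variable {E E' : X.Modules} {U : X.Opens} {e : Fin r → Γ(E, U)}

theorem IsFrame.mono (he : IsFrame E U e) {V : X.Opens} (h : V ≤ U) :
    IsFrame E V (fun i => rs E h (e i)) := by
  intro W hW
  have := he W (hW.trans h)
  simp_rw [rs_rs]
  exact this

theorem IsFrame.bij (he : IsFrame E U e) :
    Function.Bijective (fun c : Fin r → Γ(X, U) => ∑ i, c i • e i) := by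
  have := he U le_rfl
  simp_rw [rs_self] at this
  exact this

theorem rs_sum (E : X.Modules) {U V : X.Opens} (h : V ≤ U) {ι : Type*} (s : Finset ι)
    (f : ι → Γ(E, U)) : rs E h (∑ i ∈ s, f i) = ∑ i ∈ s, rs E h (f i) :=
  map_sum (rs E h) f s

theorem IsFrame.map_iso (τ : E ≅ E') (he : IsFrame E U e) :
    IsFrame E' U (fun i => (τ.hom.app U).hom (e i)) := by
  intro W hW
  have hb : Function.Bijective (τ.hom.app W).hom := by
    have : IsIso (τ.hom.app W) := by
      change IsIso ((Scheme.Modules.toPresheaf X ⋙ (evaluation _ _).obj (op W)).map τ.hom)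
      infer_instance
    exact ConcreteCategory.bijective_of_isIso (τ.hom.app W)
  have key : (fun c : Fin r → Γ(X, W) => ∑ i, c i • rs E' hW ((τ.hom.app U).hom (e i))) =
      (τ.hom.app W).hom ∘ (fun c : Fin r → Γ(X, W) => ∑ i, c i • rs E hW (e i)) := by
    funext c
    change _ = (τ.hom.app W).hom (∑ i, c i • rs E hW (e i))
    rw [map_sum]
    apply Finset.sum_congr rfl
    intro i _
    rw [Scheme.Modules.Hom.app_smul, hom_rs]
  rw [key]
  exact hb.comp (he W hW)

/-- frames of finite coproducts of modules with generators -/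
theorem isFrame_sigma (F : Fin r → X.Modules) (U : X.Opens) (g : ∀ i, Γ(F i, U))
    (hg : ∀ i, IsGen (F i) U (g i)) :
    IsFrame (∐ F) U (fun i => ((Sigma.ι F i).app U).hom (g i)) := by
  intro W hW
  have hres : ∀ i, rs (∐ F) hW (((Sigma.ι F i).app U).hom (g i)) =
      ((Sigma.ι F i).app W).hom (rs (F i) hW (g i)) := fun i => (hom_rs _ hW _).symm
  have hprj : ∀ (c : Fin r → Γ(X, W)) (j : Fin r),
      ((prj F j).app W).hom (∑ i, c i • rs (∐ F) hW (((Sigma.ι F i).app U).hom (g i))) =
        c j • rs (F j) hW (g j) := by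
    intro c j
    rw [map_sum, Finset.sum_eq_single j]
    · rw [Scheme.Modules.Hom.app_smul, hres, prj_ι_app_self]
    · intro i _ hij
      rw [Scheme.Modules.Hom.app_smul, hres, prj_ι_app_ne F j i hij, smul_zero]
    · intro h
      exact absurd (Finset.mem_univ j) h
  constructor
  · intro c c' hcc
    funext j
    have h1 := congrArg ((prj F j).app W).hom hcc
    simp only at h1
    rw [hprj, hprj] at h1
    exact ((hg j).mono hW).smul_injective h1
  · intro s
    have hc : ∀ i, ∃ ci : Γ(X, W), ((prj F i).app W).hom s = ci • rs (F i) hW (g i) :=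
      fun i => ((hg i).mono hW).exists_eq_smul _
    choose c hc using hc
    refine ⟨c, ?_⟩
    simp only
    rw [section_eq_sum F W s]
    apply Finset.sum_congr rfl
    intro i _
    rw [hres, hc, Scheme.Modules.Hom.app_smul]

/-- a morphism mapping local frames to local frames is an isomorphism -/
theorem isIso_of_frame_map {A B : X.Modules} (φ : A ⟶ B)
    (h : ∀ x : X, ∃ U : X.Opens, x ∈ U ∧ ∃ e : Fin r → Γ(A, U), IsFrame A U e ∧
      IsFrame B U (fun i => (φ.app U).hom (e i))) : IsIso φ := by
  apply Groth.Agent.Lib.Helper40.AffBC.isIso_of_app_bijective_of_basis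
    {W | ∃ (U : X.Opens) (e : Fin r → Γ(A, U)), W ≤ U ∧ IsFrame A U e ∧
      IsFrame B U (fun i => (φ.app U).hom (e i))}
  · rw [Opens.isBasis_iff_nbhd]
    intro V x hxV
    obtain ⟨U, hxU, e, he, he'⟩ := h x
    exact ⟨V ⊓ U, ⟨U, e, inf_le_right, he, he'⟩, ⟨hxV, hxU⟩, inf_le_left⟩
  · rintro W ⟨U, e, hWU, he, he'⟩
    have h1 := he W hWU
    have h2 := he' W hWU
    have key : (fun c : Fin r → Γ(X, W) => ∑ i, c i • rs B hWU ((φ.app U).hom (e i))) =
        (φ.app W).hom ∘ (fun c : Fin r → Γ(X, W) => ∑ i, c i • rs A hWU (e i)) := by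
      funext c
      change _ = (φ.app W).hom (∑ i, c i • rs A hWU (e i))
      rw [map_sum]
      apply Finset.sum_congr rfl
      intro i _
      rw [Scheme.Modules.Hom.app_smul, hom_rs]
    rw [key] at h2
    exact (Function.Bijective.of_comp_iff _ h1).mp h2

end Groth.Agent.Lib.Helper60.FrameLib
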