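import Groth.Agent.Lib.Helper60.Fr2

/-!
# Frames: change of frame, restriction along open immersions
-/

set_option autoImplicit false
universe u
open CategoryTheory CategoryTheory.Limits AlgebraicGeometry TopologicalSpace Opposite

namespace Groth.Agent.Lib.Helper60.FrameLib

open Groth.Agent.Lib.Helper35.Gen Groth.Agent.Lib.Helper35.AbSheaf Scheme.Modules
open Groth.Agent.Lib.Helper60.ProjUPLib

variable {X : Scheme.{u}} {r : ℕ}
variable {E : X.Modules} {U : X.Opens} {e e' : Fin r → Γ(E, U)}

/-- two frames differ by an invertible matrix -/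
theorem exists_matrix (he : IsFrame E U e) (he' : IsFrame E U e') :
    ∃ a : Matrix (Fin r) (Fin r) Γ(X, U), IsUnit a.det ∧ ∀ j, e' j = ∑ i, a i j • e i := by
  have h1 : ∀ j, ∃ c : Fin r → Γ(X, U), ∑ i, c i • e i = e' j := fun j => he.bij.2 (e' j)
  have h2 : ∀ j, ∃ c : Fin r → Γ(X, U), ∑ i, c i • e' i = e j := fun j => he'.bij.2 (e j)
  choose a ha using h1
  choose b hb using h2
  let A : Matrix (Fin r) (Fin r) Γ(X, U) := Matrix.of fun i j => a j i
  let Bm : Matrix (Fin r) (Fin r) Γ(X, U) := Matrix.of fun i j => b j i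
  have hAB : A * Bm = 1 := by
    ext l j
    have h3 : ∑ l, (A * Bm) l j • e l = ∑ l, (1 : Matrix (Fin r) (Fin r) Γ(X, U)) l j • e l := by
      have e1 : ∑ l, (1 : Matrix (Fin r) (Fin r) Γ(X, U)) l j • e l = e j := by
        rw [Finset.sum_eq_single j]
        · rw [Matrix.one_apply_eq, one_smul]
        · intro i _ hij
          rw [Matrix.one_apply_ne hij, zero_smul]
        · intro h; exact absurd (Finset.mem_univ j) h
      rw [e1, ← hb j]
      simp_rw [← ha, Finset.smul_sum, ← mul_smul]
      rw [Finset.sum_comm]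
      apply Finset.sum_congr rfl
      intro l _
      rw [← Finset.sum_smul]
      congr 1
      rw [Matrix.mul_apply]
      apply Finset.sum_congr rfl
      intro i _
      simp only [A, Bm, Matrix.of_apply]
      ring
    have h4 := he.bij.1 h3
    exact congrFun h4 l
  refine ⟨A, ?_, fun j => (ha j).symm⟩
  have := congrArg Matrix.det hAB
  rw [Matrix.det_mul, Matrix.det_one] at this
  exact IsUnit.of_mul_eq_one _ this

/-- change of frame by an invertible matrix -/
theorem IsFrame.mul (he : IsFrame E U e) (a : Matrix (Fin r) (Fin r) Γ(X, U))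
    (ha : IsUnit a.det) : IsFrame E U (fun j => ∑ i, a i j • e i) := by
  intro W hW
  let aW : Matrix (Fin r) (Fin r) Γ(X, W) := a.map (rr X hW)
  have haW : IsUnit aW.det := by
    have : aW.det = rr X hW a.det := (RingHom.map_det (rr X hW) a).symm
    rw [this]
    exact ha.map _
  have key : (fun c : Fin r → Γ(X, W) => ∑ j, c j • rs E hW (∑ i, a i j • e i)) =
      (fun c : Fin r → Γ(X, W) => ∑ i, c i • rs E hW (e i)) ∘ (fun c => aW.mulVec c) := by
    funext c
    simp only [Function.comp_apply]
    simp_rw [rs_sum, rs_smul, Finset.smul_sum, ← mul_smul]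
    rw [Finset.sum_comm]
    apply Finset.sum_congr rfl
    intro i _
    rw [← Finset.sum_smul]
    congr 1
    simp only [Matrix.mulVec, dotProduct, aW, Matrix.map_apply]
    apply Finset.sum_congr rfl
    intro j _
    ring
  rw [key]
  refine (he W hW).comp ⟨?_, ?_⟩
  · intro c c' hcc
    have h1 := congrArg (fun v => (aW⁻¹).mulVec v) hcc
    simp only [Matrix.mulVec_mulVec] at h1
    rw [Matrix.nonsing_inv_mul _ haW, Matrix.one_mulVec, Matrix.one_mulVec] at h1
    exact h1
  · intro v
    refine ⟨(aW⁻¹).mulVec v, ?_⟩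
    simp only [Matrix.mulVec_mulVec]
    rw [Matrix.mul_nonsing_inv _ haW, Matrix.one_mulVec]

theorem isFrame_of_eq {U V : X.Opens} (h : U = V) {e : Fin r → Γ(E, U)} (he : IsFrame E U e) :
    IsFrame E V (fun i => rs E h.ge (e i)) := by
  subst h
  simp_rw [rs_self]
  exact he

theorem bij_sum_congr (L : X.Modules) {A B : X.Opens} (h : A = B) (x : Fin r → Γ(L, A)) :
    Function.Bijective (fun c : Fin r → Γ(X, A) => ∑ i, c i • x i) ↔
      Function.Bijective (fun c : Fin r → Γ(X, B) => ∑ i, c i • rs L h.ge (x i)) := by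
  subst h
  simp_rw [rs_self]

/-- a frame of the restriction of `L` along an open immersion is a frame of `L` -/
theorem isFrame_of_restrict {Y : Scheme.{u}} (L : X.Modules) (f : Y ⟶ X) [IsOpenImmersion f]
    (G : Y.Opens) (e : Fin r → Γ(L.restrict f, G)) (he : IsFrame (L.restrict f) G e) :
    IsFrame L (f ''ᵁ G) (fun i => (show Γ(L, f ''ᵁ G) from e i)) := by
  intro W hW
  let W' : Y.Opens := f ⁻¹ᵁ W
  have hW'G : W' ≤ G := by
    intro y hy
    obtain ⟨z, hz, hzy⟩ := hW hy
    have : z = y := f.isOpenEmbedding.injective hzy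
    exact this ▸ hz
  have hW' : f ''ᵁ W' = W := by
    rw [Scheme.Hom.image_preimage_eq_opensRange_inf]
    exact inf_eq_right.mpr (hW.trans (Scheme.Hom.image_le_opensRange f G))
  have hle : f ''ᵁ W' ≤ f ''ᵁ G := Scheme.Hom.image_mono f hW'G
  let x : Fin r → Γ(L, f ''ᵁ W') := fun i => rs L hle (show Γ(L, f ''ᵁ G) from e i)
  have hx : ∀ i, rs L hW'.ge (x i) = rs L hW (show Γ(L, f ''ᵁ G) from e i) := by
    intro i
    rw [rs_rs]
  simp_rw [← hx]
  rw [← bij_sum_congr L hW' x]
  have h1 := he W' hW'G
  have hb2 : Function.Bijective (fun c : Fin r → Γ(X, f ''ᵁ W') =>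
      (fun i => (f.appIso W').hom (c i) : Fin r → Γ(Y, W'))) := by
    have hb : Function.Bijective (f.appIso W').hom :=
      ConcreteCategory.bijective_of_isIso (f.appIso W').hom
    constructor
    · intro c c' h
      funext i
      exact hb.1 (congrFun h i)
    · intro c
      choose c' hc' using fun i => hb.2 (c i)
      exact ⟨c', funext hc'⟩
  have key : (fun c : Fin r → Γ(X, f ''ᵁ W') => ∑ i, c i • x i) =
      (fun c' : Fin r → Γ(Y, W') => ∑ i, c' i • rs (L.restrict f) hW'G (e i)) ∘
        (fun c : Fin r → Γ(X, f ''ᵁ W') =>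
          (fun i => (f.appIso W').hom (c i) : Fin r → Γ(Y, W'))) := by
    funext c
    simp only [Function.comp_apply]
    apply Finset.sum_congr rfl
    intro i _
    change c i • x i = ((f.appIso W').hom (c i)) • rs (L.restrict f) hW'G (e i)
    have h4 : ((f.appIso W').hom (c i)) • rs (L.restrict f) hW'G (e i) =
        ((f.appIso W').inv ((f.appIso W').hom (c i)) • x i : Γ(L, f ''ᵁ W')) := rfl
    rw [h4]
    congr 1
    exact (congrArg (fun g => g.hom (c i)) (f.appIso W').hom_inv_id).symm
  rw [key]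
  exact h1.comp hb2

end Groth.Agent.Lib.Helper60.FrameLib
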