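import Groth.Agent.Lib.Helper60.Gg4
import Groth.Agent.Lib.Lead.Tw5

/-!
# Castelnuovo–Mumford: surjectivity of the multiplication maps `Γ(G) ⊗ Γ(O(e)) → Γ(G ⊗ O(e))`
-/

set_option autoImplicit false
universe u
open CategoryTheory CategoryTheory.Limits AlgebraicGeometry TopologicalSpace Opposite MonoidalCategory
  TensorProduct

namespace Groth.Agent.Lib.Helper60.Koszul

open Groth.Agent.Lib.Helper97.TwistExact Groth.Agent.Lib.Helper35.Gen
  Groth.Agent.Lib.Helper35.AbSheaf Abelian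

section General

variable {X : Scheme.{u}}

theorem tm_eq_tmul (M N : X.Modules) {U : X.Opens} (m : Γ(M, U)) (n : Γ(N, U)) :
    tm M N m n = Groth.Agent.Lib.Lead.Inv.tmul M N m n := rfl

theorem assocIso_tm {A B C : X.Modules} (h : Groth.Agent.Lib.Lead.Inv.AssocOK A B C)
    {W : X.Opens} (a : Γ(A, W)) (b : Γ(B, W)) (c : Γ(C, W)) :
    ((Groth.Agent.Lib.Lead.Inv.assocIso h).hom.app W).hom
        (tm (CohB1.tensorMod A B) C (tm A B a b) c) =
      tm A (CohB1.tensorMod B C) a (tm B C b c) :=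
  Groth.Agent.Lib.Lead.Inv.assocIso_hom_tmul h a b c

/-- right-handed version: all global sections of `G ⊗ L` are decomposable -/
def AllDecR (G L : X.Modules) : Prop := ∀ s : Γ(CohB1.tensorMod G L, ⊤), s ∈ Dec G L

theorem allDecR_of_isGen (G L : X.Modules) (e : Γ(L, ⊤)) (he : IsGen L ⊤ e) : AllDecR G L := by
  intro s
  obtain ⟨g, rfl⟩ := (tm_right_bijective G L e he ⊤ le_rfl).2 s
  exact tm_mem_dec _ _ _ _

/-- the inductive step: from `G ⊗ A` and `(G ⊗ A) ⊗ B` to `G ⊗ C` where `A ⊗ B ≅ C` -/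
theorem allDecR_step (G A B C : X.Modules) (h : Groth.Agent.Lib.Lead.Inv.AssocOK G A B)
    (μ : CohB1.tensorMod A B ≅ C) (h1 : AllDecR G A) (h2 : AllDecR (CohB1.tensorMod G A) B) :
    AllDecR G C := by
  let Φ : CohB1.tensorMod (CohB1.tensorMod G A) B ≅ CohB1.tensorMod G C :=
    Groth.Agent.Lib.Lead.Inv.assocIso h ≪≫ (tensLF G).mapIso μ
  have hΦ : ∀ (g : Γ(G, ⊤)) (x : Γ(A, ⊤)) (y : Γ(B, ⊤)),
      (Φ.hom.app ⊤).hom (tm (CohB1.tensorMod G A) B (tm G A g x) y) =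
        tm G C g ((μ.hom.app ⊤).hom (tm A B x y)) := by
    intro g x y
    change ((((tB X).obj G).map μ.hom).app ⊤).hom
      (((Groth.Agent.Lib.Lead.Inv.assocIso h).hom.app ⊤).hom
        (tm (CohB1.tensorMod G A) B (tm G A g x) y)) = _
    rw [assocIso_tm, tB_map_right_tm]
  -- for fixed `y`, the map `s' ↦ Φ (s' ⊗ y)`
  have key : ∀ (y : Γ(B, ⊤)) (s' : Γ(CohB1.tensorMod G A, ⊤)), s' ∈ Dec G A →
      (Φ.hom.app ⊤).hom (tm (CohB1.tensorMod G A) B s' y) ∈ Dec G C := by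
    intro y s' hs'
    let ψ : Γ(CohB1.tensorMod G A, ⊤) →+ Γ(CohB1.tensorMod G C, ⊤) :=
      (Φ.hom.app ⊤).hom.comp (AddMonoidHom.mk' (fun s' => tm (CohB1.tensorMod G A) B s' y)
        (fun a b => tm_add_left _ _ a b y))
    have hle : Dec G A ≤ (Dec G C).comap ψ := by
      unfold Dec
      rw [AddSubgroup.closure_le]
      rintro _ ⟨g, x, rfl⟩
      change (Φ.hom.app ⊤).hom (tm (CohB1.tensorMod G A) B (tm G A g x) y) ∈ Dec G C
      rw [hΦ]
      exact tm_mem_dec _ _ _ _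
    exact hle hs'
  have hmap : ∀ t : Γ(CohB1.tensorMod (CohB1.tensorMod G A) B, ⊤),
      t ∈ Dec (CohB1.tensorMod G A) B → (Φ.hom.app ⊤).hom t ∈ Dec G C := by
    intro t ht
    have hle : Dec (CohB1.tensorMod G A) B ≤ (Dec G C).comap (Φ.hom.app ⊤).hom := by
      unfold Dec
      rw [AddSubgroup.closure_le]
      rintro _ ⟨s', y, rfl⟩
      exact key y s' (h1 s')
    exact hle ht
  intro s
  have hid : 𝟙 (CohB1.tensorMod G C) = Φ.inv ≫ Φ.hom := Φ.inv_hom_id.symm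
  have e1 := congrArg (fun φ => (Scheme.Modules.Hom.app φ ⊤).hom
    (show Γ(CohB1.tensorMod G C, ⊤) from s)) hid
  have e2 : s = (Scheme.Modules.Hom.app Φ.hom ⊤).hom ((Scheme.Modules.Hom.app Φ.inv ⊤).hom s) := e1
  rw [e2]
  exact hmap _ (h2 _)

end General

section Pn

variable (k : Type u) [Field k] (n : ℕ) (G : (CohB1.ProjSpace n k).Modules)

/-- for a `0`-regular module `G` all sections of `G ⊗ O(1)` are decomposable -/
theorem allDecR_one
    (hreg : ∀ j : ℕ, 1 ≤ j → j ≤ n → Subsingleton (Coh.HH (CohB1.ProjSpace n k)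
      (CohB1.tensorMod G (Twist.twistProjSpace n k (-(j : ℤ)))) j)) :
    AllDecR G (Twist.twistProjSpace n k 1) := by
  have hKn : AllDec G (Kp k n (-(n : ℤ)) n) := by
    refine Kp_induction k n (-(n : ℤ)) n (fun M : (CohB1.ProjSpace n k).Modules => AllDec G M)
      ?_ ?_ ?_
    · exact fun Z hZ => allDec_of_isZero G Z hZ
    · exact fun M N hM hN => allDec_biprod G M N hM hN
    · have e : -(n : ℤ) + (n : ℤ) = 0 := by ring
      rw [e]
      obtain ⟨e0, he0⟩ := exists_isGen_twist_zero k n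
      exact allDec_of_isGen G _ e0 he0
  have hKtop : AllDec G (Kp k n (-(n : ℤ)) (n + 1)) := by
    intro s
    obtain ⟨s', rfl⟩ := surjective_top k n G hreg s
    exact dec_map G (dp k n (-(n : ℤ)) n) s' (hKn s')
  obtain ⟨e4⟩ := nonempty_Kp_top_iso k n (-(n : ℤ))
  have e1 : -(n : ℤ) + ((n + 1 : ℕ) : ℤ) = 1 := by push_cast; ring
  rw [e1] at e4
  have hO1 : AllDec G (Twist.twistProjSpace n k 1) := allDec_of_iso G e4 hKtop
  intro s
  let β := braid (Twist.twistProjSpace n k 1) G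
  have hid : 𝟙 (CohB1.tensorMod G (Twist.twistProjSpace n k 1)) = β.inv ≫ β.hom := β.inv_hom_id.symm
  have h1 := congrArg (fun φ => (Scheme.Modules.Hom.app φ ⊤).hom
    (show Γ(CohB1.tensorMod G (Twist.twistProjSpace n k 1), ⊤) from s)) hid
  have h2 : s = (Scheme.Modules.Hom.app β.hom ⊤).hom ((Scheme.Modules.Hom.app β.inv ⊤).hom s) := h1
  rw [h2]
  exact dec_braid (Twist.twistProjSpace n k 1) G _ (hO1 _)

end Pn

end Groth.Agent.Lib.Helper60.Koszul
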