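import Groth.Agent.Lib.Helper60.VeroneseFG

set_option autoImplicit false
universe u

namespace Groth.Agent.Lib.Helper60.GradedSub

open DirectSum

section Span

variable {A σ : Type u} [CommRing A] [SetLike σ A] [AddSubgroupClass σ A] (𝒜 : ℕ → σ) [GradedRing 𝒜]
variable {M τ : Type u} [AddCommGroup M] [Module A M] [SetLike τ M] [AddSubgroupClass τ M]
  (ℳ : ℕ → τ) [SetLike.GradedSMul 𝒜 ℳ] [DirectSum.Decomposition ℳ]

include 𝒜 in
/-- the span of homogeneous elements is a homogeneous submodule -/
theorem isHomogeneous_span (G : Set M) (hG : ∀ g ∈ G, ∃ k, g ∈ ℳ k) (x : M)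
    (hx : x ∈ Submodule.span A G) (n : ℕ) : ((decompose ℳ x) n : M) ∈ Submodule.span A G := by
  classical
  induction hx using Submodule.span_induction generalizing n with
  | mem g hg =>
    obtain ⟨k, hk⟩ := hG g hg
    by_cases h : k = n
    · subst h
      rw [DirectSum.decompose_of_mem_same ℳ hk]
      exact Submodule.subset_span hg
    · rw [DirectSum.decompose_of_mem_ne ℳ hk h]
      exact zero_mem _
  | zero =>
    rw [DirectSum.decompose_zero]
    exact zero_mem _
  | add x y _ _ hx hy =>
    rw [DirectSum.decompose_add, DirectSum.add_apply, AddMemClass.coe_add]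
    exact add_mem (hx n) (hy n)
  | smul a x _ hx =>
    have h1 : a • x = ∑ k ∈ (decompose ℳ x).support, a • ((decompose ℳ x k : ℳ k) : M) := by
      conv_lhs => rw [← DirectSum.sum_support_decompose ℳ x]
      rw [Finset.smul_sum]
    rw [h1, DirectSum.decompose_sum, DFinsupp.finsetSum_apply, AddSubmonoidClass.coe_finsetSum]
    refine Submodule.sum_mem _ (fun k _ => ?_)
    rw [Groth.Agent.Lib.Helper60.VeroneseFG.coe_decompose_smul_of_mem 𝒜 ℳ (decompose ℳ x k).2 a]
    split_ifs
    · exact Submodule.smul_mem _ _ (hx k)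
    · exact zero_mem _

end Span

section Sub

variable {R A : Type u} [CommRing R] [CommRing A] [Algebra R A] (𝒜 : ℕ → Submodule R A)
  [GradedAlgebra 𝒜]
variable {M : Type u} [AddCommGroup M] [Module R M] [Module A M] [IsScalarTower R A M]
  (ℳ : ℕ → Submodule R M) [SetLike.GradedSMul 𝒜 ℳ] [DirectSum.Decomposition ℳ]
  (N : Submodule A M)

/-- the induced grading on a submodule -/
def sub (n : ℕ) : Submodule R ↥N := Submodule.comap (N.subtype.restrictScalars R) (ℳ n)

omit [DirectSum.Decomposition ℳ] in
theorem mem_sub (n : ℕ) (x : ↥N) : x ∈ sub ℳ N n ↔ (x : M) ∈ ℳ n := Iff.rfl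

instance gradedSMul_sub : SetLike.GradedSMul 𝒜 (sub ℳ N) where
  smul_mem := by
    intro d n a x ha hx
    have hx' : (x : M) ∈ ℳ n := hx
    have : a • (x : M) ∈ ℳ (d + n) := SetLike.GradedSMul.smul_mem ha hx'
    exact this

/-- inclusion of graded pieces -/
def incl (n : ℕ) : ↥(sub ℳ N n) →+ ↥(ℳ n) where
  toFun x := ⟨x.1.1, x.2⟩
  map_zero' := rfl
  map_add' _ _ := rfl

omit [DirectSum.Decomposition ℳ] in
theorem subtype_coe (z : ⨁ n, ↥(sub ℳ N n)) :
    ((DirectSum.coeAddMonoidHom (sub ℳ N) z : ↥N) : M) =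
      DirectSum.coeAddMonoidHom ℳ (DirectSum.map (incl ℳ N) z) := by
  induction z using DirectSum.induction_on with
  | zero => simp
  | of n w =>
    rw [DirectSum.map_of, DirectSum.coeAddMonoidHom_of, DirectSum.coeAddMonoidHom_of]
    rfl
  | add x y hx hy =>
    rw [map_add, map_add, map_add, Submodule.coe_add, hx, hy]

variable (hN : ∀ x ∈ N, ∀ n, ((decompose ℳ x) n : M) ∈ N)

open scoped Classical in
/-- the decomposition map of a homogeneous submodule -/
noncomputable def decomposeSub (x : ↥N) : ⨁ n, ↥(sub ℳ N n) :=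
  DirectSum.mk (fun n => ↥(sub ℳ N n)) (decompose ℳ (x : M)).support
    (fun n => ⟨⟨((decompose ℳ (x : M)) n : M), hN x.1 x.2 n⟩, (decompose ℳ (x : M) n).2⟩)

theorem decomposeSub_apply (x : ↥N) (n : ℕ) :
    (((decomposeSub ℳ N hN x) n : ↥N) : M) = ((decompose ℳ (x : M)) n : M) := by
  classical
  unfold decomposeSub
  by_cases h : n ∈ (decompose ℳ (x : M)).support
  · rw [DirectSum.mk_apply_of_mem h]
  · rw [DirectSum.mk_apply_of_notMem h]
    rw [DFinsupp.notMem_support_iff] at h
    rw [h]
    rfl

theorem map_incl_decomposeSub (x : ↥N) :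
    DirectSum.map (incl ℳ N) (decomposeSub ℳ N hN x) = decompose ℳ (x : M) := by
  refine DFinsupp.ext fun n => Subtype.ext ?_
  rw [DirectSum.map_apply]
  exact decomposeSub_apply ℳ N hN x n

/-- a homogeneous submodule of a graded module is graded -/
@[instance_reducible]
noncomputable def decomposition : DirectSum.Decomposition (sub ℳ N) where
  decompose' := decomposeSub ℳ N hN
  left_inv := by
    intro x
    apply Subtype.ext
    rw [subtype_coe, map_incl_decomposeSub]
    exact DirectSum.Decomposition.left_inv (ℳ := ℳ) (x : M)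
  right_inv := by
    intro z
    refine DFinsupp.ext fun n => Subtype.ext (Subtype.ext ?_)
    rw [decomposeSub_apply, subtype_coe]
    have := DirectSum.Decomposition.right_inv (ℳ := ℳ) (DirectSum.map (incl ℳ N) z)
    change decompose ℳ _ = _ at this
    rw [this, DirectSum.map_apply]
    rfl

end Sub

end Groth.Agent.Lib.Helper60.GradedSub
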