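import Groth.Agent.Lib.Helper60.Pic10
import Groth.Agent.Lib.Helper60.Fr3
import Groth.Agent.Lib.Helper60.Bk2

/-!
# The coordinate rings of the charts of `P^1_k` are polynomial rings
-/

set_option autoImplicit false
universe u
open CategoryTheory CategoryTheory.Limits AlgebraicGeometry TopologicalSpace Opposite

namespace Groth.Agent.Lib.Helper60.Split

open Groth.Agent.Lib.Helper35.Gen Groth.Agent.Lib.Helper35.AbSheaf Scheme.Modules
open Groth.Agent.Lib.Helper60.ProjFrac Groth.Agent.Lib.Helper60.ProjUPLib
open Groth.Agent.Lib.Helper60.PConeLib Groth.Agent.Lib.Helper60.PicPn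
open HomogeneousLocalization Polynomial

variable (n : ℕ) (k : Type u) [Field k]

theorem cst_add (a b : k) (W : (Proj (CohB1.polyGrading n k)).Opens) :
    cst n k a W + cst n k b W = cst n k (a + b) W := by
  unfold cst
  rw [fr_add]
  apply fr_congr
  · rw [map_add]
  · rfl

theorem cst_zero (W : (Proj (CohB1.polyGrading n k)).Opens) : cst n k 0 W = 0 := by
  unfold cst
  rw [← fr_zero (CohB1.polyGrading n k) 1 (one_mem_zero n k) W
    (fun y _ h => y.isPrime.ne_top ((Ideal.eq_top_iff_one _).2 h))]
  apply fr_congr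
  · rw [map_zero]
  · rfl

/-- constants as a ring homomorphism -/
noncomputable def cstHom (W : (Proj (CohB1.polyGrading n k)).Opens) :
    k →+* Γ(Proj (CohB1.polyGrading n k), W) where
  toFun c := cst n k c W
  map_one' := cst_one n k W
  map_mul' a b := (cst_mul n k a b W).symm
  map_zero' := cst_zero n k W
  map_add' a b := (cst_add n k a b W).symm

theorem cstHom_apply (W : (Proj (CohB1.polyGrading n k)).Opens) (c : k) :
    cstHom n k W c = cst n k c W := rfl

/-- the coordinate function `X j / X i` on an open inside `D₊(X i)` -/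
noncomputable def tfun (i j : Fin (n + 1)) (W : (Proj (CohB1.polyGrading n k)).Opens)
    (hW : W ≤ DD n k i) : Γ(Proj (CohB1.polyGrading n k), W) :=
  fr (CohB1.polyGrading n k) (MvPolynomial.X j) (MvPolynomial.X i) (hX n k j) (hX n k i) W
    (notMem_of_mem_basicOpen _ hW)

theorem rr_tfun (i j : Fin (n + 1)) {U W : (Proj (CohB1.polyGrading n k)).Opens} (h : W ≤ U)
    (hU : U ≤ DD n k i) : rr _ h (tfun n k i j U hU) = tfun n k i j W (h.trans hU) := rfl

/-- the polynomial ring maps onto the coordinate ring of the chart -/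
noncomputable def tau (i j : Fin (n + 1)) (W : (Proj (CohB1.polyGrading n k)).Opens)
    (hW : W ≤ DD n k i) : k[X] →+* Γ(Proj (CohB1.polyGrading n k), W) :=
  Polynomial.eval₂RingHom (cstHom n k W) (tfun n k i j W hW)

theorem tau_C (i j : Fin (n + 1)) (W : (Proj (CohB1.polyGrading n k)).Opens)
    (hW : W ≤ DD n k i) (c : k) : tau n k i j W hW (C c) = cst n k c W := by
  unfold tau
  simp [cstHom_apply]

theorem tau_X (i j : Fin (n + 1)) (W : (Proj (CohB1.polyGrading n k)).Opens)
    (hW : W ≤ DD n k i) : tau n k i j W hW X = tfun n k i j W hW := by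
  unfold tau
  simp

theorem rr_tau (i j : Fin (n + 1)) {U W : (Proj (CohB1.polyGrading n k)).Opens} (h : W ≤ U)
    (hU : U ≤ DD n k i) (p : k[X]) :
    rr _ h (tau n k i j U hU p) = tau n k i j W (h.trans hU) p := by
  have : (rr (Proj (CohB1.polyGrading n k)) h).comp (tau n k i j U hU) =
      tau n k i j W (h.trans hU) := by
    apply Polynomial.ringHom_ext
    · intro c
      rw [RingHom.comp_apply, tau_C, tau_C]
      rfl
    · rw [RingHom.comp_apply, tau_X, tau_X]
      rfl
  exact congrArg (fun f => f p) this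

end Groth.Agent.Lib.Helper60.Split
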