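import Groth.Agent.Lib.Helper60.Gs1

/-!
# The coordinate rings of the charts of `P^1_k` are polynomial rings, II
-/

set_option autoImplicit false
universe u
open CategoryTheory CategoryTheory.Limits AlgebraicGeometry TopologicalSpace Opposite

namespace Groth.Agent.Lib.Helper60.Split

open Groth.Agent.Lib.Helper35.Gen Groth.Agent.Lib.Helper35.AbSheaf Scheme.Modules
open Groth.Agent.Lib.Helper60.ProjFrac Groth.Agent.Lib.Helper60.ProjUPLib
open Groth.Agent.Lib.Helper60.PConeLib Groth.Agent.Lib.Helper60.PicPn
open HomogeneousLocalization Polynomial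

variable (k : Type u) [Field k]

/-- the other index of `Fin 2` is unique -/
noncomputable def uniqueOther (i j : Fin 2) (hji : j ≠ i) : Unique {j' : Fin 2 // j' ≠ i} where
  default := ⟨j, hji⟩
  uniq := by
    rintro ⟨x, hx⟩
    apply Subtype.ext
    change x = j
    omega

theorem tau_bijective (i j : Fin 2) (hji : j ≠ i) :
    Function.Bijective (tau 1 k i j (DD 1 k i) le_rfl) := by
  let _ := uniqueOther i j hji
  have hf := hX 1 k i
  let e1 := Proj.basicOpenIsoAway (CohB1.polyGrading 1 k) _ hf one_pos
  have he1 : Function.Bijective e1.inv.hom := ConcreteCategory.bijective_of_isIso e1.inv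
  have hcf : Function.Bijective (chartFwd 1 k i) := (chartEquiv 1 k i).bijective
  let σ : k[X] →+* MvPolynomial {j' : Fin 2 // j' ≠ i} k :=
    (chartFwd 1 k i).comp (e1.inv.hom.comp (tau 1 k i j (DD 1 k i) le_rfl))
  have hσ : σ = ((MvPolynomial.uniqueAlgEquiv k {j' : Fin 2 // j' ≠ i}).symm :
      k[X] →+* MvPolynomial {j' : Fin 2 // j' ≠ i} k) := by
    apply Polynomial.ringHom_ext
    · intro c
      have h1 : tau 1 k i j (DD 1 k i) le_rfl (C c) =
          (Proj.awayToSection (CohB1.polyGrading 1 k) _).hom
            (Away.mk (CohB1.polyGrading 1 k) hf 0 (MvPolynomial.C c)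
              (by simpa using C_mem_zero 1 k c)) := by
        rw [tau_C, awayToSection_mk]
        unfold cst
        apply fr_congr
        · rfl
        · rw [pow_zero]
      have h2 : e1.inv.hom (tau 1 k i j (DD 1 k i) le_rfl (C c)) =
          Away.mk (CohB1.polyGrading 1 k) hf 0 (MvPolynomial.C c)
            (by simpa using C_mem_zero 1 k c) := by
        rw [h1]
        have := congrArg (fun φ => φ.hom (Away.mk (CohB1.polyGrading 1 k) hf 0 (MvPolynomial.C c)
            (by simpa using C_mem_zero 1 k c))) e1.hom_inv_id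
        exact this
      change chartFwd 1 k i (e1.inv.hom (tau 1 k i j (DD 1 k i) le_rfl (C c))) = _
      rw [h2]
      unfold chartFwd
      rw [awayLift_mk (CohB1.polyGrading 1 k) (evOne 1 k i) (MvPolynomial.X i) _ hf
        (evOne_X_self 1 k i), evOne_C]
      simp
    · have h1 : tau 1 k i j (DD 1 k i) le_rfl X =
          (Proj.awayToSection (CohB1.polyGrading 1 k) _).hom
            (Away.mk (CohB1.polyGrading 1 k) hf 1 (MvPolynomial.X j)
              (by simpa using hX 1 k j)) := by
        rw [tau_X, awayToSection_mk]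
        unfold tfun
        apply fr_congr
        · rfl
        · rw [pow_one]
      have h2 : e1.inv.hom (tau 1 k i j (DD 1 k i) le_rfl X) =
          Away.mk (CohB1.polyGrading 1 k) hf 1 (MvPolynomial.X j)
            (by simpa using hX 1 k j) := by
        rw [h1]
        have := congrArg (fun φ => φ.hom (Away.mk (CohB1.polyGrading 1 k) hf 1 (MvPolynomial.X j)
            (by simpa using hX 1 k j))) e1.hom_inv_id
        exact this
      change chartFwd 1 k i (e1.inv.hom (tau 1 k i j (DD 1 k i) le_rfl X)) = _
      rw [h2]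
      unfold chartFwd
      rw [awayLift_mk (CohB1.polyGrading 1 k) (evOne 1 k i) (MvPolynomial.X i) _ hf
        (evOne_X_self 1 k i), evOne_X_ne 1 k i j hji]
      simp
      rfl
  have hσb : Function.Bijective σ := by
    rw [hσ]
    exact (MvPolynomial.uniqueAlgEquiv k {j' : Fin 2 // j' ≠ i}).symm.bijective
  have h3 : Function.Bijective (e1.inv.hom.comp (tau 1 k i j (DD 1 k i) le_rfl)) :=
    (Function.Bijective.of_comp_iff' hcf _).mp hσb
  exact (Function.Bijective.of_comp_iff' he1 _).mp h3

end Groth.Agent.Lib.Helper60.Split
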