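import Groth.Agent.Lib.Helper60.Gs2
import Groth.Agent.Lib.Helper2.RankSections
import Groth.Agent.Lib.Helper2.FinLocFreeAff

/-!
# Frames of finite locally free modules on the charts of `P^1_k`
-/

set_option autoImplicit false
universe u
open CategoryTheory CategoryTheory.Limits AlgebraicGeometry TopologicalSpace Opposite

namespace Groth.Agent.Lib.Helper60.Split

open Groth.Agent.Lib.Helper35.Gen Groth.Agent.Lib.Helper35.AbSheaf Scheme.Modules
open Groth.Agent.Lib.Helper60.ProjFrac Groth.Agent.Lib.Helper60.ProjUPLib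
open Groth.Agent.Lib.Helper60.PConeLib Groth.Agent.Lib.Helper60.PicPn
open Groth.Agent.Lib.Helper60.FrameLib
open HomogeneousLocalization Polynomial

variable (k : Type u) [Field k]

theorem isDomain_chart1 (i j : Fin 2) (hji : j ≠ i) :
    IsDomain Γ(Proj (CohB1.polyGrading 1 k), DD 1 k i) :=
  (RingEquiv.ofBijective _ (tau_bijective k i j hji)).symm.toMulEquiv.isDomain _

theorem isPrincipalIdealRing_chart1 (i j : Fin 2) (hji : j ≠ i) :
    IsPrincipalIdealRing Γ(Proj (CohB1.polyGrading 1 k), DD 1 k i) :=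
  IsPrincipalIdealRing.of_surjective (tau 1 k i j (DD 1 k i) le_rfl) (tau_bijective k i j hji).2

theorem isAffineOpen_DD1 (i : Fin 2) : IsAffineOpen (DD 1 k i) :=
  Proj.isAffineOpen_basicOpen (CohB1.polyGrading 1 k) (MvPolynomial.X i) (hX 1 k i) one_pos

theorem exists_other (i : Fin 2) : ∃ j : Fin 2, j ≠ i := by
  fin_cases i
  · exact ⟨1, by decide⟩
  · exact ⟨0, by decide⟩

variable {k}

/-- a finite locally free module of rank `r` on `P^1_k` has a frame on each standard chart -/
theorem exists_frame_chart {r : ℕ} (E : (Proj (CohB1.polyGrading 1 k)).Modules)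
    (hE : FlatMod.IsFinLocFreeOfRank r E) (i : Fin 2) :
    ∃ e : Fin r → Γ(E, DD 1 k i), IsFrame E (DD 1 k i) e := by
  obtain ⟨j, hji⟩ := exists_other i
  haveI : E.IsQuasicoherent := Groth.Agent.Lib.Helper2.RankSections.isQuasicoherent_of_isFinLocFree E
    (Groth.Agent.Lib.Helper2.RankSections.isFinLocFree_of_rank hE)
  have hU := isAffineOpen_DD1 k i
  haveI := isDomain_chart1 k i j hji
  haveI := isPrincipalIdealRing_chart1 k i j hji
  haveI := Groth.Agent.Lib.Helper2.FinLocFreeAff.finitePresentation_sections_of_isFinLocFree E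
    (Groth.Agent.Lib.Helper2.RankSections.isFinLocFree_of_rank hE) hU
  haveI := Groth.Agent.Lib.Helper2.FinLocFreeAff.projective_sections_of_isFinLocFree E
    (Groth.Agent.Lib.Helper2.RankSections.isFinLocFree_of_rank hE) hU
  haveI : Module.Free Γ(Proj (CohB1.polyGrading 1 k), DD 1 k i) Γ(E, DD 1 k i) := inferInstance
  have hrank : Module.finrank Γ(Proj (CohB1.polyGrading 1 k), DD 1 k i) Γ(E, DD 1 k i) = r := by
    have h1 := Groth.Agent.Lib.Helper2.RankSections.rankAtStalk_sections_eq E r hE hU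
      ⟨⊥, Ideal.isPrime_bot⟩
    rw [Module.rankAtStalk_eq_finrank_of_free] at h1
    exact h1
  let b := Module.finBasisOfFinrankEq Γ(Proj (CohB1.polyGrading 1 k), DD 1 k i) Γ(E, DD 1 k i) hrank
  obtain ⟨θ⟩ := (Groth.Agent.Lib.Helper2.FreeModAff.nonempty_iso_freeMod_iff E hU r).2 ⟨b.equivFun⟩
  have h1 : IsFrame (FlatMod.freeMod (↑(DD 1 k i)) r) ⊤ _ :=
    isFrame_sigma (fun _ : Fin r => Coh.structureModule (↑(DD 1 k i) : Scheme.{u})) ⊤ _
      (fun _ => isGen_one ⊤)
  have h2 := h1.map_iso θ.symm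
  have h3 := isFrame_of_restrict E (DD 1 k i).ι ⊤ _ h2
  exact ⟨_, isFrame_of_eq (DD 1 k i).ι_image_top h3⟩

end Groth.Agent.Lib.Helper60.Split
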