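import Groth.Agent.Lib.Helper60.Gs3

/-!
# The overlap of the two charts of `P^1_k` is a Laurent polynomial ring: hypotheses of Birkhoff
-/

set_option autoImplicit false
universe u
open CategoryTheory CategoryTheory.Limits AlgebraicGeometry TopologicalSpace Opposite

namespace Groth.Agent.Lib.Helper60.Split

open Groth.Agent.Lib.Helper35.Gen Groth.Agent.Lib.Helper35.AbSheaf Scheme.Modules
open Groth.Agent.Lib.Helper60.ProjFrac Groth.Agent.Lib.Helper60.ProjUPLib
open Groth.Agent.Lib.Helper60.PConeLib Groth.Agent.Lib.Helper60.PicPn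
open Groth.Agent.Lib.Helper60.FrameLib
open HomogeneousLocalization Polynomial

variable (k : Type u) [Field k]

/-- the overlap of the two charts -/
noncomputable abbrev D01 : (Proj (CohB1.polyGrading 1 k)).Opens := DD 1 k 0 ⊓ DD 1 k 1

theorem genPt_mem_D01 : genPt 1 k ∈ D01 k := ⟨genPt_mem 1 k 0, genPt_mem 1 k 1⟩

/-- restriction from a chart to an open containing the generic point is injective -/
theorem rr_injective_chart (n : ℕ) (i : Fin (n + 1)) (W : (Proj (CohB1.polyGrading n k)).Opens)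
    (hW : W ≤ DD n k i) (hy : genPt n k ∈ W) :
    Function.Injective (rr (Proj (CohB1.polyGrading n k)) hW) := by
  rw [injective_iff_map_eq_zero]
  intro x hx
  have hf := hX n k i
  let e := Proj.basicOpenIsoAway (CohB1.polyGrading n k) _ hf one_pos
  have hsurj : Function.Surjective e.hom.hom :=
    (ConcreteCategory.bijective_of_isIso e.hom).2
  obtain ⟨z, rfl⟩ := hsurj x
  obtain ⟨m, a, ha, rfl⟩ := Away.mk_surjective (CohB1.polyGrading n k) hf z
  have h1 : e.hom.hom (Away.mk (CohB1.polyGrading n k) hf m a ha) =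
      (Proj.awayToSection (CohB1.polyGrading n k) _).hom
        (Away.mk (CohB1.polyGrading n k) hf m a ha) := rfl
  rw [h1, awayToSection_mk] at hx ⊢
  have h2 : fr (CohB1.polyGrading n k) a (MvPolynomial.X i ^ m) ha (SetLike.pow_mem_graded m hf) W
      (fun y hy' => pow_notMem _ le_rfl m y (hW hy')) =
      fr (CohB1.polyGrading n k) 0 (MvPolynomial.X i ^ m) (zero_mem _)
        (SetLike.pow_mem_graded m hf) W (fun y hy' => pow_notMem _ le_rfl m y (hW hy')) := by
    rw [fr_zero]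
    exact hx
  have h3 := mul_eq_of_fr_eq (CohB1.polyGrading n k) _ _ _ _ _ _ _ _ W _ _ (genPt n k) hy h2
  rw [zero_mul] at h3
  have ha0 : a = 0 := by
    rcases mul_eq_zero.mp h3 with h | h
    · exact h
    · exact absurd h (pow_ne_zero _ (MvPolynomial.X_ne_zero _))
  subst ha0
  exact fr_zero _ _ _ _ _

/-- `t = X₁/X₀` on the overlap -/
noncomputable abbrev tt : Γ(Proj (CohB1.polyGrading 1 k), D01 k) :=
  tfun 1 k 0 1 (D01 k) inf_le_left

/-- `s = X₀/X₁` on the overlap -/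
noncomputable abbrev ss : Γ(Proj (CohB1.polyGrading 1 k), D01 k) :=
  tfun 1 k 1 0 (D01 k) inf_le_right

theorem tt_mul_ss : tt k * ss k = 1 := by
  unfold tt ss tfun
  exact fr_mul_inv _ _ _ _ _ _ _ _

theorem tau_injective_D01 : Function.Injective (tau 1 k 0 1 (D01 k) inf_le_left) := by
  intro p q hpq
  rw [← rr_tau 1 k 0 1 (inf_le_left : D01 k ≤ DD 1 k 0) le_rfl,
    ← rr_tau 1 k 0 1 (inf_le_left : D01 k ≤ DD 1 k 0) le_rfl] at hpq
  have h1 := rr_injective_chart k 1 0 (D01 k) inf_le_left (genPt_mem_D01 k) hpq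
  exact (tau_bijective k 0 1 (by decide)).1 h1

theorem exists_tau_eq_aux (W : (Proj (CohB1.polyGrading 1 k)).Opens)
    (hW : W = Proj.basicOpen (CohB1.polyGrading 1 k) (MvPolynomial.X 0 * MvPolynomial.X 1))
    (h0 : W ≤ DD 1 k 0) (b : Γ(Proj (CohB1.polyGrading 1 k), W)) :
    ∃ (p : k[X]) (m : ℕ), b * tfun 1 k 0 1 W h0 ^ m = tau 1 k 0 1 W h0 p := by
  subst hW
  have hf : (MvPolynomial.X 0 * MvPolynomial.X 1 : MvPolynomial (Fin 2) k) ∈
      CohB1.polyGrading 1 k (1 + 1) := SetLike.mul_mem_graded (hX 1 k 0) (hX 1 k 1)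
  let e := Proj.basicOpenIsoAway (CohB1.polyGrading 1 k) _ hf (by norm_num)
  have hsurj : Function.Surjective e.hom.hom :=
    (ConcreteCategory.bijective_of_isIso e.hom).2
  obtain ⟨z, rfl⟩ := hsurj b
  obtain ⟨m, a, ha, rfl⟩ := Away.mk_surjective (CohB1.polyGrading 1 k) hf z
  have h1 : e.hom.hom (Away.mk (CohB1.polyGrading 1 k) hf m a ha) =
      (Proj.awayToSection (CohB1.polyGrading 1 k) _).hom
        (Away.mk (CohB1.polyGrading 1 k) hf m a ha) := rfl
  rw [h1, awayToSection_mk]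
  -- the element of `Γ(D₀)`
  have hf0 := hX 1 k 0
  have ha' : a ∈ CohB1.polyGrading 1 k ((m * 2) • 1) := by
    simpa [mul_comm] using ha
  let x0 : Γ(Proj (CohB1.polyGrading 1 k), DD 1 k 0) :=
    (Proj.awayToSection (CohB1.polyGrading 1 k) _).hom
      (Away.mk (CohB1.polyGrading 1 k) hf0 (m * 2) a ha')
  obtain ⟨p, hp⟩ := (tau_bijective k 0 1 (by decide)).2 x0
  refine ⟨p, m, ?_⟩
  rw [← rr_tau 1 k 0 1 h0 le_rfl, hp]
  simp only [x0]
  rw [awayToSection_mk]
  unfold tfun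
  rw [fr_pow, fr_mul]
  have hV2 : ∀ y ∈ Proj.basicOpen (CohB1.polyGrading 1 k)
      (MvPolynomial.X 0 * MvPolynomial.X 1 : MvPolynomial (Fin 2) k),
      ((gX 1 k 0).1 ^ (m * 2) : MvPolynomial (Fin 2) k) ∉ y.asHomogeneousIdeal :=
    fun y hy => pow_notMem _ le_rfl (m * 2) y (h0 hy)
  have h5 : rr (Proj (CohB1.polyGrading 1 k)) h0
      (fr (CohB1.polyGrading 1 k) a ((gX 1 k 0).1 ^ (m * 2)) ha'
        (SetLike.pow_mem_graded (m * 2) hf0) (Proj.basicOpen (CohB1.polyGrading 1 k) (gX 1 k 0).1)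
        (fun y hy => pow_notMem _ le_rfl (m * 2) y hy)) =
      fr (CohB1.polyGrading 1 k) a ((gX 1 k 0).1 ^ (m * 2)) ha'
        (SetLike.pow_mem_graded (m * 2) hf0) _ hV2 := rfl
  refine Eq.trans ?_ h5.symm
  apply fr_eq_of_mul_eq
  simp only [gX_val]
  ring

theorem exists_tau_eq (b : Γ(Proj (CohB1.polyGrading 1 k), D01 k)) :
    ∃ (p : k[X]) (m : ℕ), b * tt k ^ m = tau 1 k 0 1 (D01 k) inf_le_left p :=
  exists_tau_eq_aux k (D01 k) (DD_inf 1 k 0 1) inf_le_left b

end Groth.Agent.Lib.Helper60.Split
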