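import Groth.Agent.Lib.Helper60.Gs4

/-!
# Birkhoff factorisation on the overlap of the charts of `P^1_k` and adapted frames
-/

set_option autoImplicit false
universe u
open CategoryTheory CategoryTheory.Limits AlgebraicGeometry TopologicalSpace Opposite

namespace Groth.Agent.Lib.Helper60.Split

open Groth.Agent.Lib.Helper35.Gen Groth.Agent.Lib.Helper35.AbSheaf Scheme.Modules
open Groth.Agent.Lib.Helper60.ProjFrac Groth.Agent.Lib.Helper60.ProjUPLib
open Groth.Agent.Lib.Helper60.PConeLib Groth.Agent.Lib.Helper60.PicPn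
open Groth.Agent.Lib.Helper60.FrameLib Groth.Agent.Lib.Helper60.Birkhoff
open HomogeneousLocalization Polynomial

variable (k : Type u) [Field k]

theorem birkhoff_D01 {r : ℕ} (g : Matrix (Fin r) (Fin r) Γ(Proj (CohB1.polyGrading 1 k), D01 k))
    (hg : IsUnit g.det) :
    ∃ (U a : Matrix (Fin r) (Fin r) k[X]) (e : Fin r → ℕ) (N : ℕ), IsUnit U.det ∧ IsUnit a.det ∧
      (tt k ^ N • g) * a.map (tau 1 k 0 1 (D01 k) inf_le_left) =
        U.map (tau 1 k 1 0 (D01 k) inf_le_right) * Matrix.diagonal (fun j => tt k ^ e j) := by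
  letI : Algebra k Γ(Proj (CohB1.polyGrading 1 k), D01 k) := (cstHom 1 k (D01 k)).toAlgebra
  have h1 : ∀ p : k[X], aeval (tt k) p = tau 1 k 0 1 (D01 k) inf_le_left p := fun p => by
    rw [aeval_def]; rfl
  have h2 : ∀ p : k[X], aeval (ss k) p = tau 1 k 1 0 (D01 k) inf_le_right p := fun p => by
    rw [aeval_def]; rfl
  have hinj : Function.Injective
      (aeval (tt k) : k[X] → Γ(Proj (CohB1.polyGrading 1 k), D01 k)) := by
    intro p q hpq
    rw [h1, h1] at hpq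
    exact tau_injective_D01 k hpq
  have hsurj : ∀ b : Γ(Proj (CohB1.polyGrading 1 k), D01 k),
      ∃ (p : k[X]) (n : ℕ), b * tt k ^ n = aeval (tt k) p := by
    intro b
    obtain ⟨p, m, h⟩ := exists_tau_eq k b
    exact ⟨p, m, by rw [h1]; exact h⟩
  obtain ⟨U, a, e, N, hU, ha, h⟩ := birkhoff (tt k) (ss k) (tt_mul_ss k) hinj hsurj g hg
  refine ⟨U, a, e, N, hU, ha, ?_⟩
  have e1 : a.map (aeval (tt k)) = a.map (tau 1 k 0 1 (D01 k) inf_le_left) := by
    ext i j
    simp only [Matrix.map_apply, h1]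
  have e2 : U.map (aeval (ss k)) = U.map (tau 1 k 1 0 (D01 k) inf_le_right) := by
    ext i j
    simp only [Matrix.map_apply, h2]
  rw [← e1, ← e2]
  exact h

theorem pow_swap_aux {A : Type*} [CommRing A] (x y : A) (a b e N : ℕ) (h : a + e = N + b) :
    x ^ a * y ^ b * (x ^ e * y ^ N) = y ^ e * x ^ N * (y ^ a * x ^ b) := by
  have h1 : x ^ a * x ^ e = x ^ N * x ^ b := by rw [← pow_add, ← pow_add, h]
  have h2 : y ^ b * y ^ N = y ^ e * y ^ a := by
    rw [← pow_add, ← pow_add]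
    congr 1
    omega
  linear_combination (y ^ b * y ^ N) * h1 + (x ^ N * x ^ b) * h2

theorem mono_eq_ss_tt (e N : ℕ) :
    mono 1 k 0 1 ((N : ℤ) - e) (D01 k) inf_le_left inf_le_right = ss k ^ e * tt k ^ N := by
  unfold mono ss tt tfun
  rw [fr_pow, fr_pow, fr_mul]
  apply fr_eq_of_mul_eq
  simp only [gX_val]
  apply pow_swap_aux
  have := ni_eq ((N : ℤ) - e)
  omega

theorem ss_mul_tt : ss k * tt k = 1 := by
  rw [mul_comm]
  exact tt_mul_ss k

/-- **Adapted frames**: a finite locally free module on `P^1_k` has frames on the two standard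
charts which differ by a diagonal matrix of powers of `X₁/X₀`. -/
theorem exists_adapted {r : ℕ} (E : (Proj (CohB1.polyGrading 1 k)).Modules)
    (hE : FlatMod.IsFinLocFreeOfRank r E) :
    ∃ (d : Fin r → ℤ) (ee : ∀ i : Fin 2, Fin r → Γ(E, DD 1 k i)),
      (∀ i, IsFrame E (DD 1 k i) (ee i)) ∧
      ∀ j, rs E (inf_le_right : DD 1 k 0 ⊓ DD 1 k 1 ≤ DD 1 k 1) (ee 1 j) =
        mono 1 k 0 1 (d j) (DD 1 k 0 ⊓ DD 1 k 1) inf_le_left inf_le_right •
          rs E inf_le_left (ee 0 j) := by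
  choose e₀ he₀ using fun i => exists_frame_chart E hE i
  have hf0 := (he₀ 0).mono (inf_le_left : D01 k ≤ DD 1 k 0)
  have hf1 := (he₀ 1).mono (inf_le_right : D01 k ≤ DD 1 k 1)
  obtain ⟨g, hg, hgf⟩ := exists_matrix hf1 hf0
  obtain ⟨U, a, e, N, hU, ha, hB⟩ := birkhoff_D01 k g hg
  let MM : Fin 2 → Matrix (Fin r) (Fin r) k[X] := ![a, U]
  let oth : Fin 2 → Fin 2 := ![1, 0]
  have hMM : ∀ i, IsUnit (MM i).det := by
    rw [Fin.forall_fin_two]
    exact ⟨ha, hU⟩
  let M : ∀ i : Fin 2, Matrix (Fin r) (Fin r) Γ(Proj (CohB1.polyGrading 1 k), DD 1 k i) :=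
    fun i => (MM i).map (tau 1 k i (oth i) (DD 1 k i) le_rfl)
  have hM : ∀ i, IsUnit (M i).det := by
    intro i
    have : (M i).det = tau 1 k i (oth i) (DD 1 k i) le_rfl (MM i).det :=
      (RingHom.map_det _ (MM i)).symm
    rw [this]
    exact (hMM i).map _
  refine ⟨fun j => (N : ℤ) - e j, fun i j => ∑ l, M i l j • e₀ i l,
    fun i => (he₀ i).mul (M i) (hM i), ?_⟩
  intro j
  set f0 : Fin r → Γ(E, D01 k) := fun l => rs E inf_le_left (e₀ 0 l) with hf0def
  set f1 : Fin r → Γ(E, D01 k) := fun l => rs E inf_le_right (e₀ 1 l) with hf1def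
  have hgf' : ∀ l, f0 l = ∑ i, g i l • f1 i := hgf
  have s0 : rs E (inf_le_left : D01 k ≤ DD 1 k 0) (∑ l, M 0 l j • e₀ 0 l) =
      ∑ l, (a.map (tau 1 k 0 1 (D01 k) inf_le_left)) l j • f0 l := by
    rw [rs_sum]
    apply Finset.sum_congr rfl
    intro l _
    rw [rs_smul]
    congr 1
    exact rr_tau 1 k 0 1 (inf_le_left : D01 k ≤ DD 1 k 0) le_rfl (a l j)
  have s1 : rs E (inf_le_right : D01 k ≤ DD 1 k 1) (∑ l, M 1 l j • e₀ 1 l) =
      ∑ l, (U.map (tau 1 k 1 0 (D01 k) inf_le_right)) l j • f1 l := by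
    rw [rs_sum]
    apply Finset.sum_congr rfl
    intro l _
    rw [rs_smul]
    congr 1
    exact rr_tau 1 k 1 0 (inf_le_right : D01 k ≤ DD 1 k 1) le_rfl (U l j)
  have s3 : tt k ^ N • rs E (inf_le_left : D01 k ≤ DD 1 k 0) (∑ l, M 0 l j • e₀ 0 l) =
      tt k ^ e j • rs E (inf_le_right : D01 k ≤ DD 1 k 1) (∑ l, M 1 l j • e₀ 1 l) := by
    rw [s0, s1]
    simp_rw [hgf', Finset.smul_sum, ← mul_smul]
    rw [Finset.sum_comm]
    apply Finset.sum_congr rfl
    intro i _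
    rw [← Finset.sum_smul]
    congr 1
    have h4 := congrFun (congrFun hB i) j
    rw [Matrix.mul_diagonal, Matrix.mul_apply] at h4
    rw [mul_comm (tt k ^ e j)]
    rw [← h4]
    apply Finset.sum_congr rfl
    intro l _
    simp only [Matrix.smul_apply, smul_eq_mul]
    ring
  change rs E (inf_le_right : D01 k ≤ DD 1 k 1) (∑ l, M 1 l j • e₀ 1 l) =
    mono 1 k 0 1 ((N : ℤ) - e j) (D01 k) inf_le_left inf_le_right •
      rs E (inf_le_left : D01 k ≤ DD 1 k 0) (∑ l, M 0 l j • e₀ 0 l)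
  rw [mono_eq_ss_tt, mul_smul, s3, ← mul_smul, ← mul_pow, ss_mul_tt, one_pow, one_smul]

end Groth.Agent.Lib.Helper60.Split
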