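import Groth.Agent.Lib.Helper60.Gs5

/-!
# Grothendieck splitting on `P^1_k`: existence
-/

set_option autoImplicit false
universe u
open CategoryTheory CategoryTheory.Limits AlgebraicGeometry TopologicalSpace Opposite

namespace Groth.Agent.Lib.Helper60.Split

open Groth.Agent.Lib.Helper35.Gen Groth.Agent.Lib.Helper35.AbSheaf Scheme.Modules
open Groth.Agent.Lib.Helper60.ProjFrac Groth.Agent.Lib.Helper60.ProjUPLib
open Groth.Agent.Lib.Helper60.PConeLib Groth.Agent.Lib.Helper60.PicPn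
open Groth.Agent.Lib.Helper60.FrameLib Groth.Agent.Lib.Helper60.Birkhoff
open HomogeneousLocalization Polynomial

variable (k : Type u) [Field k]

/-- on `P^1` the transition on `D₀ ∩ D₁` determines all transitions -/
theorem transitions1 (L : (Proj (CohB1.polyGrading 1 k)).Modules)
    (s : ∀ i : Fin 2, Γ(L, DD 1 k i)) (m : ℤ)
    (hm : rs L (inf_le_right : DD 1 k 0 ⊓ DD 1 k 1 ≤ DD 1 k 1) (s 1) =
        mono 1 k 0 1 m (DD 1 k 0 ⊓ DD 1 k 1) inf_le_left inf_le_right •
          rs L inf_le_left (s 0)) :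
    ∀ i j, rs L (inf_le_right : DD 1 k i ⊓ DD 1 k j ≤ DD 1 k j) (s j) =
        mono 1 k i j m (DD 1 k i ⊓ DD 1 k j) inf_le_left inf_le_right •
          rs L inf_le_left (s i) := by
  rw [Fin.forall_fin_two]
  constructor
  · rw [Fin.forall_fin_two]
    constructor
    · rw [mono_self, one_smul]
    · exact hm
  · rw [Fin.forall_fin_two]
    constructor
    · have h1 := congrArg (rs L (le_inf inf_le_right inf_le_left :
        DD 1 k 1 ⊓ DD 1 k 0 ≤ DD 1 k 0 ⊓ DD 1 k 1)) hm
      rw [rs_rs, rs_smul, rs_rs, rr_mono] at h1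
      have h2 : rs L (inf_le_left : DD 1 k 1 ⊓ DD 1 k 0 ≤ DD 1 k 1) (s 1) =
          mono 1 k 0 1 m (DD 1 k 1 ⊓ DD 1 k 0) inf_le_right inf_le_left •
            rs L inf_le_right (s 0) := h1
      rw [h2, ← mul_smul, mono_mul_swap, one_smul]
    · rw [mono_self, one_smul]

/-- a morphism out of `O(d)` from sections on the two charts with the right transition -/
theorem exists_hom_of_adapted (E : (Proj (CohB1.polyGrading 1 k)).Modules) (d : ℤ)
    (s : ∀ i : Fin 2, Γ(E, DD 1 k i))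
    (hm : rs E (inf_le_right : DD 1 k 0 ⊓ DD 1 k 1 ≤ DD 1 k 1) (s 1) =
        mono 1 k 0 1 d (DD 1 k 0 ⊓ DD 1 k 1) inf_le_left inf_le_right •
          rs E inf_le_left (s 0)) :
    ∃ φ : Twist.twist (CohB1.polyGrading 1 k) d ⟶ E, ∀ i : Fin 2,
      (φ.app (DD 1 k i)).hom (tgen (CohB1.polyGrading 1 k) d (gX 1 k i) (DD 1 k i) le_rfl) = s i := by
  have ht : ∀ i : Fin 2, IsGen (Twist.twist (CohB1.polyGrading 1 k) d) (DD 1 k i)
      (tgen (CohB1.polyGrading 1 k) d (gX 1 k i) (DD 1 k i) le_rfl) :=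
    fun i => isGen_tgen (CohB1.polyGrading 1 k) d (gX 1 k i)
  have htc : ∀ i j : Fin 2,
      rs (Twist.twist (CohB1.polyGrading 1 k) d) (inf_le_right : DD 1 k i ⊓ DD 1 k j ≤ DD 1 k j)
        (tgen (CohB1.polyGrading 1 k) d (gX 1 k j) (DD 1 k j) le_rfl) =
      mono 1 k i j d (DD 1 k i ⊓ DD 1 k j) inf_le_left inf_le_right •
        rs (Twist.twist (CohB1.polyGrading 1 k) d) inf_le_left
          (tgen (CohB1.polyGrading 1 k) d (gX 1 k i) (DD 1 k i) le_rfl) :=
    fun i j => tgen_mono 1 k d i j (DD 1 k i ⊓ DD 1 k j) inf_le_left inf_le_right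
  have hsc := transitions1 k E s d hm
  have hp : ∀ (i j : Fin 2) (c' : Γ(Proj (CohB1.polyGrading 1 k), DD 1 k i ⊓ DD 1 k j)),
      rs (Twist.twist (CohB1.polyGrading 1 k) d) inf_le_right
        (tgen (CohB1.polyGrading 1 k) d (gX 1 k j) (DD 1 k j) le_rfl) =
        c' • rs (Twist.twist (CohB1.polyGrading 1 k) d) inf_le_left
          (tgen (CohB1.polyGrading 1 k) d (gX 1 k i) (DD 1 k i) le_rfl) →
        rs E inf_le_right (s j) = c' • rs E inf_le_left (s i) := by
    intro i j c' hc'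
    have h1 : c' = mono 1 k i j d (DD 1 k i ⊓ DD 1 k j) inf_le_left inf_le_right := by
      apply ((ht i).mono (inf_le_left : DD 1 k i ⊓ DD 1 k j ≤ DD 1 k i)).smul_injective
      exact hc'.symm.trans (htc i j)
    rw [h1]
    exact hsc i j
  exact ⟨HomOfGen.hom ht s hp cover, fun i => HomOfGen.hom_app_gen ht s hp cover i⟩

/-- **Grothendieck splitting, existence (unsorted).** -/
theorem exists_iso_sigma {r : ℕ} (E : (Proj (CohB1.polyGrading 1 k)).Modules)
    (hE : FlatMod.IsFinLocFreeOfRank r E) :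
    ∃ d : Fin r → ℤ,
      Nonempty ((∐ fun j : Fin r => Twist.twist (CohB1.polyGrading 1 k) (d j)) ≅ E) := by
  obtain ⟨d, ee, hee, htr⟩ := exists_adapted k E hE
  choose φ hφ using fun j => exists_hom_of_adapted k E (d j) (fun i => ee i j) (htr j)
  let F : Fin r → (Proj (CohB1.polyGrading 1 k)).Modules :=
    fun j => Twist.twist (CohB1.polyGrading 1 k) (d j)
  let Φ : ∐ F ⟶ E := Sigma.desc φ
  have hiso : IsIso Φ := by
    apply isIso_of_frame_map (r := r)
    intro x
    obtain ⟨i, hi⟩ := cover (n := 1) (R := k) x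
    refine ⟨DD 1 k i, hi, fun j => ((Sigma.ι F j).app _).hom
      (tgen (CohB1.polyGrading 1 k) (d j) (gX 1 k i) (DD 1 k i) le_rfl),
      isFrame_sigma F _ _ (fun j => isGen_tgen (CohB1.polyGrading 1 k) (d j) (gX 1 k i)), ?_⟩
    have h3 : (fun j => (Φ.app (DD 1 k i)).hom (((Sigma.ι F j).app _).hom
        (tgen (CohB1.polyGrading 1 k) (d j) (gX 1 k i) (DD 1 k i) le_rfl))) = ee i := by
      funext j
      have h1 : Sigma.ι F j ≫ Φ = φ j := Sigma.ι_desc _ _
      rw [← hφ j i, ← h1]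
      rfl
    rw [h3]
    exact hee i
  exact ⟨d, ⟨asIso Φ⟩⟩

/-- **Grothendieck splitting, existence.** -/
theorem exists_antitone_iso {r : ℕ} (E : (Proj (CohB1.polyGrading 1 k)).Modules)
    (hE : FlatMod.IsFinLocFreeOfRank r E) :
    ∃ d : Fin r → ℤ, Antitone d ∧
      Nonempty (E ≅ ∐ fun j : Fin r => Twist.twist (CohB1.polyGrading 1 k) (d j)) := by
  obtain ⟨d, ⟨θ⟩⟩ := exists_iso_sigma k E hE
  let σ := Tuple.sort (fun i => - d i)
  have hmono := Tuple.monotone_sort (fun i => - d i)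
  refine ⟨fun i => d (σ i), ?_,
    ⟨θ.symm ≪≫ (Sigma.reindex σ (fun j => Twist.twist (CohB1.polyGrading 1 k) (d j))).symm⟩⟩
  intro i j hij
  have := hmono hij
  simp only [Function.comp_apply, neg_le_neg_iff] at this
  exact this

end Groth.Agent.Lib.Helper60.Split
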