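import Groth.Agent.Lib.Helper60.Gs6

/-!
# Morphisms `O(a) ⟶ O(b)` on `P^1_k` with `b < a` vanish
-/

set_option autoImplicit false
universe u
open CategoryTheory CategoryTheory.Limits AlgebraicGeometry TopologicalSpace Opposite

namespace Groth.Agent.Lib.Helper60.Split

open Groth.Agent.Lib.Helper35.Gen Groth.Agent.Lib.Helper35.AbSheaf Scheme.Modules
open Groth.Agent.Lib.Helper60.ProjFrac Groth.Agent.Lib.Helper60.ProjUPLib
open Groth.Agent.Lib.Helper60.PConeLib Groth.Agent.Lib.Helper60.PicPn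
open Groth.Agent.Lib.Helper60.FrameLib Groth.Agent.Lib.Helper60.Birkhoff
open HomogeneousLocalization Polynomial

variable (k : Type u) [Field k]

theorem tau10_eq (q : k[X]) (n : ℕ) (hq : q.natDegree ≤ n) :
    tau 1 k 1 0 (D01 k) inf_le_right q =
      tau 1 k 0 1 (D01 k) inf_le_left (reflect n q) * ss k ^ n := by
  letI : Algebra k Γ(Proj (CohB1.polyGrading 1 k), D01 k) := (cstHom 1 k (D01 k)).toAlgebra
  have h1 : ∀ p : k[X], aeval (tt k) p = tau 1 k 0 1 (D01 k) inf_le_left p := fun p => by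
    rw [aeval_def]; rfl
  have h2 : ∀ p : k[X], aeval (ss k) p = tau 1 k 1 0 (D01 k) inf_le_right p := fun p => by
    rw [aeval_def]; rfl
  rw [← h1, ← h2]
  exact aeval_eq_reflect (ss k) (tt k) (ss_mul_tt k) n q hq

theorem eq_zero_of_tau_eq (p q : k[X]) (c : ℕ) (hc : 0 < c)
    (h : tau 1 k 1 0 (D01 k) inf_le_right q =
      tt k ^ c * tau 1 k 0 1 (D01 k) inf_le_left p) : p = 0 := by
  set n := q.natDegree with hn
  rw [tau10_eq k q n le_rfl] at h
  have h' : tau 1 k 0 1 (D01 k) inf_le_left (reflect n q) =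
      tau 1 k 0 1 (D01 k) inf_le_left (X ^ (c + n) * p) := by
    calc tau 1 k 0 1 (D01 k) inf_le_left (reflect n q)
        = tau 1 k 0 1 (D01 k) inf_le_left (reflect n q) * ss k ^ n * tt k ^ n := by
          rw [mul_assoc, ← mul_pow, ss_mul_tt, one_pow, mul_one]
      _ = tt k ^ c * tau 1 k 0 1 (D01 k) inf_le_left p * tt k ^ n := by rw [h]
      _ = tau 1 k 0 1 (D01 k) inf_le_left (X ^ (c + n) * p) := by
          rw [map_mul, map_pow, tau_X, pow_add]
          ring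
  have h'' := tau_injective_D01 k h'
  by_contra hp
  have h3 := congrArg natDegree h''
  rw [natDegree_X_pow_mul _ hp] at h3
  have h4 : (reflect n q).natDegree ≤ max n q.natDegree := natDegree_reflect_le
  rw [← hn, max_self] at h4
  omega

theorem pow_swap_aux2 {A : Type*} [CommRing A] (x y : A) (a b c' d c : ℕ)
    (h : a + d = c' + c + b) :
    x ^ a * y ^ b * (y ^ c' * x ^ d * y ^ c) = x ^ c' * y ^ d * x ^ c * (y ^ a * x ^ b) := by
  have hx : x ^ a * x ^ d = x ^ c' * x ^ c * x ^ b := by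
    rw [← pow_add, ← pow_add, ← pow_add, h]
  have hy : y ^ b * y ^ c' * y ^ c = y ^ d * y ^ a := by
    rw [← pow_add, ← pow_add, ← pow_add]
    congr 1
    omega
  linear_combination (y ^ b * y ^ c' * y ^ c) * hx + (x ^ c' * x ^ c * x ^ b) * hy

theorem mono_add_nat (b : ℤ) (c : ℕ) :
    mono 1 k 0 1 (b + c) (D01 k) inf_le_left inf_le_right =
      mono 1 k 0 1 b (D01 k) inf_le_left inf_le_right * tt k ^ c := by
  unfold mono tt tfun
  rw [fr_pow, fr_mul]
  apply fr_eq_of_mul_eq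
  simp only [gX_val]
  apply pow_swap_aux2
  have h1 := ni_eq (b + c)
  have h2 := ni_eq b
  omega

/-- a morphism `O(a) ⟶ O(b)` with `b < a` kills the standard generator on the chart `D₀` -/
theorem hom_twist_kills {a b : ℤ} (hab : b < a)
    (f : Twist.twist (CohB1.polyGrading 1 k) a ⟶ Twist.twist (CohB1.polyGrading 1 k) b) :
    (f.app (DD 1 k 0)).hom (tgen (CohB1.polyGrading 1 k) a (gX 1 k 0) (DD 1 k 0) le_rfl) = 0 := by
  obtain ⟨u0, hu0⟩ := (isGen_tgen (CohB1.polyGrading 1 k) b (gX 1 k 0)).exists_eq_smul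
    ((f.app (DD 1 k 0)).hom (tgen (CohB1.polyGrading 1 k) a (gX 1 k 0) (DD 1 k 0) le_rfl))
  obtain ⟨u1, hu1⟩ := (isGen_tgen (CohB1.polyGrading 1 k) b (gX 1 k 1)).exists_eq_smul
    ((f.app (DD 1 k 1)).hom (tgen (CohB1.polyGrading 1 k) a (gX 1 k 1) (DD 1 k 1) le_rfl))
  obtain ⟨p, hp⟩ := (tau_bijective k 0 1 (by decide)).2 u0
  obtain ⟨q, hq⟩ := (tau_bijective k 1 0 (by decide)).2 u1
  obtain ⟨c, hc⟩ : ∃ c : ℕ, a = b + c := ⟨(a - b).toNat, by omega⟩
  have hcpos : 0 < c := by omega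
  -- restrict to the overlap
  have r0 := congrArg (rs (Twist.twist (CohB1.polyGrading 1 k) b)
    (inf_le_left : D01 k ≤ DD 1 k 0)) hu0
  have r1 := congrArg (rs (Twist.twist (CohB1.polyGrading 1 k) b)
    (inf_le_right : D01 k ≤ DD 1 k 1)) hu1
  rw [← hom_rs, rs_smul, rs_tgen, rs_tgen] at r0 r1
  rw [tgen_mono 1 k a 0 1 (D01 k) inf_le_left inf_le_right,
    tgen_mono 1 k b 0 1 (D01 k) inf_le_left inf_le_right,
    Scheme.Modules.Hom.app_smul, r0, ← mul_smul, ← mul_smul] at r1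
  have h5 := ((isGen_tgen (CohB1.polyGrading 1 k) b (gX 1 k 0)).mono
    (inf_le_left : D01 k ≤ DD 1 k 0)).smul_injective r1
  rw [hc, mono_add_nat, ← hp, ← hq, rr_tau, rr_tau] at h5
  have hunit : IsUnit (mono 1 k 0 1 b (D01 k) inf_le_left inf_le_right) :=
    IsUnit.of_mul_eq_one _ (mono_mul_swap 1 k 1 0 b (D01 k) inf_le_right inf_le_left)
  have h6 : tau 1 k 1 0 (D01 k) inf_le_right q =
      tt k ^ c * tau 1 k 0 1 (D01 k) inf_le_left p := by
    apply hunit.mul_left_cancel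
    rw [mul_comm _ (tau 1 k 1 0 (D01 k) inf_le_right q), ← h5]
    ring
  have hp0 := eq_zero_of_tau_eq k p q c hcpos h6
  rw [hu0, ← hp, hp0, map_zero, zero_smul]

end Groth.Agent.Lib.Helper60.Split
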