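import Groth.Agent.Lib.Helper60.Gs7

/-!
# Grothendieck splitting on `P^1_k`: uniqueness of the splitting type
-/

set_option autoImplicit false
universe u
open CategoryTheory CategoryTheory.Limits AlgebraicGeometry TopologicalSpace Opposite

namespace Groth.Agent.Lib.Helper60.Split

open Groth.Agent.Lib.Helper35.Gen Groth.Agent.Lib.Helper35.AbSheaf Scheme.Modules
open Groth.Agent.Lib.Helper60.ProjFrac Groth.Agent.Lib.Helper60.ProjUPLib
open Groth.Agent.Lib.Helper60.PConeLib Groth.Agent.Lib.Helper60.PicPn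
open Groth.Agent.Lib.Helper60.FrameLib Groth.Agent.Lib.Helper60.Birkhoff
open HomogeneousLocalization Polynomial

/-- an invertible matrix cannot have a too large block of zeros -/
theorem card_le_of_zero_block {R : Type*} [CommRing R] [Nontrivial R] {r : ℕ}
    (T : Matrix (Fin r) (Fin r) R) (hT : IsUnit T.det) (S S' : Finset (Fin r))
    (h : ∀ i j, j ∈ S → i ∉ S' → T i j = 0) : S.card ≤ S'.card := by
  classical
  let L : (S → R) →ₗ[R] (S' → R) :=
    Matrix.mulVecLin (T.submatrix (fun i : S' => i.1) (fun j : S => j.1))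
  have hinj : Function.Injective L := by
    rw [← LinearMap.ker_eq_bot, LinearMap.ker_eq_bot']
    intro v hv
    let v' : Fin r → R := fun j => if hj : j ∈ S then v ⟨j, hj⟩ else 0
    have hv' : ∀ j : S, v' j.1 = v j := by
      intro j
      simp only [v', j.2, dif_pos]
    have hsum : ∀ i, ∑ j, T i j * v' j = ∑ j : S, T i j.1 * v j := by
      intro i
      rw [← Finset.sum_subset (Finset.subset_univ S) (fun j _ hj => by
        simp only [v', hj, dif_neg, not_false_eq_true, mul_zero])]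
      rw [← Finset.sum_coe_sort S (fun j => T i j * v' j)]
      apply Finset.sum_congr rfl
      intro j _
      rw [hv']
    have h1 : T.mulVec v' = 0 := by
      funext i
      simp only [Matrix.mulVec, dotProduct, Pi.zero_apply]
      by_cases hi : i ∈ S'
      · have h2 := congrFun hv ⟨i, hi⟩
        rw [hsum]
        simpa [L, Matrix.mulVec, dotProduct] using h2
      · apply Finset.sum_eq_zero
        intro j _
        by_cases hj : j ∈ S
        · rw [h i j hj hi, zero_mul]
        · simp only [v', hj, dif_neg, not_false_eq_true, mul_zero]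
    have h2 : v' = 0 := by
      have h3 : v' = (T⁻¹ * T).mulVec v' := by
        rw [Matrix.nonsing_inv_mul _ hT, Matrix.one_mulVec]
      rw [← Matrix.mulVec_mulVec, h1, Matrix.mulVec_zero] at h3
      exact h3
    funext j
    rw [← hv' j, h2]
    rfl
  have := card_le_of_injective R L hinj
  simpa [Fintype.card_coe] using this

variable (k : Type u) [Field k]

/-- comparison of splitting types -/
theorem le_of_iso {r : ℕ} (d d' : Fin r → ℤ) (hd : Antitone d) (hd' : Antitone d')
    (θ : (∐ fun j : Fin r => Twist.twist (CohB1.polyGrading 1 k) (d j)) ≅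
      ∐ fun j : Fin r => Twist.twist (CohB1.polyGrading 1 k) (d' j)) : ∀ j, d j ≤ d' j := by
  intro j
  by_contra hlt0
  have hlt : d' j < d j := not_le.1 hlt0
  let F : Fin r → (Proj (CohB1.polyGrading 1 k)).Modules :=
    fun j => Twist.twist (CohB1.polyGrading 1 k) (d j)
  let F' : Fin r → (Proj (CohB1.polyGrading 1 k)).Modules :=
    fun j => Twist.twist (CohB1.polyGrading 1 k) (d' j)
  let x : Fin r → Γ(∐ F, DD 1 k 0) := fun l => ((Sigma.ι F l).app (DD 1 k 0)).hom
    (tgen (CohB1.polyGrading 1 k) (d l) (gX 1 k 0) (DD 1 k 0) le_rfl)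
  let x' : Fin r → Γ(∐ F', DD 1 k 0) := fun l => ((Sigma.ι F' l).app (DD 1 k 0)).hom
    (tgen (CohB1.polyGrading 1 k) (d' l) (gX 1 k 0) (DD 1 k 0) le_rfl)
  have hx : IsFrame (∐ F) (DD 1 k 0) x :=
    isFrame_sigma F _ _ (fun l => isGen_tgen (CohB1.polyGrading 1 k) (d l) (gX 1 k 0))
  have hx' : IsFrame (∐ F') (DD 1 k 0) x' :=
    isFrame_sigma F' _ _ (fun l => isGen_tgen (CohB1.polyGrading 1 k) (d' l) (gX 1 k 0))
  have hθx : IsFrame (∐ F') (DD 1 k 0) (fun l => (θ.hom.app (DD 1 k 0)).hom (x l)) :=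
    hx.map_iso θ
  obtain ⟨T, hT, hTx⟩ := exists_matrix hx' hθx
  haveI := isDomain_chart1 k 0 1 (by decide)
  have hzero : ∀ i l, l ∈ Finset.Iic j → i ∉ Finset.Iio j → T i l = 0 := by
    intro i l hl hi
    have hl' : l ≤ j := Finset.mem_Iic.1 hl
    have hi' : j ≤ i := not_lt.1 (fun h => hi (Finset.mem_Iio.2 h))
    have hdd : d' i < d l := lt_of_le_of_lt (hd' hi') (lt_of_lt_of_le hlt (hd hl'))
    let f : Twist.twist (CohB1.polyGrading 1 k) (d l) ⟶ Twist.twist (CohB1.polyGrading 1 k) (d' i) :=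
      Sigma.ι F l ≫ θ.hom ≫ prj F' i
    have hf := hom_twist_kills k hdd f
    have h1 : (f.app (DD 1 k 0)).hom
        (tgen (CohB1.polyGrading 1 k) (d l) (gX 1 k 0) (DD 1 k 0) le_rfl) =
        ((prj F' i).app (DD 1 k 0)).hom ((θ.hom.app (DD 1 k 0)).hom (x l)) := rfl
    rw [h1, hTx l, map_sum, Finset.sum_eq_single i] at hf
    · rw [Scheme.Modules.Hom.app_smul, prj_ι_app_self] at hf
      exact (isGen_tgen (CohB1.polyGrading 1 k) (d' i) (gX 1 k 0)).smul_injective
        (hf.trans (zero_smul _ _).symm)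
    · intro i' _ hne
      rw [Scheme.Modules.Hom.app_smul, prj_ι_app_ne F' i i' hne, smul_zero]
    · intro h
      exact absurd (Finset.mem_univ i) h
  have hcard := card_le_of_zero_block T hT (Finset.Iic j) (Finset.Iio j) hzero
  rw [Fin.card_Iic, Fin.card_Iio] at hcard
  omega

/-- **Grothendieck splitting on `P^1_k`.** -/
theorem grothendieck_splitting (r : ℕ) (E : (Proj (CohB1.polyGrading 1 k)).Modules)
    (hE : FlatMod.IsFinLocFreeOfRank r E) :
    ∃! d : Fin r → ℤ, Antitone d ∧
      Nonempty (E ≅ ∐ fun i : Fin r => Twist.twist (CohB1.polyGrading 1 k) (d i)) := by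
  obtain ⟨d, hd, ⟨θ⟩⟩ := exists_antitone_iso k E hE
  refine ⟨d, ⟨hd, ⟨θ⟩⟩, ?_⟩
  rintro d' ⟨hd', ⟨θ'⟩⟩
  funext j
  exact le_antisymm (le_of_iso k d' d hd' hd (θ'.symm ≪≫ θ) j)
    (le_of_iso k d d' hd hd' (θ.symm ≪≫ θ') j)

end Groth.Agent.Lib.Helper60.Split
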