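import Groth.Agent.Lib.Helper35.PbSection
import Groth.Agent.Lib.Lead.SheafPts

/-!
# Morphisms out of a module with local generators

If `N` is covered by opens `D i` on which sections `t i` generate it freely, a morphism `N ⟶ P` is the
same as a family of sections `p i` of `P` over `D i` satisfying the same transition relations as
the `t i`.
-/

set_option autoImplicit false
universe u w
open CategoryTheory AlgebraicGeometry TopologicalSpace Opposite

namespace Groth.Agent.Lib.Helper60.HomOfGen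

open Groth.Agent.Lib.Helper35.Gen Groth.Agent.Lib.Helper35.AbSheaf
open Groth.Agent.Lib.Lead.SheafGlue

variable {X : Scheme.{u}}

section coef

variable {N : X.Modules} {U : X.Opens} {e : Γ(N, U)} (he : IsGen N U e)

/-- coefficient of a section with respect to a generator -/
noncomputable def coef (W : X.Opens) (hW : W ≤ U) (n : Γ(N, W)) : Γ(X, W) :=
  ((he W hW).2 n).choose

theorem coef_spec (W : X.Opens) (hW : W ≤ U) (n : Γ(N, W)) :
    coef he W hW n • rs N hW e = n := ((he W hW).2 n).choose_spec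

theorem coef_unique (W : X.Opens) (hW : W ≤ U) (n : Γ(N, W)) (a : Γ(X, W))
    (h : a • rs N hW e = n) : a = coef he W hW n :=
  (he W hW).1 (h.trans (coef_spec he W hW n).symm)

theorem coef_add (W : X.Opens) (hW : W ≤ U) (n n' : Γ(N, W)) :
    coef he W hW (n + n') = coef he W hW n + coef he W hW n' := by
  symm
  apply coef_unique
  rw [add_smul, coef_spec, coef_spec]

theorem coef_smul (W : X.Opens) (hW : W ≤ U) (r : Γ(X, W)) (n : Γ(N, W)) :
    coef he W hW (r • n) = r * coef he W hW n := by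
  symm
  apply coef_unique
  rw [mul_smul, coef_spec]

theorem coef_rs (W W' : X.Opens) (hW : W ≤ U) (h : W' ≤ W) (n : Γ(N, W)) :
    coef he W' (h.trans hW) (rs N h n) = rr X h (coef he W hW n) := by
  symm
  apply coef_unique
  have h1 := congrArg (rs N h) (coef_spec he W hW n)
  rw [rs_smul, rs_rs] at h1
  exact h1

theorem coef_self (W : X.Opens) (hW : W ≤ U) : coef he W hW (rs N hW e) = 1 := by
  symm
  apply coef_unique
  rw [one_smul]

end coef

section main

variable {N P : X.Modules} {ι : Sort w} {D : ι → X.Opens} {t : ∀ i, Γ(N, D i)}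
  (ht : ∀ i, IsGen N (D i) (t i)) (p : ∀ i, Γ(P, D i))

/-- the local formula for the morphism -/
noncomputable def loc (i : ι) (W : X.Opens) (hW : W ≤ D i) (n : Γ(N, W)) : Γ(P, W) :=
  coef (ht i) W hW n • rs P hW (p i)

theorem loc_rs (i : ι) (W W' : X.Opens) (hW : W ≤ D i) (h : W' ≤ W) (n : Γ(N, W)) :
    rs P h (loc ht p i W hW n) = loc ht p i W' (h.trans hW) (rs N h n) := by
  unfold loc
  rw [rs_smul, rs_rs, coef_rs]

theorem loc_add (i : ι) (W : X.Opens) (hW : W ≤ D i) (n n' : Γ(N, W)) :
    loc ht p i W hW (n + n') = loc ht p i W hW n + loc ht p i W hW n' := by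
  unfold loc
  rw [coef_add, add_smul]

theorem loc_smul (i : ι) (W : X.Opens) (hW : W ≤ D i) (r : Γ(X, W)) (n : Γ(N, W)) :
    loc ht p i W hW (r • n) = r • loc ht p i W hW n := by
  unfold loc
  rw [coef_smul, mul_smul]

variable (hp : ∀ (i j : ι) (c : Γ(X, D i ⊓ D j)),
  rs N inf_le_right (t j) = c • rs N inf_le_left (t i) →
    rs P inf_le_right (p j) = c • rs P inf_le_left (p i))

include hp in
theorem loc_indep (i j : ι) (W : X.Opens) (hWi : W ≤ D i) (hWj : W ≤ D j) (n : Γ(N, W)) :
    loc ht p i W hWi n = loc ht p j W hWj n := by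
  have hW : W ≤ D i ⊓ D j := le_inf hWi hWj
  obtain ⟨c, hc⟩ : ∃ c : Γ(X, D i ⊓ D j),
      rs N inf_le_right (t j) = c • rs N inf_le_left (t i) :=
    ⟨coef (ht i) _ inf_le_left (rs N inf_le_right (t j)), (coef_spec (ht i) _ _ _).symm⟩
  have hpc := hp i j c hc
  have h1 : rs N hWj (t j) = rr X hW c • rs N hWi (t i) := by
    have := congrArg (rs N hW) hc
    rw [rs_smul, rs_rs, rs_rs] at this
    exact this
  have h2 : rs P hWj (p j) = rr X hW c • rs P hWi (p i) := by
    have := congrArg (rs P hW) hpc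
    rw [rs_smul, rs_rs, rs_rs] at this
    exact this
  have h3 : coef (ht j) W hWj n * rr X hW c = coef (ht i) W hWi n := by
    apply coef_unique
    rw [mul_smul, ← h1, coef_spec]
  unfold loc
  rw [← h3, mul_smul, ← h2]

/-- `q` is the value of the morphism at `n` -/
def IsVal (V : X.Opens) (n : Γ(N, V)) (q : Γ(P, V)) : Prop :=
  ∀ (i : ι) (W : X.Opens) (hWV : W ≤ V) (hW : W ≤ D i),
    rs P hWV q = loc ht p i W hW (rs N hWV n)

variable (hcov : ∀ x : X, ∃ i, x ∈ D i)

include hcov in
theorem isVal_unique (V : X.Opens) (n : Γ(N, V)) (q q' : Γ(P, V))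
    (hq : IsVal ht p V n q) (hq' : IsVal ht p V n q') : q = q' := by
  apply eq_of_locally_eq_pts P q q'
  intro x hx
  obtain ⟨i, hi⟩ := hcov x
  refine ⟨V ⊓ D i, inf_le_left, ⟨hx, hi⟩, ?_⟩
  exact (hq i _ inf_le_left inf_le_right).trans (hq' i _ inf_le_left inf_le_right).symm

include hp hcov in
theorem exists_isVal (V : X.Opens) (n : Γ(N, V)) : ∃ q : Γ(P, V), IsVal ht p V n q := by
  choose i hi using hcov
  obtain ⟨q, hq⟩ := exists_glue_pts P (W := V) (fun x => V ⊓ D (i x.1)) (fun x => inf_le_left)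
    (fun x => ⟨x.2, hi x.1⟩)
    (fun x => loc ht p (i x.1) (V ⊓ D (i x.1)) inf_le_right (rs N inf_le_left n)) (by
      intro x y
      change rs P _ _ = rs P _ _
      rw [loc_rs, loc_rs, rs_rs, rs_rs]
      exact loc_indep ht p hp _ _ _ _ _ _)
  refine ⟨q, ?_⟩
  intro j W hWV hW
  apply eq_of_locally_eq_pts P
  intro x hx
  have hxV : x ∈ V := hWV hx
  refine ⟨W ⊓ (V ⊓ D (i x)), inf_le_left, ⟨hx, hxV, hi x⟩, ?_⟩
  change rs P _ (rs P hWV q) = rs P _ (loc ht p j W hW (rs N hWV n))
  rw [rs_rs, loc_rs, rs_rs]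
  have h1 : rs P (inf_le_right : W ⊓ (V ⊓ D (i x)) ≤ V ⊓ D (i x)) (rs P inf_le_left q) =
      rs P ((inf_le_left : W ⊓ (V ⊓ D (i x)) ≤ W).trans hWV) q := rs_rs P _ _ _
  rw [← h1]
  have h2 : rs P (inf_le_left : V ⊓ D (i x) ≤ V) q = _ := hq ⟨x, hxV⟩
  rw [h2, loc_rs, rs_rs]
  exact loc_indep ht p hp _ _ _ _ _ _

/-- the value of the morphism -/
noncomputable def val (V : X.Opens) (n : Γ(N, V)) : Γ(P, V) :=
  (exists_isVal ht p hp hcov V n).choose

theorem isVal_val (V : X.Opens) (n : Γ(N, V)) : IsVal ht p V n (val ht p hp hcov V n) :=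
  (exists_isVal ht p hp hcov V n).choose_spec

theorem val_add (V : X.Opens) (n n' : Γ(N, V)) :
    val ht p hp hcov V (n + n') = val ht p hp hcov V n + val ht p hp hcov V n' := by
  apply isVal_unique ht p hcov V (n + n') _ _ (isVal_val ht p hp hcov V _)
  intro i W hWV hW
  rw [rs_add, rs_add, loc_add, isVal_val ht p hp hcov V n i W hWV hW,
    isVal_val ht p hp hcov V n' i W hWV hW]

theorem val_smul (V : X.Opens) (r : Γ(X, V)) (n : Γ(N, V)) :
    val ht p hp hcov V (r • n) = r • val ht p hp hcov V n := by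
  apply isVal_unique ht p hcov V (r • n) _ _ (isVal_val ht p hp hcov V _)
  intro i W hWV hW
  rw [rs_smul, rs_smul, loc_smul, isVal_val ht p hp hcov V n i W hWV hW]

theorem val_rs (V V' : X.Opens) (h : V' ≤ V) (n : Γ(N, V)) :
    val ht p hp hcov V' (rs N h n) = rs P h (val ht p hp hcov V n) := by
  apply isVal_unique ht p hcov V' (rs N h n) _ _ (isVal_val ht p hp hcov V' _)
  intro i W hWV hW
  rw [rs_rs, rs_rs]
  exact isVal_val ht p hp hcov V n i W (hWV.trans h) hW

theorem val_gen (i : ι) : val ht p hp hcov (D i) (t i) = p i := by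
  apply isVal_unique ht p hcov (D i) (t i) _ _ (isVal_val ht p hp hcov (D i) _)
  intro j W hWV hW
  rw [loc_indep ht p hp j i W hW hWV]
  unfold loc
  rw [coef_self, one_smul]

/-- **The morphism `N ⟶ P` determined by the images of local generators.** -/
noncomputable def hom : N ⟶ P :=
  ⟨PresheafOfModules.homMk
    { app := fun U => AddCommGrpCat.ofHom
        (AddMonoidHom.mk' (val ht p hp hcov U.unop) (val_add ht p hp hcov U.unop))
      naturality := fun U U' i => by
        ext n
        exact val_rs ht p hp hcov U.unop U'.unop i.unop.le n }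
    (fun U r n => val_smul ht p hp hcov U.unop r n)⟩

theorem hom_app (V : X.Opens) (n : Γ(N, V)) :
    ((hom ht p hp hcov).app V).hom n = val ht p hp hcov V n := rfl

theorem hom_app_gen (i : ι) : ((hom ht p hp hcov).app (D i)).hom (t i) = p i :=
  val_gen ht p hp hcov i

end main

end Groth.Agent.Lib.Helper60.HomOfGen
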