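import Groth.Agent.Lib.Helper35.PbSec
import Groth.Prelude.Def_ProjUP

/-!
# Pulled back sections under composition and identity
-/

set_option autoImplicit false
universe u
open CategoryTheory CategoryTheory.Limits AlgebraicGeometry TopologicalSpace Opposite

namespace Groth.Agent.Lib.Helper60.PbComp

open Groth.Agent.Lib.Helper35.Gen Groth.Agent.Lib.Helper35.AbSheaf Scheme.Modules
open Groth.Agent.Lib.Helper35.PbInv

variable {X Y Z : Scheme.{u}}

theorem pullSec_eq_pbSec (f : X ⟶ Y) (M : Y.Modules) (m : Γ(M, ⊤)) :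
    ProjUP.pullSec f M m = pbSec f M ⊤ m := rfl

/-- the comparison `(f ≫ g)^* M ≅ f^* g^* M` -/
noncomputable def compIso (f : X ⟶ Y) (g : Y ⟶ Z) (M : Z.Modules) :
    (Scheme.Modules.pullback (f ≫ g)).obj M ≅
      (Scheme.Modules.pullback f).obj ((Scheme.Modules.pullback g).obj M) :=
  ((Scheme.Modules.pullbackComp f g).app M).symm

theorem compIso_pullSec (f : X ⟶ Y) (g : Y ⟶ Z) (M : Z.Modules) (m : Γ(M, ⊤)) :
    ((compIso f g M).hom.app ⊤).hom (ProjUP.pullSec (f ≫ g) M m) =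
      ProjUP.pullSec f _ (ProjUP.pullSec g M m) := by
  have h := unit_conjugateEquiv
    ((pullbackPushforwardAdjunction g).comp (pullbackPushforwardAdjunction f))
    (pullbackPushforwardAdjunction (f ≫ g)) (Scheme.Modules.pullbackComp f g).inv M
  rw [conjugateEquiv_pullbackComp_inv] at h
  have h2 := congrArg (fun ψ => (Scheme.Modules.Hom.app ψ ⊤).hom m) h
  exact h2.symm

/-- the comparison `(𝟙)^* M ≅ M` -/
noncomputable def idIso (M : X.Modules) : (Scheme.Modules.pullback (𝟙 X)).obj M ≅ M :=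
  (Scheme.Modules.pullbackId X).app M

theorem idIso_pullSec (M : X.Modules) (m : Γ(M, ⊤)) :
    ((idIso M).hom.app ⊤).hom (ProjUP.pullSec (𝟙 X) M m) = m := by
  have h := unit_conjugateEquiv Adjunction.id
    (pullbackPushforwardAdjunction (𝟙 X)) (Scheme.Modules.pullbackId X).hom M
  rw [conjugateEquiv_pullbackId_hom] at h
  have h2 := congrArg (fun ψ => (Scheme.Modules.Hom.app ψ ⊤).hom m) h
  exact h2.symm

/-- pulled back sections and morphisms of modules -/
theorem map_pullSec (f : X ⟶ Y) {M N : Y.Modules} (φ : M ⟶ N) (m : Γ(M, ⊤)) :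
    (((Scheme.Modules.pullback f).map φ).app ⊤).hom (ProjUP.pullSec f M m) =
      ProjUP.pullSec f N ((φ.app ⊤).hom m) :=
  pbSec_nat f φ ⊤ m

theorem pullSec_add (f : X ⟶ Y) (M : Y.Modules) (m m' : Γ(M, ⊤)) :
    ProjUP.pullSec f M (m + m') = ProjUP.pullSec f M m + ProjUP.pullSec f M m' :=
  map_add (pbSec f M ⊤) m m'

theorem pullSec_zero (f : X ⟶ Y) (M : Y.Modules) :
    ProjUP.pullSec f M (0 : Γ(M, ⊤)) = 0 :=
  map_zero (pbSec f M ⊤)

theorem pullSec_smul (f : X ⟶ Y) (M : Y.Modules) (r : Γ(Y, ⊤)) (m : Γ(M, ⊤)) :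
    ProjUP.pullSec f M (r • m) = (f.appTop).hom r • ProjUP.pullSec f M m :=
  pbSec_smul f M ⊤ r m

theorem pullSec_sum (f : X ⟶ Y) (M : Y.Modules) {ι : Type*} (s : Finset ι) (m : ι → Γ(M, ⊤)) :
    ProjUP.pullSec f M (∑ i ∈ s, m i) = ∑ i ∈ s, ProjUP.pullSec f M (m i) :=
  map_sum (pbSec f M ⊤) m s

/-- transport along an equality of morphisms -/
theorem exists_iso_of_eq {f f' : X ⟶ Y} (h : f = f') (M : Y.Modules) :
    ∃ e : (Scheme.Modules.pullback f).obj M ≅ (Scheme.Modules.pullback f').obj M,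
      ∀ m : Γ(M, ⊤), (e.hom.app ⊤).hom (ProjUP.pullSec f M m) = ProjUP.pullSec f' M m := by
  subst h
  exact ⟨Iso.refl _, fun m => rfl⟩

end Groth.Agent.Lib.Helper60.PbComp
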