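import Groth.Agent.Lib.Helper60.SecKer4
import Groth.Agent.Lib.Helper60.PbComp

/-!
# Linear forms as sections of `O(1)` and their pullbacks
-/

set_option autoImplicit false
universe u
open CategoryTheory CategoryTheory.Limits AlgebraicGeometry TopologicalSpace Opposite

namespace Groth.Agent.Lib.Helper60.Hyper

open Groth.Agent.Lib.Helper35.Gen Groth.Agent.Lib.Helper35.AbSheaf
open Groth.Agent.Lib.Helper60.ProjUPLib Groth.Agent.Lib.Helper60.TwistLib
open Groth.Agent.Lib.Helper60.ProjFrac Groth.Agent.Lib.Helper60.SecKer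
open Groth.Agent.Lib.Helper60.PbComp

section gsec

variable {R A : Type u} [CommRing R] [CommRing A] [Algebra R A] (𝒜 : ℕ → Submodule R A)
  [GradedAlgebra 𝒜]

theorem gsec_add {n : ℕ} (a b : 𝒜 n) : gsec 𝒜 (a + b) = gsec 𝒜 a + gsec 𝒜 b := by
  apply sect_ext
  intro x
  change Localization.mk (a.1 + b.1) _ = Localization.mk a.1 _ + Localization.mk b.1 _
  rw [Localization.add_mk_self]

theorem gsec_zero {n : ℕ} : gsec 𝒜 (0 : 𝒜 n) = 0 := by
  apply sect_ext
  intro x
  change Localization.mk (0 : A) _ = 0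
  exact Localization.mk_zero _

theorem gsec_smul {n : ℕ} (c : R) (a : 𝒜 n) :
    gsec 𝒜 (c • a) = ProjUP.toGlobal (strMap 𝒜) c • gsec 𝒜 a := by
  rw [toGlobal_strMap]
  apply sect_ext
  intro x
  refine Eq.trans ?_ (smul_sect_val (n : ℤ) ⊤ _ _ x).symm
  change Localization.mk (c • a.1) _ = Localization.mk (algebraMap R A c) _ * Localization.mk a.1 _
  rw [Localization.mk_mul, Localization.mk_eq_mk_iff, Localization.r_iff_exists]
  exact ⟨1, by simp [Algebra.smul_def]⟩

theorem gsec_sum {n : ℕ} {ι : Type*} (s : Finset ι) (a : ι → 𝒜 n) :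
    gsec 𝒜 (∑ i ∈ s, a i) = ∑ i ∈ s, gsec 𝒜 (a i) := by
  classical
  induction s using Finset.induction_on with
  | empty => simp [gsec_zero]
  | insert i s hi ih => rw [Finset.sum_insert hi, Finset.sum_insert hi, gsec_add, ih]

end gsec

section poly

variable (k : Type u) [CommRing k] (N : ℕ)

/-- the coordinate as an element of the degree one part -/
noncomputable def Xdeg (i : Fin (N + 1)) : CohB1.polyGrading N k 1 :=
  ⟨MvPolynomial.X i, MvPolynomial.isHomogeneous_X k i⟩

theorem coord_eq (i : Fin (N + 1)) :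
    ProjUP.coord N k i = gsec (CohB1.polyGrading N k) (Xdeg k N i) := rfl

/-- every linear form is a combination of the coordinates -/
theorem exists_coeffs (ℓ : CohB1.polyGrading N k 1) :
    ∃ a : Fin (N + 1) → k, ℓ = ∑ i, a i • Xdeg k N i := by
  have h1 : ℓ.1 ∈ Submodule.span k (Set.range (MvPolynomial.X : Fin (N + 1) → _)) := by
    rw [← MvPolynomial.homogeneousSubmodule_one_eq_span_X]
    exact ℓ.2
  obtain ⟨a, ha⟩ := (Submodule.mem_span_range_iff_exists_fun k).mp h1
  refine ⟨a, Subtype.ext ?_⟩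
  rw [← ha, Submodule.coe_sum]
  rfl

theorem gsec_linear (a : Fin (N + 1) → k) :
    gsec (CohB1.polyGrading N k) (∑ i, a i • Xdeg k N i) =
      ∑ i, ProjUP.toGlobal (CohB1.ProjSpace.toSpec N k) (a i) • ProjUP.coord N k i := by
  rw [gsec_sum]
  refine Finset.sum_congr rfl (fun i _ => ?_)
  rw [gsec_smul]
  rfl

/-- pullback of a linear form -/
theorem pullSec_linear {Z : Scheme.{u}} (r : Z ⟶ CohB1.ProjSpace N k) (a : Fin (N + 1) → k) :
    ProjUP.pullSec r (Twist.twistProjSpace N k 1)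
        (gsec (CohB1.polyGrading N k) (∑ i, a i • Xdeg k N i)) =
      ∑ i, ProjUP.toGlobal (r ≫ CohB1.ProjSpace.toSpec N k) (a i) • tsec N r i := by
  rw [gsec_linear, pullSec_sum]
  refine Finset.sum_congr rfl (fun i _ => ?_)
  rw [pullSec_smul]
  rfl

end poly

section local_arg

variable {Y : Scheme.{u}} {L : Y.Modules} {ι : Type*} [Fintype ι]

/-- if `u • t₀ = Σ b_m • t_m` with `u` a unit and `t₀` generates near `z`, then some `t_m`
generates near `z` -/
theorem exists_mem_genOpen_of_unit_relation (t₀ : Γ(L, ⊤)) (t : ι → Γ(L, ⊤)) (u : Γ(Y, ⊤))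
    (hu : IsUnit u) (b : ι → Γ(Y, ⊤)) (hrel : u • t₀ = ∑ m, b m • t m) (z : Y)
    (hz : z ∈ genOpen L t₀) : ∃ m, z ∈ genOpen L (t m) := by
  set W := genOpen L t₀ with hW
  have he : IsGen L W (rs L le_top t₀) := isGen_genOpen L t₀
  set e := rs L (le_top : W ≤ ⊤) t₀ with hedef
  let c : ι → Γ(Y, W) := fun m => HomOfGen.coef he W le_rfl (rs L le_top (t m))
  have hc : ∀ m, rs L (le_top : W ≤ ⊤) (t m) = c m • e := by
    intro m
    have := HomOfGen.coef_spec he W le_rfl (rs L le_top (t m))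
    rw [rs_self] at this
    exact this.symm
  have hsum : (∑ m, rr Y (le_top : W ≤ ⊤) (b m) * c m) = rr Y (le_top : W ≤ ⊤) u := by
    have h1 : rs L (le_top : W ≤ ⊤) (u • t₀) = (∑ m, rr Y (le_top : W ≤ ⊤) (b m) * c m) • e := by
      rw [hrel, map_sum, Finset.sum_smul]
      refine Finset.sum_congr rfl (fun m _ => ?_)
      rw [rs_smul, mul_smul]
      exact congrArg _ (hc m)
    rw [rs_smul] at h1
    have h3 := he W le_rfl
    rw [rs_self] at h3
    exact (h3.1 h1).symm
  by_contra hcon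
  push Not at hcon
  have hnu : ∀ m, ¬ IsUnit (Y.presheaf.germ W z hz (c m)) := by
    intro m hum
    have hx : z ∈ Y.basicOpen (c m) := (Y.mem_basicOpen (c m) z hz).2 hum
    apply hcon m
    have hle : Y.basicOpen (c m) ≤ W := Y.basicOpen_le (c m)
    have h1 : rs L (le_top : Y.basicOpen (c m) ≤ ⊤) (t m) = rr Y hle (c m) • rs L hle e := by
      have := congrArg (rs L hle) (hc m)
      rwa [rs_rs, rs_smul] at this
    refine le_genOpen L (t m) (Y.basicOpen (c m)) ?_ hx
    rw [h1, isGen_smul_iff (he.mono hle)]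
    change Y.basicOpen (c m) ≤ Y.basicOpen (Y.presheaf.map (homOfLE hle).op (c m))
    rw [Scheme.basicOpen_res]
    exact le_inf le_rfl le_rfl
  have hmem : Y.presheaf.germ W z hz (∑ m, rr Y (le_top : W ≤ ⊤) (b m) * c m) ∈
      IsLocalRing.maximalIdeal (Y.presheaf.stalk z) := by
    rw [map_sum]
    refine Ideal.sum_mem _ (fun m _ => ?_)
    rw [map_mul]
    exact Ideal.mul_mem_left _ _ ((IsLocalRing.mem_maximalIdeal _).mpr (hnu m))
  rw [hsum, IsLocalRing.mem_maximalIdeal, mem_nonunits_iff] at hmem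
  apply hmem
  exact (hu.map (rr Y (le_top : W ≤ ⊤))).map (Y.presheaf.germ W z hz).hom

end local_arg

end Groth.Agent.Lib.Helper60.Hyper
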