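import Groth.Agent.Lib.Helper60.ZeroSch1
import Groth.Agent.Lib.Helper35.PbFam
import Groth.Agent.Lib.Lead.SheafPts

/-!
# Zero schemes: vanishing of the pulled back section and factorisation criterion
-/

set_option autoImplicit false
universe u
open CategoryTheory CategoryTheory.Limits AlgebraicGeometry TopologicalSpace Opposite

namespace Groth.Agent.Lib.Helper60.ZeroSch

open Groth.Agent.Lib.Helper35.Gen Groth.Agent.Lib.Helper35.AbSheaf
open Groth.Agent.Lib.Helper35.QcohSec Groth.Agent.Lib.Helper60.SecKer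
open Groth.Agent.Lib.Helper35.PbInv

variable {X : Scheme.{u}} (L : X.Modules) (s : Coh.structureModule X ⟶ L)
  (hL : PicF.IsInvertible L)

include hL in
/-- a morphism along which `s` pulls back to zero has kernel containing the ideal of `Z(s)` -/
theorem zeroScheme_le_ker {W : Scheme.{u}} (f : W ⟶ X)
    (hzero : pbSec f L ⊤ (sval L s ⊤) = 0) : PicF2.zeroScheme L s ≤ f.ker := by
  haveI : L.IsQuasicoherent := Groth.Agent.Lib.Helper35.Ample.isQuasicoherent_of_isInvertible hL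
  refine Scheme.IdealSheafData.le_ofIdeals_iff.mpr (fun U a ha => ?_)
  have ha' : a ∈ PicF2.zeroIdealOn L s U.1 := Scheme.IdealSheafData.ideal_ofIdeals_le _ U ha
  rw [RingHom.mem_ker]
  apply Groth.Agent.Lib.Lead.SheafGlue.eq_of_locally_eq_ptsX
  intro y hy
  obtain ⟨V₀, hxV₀, e₀, he₀⟩ := exists_isGen_of_isInvertible hL (f y)
  obtain ⟨h, hhV, hxh⟩ := U.2.exists_basicOpen_le ⟨f y, hxV₀⟩ hy
  set D := X.basicOpen h with hD
  have hDU : D ≤ U.1 := X.basicOpen_le h
  refine ⟨f ⁻¹ᵁ D, f.preimage_mono hDU, hxh, ?_⟩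
  have he : IsGen L D (rs L hhV e₀) := he₀.mono hhV
  let c : Γ(X, D) := HomOfGen.coef he D le_rfl (sval L s D)
  have hc : sval L s D = c • rs L hhV e₀ := by
    have := HomOfGen.coef_spec he D le_rfl (sval L s D)
    rw [rs_self] at this
    exact this.symm
  have h1 := res_mem_zeroIdealOn L s U.2 h a ha'
  obtain ⟨b, hb⟩ := (mem_zeroIdealOn_of_isGen L s he c hc _).mp h1
  -- the pulled back coefficient vanishes
  have h2 : pbSec f L D (sval L s D) = 0 := by
    rw [← rs_sval L s (le_top : D ≤ ⊤), ← pbSec_rs f L (le_top : D ≤ ⊤), hzero, map_zero]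
  rw [hc, pbSec_smul] at h2
  have hgen := Groth.Agent.Lib.Helper35.PbInv.isGen_pbSec f L D _ he
  have h3 : (f.app D).hom c = 0 := by
    apply hgen.smul_injective
    rw [h2, zero_smul]
  have h4 : (f.app D).hom (rr X hDU a) = 0 := by
    rw [hb, map_mul, h3, mul_zero]
  rw [app_rr] at h4
  change rr W (f.preimage_mono hDU) ((f.app U.1).hom a) = rr W (f.preimage_mono hDU) 0
  rw [h4, map_zero]

include hL in
/-- the section `s` vanishes on its zero scheme -/
theorem pbSec_subschemeι_eq_zero :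
    pbSec (PicF2.zeroScheme L s).subschemeι L ⊤ (sval L s ⊤) = 0 := by
  set ι := (PicF2.zeroScheme L s).subschemeι with hι
  apply Groth.Agent.Lib.Lead.SheafGlue.eq_of_locally_eq_pts
  intro z _
  obtain ⟨V₀, hxV₀, e₀, he₀⟩ := exists_isGen_of_isInvertible hL (ι z)
  obtain ⟨V, hV, hxV, hVV₀⟩ := exists_isAffineOpen_mem_and_subset (x := ι z) (U := V₀) hxV₀
  refine ⟨ι ⁻¹ᵁ V, le_top, hxV, ?_⟩
  have he : IsGen L V (rs L hVV₀ e₀) := he₀.mono hVV₀
  let c : Γ(X, V) := HomOfGen.coef he V le_rfl (sval L s V)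
  have hc : sval L s V = c • rs L hVV₀ e₀ := by
    have := HomOfGen.coef_spec he V le_rfl (sval L s V)
    rw [rs_self] at this
    exact this.symm
  have hcmem : c ∈ PicF2.zeroIdealOn L s V :=
    (mem_zeroIdealOn_of_isGen L s he c hc c).mpr ⟨1, (one_mul c).symm⟩
  have h1 : c ∈ (PicF2.zeroScheme L s).ideal ⟨V, hV⟩ := by
    rw [zeroScheme_ideal L s hL]
    exact hcmem
  rw [← Scheme.IdealSheafData.ker_subschemeι_app, RingHom.mem_ker] at h1
  change rs _ (ι.preimage_mono (le_top : V ≤ ⊤)) (pbSec ι L ⊤ (sval L s ⊤)) =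
    rs _ (ι.preimage_mono (le_top : V ≤ ⊤)) 0
  rw [pbSec_rs ι L (le_top : V ≤ ⊤), rs_sval, hc, pbSec_smul, map_zero]
  have h2 : (ι.app V).hom c = 0 := h1
  rw [h2, zero_smul]

end Groth.Agent.Lib.Helper60.ZeroSch
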