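import Mathlib

set_option autoImplicit false

namespace Groth.Agent.Lib.Helper60.ProjNormal

open DirectSum

variable {R A : Type*} [CommRing R] [CommRing A] [IsDomain A] [Algebra R A]
  (𝒜 : ℕ → Submodule R A) [GradedAlgebra 𝒜]

/-- In a graded domain, if `u` is a nonzero homogeneous element of degree `k` and `u * b` is
homogeneous of degree `k + l`, then `b` is homogeneous of degree `l`. -/
theorem mem_of_mul_mem {k l : ℕ} {u b : A} (hu : u ∈ 𝒜 k) (hu0 : u ≠ 0)
    (h : u * b ∈ 𝒜 (k + l)) : b ∈ 𝒜 l := by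
  classical
  have key : ∀ i, i ≠ l → (decompose 𝒜 b i : A) = 0 := by
    intro i hi
    have h1 := coe_decompose_mul_of_left_mem_of_le (𝒜 := 𝒜) (b := b) (n := k + i) hu
      (Nat.le_add_right k i)
    rw [Nat.add_sub_cancel_left] at h1
    have h2 : (decompose 𝒜 (u * b) (k + i) : A) = 0 := by
      rw [decompose_of_mem 𝒜 h, of_eq_of_ne]
      · rfl
      · omega
    rw [h2] at h1
    exact (mul_eq_zero.mp h1.symm).resolve_left hu0
  rw [← sum_support_decompose 𝒜 b]
  apply Submodule.sum_mem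
  intro i _
  by_cases hil : i = l
  · subst hil
    exact (decompose 𝒜 b i).2
  · rw [key i hil]
    exact zero_mem _

/-- If the ring is generated in degree one, `𝒜 n ⊆ (A · 𝒜 1) ^ n`. -/
theorem le_span_pow (hgen : ∀ i : ℕ, 𝒜 1 * 𝒜 i = 𝒜 (i + 1)) (n : ℕ) (y : A) (hy : y ∈ 𝒜 n) :
    y ∈ (Ideal.span (𝒜 1 : Set A)) ^ n := by
  induction n generalizing y with
  | zero => simp
  | succ n ih =>
    rw [← hgen n] at hy
    induction hy using Submodule.mul_induction_on' with
    | mem_mul_mem a ha b hb =>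
      rw [pow_succ']
      exact Ideal.mul_mem_mul (Ideal.subset_span ha) (ih b hb)
    | add x _ y _ hx hy => exact Ideal.add_mem _ hx hy

/-- **Integrality core of projective normality.** -/
theorem exists_mem_eq (hgen : ∀ i : ℕ, 𝒜 1 * 𝒜 i = 𝒜 (i + 1)) [IsNoetherianRing A]
    [IsIntegrallyClosed A] {K : Type*} [Field K] [Algebra A K] [IsFractionRing A K]
    (d : ℕ) (τ : K) (hf₀ : ∃ f ∈ 𝒜 1, f ≠ 0)
    {k₀ : ℕ} {u m₀ : A} (hu : u ∈ 𝒜 k₀) (hu0 : u ≠ 0) (hm₀ : m₀ ∈ 𝒜 (k₀ + d))
    (h₀ : algebraMap A K u * τ = algebraMap A K m₀)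
    (hτ : ∀ f ∈ 𝒜 1, ∃ (N : ℕ) (m : A), algebraMap A K (f ^ N) * τ = algebraMap A K m) :
    ∃ a ∈ 𝒜 d, algebraMap A K a = τ := by
  classical
  have hinj : Function.Injective (algebraMap A K) := IsFractionRing.injective A K
  -- the denominator ideal
  let J : Ideal A :=
    { carrier := {a | ∃ b : A, algebraMap A K a * τ = algebraMap A K b}
      add_mem' := by
        rintro a a' ⟨b, hb⟩ ⟨b', hb'⟩
        exact ⟨b + b', by rw [map_add, add_mul, hb, hb', map_add]⟩
      zero_mem' := ⟨0, by simp⟩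
      smul_mem' := by
        rintro c a ⟨b, hb⟩
        exact ⟨c * b, by rw [smul_eq_mul, map_mul, mul_assoc, hb, map_mul]⟩ }
  have hJ : ∀ a, a ∈ J ↔ ∃ b : A, algebraMap A K a * τ = algebraMap A K b := fun a => Iff.rfl
  have hrad : Ideal.span (𝒜 1 : Set A) ≤ J.radical := by
    rw [Ideal.span_le]
    intro f hf
    obtain ⟨N, m, hm⟩ := hτ f hf
    exact ⟨N, (hJ _).2 ⟨m, hm⟩⟩
  obtain ⟨N, hN⟩ := Ideal.exists_pow_le_of_le_radical_of_fg hrad
    (IsNoetherian.noetherian _)
  -- homogeneous elements of degree `≥ N` have `τ`-multiples which are homogeneous of degree `+ d`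
  have hstep : ∀ n, N ≤ n → ∀ y ∈ 𝒜 n, ∃ b ∈ 𝒜 (n + d), algebraMap A K y * τ = algebraMap A K b := by
    intro n hn y hy
    have hyJ : y ∈ J := hN (Ideal.pow_le_pow_right hn (le_span_pow 𝒜 hgen n y hy))
    obtain ⟨b, hb⟩ := (hJ y).1 hyJ
    refine ⟨b, ?_, hb⟩
    apply mem_of_mul_mem 𝒜 hu hu0
    have h1 : u * b = m₀ * y := by
      apply hinj
      rw [map_mul, map_mul, ← hb, ← h₀]
      ring
    rw [h1]
    have : k₀ + (n + d) = k₀ + d + n := by omega
    rw [this]
    exact SetLike.GradedMul.mul_mem hm₀ hy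
  let Q : Ideal A := Ideal.span (⋃ n ∈ Set.Ici N, (𝒜 n : Set A))
  let P : Submodule A K := Submodule.map (Algebra.linearMap A K) Q
  have hPfg : P.FG := Submodule.FG.map _ (IsNoetherian.noetherian Q)
  have hPne : P ≠ ⊥ := by
    obtain ⟨f, hf, hf0⟩ := hf₀
    intro hbot
    have hmem : algebraMap A K (f ^ N) ∈ P := by
      refine Submodule.mem_map.2 ⟨f ^ N, ?_, rfl⟩
      apply Ideal.subset_span
      simp only [Set.mem_iUnion, Set.mem_Ici, SetLike.mem_coe]
      refine ⟨N, le_refl _, ?_⟩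
      have := SetLike.pow_mem_graded N hf
      simpa using this
    rw [hbot, Submodule.mem_bot] at hmem
    exact pow_ne_zero N hf0 (hinj (by rw [hmem, map_zero]))
  have hstab : ∀ p ∈ P, τ • p ∈ P := by
    intro p hp
    obtain ⟨q, hq, rfl⟩ := Submodule.mem_map.1 hp
    clear hp
    change q ∈ Ideal.span _ at hq
    induction hq using Submodule.span_induction with
    | mem y hy =>
      simp only [Set.mem_iUnion, Set.mem_Ici, SetLike.mem_coe] at hy
      obtain ⟨n, hn, hyn⟩ := hy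
      obtain ⟨b, hb, hyb⟩ := hstep n hn y hyn
      refine Submodule.mem_map.2 ⟨b, ?_, ?_⟩
      · apply Ideal.subset_span
        simp only [Set.mem_iUnion, Set.mem_Ici, SetLike.mem_coe]
        exact ⟨n + d, by omega, hb⟩
      · rw [Algebra.linearMap_apply, Algebra.linearMap_apply, ← hyb, smul_eq_mul, mul_comm]
    | zero => simp
    | add x y _ _ hx hy =>
      rw [map_add, smul_add]
      exact P.add_mem hx hy
    | smul c x _ hx =>
      rw [LinearMap.map_smul, smul_comm]
      exact P.smul_mem c hx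
  have hint : IsIntegral A τ := isIntegral_of_smul_mem_submodule P hPne hPfg τ hstab
  obtain ⟨a, ha⟩ := (IsIntegrallyClosed.isIntegral_iff (R := A) (K := K)).1 hint
  refine ⟨a, ?_, ha⟩
  apply mem_of_mul_mem 𝒜 hu hu0
  have : u * a = m₀ := by
    apply hinj
    rw [map_mul, ha, h₀]
  rw [this]
  exact hm₀

end Groth.Agent.Lib.Helper60.ProjNormal
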