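import Groth.Agent.Lib.Helper60.TildeSec
import Groth.Agent.Lib.Lead.QCohCrit

set_option autoImplicit false
universe u
open CategoryTheory AlgebraicGeometry TopologicalSpace Opposite

namespace Groth.Agent.Lib.Helper60.TildeSec

section Bridge

variable {A σ : Type u} [CommRing A] [SetLike σ A] [AddSubgroupClass σ A] (𝒜 : ℕ → σ) [GradedRing 𝒜]
variable {M τ : Type u} [AddCommGroup M] [Module A M] [SetLike τ M] [AddSubgroupClass τ M]
  (ℳ : ℕ → τ) [SetLike.GradedSMul 𝒜 ℳ]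

/-- Sections of the structure sheaf of `Proj`, as dependent functions. -/
abbrev OSec (W : (Proj 𝒜).Opens) : Type u := (ProjectiveSpectrum.Proj.structureSheaf 𝒜).1.obj (op W)

theorem mem_basicOpen_iff (W : (Proj 𝒜).Opens) (g : Γ(Proj 𝒜, W)) (x : Proj 𝒜) (hx : x ∈ W) :
    x ∈ (Proj 𝒜).basicOpen g ↔ IsUnit ((show OSec 𝒜 W from g).1 ⟨x, hx⟩) := by
  rw [Scheme.mem_basicOpen _ _ x hx]
  have h := Proj.stalkIso'_germ 𝒜 W x hx (show OSec 𝒜 W from g)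
  rw [← h]
  exact (isUnit_map_iff (Proj.stalkIso' 𝒜 x) _).symm

/-- Every section of the structure sheaf over `D₊(f)` is a global fraction `a / f ^ k`. -/
theorem exists_eq_away {d : ℕ} (hd : 0 < d) {f : A} (hf : f ∈ 𝒜 d)
    (g : Γ(Proj 𝒜, Proj.basicOpen 𝒜 f)) :
    ∃ (k : ℕ) (a : A), a ∈ 𝒜 (k * d) ∧ ∀ (y : Proj.basicOpen 𝒜 f),
      ((show OSec 𝒜 (Proj.basicOpen 𝒜 f) from g).1 y).val =
        Localization.mk a (⟨f ^ k, fun h => y.2 (y.1.isPrime.mem_of_pow_mem k h)⟩ :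
          y.1.asHomogeneousIdeal.toIdeal.primeCompl) := by
  have h1 : (Proj.basicOpenIsoAway 𝒜 f hf hd).hom ((Proj.basicOpenIsoAway 𝒜 f hf hd).inv g) = g := by
    rw [← CommRingCat.comp_apply, Iso.inv_hom_id]
    rfl
  rw [Proj.basicOpenIsoAway_hom] at h1
  obtain ⟨k, a, ha, hz⟩ := HomogeneousLocalization.Away.mk_surjective 𝒜 hf
    ((Proj.basicOpenIsoAway 𝒜 f hf hd).inv g)
  rw [← hz] at h1
  refine ⟨k, a, by rwa [smul_eq_mul] at ha, fun y => ?_⟩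
  rw [← h1]
  rfl

theorem smul_val (n : ℤ) (W : (Proj 𝒜).Opens) (r : Γ(Proj 𝒜, W))
    (s : Γ(GrMod.tilde 𝒜 ℳ n, W)) (y : W) :
    GrMod.val (r • s) y = ((show OSec 𝒜 W from r).1 y).val • GrMod.val s y := by
  change ((((show OSec 𝒜 W from r) • (show GrMod.sect 𝒜 ℳ n (op W) from s) :
    GrMod.sect 𝒜 ℳ n (op W)).1 y : GrMod.tildeAt 𝒜 ℳ n y.1) : GrMod.LocMod 𝒜 (M := M) y.1) = _
  rw [Submodule.coe_smul, GrMod.smul_apply, GrMod.coe_smul_val]

theorem res_val (n : ℤ) {W W' : (Proj 𝒜).Opens} (i : W' ⟶ W)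
    (s : Γ(GrMod.tilde 𝒜 ℳ n, W)) (y : W') :
    GrMod.val ((GrMod.tilde 𝒜 ℳ n).presheaf.map i.op s) y = GrMod.val s ⟨y.1, i.le y.2⟩ := rfl

theorem sec_ext (n : ℤ) {W : (Proj 𝒜).Opens} (s t : Γ(GrMod.tilde 𝒜 ℳ n, W))
    (h : ∀ y : W, GrMod.val s y = GrMod.val t y) : s = t := by
  change (show GrMod.sect 𝒜 ℳ n (op W) from s) = (show GrMod.sect 𝒜 ℳ n (op W) from t)
  apply Subtype.ext
  funext y
  exact Subtype.ext (h y)

theorem zero_val (n : ℤ) {W : (Proj 𝒜).Opens} (y : W) :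
    GrMod.val (0 : Γ(GrMod.tilde 𝒜 ℳ n, W)) y = 0 := rfl

/-- The section of `M(n)~` given by one fraction `m / s` on an open where `s` does not vanish. -/
def fracSec {n : ℤ} {i j : ℕ} (m : M) (hm : m ∈ ℳ i) (s : A) (hs : s ∈ 𝒜 j) (hij : (i : ℤ) = j + n)
    (W : (Proj 𝒜).Opens) (hW : ∀ y ∈ W, s ∉ y.asHomogeneousIdeal) : Γ(GrMod.tilde 𝒜 ℳ n, W) :=
  show GrMod.sect 𝒜 ℳ n (op W) from
  ⟨fun y => ⟨LocalizedModule.mk m ⟨s, hW y.1 y.2⟩,
      Submodule.subset_span ⟨i, j, ⟨m, hm⟩, ⟨s, hs⟩, hW y.1 y.2, hij, rfl⟩⟩,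
    fun y => ⟨W, y.2, 𝟙 _, i, j, ⟨m, hm⟩, ⟨s, hs⟩, fun z => hW z.1 z.2, Or.inl hij, fun _ => rfl⟩⟩

theorem fracSec_val {n : ℤ} {i j : ℕ} (m : M) (hm : m ∈ ℳ i) (s : A) (hs : s ∈ 𝒜 j)
    (hij : (i : ℤ) = j + n) (W : (Proj 𝒜).Opens) (hW : ∀ y ∈ W, s ∉ y.asHomogeneousIdeal) (y : W) :
    GrMod.val (fracSec 𝒜 ℳ m hm s hs hij W hW) y = LocalizedModule.mk m ⟨s, hW y.1 y.2⟩ := rfl

/-- Unit criterion for the value of a fraction in the homogeneous localization at a point. -/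
theorem isUnit_iff_of_val_eq (y : ProjectiveSpectrum 𝒜)
    (q : HomogeneousLocalization.AtPrime 𝒜 y.asHomogeneousIdeal.toIdeal) (a : A)
    (s : y.asHomogeneousIdeal.toIdeal.primeCompl) (hq : q.val = Localization.mk a s) :
    IsUnit q ↔ a ∉ y.asHomogeneousIdeal := by
  rw [← HomogeneousLocalization.isUnit_iff_isUnit_val, hq, Localization.mk_eq_mk',
    IsLocalization.AtPrime.isUnit_mk'_iff (Localization.AtPrime y.asHomogeneousIdeal.toIdeal)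
      y.asHomogeneousIdeal.toIdeal a s]
  rfl

end Bridge

section LocOn

open Groth.Agent.Lib.Lead.QCohAff

variable {A σ : Type u} [CommRing A] [SetLike σ A] [AddSubgroupClass σ A] (𝒜 : ℕ → σ) [GradedRing 𝒜]
variable {M τ : Type u} [AddCommGroup M] [Module A M] [SetLike τ M] [AddSubgroupClass τ M]
  (ℳ : ℕ → τ) [SetLike.GradedSMul 𝒜 ℳ] [DirectSum.Decomposition ℳ]

theorem mem_basicOpen_section_iff {f : A} (g : Γ(Proj 𝒜, Proj.basicOpen 𝒜 f))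
    (k : ℕ) (a : A)
    (hg : ∀ (y : Proj.basicOpen 𝒜 f),
      ((show OSec 𝒜 (Proj.basicOpen 𝒜 f) from g).1 y).val =
        Localization.mk a (⟨f ^ k, fun h => y.2 (y.1.isPrime.mem_of_pow_mem k h)⟩ :
          y.1.asHomogeneousIdeal.toIdeal.primeCompl)) (y : Proj 𝒜) :
    y ∈ (Proj 𝒜).basicOpen g ↔ f * a ∉ y.asHomogeneousIdeal := by
  constructor
  · intro hy
    have hyU : y ∈ Proj.basicOpen 𝒜 f := (Proj 𝒜).basicOpen_le g hy
    have h1 := (mem_basicOpen_iff 𝒜 _ g y hyU).1 hy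
    have h2 := (isUnit_iff_of_val_eq 𝒜 y _ a _ (hg ⟨y, hyU⟩)).1 h1
    intro hmem
    rcases y.isPrime.mem_or_mem hmem with h3 | h3
    · exact (Proj.mem_basicOpen 𝒜 f y).1 hyU h3
    · exact h2 h3
  · intro hy
    have hyU : y ∈ Proj.basicOpen 𝒜 f :=
      (Proj.mem_basicOpen 𝒜 f y).2 (fun h' => hy (Ideal.mul_mem_right _ _ h'))
    refine (mem_basicOpen_iff 𝒜 _ g y hyU).2 ?_
    exact (isUnit_iff_of_val_eq 𝒜 y _ a _ (hg ⟨y, hyU⟩)).2 (fun h' => hy (Ideal.mul_mem_left _ _ h'))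

omit [AddSubgroupClass τ M] [SetLike τ M] in
theorem pow_val_smul_mk (y : ProjectiveSpectrum 𝒜)
    (q : HomogeneousLocalization.AtPrime 𝒜 y.asHomogeneousIdeal.toIdeal) (a : A)
    (s : y.asHomogeneousIdeal.toIdeal.primeCompl) (hq : q.val = Localization.mk a s) (N : ℕ)
    (m : M) (t : y.asHomogeneousIdeal.toIdeal.primeCompl) :
    ((q ^ N).val • (LocalizedModule.mk m t : GrMod.LocMod 𝒜 (M := M) y)) =
      LocalizedModule.mk (a ^ N • m) (s ^ N * t) := by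
  rw [HomogeneousLocalization.val_pow, hq, Localization.mk_pow, LocalizedModule.mk_smul_mk]

/-- `M(n)~` is localizing on `D₊(f)` for `f` homogeneous of positive degree. -/
theorem locOn_tilde (n : ℤ) {d : ℕ} (hd : 0 < d) {f : A} (hf : f ∈ 𝒜 d) :
    LocOn (GrMod.tilde 𝒜 ℳ n) (Proj.basicOpen 𝒜 f) := by
  constructor
  · intro g s hs
    obtain ⟨k, a, ha, hg⟩ := exists_eq_away 𝒜 hd hf g
    obtain ⟨K, e, m, hm, -, hsm⟩ := exists_eq_frac 𝒜 ℳ hd hf (Proj.basicOpen 𝒜 f)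
      (fun y => Proj.mem_basicOpen 𝒜 f y) (show GrMod.sect 𝒜 ℳ n (op (Proj.basicOpen 𝒜 f)) from s)
    have hfa : f * a ∈ 𝒜 (d + k * d) := SetLike.mul_mem_graded hf ha
    obtain ⟨N, hN⟩ := exists_pow_smul_eq_zero 𝒜 ℳ hm (d := d + k * d) (by omega) hfa (by
      intro y hy
      have hyW : y ∈ (Proj 𝒜).basicOpen g := (mem_basicOpen_section_iff 𝒜 g k a hg y).2 hy
      have hyU : y ∈ Proj.basicOpen 𝒜 f := (Proj 𝒜).basicOpen_le g hyW
      have h1 : GrMod.val ((GrMod.tilde 𝒜 ℳ n).presheaf.map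
          (homOfLE ((Proj 𝒜).basicOpen_le g)).op s) ⟨y, hyW⟩ = 0 := by
        rw [hs]; rfl
      rw [res_val] at h1
      have h2 := hsm ⟨y, hyU⟩
      have h3 : (LocalizedModule.mk m (⟨f ^ K, fun h => (Proj.mem_basicOpen 𝒜 f y).1 hyU
          (y.isPrime.mem_of_pow_mem K h)⟩ : y.asHomogeneousIdeal.toIdeal.primeCompl) :
          GrMod.LocMod 𝒜 (M := M) y) = 0 := h2.symm.trans h1
      rw [← LocalizedModule.zero_mk (⟨f ^ K, fun h => (Proj.mem_basicOpen 𝒜 f y).1 hyU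
          (y.isPrime.mem_of_pow_mem K h)⟩ : y.asHomogeneousIdeal.toIdeal.primeCompl),
        LocalizedModule.mk_eq] at h3
      obtain ⟨u, hu⟩ := h3
      refine ⟨u.1 * f ^ K, fun h' => ?_, ?_⟩
      · rcases y.isPrime.mem_or_mem h' with h4 | h4
        · exact u.2 h4
        · exact (Proj.mem_basicOpen 𝒜 f y).1 hyU (y.isPrime.mem_of_pow_mem K h4)
      · rw [smul_zero, smul_zero] at hu
        rw [mul_smul]
        exact hu)
    refine ⟨N, ?_⟩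
    apply sec_ext
    intro y
    rw [smul_val, zero_val]
    have h2 := hsm y
    change GrMod.val s y = _ at h2
    rw [h2]
    change ((show OSec 𝒜 (Proj.basicOpen 𝒜 f) from g).1 y ^ N).val • _ = _
    rw [HomogeneousLocalization.val_pow, hg y, Localization.mk_pow, LocalizedModule.mk_smul_mk,
      ← LocalizedModule.zero_mk 1, LocalizedModule.mk_eq]
    refine ⟨⟨f ^ N, fun h => y.2 (y.1.isPrime.mem_of_pow_mem N h)⟩, ?_⟩
    rw [smul_zero, smul_zero, Submonoid.smul_def, one_smul]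
    change f ^ N • a ^ N • m = 0
    rw [← mul_smul, ← mul_pow]
    exact hN
  · intro g t
    obtain ⟨k, a, ha, hg⟩ := exists_eq_away 𝒜 hd hf g
    have hfa : f * a ∈ 𝒜 (d + k * d) := SetLike.mul_mem_graded hf ha
    obtain ⟨K, e, m, hm, he, htm⟩ := exists_eq_frac 𝒜 ℳ (d := d + k * d) (by omega) hfa
      ((Proj 𝒜).basicOpen g) (fun y => mem_basicOpen_section_iff 𝒜 g k a hg y)
      (show GrMod.sect 𝒜 ℳ n (op ((Proj 𝒜).basicOpen g)) from t)
    have hpow : f ^ (k * K + K) ∈ 𝒜 ((k * K + K) * d) := by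
      have := SetLike.pow_mem_graded (k * K + K) hf
      rwa [smul_eq_mul] at this
    have hij : (e : ℤ) = (((k * K + K) * d : ℕ) : ℤ) + n := by
      rw [he]; push_cast; ring
    refine ⟨K, fracSec 𝒜 ℳ m hm (f ^ (k * K + K)) hpow hij (Proj.basicOpen 𝒜 f)
      (fun y hy h => (Proj.mem_basicOpen 𝒜 f y).1 hy (y.isPrime.mem_of_pow_mem _ h)), ?_⟩
    apply sec_ext
    intro y
    have hyU : y.1 ∈ Proj.basicOpen 𝒜 f := (Proj 𝒜).basicOpen_le g y.2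
    rw [res_val, fracSec_val, smul_val]
    have h2 := htm y
    change GrMod.val t y = _ at h2
    rw [h2]
    change _ = ((show OSec 𝒜 (Proj.basicOpen 𝒜 f) from g).1 ⟨y.1, hyU⟩ ^ K).val • _
    refine Eq.trans ?_ (pow_val_smul_mk 𝒜 y.1 _ a _ (hg ⟨y.1, hyU⟩) K m _).symm
    rw [LocalizedModule.mk_eq]
    refine ⟨1, ?_⟩
    rw [one_smul, one_smul, Submonoid.smul_def, Submonoid.smul_def]
    change ((f ^ k) ^ K * (f * a) ^ K) • m = f ^ (k * K + K) • a ^ K • m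
    rw [← mul_smul]
    congr 1
    ring

/-- **`M(n)~` is quasi-coherent** on `Proj`. -/
theorem isQuasicoherent_tilde (n : ℤ) : (GrMod.tilde 𝒜 ℳ n).IsQuasicoherent := by
  apply Groth.Agent.Lib.Lead.QCohCrit.isQuasicoherent_of_locOn
  intro x
  obtain ⟨d, hd, g, hg, hgx⟩ := Groth.Agent.Lib.Helper33.GrModLib.exists_pos_not_mem 𝒜 x
  exact ⟨Proj.basicOpen 𝒜 g, Proj.isAffineOpen_basicOpen 𝒜 g hg hd,
    (Proj.mem_basicOpen 𝒜 g x).2 hgx, locOn_tilde 𝒜 ℳ n hd hg⟩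

end LocOn

end Groth.Agent.Lib.Helper60.TildeSec
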