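import Groth.Agent.Lib.Helper60.Hyper1
import Groth.Agent.Lib.Helper60.ZeroSch2
import Groth.Agent.S10908
import Groth.Agent.S3573

/-!
# Hyperplanes in projective space are projective spaces
-/

set_option autoImplicit false
universe u
open CategoryTheory CategoryTheory.Limits AlgebraicGeometry TopologicalSpace Opposite

namespace Groth.Agent.Lib.Helper60.Hyper

open Groth.Agent.Lib.Helper35.Gen Groth.Agent.Lib.Helper35.AbSheaf
open Groth.Agent.Lib.Helper60.ProjUPLib Groth.Agent.Lib.Helper60.TwistLib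
open Groth.Agent.Lib.Helper60.ProjFrac Groth.Agent.Lib.Helper60.SecKer
open Groth.Agent.Lib.Helper60.PbComp Groth.Agent.Lib.Helper60.ZeroSch
open Groth.Agent.Lib.Helper35.PbInv

section partA

variable (k : Type u) [Field k] (N : ℕ)

theorem eq_zero_of_sval_top {X : Scheme.{u}} (L : X.Modules) (s : Coh.structureModule X ⟶ L)
    (h : sval L s ⊤ = 0) : s = 0 := by
  ext U : 1
  ext r
  have h1 := app_eq_smul_val s U r
  have h2 : SecTwist.val s U = 0 := by
    have := rs_sval L s (le_top : U ≤ ⊤)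
    rw [h, map_zero] at this
    exact this.symm
  rw [h2, smul_zero] at h1
  exact h1

theorem exists_linear_form
    (s : Coh.structureModule (CohB1.ProjSpace N k) ⟶ Twist.twistProjSpace N k 1) (hs : s ≠ 0) :
    ∃ a : Fin (N + 1) → k, (∃ j, a j ≠ 0) ∧
      sval (Twist.twistProjSpace N k 1) s ⊤ =
        gsec (CohB1.polyGrading N k) (∑ i, a i • Xdeg k N i) := by
  have hgen : ∀ i : ℕ, CohB1.polyGrading N k 1 * CohB1.polyGrading N k i =
      CohB1.polyGrading N k (i + 1) := by
    intro i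
    change MvPolynomial.homogeneousSubmodule _ _ 1 * MvPolynomial.homogeneousSubmodule _ _ i =
      MvPolynomial.homogeneousSubmodule _ _ (i + 1)
    rw [← MvPolynomial.homogeneousSubmodule_one_pow (σ := Fin (N + 1)) (R := k) i,
      ← MvPolynomial.homogeneousSubmodule_one_pow (σ := Fin (N + 1)) (R := k) (i + 1), pow_succ']
  have h1 : CohB1.polyGrading N k 1 ≠ ⊥ := by
    intro hbot
    have hX : (MvPolynomial.X 0 : MvPolynomial (Fin (N + 1)) k) ∈ CohB1.polyGrading N k 1 :=
      MvPolynomial.isHomogeneous_X k 0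
    rw [hbot, Submodule.mem_bot] at hX
    exact MvPolynomial.X_ne_zero _ hX
  have hint : IsIntegrallyClosed (MvPolynomial (Fin (N + 1)) k) := inferInstance
  obtain ⟨ℓ, hℓ⟩ := (Groth.Agent.S10908.result (CohB1.polyGrading N k) hgen h1 hint 1).2
    (sval (Twist.twistProjSpace N k 1) s ⊤)
  obtain ⟨a, ha⟩ := exists_coeffs k N ℓ
  refine ⟨a, ?_, ?_⟩
  · by_contra hcon
    push Not at hcon
    apply hs
    apply eq_zero_of_sval_top
    have hℓ0 : ℓ = 0 := by
      rw [ha]
      exact Finset.sum_eq_zero (fun i _ => by rw [hcon i, zero_smul])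
    rw [← hℓ, hℓ0]
    exact gsec_zero _
  · rw [← ha]
    exact hℓ.symm

end partA

section alg

variable {k A M : Type*} [Field k] [CommRing A] [AddCommGroup M] [Module A M] (c : k →+* A)
  {n : ℕ} (a : Fin (n + 2) → k) (j : Fin (n + 2)) (haj : a j ≠ 0) (t : Fin (n + 2) → M)

include haj in
theorem solve_rel (hrel : ∑ i, c (a i) • t i = 0) :
    t j = -(c (a j)⁻¹) • ∑ m, c (a (j.succAbove m)) • t (j.succAbove m) := by
  rw [Fin.sum_univ_succAbove _ j] at hrel
  have h1 : c (a j) • t j = -∑ m, c (a (j.succAbove m)) • t (j.succAbove m) :=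
    eq_neg_of_add_eq_zero_left hrel
  calc t j = c (a j)⁻¹ • c (a j) • t j := by
        rw [smul_smul, ← map_mul, inv_mul_cancel₀ haj, map_one, one_smul]
    _ = _ := by rw [h1, smul_neg, neg_smul]

include haj in
theorem rel_of_solve
    (h : t j = -(c (a j)⁻¹) • ∑ m, c (a (j.succAbove m)) • t (j.succAbove m)) :
    ∑ i, c (a i) • t i = 0 := by
  rw [Fin.sum_univ_succAbove _ j, h, smul_smul, mul_neg, ← map_mul, mul_inv_cancel₀ haj, map_one,
    neg_smul, one_smul, neg_add_cancel]

end alg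

section partB

variable (k : Type u) [Field k] (n : ℕ) (a : Fin (n + 2) → k) (j : Fin (n + 2))

/-- constants as global functions on `P^n` -/
noncomputable def cst : k →+* Γ(CohB1.ProjSpace n k, ⊤) :=
  ProjUP.toGlobal (CohB1.ProjSpace.toSpec n k)

/-- the sections of `O(1)` on `P^n` defining the embedding onto the hyperplane -/
noncomputable def sig : Fin (n + 2) → ProjUP.Γm (Twist.twistProjSpace n k 1) :=
  Fin.insertNth (α := fun _ => ProjUP.Γm (Twist.twistProjSpace n k 1)) j
    (-(cst k n (a j)⁻¹) • ∑ m, cst k n (a (j.succAbove m)) • ProjUP.coord n k m)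
    (fun m => ProjUP.coord n k m)

theorem sig_succAbove (m : Fin (n + 1)) : sig k n a j (j.succAbove m) = ProjUP.coord n k m := by
  unfold sig
  rw [Fin.insertNth_apply_succAbove]

theorem sig_same : sig k n a j j =
    -(cst k n (a j)⁻¹) • ∑ m, cst k n (a (j.succAbove m)) • sig k n a j (j.succAbove m) := by
  simp only [sig_succAbove]
  unfold sig
  rw [Fin.insertNth_apply_same]

theorem sig_rel (haj : a j ≠ 0) : ∑ i, cst k n (a i) • sig k n a j i = 0 :=
  rel_of_solve (cst k n) a j haj (sig k n a j) (sig_same k n a j)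

theorem mem_genOpen_coord (N : ℕ) (x : CohB1.ProjSpace N k) :
    ∃ m, x ∈ genOpen (Twist.twistProjSpace N k 1) (ProjUP.coord N k m) := by
  have hgen : Algebra.adjoin k (Set.range (fun i : Fin (N + 1) =>
      (MvPolynomial.X i : MvPolynomial (Fin (N + 1)) k))) = ⊤ := MvPolynomial.adjoin_range_X
  obtain ⟨i, hi⟩ := exists_mem_basicOpen (CohB1.polyGrading N k)
    (fun i : Fin (N + 1) => (MvPolynomial.X i : MvPolynomial (Fin (N + 1)) k)) hgen x
  refine ⟨i, ?_⟩
  have h := isGen_gsec (CohB1.polyGrading N k) (Xdeg k N i)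
  exact le_genOpen _ (ProjUP.coord N k i) _ h hi

theorem sig_cov (x : CohB1.ProjSpace n k) :
    ∃ i, x ∈ genOpen (Twist.twistProjSpace n k 1) (sig k n a j i) := by
  obtain ⟨m, hm⟩ := mem_genOpen_coord k n x
  exact ⟨j.succAbove m, by rw [sig_succAbove]; exact hm⟩

theorem isInvertible_twistProjSpace (N : ℕ) :
    PicF.IsInvertible (Twist.twistProjSpace N k 1) := by
  apply isInvertible_of_isGen
  intro x
  obtain ⟨i, hi⟩ := mem_genOpen_coord k N x
  exact ⟨_, hi, _, isGen_genOpen _ (ProjUP.coord N k i)⟩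

end partB

section partC

variable (k : Type u) [Field k] (n : ℕ) (a : Fin (n + 2) → k) (j : Fin (n + 2))

theorem iso_inv_hom_apply {X : Scheme.{u}} {M N : X.Modules} (e : M ≅ N) (z : Γ(M, ⊤)) :
    (e.inv.app ⊤).hom ((e.hom.app ⊤).hom z) = z :=
  congrArg (fun φ => (Scheme.Modules.Hom.app φ ⊤).hom z) e.hom_inv_id

theorem iso_hom_inv_apply {X : Scheme.{u}} {M N : X.Modules} (e : M ≅ N) (z : Γ(N, ⊤)) :
    (e.hom.app ⊤).hom ((e.inv.app ⊤).hom z) = z :=
  congrArg (fun φ => (Scheme.Modules.Hom.app φ ⊤).hom z) e.inv_hom_id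

theorem iso_hom_injective {X : Scheme.{u}} {M N : X.Modules} (e : M ≅ N) :
    Function.Injective (e.hom.app ⊤).hom := by
  intro x y hxy
  have h := congrArg (e.inv.app ⊤).hom hxy
  rwa [iso_inv_hom_apply, iso_inv_hom_apply] at h

/-- the embedding `P^n → P^{n+1}` onto the hyperplane `Σ a_i x_i = 0` -/
theorem exists_embedding (haj : a j ≠ 0) :
    ∃ (g : CohB1.ProjSpace n k ⟶ CohB1.ProjSpace (n + 1) k)
      (_ : g ≫ CohB1.ProjSpace.toSpec (n + 1) k = CohB1.ProjSpace.toSpec n k)
      (τ : (Scheme.Modules.pullback g).obj (Twist.twistProjSpace (n + 1) k 1) ≅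
        Twist.twistProjSpace n k 1),
      (∀ i, (τ.hom.app ⊤).hom (tsec (n + 1) g i) = sig k n a j i) ∧
      ProjUP.pullSec g (Twist.twistProjSpace (n + 1) k 1)
        (gsec (CohB1.polyGrading (n + 1) k) (∑ i, a i • Xdeg k (n + 1) i)) = 0 := by
  obtain ⟨g, hg, τ, hτ⟩ := exists_projSpace' (n + 1) (CohB1.ProjSpace.toSpec n k)
    (Twist.twistProjSpace n k 1) (sig k n a j) (sig_cov k n a j)
  refine ⟨g, hg, τ, hτ, ?_⟩
  apply iso_hom_injective τ
  rw [pullSec_linear, map_sum, map_zero, hg]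
  rw [← sig_rel k n a j haj]
  refine Finset.sum_congr rfl (fun i _ => ?_)
  rw [Scheme.Modules.Hom.app_smul, hτ]
  rfl

end partC

section partD

variable (k : Type u) [Field k] (n : ℕ)
  (s : Coh.structureModule (CohB1.ProjSpace (n + 1) k) ⟶ Twist.twistProjSpace (n + 1) k 1)
  (a : Fin (n + 2) → k) (j : Fin (n + 2))
  (hsval : sval (Twist.twistProjSpace (n + 1) k 1) s ⊤ =
    gsec (CohB1.polyGrading (n + 1) k) (∑ i, a i • Xdeg k (n + 1) i))

/-- constants on the hyperplane -/
noncomputable def cstZ :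
    k →+* Γ((PicF2.zeroScheme (Twist.twistProjSpace (n + 1) k 1) s).subscheme, ⊤) :=
  ProjUP.toGlobal ((PicF2.zeroScheme (Twist.twistProjSpace (n + 1) k 1) s).subschemeι ≫
    CohB1.ProjSpace.toSpec (n + 1) k)

include hsval in
theorem relZ : ∑ i, cstZ k n s (a i) •
    tsec (n + 1) (PicF2.zeroScheme (Twist.twistProjSpace (n + 1) k 1) s).subschemeι i = 0 := by
  have h := pbSec_subschemeι_eq_zero _ s (isInvertible_twistProjSpace k (n + 1))
  rw [hsval] at h
  have h2 := pullSec_linear k (n + 1)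
    (PicF2.zeroScheme (Twist.twistProjSpace (n + 1) k 1) s).subschemeι a
  rw [pullSec_eq_pbSec, h] at h2
  exact h2.symm

include hsval in
theorem covZ (haj : a j ≠ 0)
    (z : (PicF2.zeroScheme (Twist.twistProjSpace (n + 1) k 1) s).subscheme) :
    ∃ m, z ∈ genOpen ((Scheme.Modules.pullback
        (PicF2.zeroScheme (Twist.twistProjSpace (n + 1) k 1) s).subschemeι).obj
          (Twist.twistProjSpace (n + 1) k 1))
      (tsec (n + 1) (PicF2.zeroScheme (Twist.twistProjSpace (n + 1) k 1) s).subschemeι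
        (j.succAbove m)) := by
  obtain ⟨i, hi⟩ := exists_mem_genOpen_tsec (n + 1)
    (PicF2.zeroScheme (Twist.twistProjSpace (n + 1) k 1) s).subschemeι z
  rcases Fin.eq_self_or_eq_succAbove j i with rfl | ⟨m, rfl⟩
  · have hrel := relZ k n s a hsval
    rw [Fin.sum_univ_succAbove _ i] at hrel
    have h1 := eq_neg_of_add_eq_zero_left hrel
    refine exists_mem_genOpen_of_unit_relation _
      (fun m => tsec (n + 1) (PicF2.zeroScheme (Twist.twistProjSpace (n + 1) k 1) s).subschemeι
        (i.succAbove m)) (cstZ k n s (a i)) ?_ (fun m => -cstZ k n s (a (i.succAbove m))) ?_ z hi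
    · exact (IsUnit.mk0 _ haj).map (cstZ k n s)
    · rw [h1, ← Finset.sum_neg_distrib]
      refine Finset.sum_congr rfl (fun m _ => ?_)
      rw [neg_smul]
  · exact ⟨m, hi⟩

end partD

section partE

theorem appTop_toGlobal {X Y : Scheme.{u}} {A : Type u} [CommRing A] (f : X ⟶ Y)
    (q : Y ⟶ Spec (CommRingCat.of A)) (c : A) :
    f.appTop.hom (ProjUP.toGlobal q c) = ProjUP.toGlobal (f ≫ q) c := by
  unfold ProjUP.toGlobal
  rw [Scheme.Hom.comp_appTop]
  rfl

variable (k : Type u) [Field k] (n : ℕ)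
  (s : Coh.structureModule (CohB1.ProjSpace (n + 1) k) ⟶ Twist.twistProjSpace (n + 1) k 1)
  (a : Fin (n + 2) → k) (j : Fin (n + 2))
  (hsval : sval (Twist.twistProjSpace (n + 1) k 1) s ⊤ =
    gsec (CohB1.polyGrading (n + 1) k) (∑ i, a i • Xdeg k (n + 1) i))

include hsval in
theorem hyperplane_iso (haj : a j ≠ 0) :
    ∃ φ : CohB1.ProjSpace n k ≅ (PicF2.zeroScheme (Twist.twistProjSpace (n + 1) k 1) s).subscheme,
      Nonempty ((Scheme.Modules.pullback
        (φ.hom ≫ (PicF2.zeroScheme (Twist.twistProjSpace (n + 1) k 1) s).subschemeι)).obj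
          (Twist.twistProjSpace (n + 1) k 1) ≅ Twist.twistProjSpace n k 1) := by
  have hL : PicF.IsInvertible (Twist.twistProjSpace (n + 1) k 1) := isInvertible_twistProjSpace k (n + 1)
  set ι := (PicF2.zeroScheme (Twist.twistProjSpace (n + 1) k 1) s).subschemeι with hι
  obtain ⟨g, hg, τg, hτg, hzero⟩ := exists_embedding k n a j haj
  -- the factorisation through the hyperplane
  have hle : PicF2.zeroScheme (Twist.twistProjSpace (n + 1) k 1) s ≤ g.ker :=
    zeroScheme_le_ker (Twist.twistProjSpace (n + 1) k 1) s hL g (by rw [hsval]; exact hzero)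
  let g' : CohB1.ProjSpace n k ⟶ (PicF2.zeroScheme (Twist.twistProjSpace (n + 1) k 1) s).subscheme :=
    g.toImage ≫ Scheme.IdealSheafData.inclusion hle
  have hg' : g' ≫ ι = g := by
    rw [Category.assoc, Scheme.IdealSheafData.inclusion_subschemeι, Scheme.Hom.toImage_imageι]
  -- the inverse
  obtain ⟨h, hh, τh, hτh⟩ := exists_projSpace' n (ι ≫ CohB1.ProjSpace.toSpec (n + 1) k)
    ((Scheme.Modules.pullback ι).obj (Twist.twistProjSpace (n + 1) k 1)) (fun m => tsec (n + 1) ι (j.succAbove m))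
    (covZ k n s a j hsval haj)
  have hcst : ∀ c : k, h.appTop.hom (cst k n c) = cstZ k n s c := by
    intro c
    unfold cst cstZ
    rw [appTop_toGlobal, hh]
  -- `h ≫ g = ι`
  have hhg : h ≫ g = ι := by
    refine Groth.Agent.S3573.result (n + 1) (h ≫ g) ι (by rw [Category.assoc, hg, hh])
      (compIso h g (Twist.twistProjSpace (n + 1) k 1) ≪≫ (Scheme.Modules.pullback h).mapIso τg ≪≫ τh) ?_
    intro i
    change (τh.hom.app ⊤).hom ((((Scheme.Modules.pullback h).map τg.hom).app ⊤).hom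
      (((compIso h g (Twist.twistProjSpace (n + 1) k 1)).hom.app ⊤).hom
        (ProjUP.pullSec (h ≫ g) (Twist.twistProjSpace (n + 1) k 1) (ProjUP.coord (n + 1) k i)))) = _
    rw [compIso_pullSec, map_pullSec]
    have h0 : (τg.hom.app ⊤).hom (ProjUP.pullSec g (Twist.twistProjSpace (n + 1) k 1) (ProjUP.coord (n + 1) k i)) =
      sig k n a j i := hτg i
    rw [h0]
    rcases Fin.eq_self_or_eq_succAbove j i with rfl | ⟨m, rfl⟩
    · rw [sig_same, pullSec_smul, pullSec_sum, Scheme.Modules.Hom.app_smul, map_sum]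
      have h1 := solve_rel (cstZ k n s) a i haj (tsec (n + 1) ι) (relZ k n s a hsval)
      refine Eq.trans ?_ h1.symm
      congr 1
      · rw [map_neg, hcst]
      · refine Finset.sum_congr rfl (fun m _ => ?_)
        rw [pullSec_smul, Scheme.Modules.Hom.app_smul, sig_succAbove, hcst]
        congr 1
        exact hτh m
    · rw [sig_succAbove]
      exact hτh m
  -- `g' ≫ h = 𝟙`
  have hgh : g' ≫ h = 𝟙 _ := by
    obtain ⟨e, he⟩ := exists_iso_of_eq hg' (Twist.twistProjSpace (n + 1) k 1)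
    refine Groth.Agent.S3573.result n (g' ≫ h) (𝟙 _)
      (by rw [Category.assoc, hh, ← Category.assoc, hg', hg, Category.id_comp])
      (compIso g' h (Twist.twistProjSpace n k 1) ≪≫ (Scheme.Modules.pullback g').mapIso τh ≪≫ (compIso g' ι (Twist.twistProjSpace (n + 1) k 1)).symm ≪≫
        e ≪≫ τg ≪≫ (idIso (Twist.twistProjSpace n k 1)).symm) ?_
    intro m
    change ((idIso (Twist.twistProjSpace n k 1)).inv.app ⊤).hom ((τg.hom.app ⊤).hom ((e.hom.app ⊤).hom
      (((compIso g' ι (Twist.twistProjSpace (n + 1) k 1)).inv.app ⊤).hom ((((Scheme.Modules.pullback g').map τh.hom).app ⊤).hom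
        (((compIso g' h (Twist.twistProjSpace n k 1)).hom.app ⊤).hom
          (ProjUP.pullSec (g' ≫ h) (Twist.twistProjSpace n k 1) (ProjUP.coord n k m))))))) = _
    rw [compIso_pullSec, map_pullSec]
    have h1 : (τh.hom.app ⊤).hom (ProjUP.pullSec h (Twist.twistProjSpace n k 1) (ProjUP.coord n k m)) =
      ProjUP.pullSec ι (Twist.twistProjSpace (n + 1) k 1) (ProjUP.coord (n + 1) k (j.succAbove m)) := hτh m
    rw [h1, ← compIso_pullSec, iso_inv_hom_apply, he]
    have h2 : (τg.hom.app ⊤).hom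
        (ProjUP.pullSec g (Twist.twistProjSpace (n + 1) k 1) (ProjUP.coord (n + 1) k (j.succAbove m))) =
      sig k n a j (j.succAbove m) := hτg _
    rw [h2, sig_succAbove]
    apply iso_hom_injective (idIso (Twist.twistProjSpace n k 1))
    rw [iso_hom_inv_apply, idIso_pullSec]
  have hhg' : h ≫ g' = 𝟙 _ := by
    rw [← cancel_mono ι, Category.assoc, hg', hhg, Category.id_comp]
  obtain ⟨e, he⟩ := exists_iso_of_eq hg' (Twist.twistProjSpace (n + 1) k 1)
  exact ⟨⟨g', h, hgh, hhg'⟩, ⟨e ≪≫ τg⟩⟩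

end partE

end Groth.Agent.Lib.Helper60.Hyper
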