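import Groth.Agent.Lib.Helper60.ProjUP1
import Groth.Prelude.Def_ProjUP

/-!
# Universal property of `Proj`: affine charts `D₊(f) ≅ Spec A_(f)` at the level of sections
-/

set_option autoImplicit false
universe u
open CategoryTheory AlgebraicGeometry TopologicalSpace Opposite

namespace Groth.Agent.Lib.Helper60.ProjUPLib

open Groth.Agent.Lib.Helper35.Gen Groth.Agent.Lib.Helper35.PbInv Groth.Agent.Lib.Helper35.AbSheaf
open Groth.Agent.Lib.Helper60.TwistLib Groth.Agent.Lib.Helper60.ProjFrac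

variable {R A : Type u} [CommRing R] [CommRing A] [Algebra R A] (𝒜 : ℕ → Submodule R A) [GradedAlgebra 𝒜]

theorem pow_notMem {f : A} {W : (Proj 𝒜).Opens} (hW : W ≤ Proj.basicOpen 𝒜 f) (n : ℕ) :
    ∀ y ∈ W, f ^ n ∉ y.asHomogeneousIdeal := fun y hy h =>
  notMem_of_mem_basicOpen 𝒜 hW y hy (y.isPrime.mem_of_pow_mem n h)

theorem awayToSection_mk {f : A} {d : ℕ} (hf : f ∈ 𝒜 d) (n : ℕ) (a : A) (ha : a ∈ 𝒜 (n • d)) :
    (Proj.awayToSection 𝒜 f).hom (HomogeneousLocalization.Away.mk 𝒜 hf n a ha) =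
      fr 𝒜 a (f ^ n) ha (SetLike.pow_mem_graded n hf) (Proj.basicOpen 𝒜 f)
        (pow_notMem 𝒜 le_rfl n) := by
  apply oext
  intro y
  rfl

variable {f : A} {d : ℕ} (hf : f ∈ 𝒜 d) (hd : 0 < d)

theorem awayι_preimage_self : Proj.awayι 𝒜 f hf hd ⁻¹ᵁ Proj.basicOpen 𝒜 f = ⊤ := by
  rw [← Proj.opensRange_awayι 𝒜 f hf hd]
  exact Scheme.Hom.preimage_opensRange _

theorem awayToSection_awayι_appLE :
    Proj.awayToSection 𝒜 f ≫ (Proj.awayι 𝒜 f hf hd).appLE (Proj.basicOpen 𝒜 f) ⊤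
      (awayι_preimage_self 𝒜 hf hd).ge = (Scheme.ΓSpecIso _).inv := by
  have h1 := Proj.basicOpenToSpec_app_top 𝒜 f
  rw [← Proj.basicOpenIsoSpec_hom 𝒜 f hf hd] at h1
  have h2 : (Proj.awayι 𝒜 f hf hd).appLE (Proj.basicOpen 𝒜 f) ⊤ (awayι_preimage_self 𝒜 hf hd).ge =
      (Proj.basicOpen 𝒜 f).ι.appLE (Proj.basicOpen 𝒜 f) ⊤ (by simp) ≫
        (Proj.basicOpenIsoSpec 𝒜 f hf hd).inv.appLE ⊤ ⊤ (by simp) :=
    (Scheme.Hom.appLE_comp_appLE _ _ _ _ _ _ _).symm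
  rw [h2]
  have h3 : (Proj.basicOpenIsoSpec 𝒜 f hf hd).inv.appLE ⊤ ⊤ (by simp) =
      (Proj.basicOpenIsoSpec 𝒜 f hf hd).inv.appTop := by
    simp [Scheme.Hom.appLE]
  rw [h3]
  have h4 : (Proj.basicOpen 𝒜 f).ι.appLE (Proj.basicOpen 𝒜 f) ⊤ (by simp) =
      (Proj.basicOpen 𝒜 f).topIso.inv := by
    rw [Scheme.Opens.ι_appLE]
    rfl
  rw [h4]
  have h5 : (Proj.basicOpenIsoSpec 𝒜 f hf hd).hom.appTop ≫
      (Proj.basicOpenIsoSpec 𝒜 f hf hd).inv.appTop = 𝟙 _ := by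
    rw [← Scheme.Hom.comp_appTop, Iso.inv_hom_id]
    rfl
  have h6 : Proj.awayToSection 𝒜 f ≫ (Proj.basicOpen 𝒜 f).topIso.inv =
      (Scheme.ΓSpecIso _).inv ≫ (Proj.basicOpenIsoSpec 𝒜 f hf hd).hom.appTop := by
    rw [Iso.eq_inv_comp]
    exact h1.symm
  rw [← Category.assoc, h6, Category.assoc, h5, Category.comp_id]

theorem comp_awayι_preimage {W' : Scheme.{u}}
    (g : W' ⟶ Spec (.of (HomogeneousLocalization.Away 𝒜 f))) :
    (g ≫ Proj.awayι 𝒜 f hf hd) ⁻¹ᵁ Proj.basicOpen 𝒜 f = ⊤ := by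
  rw [Scheme.Hom.comp_preimage, awayι_preimage_self]
  rfl

theorem awayToSection_comp_appLE {W' : Scheme.{u}}
    (g : W' ⟶ Spec (.of (HomogeneousLocalization.Away 𝒜 f))) :
    Proj.awayToSection 𝒜 f ≫ (g ≫ Proj.awayι 𝒜 f hf hd).appLE (Proj.basicOpen 𝒜 f) ⊤
      (comp_awayι_preimage 𝒜 hf hd g).ge = (Scheme.ΓSpecIso _).inv ≫ g.appTop := by
  have h2 : (g ≫ Proj.awayι 𝒜 f hf hd).appLE (Proj.basicOpen 𝒜 f) ⊤
      (comp_awayι_preimage 𝒜 hf hd g).ge =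
      (Proj.awayι 𝒜 f hf hd).appLE (Proj.basicOpen 𝒜 f) ⊤ (awayι_preimage_self 𝒜 hf hd).ge ≫
        g.appLE ⊤ ⊤ (by simp) :=
    (Scheme.Hom.appLE_comp_appLE _ _ _ _ _ _ _).symm
  have h3 : g.appLE ⊤ ⊤ (by simp) = g.appTop := by
    simp [Scheme.Hom.appLE]
  rw [h2, h3, ← Category.assoc, awayToSection_awayι_appLE]

instance isIso_awayι_appLE : IsIso ((Proj.awayι 𝒜 f hf hd).appLE (Proj.basicOpen 𝒜 f) ⊤
      (awayι_preimage_self 𝒜 hf hd).ge) := by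
  have h1 : IsIso (Proj.awayToSection 𝒜 f) :=
    (Proj.basicOpenIsoAway 𝒜 f hf hd).isIso_hom
  have h2 : IsIso (Proj.awayToSection 𝒜 f ≫ (Proj.awayι 𝒜 f hf hd).appLE (Proj.basicOpen 𝒜 f) ⊤
      (awayι_preimage_self 𝒜 hf hd).ge) := by
    rw [awayToSection_awayι_appLE]; infer_instance
  exact IsIso.of_isIso_comp_left (Proj.awayToSection 𝒜 f) _

theorem fromZero_eq_fr (c : 𝒜 0) :
    (Proj.awayToSection 𝒜 f).hom (HomogeneousLocalization.fromZeroRingHom 𝒜 _ c) =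
      fr 𝒜 c.1 1 c.2 SetLike.GradedOne.one_mem (Proj.basicOpen 𝒜 f)
        (fun y _ => one_notMem 𝒜 y) := by
  apply oext
  intro y
  rfl

include hf hd in
theorem toSpecZero_appTop_res (c : 𝒜 0) :
    (Proj 𝒜).presheaf.map (homOfLE (le_top : Proj.basicOpen 𝒜 f ≤ ⊤)).op
      ((Proj.toSpecZero 𝒜).appTop.hom ((Scheme.ΓSpecIso (.of (𝒜 0))).inv.hom c)) =
      fr 𝒜 c.1 1 c.2 SetLike.GradedOne.one_mem (Proj.basicOpen 𝒜 f)
        (fun y _ => one_notMem 𝒜 y) := by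
  rw [← fromZero_eq_fr]
  have hinj : Function.Injective ((Proj.awayι 𝒜 f hf hd).appLE (Proj.basicOpen 𝒜 f) ⊤
      (awayι_preimage_self 𝒜 hf hd).ge).hom :=
    (ConcreteCategory.bijective_of_isIso _).1
  apply hinj
  have h1 := Scheme.Hom.map_appLE (Proj.awayι 𝒜 f hf hd) (awayι_preimage_self 𝒜 hf hd).ge
    (homOfLE (le_top : Proj.basicOpen 𝒜 f ≤ ⊤)).op
  have h2 : (Proj.awayι 𝒜 f hf hd).appLE ⊤ ⊤ (by simp) = (Proj.awayι 𝒜 f hf hd).appTop := by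
    simp [Scheme.Hom.appLE]
  have h3 := congrArg (fun φ => φ.hom ((Proj.toSpecZero 𝒜).appTop.hom
    ((Scheme.ΓSpecIso (.of (𝒜 0))).inv.hom c))) (h1.trans h2)
  refine h3.trans ?_
  have h4 := congrArg (fun φ => φ.hom (HomogeneousLocalization.fromZeroRingHom 𝒜 _ c))
    (awayToSection_awayι_appLE 𝒜 hf hd)
  refine Eq.trans ?_ h4.symm
  have h5 := congrArg Scheme.Hom.appTop (Proj.awayι_toSpecZero 𝒜 f hf hd)
  rw [Scheme.Hom.comp_appTop] at h5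
  have h6 := congrArg (fun φ => φ.hom ((Scheme.ΓSpecIso (.of (𝒜 0))).inv.hom c)) h5
  refine h6.trans ?_
  have h7 := Scheme.ΓSpecIso_inv_naturality
    (CommRingCat.ofHom (HomogeneousLocalization.fromZeroRingHom 𝒜 (Submonoid.powers f)))
  exact (congrArg (fun φ => φ.hom c) h7).symm

/-- the structure map sends `c ∈ 𝒜 0` to the global function `c/1` -/
theorem toSpecZero_appTop (c : 𝒜 0) :
    (Proj.toSpecZero 𝒜).appTop.hom ((Scheme.ΓSpecIso (.of (𝒜 0))).inv.hom c) =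
      fr 𝒜 c.1 1 c.2 SetLike.GradedOne.one_mem ⊤ (fun y _ => one_notMem 𝒜 y) := by
  apply oext
  intro y
  have hy := (Proj.affineOpenCover 𝒜).covers y.1
  have hy2 : y.1 ∈ Proj.basicOpen 𝒜 ((Proj.affineOpenCover 𝒜).idx y.1).2.1 := by
    rw [← Proj.opensRange_awayι 𝒜 _ ((Proj.affineOpenCover 𝒜).idx y.1).2.2
      ((Proj.affineOpenCover 𝒜).idx y.1).1.2]
    exact hy
  have h1 := toSpecZero_appTop_res 𝒜 ((Proj.affineOpenCover 𝒜).idx y.1).2.2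
    ((Proj.affineOpenCover 𝒜).idx y.1).1.2 c
  have h2 := congrArg (fun s => oval 𝒜 s ⟨y.1, hy2⟩) h1
  exact h2


/-- the structure morphism `Proj 𝒜 ⟶ Spec R` -/
noncomputable def strMap : Proj 𝒜 ⟶ Spec (CommRingCat.of R) :=
  Proj.toSpecZero 𝒜 ≫ Spec.map (CommRingCat.ofHom (algebraMap R (𝒜 0)))

/-- the structure map sends `c ∈ R` to the global function `c/1` -/
theorem toGlobal_strMap (c : R) :
    ProjUP.toGlobal (strMap 𝒜) c =
      fr 𝒜 (algebraMap R A c) 1 (SetLike.algebraMap_mem_graded 𝒜 c) SetLike.GradedOne.one_mem ⊤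
        (fun y _ => one_notMem 𝒜 y) := by
  have h1 := toSpecZero_appTop 𝒜 (algebraMap R (𝒜 0) c)
  refine Eq.trans ?_ h1
  have h7 := Scheme.ΓSpecIso_inv_naturality (CommRingCat.ofHom (algebraMap R (𝒜 0)))
  have h8 := congrArg (fun φ => (Proj.toSpecZero 𝒜).appTop.hom (φ.hom c)) h7
  exact h8.symm

end Groth.Agent.Lib.Helper60.ProjUPLib
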