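import Groth.Agent.Lib.Helper42.ModSheaf
import Groth.Agent.Lib.Helper35.Ample1
import Groth.Agent.Lib.Helper60.Hyper2

/-!
# Lifting global sections along an epimorphism whose kernel has no `H^1`
-/

set_option autoImplicit false
universe u
open CategoryTheory CategoryTheory.Limits AlgebraicGeometry TopologicalSpace Opposite

namespace Groth.Agent.Lib.Helper60.LiftSec

open Groth.Agent.Lib.Helper35.Gen Groth.Agent.Lib.Helper35.AbSheaf

variable {X : Scheme.{u}}

/-- a short exact sequence of modules is short exact on the underlying abelian sheaves -/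
theorem shortExact_toSheaf (S : ShortComplex (SheafOfModules.{u} X.ringCatSheaf))
    (hS : S.ShortExact) :
    (S.map (SheafOfModules.toSheaf.{u} X.ringCatSheaf)).ShortExact := by
  have : PreservesFiniteLimits (SheafOfModules.toSheaf.{u} X.ringCatSheaf) :=
    PreservesLimitsOfSize.preservesFiniteLimits _
  have : PreservesColimitsOfSize.{u, u} (SheafOfModules.toSheaf.{u} X.ringCatSheaf) :=
    Groth.Agent.Lib.Helper42.ModSheaf.toSheaf_preservesColimitsOfSize X.ringCatSheaf
  have : PreservesFiniteColimits (SheafOfModules.toSheaf.{u} X.ringCatSheaf) :=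
    PreservesColimitsOfSize.preservesFiniteColimits _
  exact hS.map_of_exact (SheafOfModules.toSheaf.{u} X.ringCatSheaf)

/-- global sections lift along an epimorphism whose kernel has vanishing `H^1` -/
theorem exists_lift (S : ShortComplex (SheafOfModules.{u} X.ringCatSheaf)) (hS : S.ShortExact)
    (h1 : Subsingleton (Coh.HH X S.X₁ 1))
    (x : Γ((show X.Modules from S.X₃), ⊤)) :
    ∃ y : Γ((show X.Modules from S.X₂), ⊤),
      (Scheme.Modules.Hom.app (show (show X.Modules from S.X₂) ⟶ (show X.Modules from S.X₃) from S.g) ⊤).hom y = x := by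
  have hS' := shortExact_toSheaf S hS
  have hT : IsTerminal (⊤ : Opens X) := isTerminalTop
  let x₃ : Coh.HH X S.X₃ 0 := (Sheaf.H.equiv₀ (Coh.toAb S.X₃) hT).symm x
  have hx₃ : Abelian.Ext.comp (show Abelian.Ext _ (S.map (SheafOfModules.toSheaf.{u} X.ringCatSheaf)).X₃ 0
      from x₃) hS'.extClass (zero_add 1) = 0 :=
    @Subsingleton.elim _ h1 _ _
  obtain ⟨x₂, hx₂⟩ := Abelian.Ext.covariant_sequence_exact₃ _ hS' _ (zero_add 1) hx₃
  let y := Sheaf.H.equiv₀ (Coh.toAb S.X₂) hT x₂
  refine ⟨y, ?_⟩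
  have h2 := Sheaf.H.equiv₀_naturality hT
    ((SheafOfModules.toSheaf.{u} X.ringCatSheaf).map S.g) x₂
  have h3 : Sheaf.H.map ((SheafOfModules.toSheaf.{u} X.ringCatSheaf).map S.g) 0 x₂ = x₃ := hx₂
  rw [h3] at h2
  have h4 : Sheaf.H.equiv₀ (Coh.toAb S.X₃) hT x₃ = x := AddEquiv.apply_symm_apply _ _
  rw [h4] at h2
  exact h2

open Groth.Agent.Lib.Helper60.ZeroSch in
/-- morphisms out of the structure sheaf are determined by the image of `1` -/
theorem hom_ext_top {M : X.Modules} (f g : Coh.structureModule X ⟶ M)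
    (h : sval M f ⊤ = sval M g ⊤) : f = g := by
  ext U : 1
  ext r
  have h1 := app_eq_smul_val f U r
  have h2 := app_eq_smul_val g U r
  have h3 : SecTwist.val f U = SecTwist.val g U := by
    have e1 := rs_sval M f (le_top : U ≤ ⊤)
    have e2 := rs_sval M g (le_top : U ≤ ⊤)
    rw [h] at e1
    exact e1.symm.trans e2
  rw [h3] at h1
  exact h1.trans h2.symm

open Groth.Agent.Lib.Helper35.GlobGen Groth.Agent.Lib.Helper60.ZeroSch in
/-- an epimorphism onto the structure sheaf whose kernel has no `H^1` splits -/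
theorem exists_section_of_epi {F L : X.Modules} (i : L ⟶ F) (p : F ⟶ Coh.structureModule X)
    (w : i ≫ p = 0) (hex : (ShortComplex.mk i p w).ShortExact)
    (h1 : Subsingleton (Coh.HH X L 1)) :
    ∃ s : Coh.structureModule X ⟶ F, s ≫ p = 𝟙 _ := by
  obtain ⟨y, hy⟩ := exists_lift (ShortComplex.mk (C := SheafOfModules.{u} X.ringCatSheaf) i p w)
    hex h1 (show Γ(Coh.structureModule X, ⊤) from (1 : Γ(X, ⊤)))
  refine ⟨secHom F y, ?_⟩
  apply hom_ext_top
  change (p.app ⊤).hom (((secHom F y).app ⊤).hom (1 : Γ(X, ⊤))) = (1 : Γ(X, ⊤))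
  rw [secHom_app_one]
  have h2 : (F.presheaf.map (homOfLE (le_top : (⊤ : X.Opens) ≤ ⊤)).op).hom y = y := rs_self F y
  rw [h2]
  exact hy

end Groth.Agent.Lib.Helper60.LiftSec
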