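import Groth.Agent.Lib.Helper60.Mul3

/-!
# Generating loci of pulled back sections, and composition of data through an open
-/

set_option autoImplicit false
universe u
open CategoryTheory CategoryTheory.Limits AlgebraicGeometry TopologicalSpace Opposite

namespace Groth.Agent.Lib.Helper60.Mult

open Groth.Agent.Lib.Helper35.Gen Groth.Agent.Lib.Helper35.AbSheaf
open Groth.Agent.Lib.Helper60.ProjUPLib Groth.Agent.Lib.Helper60.TwistLib
open Groth.Agent.Lib.Helper60.ProjFrac Groth.Agent.Lib.Helper60.SecKer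
open Groth.Agent.Lib.Helper60.PbComp Groth.Agent.Lib.Helper35.PbInv
open Groth.Agent.Lib.Helper60.Segre Groth.Agent.Lib.Helper60.Hyper

section genpb

variable {Z Y : Scheme.{u}} (z : Z ⟶ Y) (L : Y.Modules)

theorem preimage_genOpen_le (s : Γ(L, ⊤)) :
    z ⁻¹ᵁ genOpen L s ≤ genOpen ((Scheme.Modules.pullback z).obj L) (ProjUP.pullSec z L s) := by
  apply le_genOpen
  have h1 : rs ((Scheme.Modules.pullback z).obj L) (le_top : z ⁻¹ᵁ genOpen L s ≤ ⊤)
      (ProjUP.pullSec z L s) = pbSec z L (genOpen L s) (rs L le_top s) := pbSec_rs z L le_top s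
  rw [h1]
  exact isGen_pbSec z L _ _ (isGen_genOpen L s)

/-- the generating locus of a pulled back section of an invertible module -/
theorem genOpen_pullSec (hL : PicF.IsInvertible L) (s : Γ(L, ⊤)) :
    genOpen ((Scheme.Modules.pullback z).obj L) (ProjUP.pullSec z L s) = z ⁻¹ᵁ genOpen L s := by
  apply le_antisymm
  · intro p hp
    obtain ⟨V, hpV, e, he⟩ := exists_isGen_of_isInvertible hL (z p)
    obtain ⟨f, hf⟩ := he.exists_eq_smul (rs L le_top s)
    have hgen : IsGen ((Scheme.Modules.pullback z).obj L) (z ⁻¹ᵁ V) (pbSec z L V e) :=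
      isGen_pbSec z L V e he
    have h1 : rs ((Scheme.Modules.pullback z).obj L) (le_top : z ⁻¹ᵁ V ≤ ⊤)
        (ProjUP.pullSec z L s) = (z.app V).hom f • pbSec z L V e := by
      have h0 : rs ((Scheme.Modules.pullback z).obj L) (le_top : z ⁻¹ᵁ V ≤ ⊤)
          (ProjUP.pullSec z L s) = pbSec z L V (rs L le_top s) := pbSec_rs z L le_top s
      rw [h0, hf, pbSec_smul]
    set G := genOpen ((Scheme.Modules.pullback z).obj L) (ProjUP.pullSec z L s) with hG
    have hW1 : G ⊓ z ⁻¹ᵁ V ≤ G := inf_le_left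
    have hW2 : G ⊓ z ⁻¹ᵁ V ≤ z ⁻¹ᵁ V := inf_le_right
    have h2 : IsGen ((Scheme.Modules.pullback z).obj L) (G ⊓ z ⁻¹ᵁ V)
        (rs _ (le_top : G ⊓ z ⁻¹ᵁ V ≤ ⊤) (ProjUP.pullSec z L s)) := by
      have := (isGen_genOpen ((Scheme.Modules.pullback z).obj L) (ProjUP.pullSec z L s)).mono hW1
      rwa [rs_rs] at this
    have h3 : rs ((Scheme.Modules.pullback z).obj L) (le_top : G ⊓ z ⁻¹ᵁ V ≤ ⊤)
        (ProjUP.pullSec z L s) =
        rr Z hW2 ((z.app V).hom f) • rs _ hW2 (pbSec z L V e) := by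
      have := congrArg (rs ((Scheme.Modules.pullback z).obj L) hW2) h1
      rwa [rs_rs, rs_smul] at this
    rw [h3, isGen_smul_iff (hgen.mono hW2)] at h2
    have h4 : p ∈ Z.basicOpen (rr Z hW2 ((z.app V).hom f)) := h2 ⟨hp, hpV⟩
    have h5 : Z.basicOpen (rr Z hW2 ((z.app V).hom f)) =
        (G ⊓ z ⁻¹ᵁ V) ⊓ Z.basicOpen ((z.app V).hom f) :=
      Scheme.basicOpen_res Z _ (homOfLE hW2).op
    rw [h5, ← Scheme.preimage_basicOpen] at h4
    have h6 : z p ∈ Y.basicOpen f := h4.2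
    have hle : Y.basicOpen f ≤ V := Y.basicOpen_le f
    refine le_genOpen L s (Y.basicOpen f) ?_ h6
    have h7 : rs L (le_top : Y.basicOpen f ≤ ⊤) s = rr Y hle f • rs L hle e := by
      have := congrArg (rs L hle) hf
      rwa [rs_rs, rs_smul] at this
    rw [h7, isGen_smul_iff (he.mono hle)]
    have h8 : Y.basicOpen (rr Y hle f) = Y.basicOpen f ⊓ Y.basicOpen f :=
      Scheme.basicOpen_res Y f (homOfLE hle).op
    rw [h8]
    exact le_inf le_rfl le_rfl
  · exact preimage_genOpen_le z L s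

end genpb

section comp'

variable {R : Type u} [CommRing R] {N : ℕ} {Z U Y : Scheme.{u}}

/-- composition of data through an intermediate scheme -/
theorem IsData.comp' (z' : Z ⟶ U) (ι : U ⟶ Y) (z : Z ⟶ Y) (hz : z' ≫ ι = z)
    {r : U ⟶ CohB1.ProjSpace N R} {L : Y.Modules} {s : Fin (N + 1) → Γ(L, ⊤)}
    (h : IsData N r ((Scheme.Modules.pullback ι).obj L) (fun i => ProjUP.pullSec ι L (s i))) :
    IsData N (z' ≫ r) ((Scheme.Modules.pullback z).obj L) (fun i => ProjUP.pullSec z L (s i)) := by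
  obtain ⟨e, he⟩ := exists_iso_of_eq hz L
  have h1 := (h.comp z').map_iso ((compIso z' ι L).symm ≪≫ e)
  obtain ⟨τ, hτ⟩ := h1
  refine ⟨τ, fun i => ?_⟩
  rw [hτ i]
  change (e.hom.app ⊤).hom (((compIso z' ι L).inv.app ⊤).hom
    (ProjUP.pullSec z' _ (ProjUP.pullSec ι L (s i)))) = ProjUP.pullSec z L (s i)
  rw [← he (s i), ← compIso_pullSec z' ι L (s i)]
  congr 1
  exact congrArg (fun φ => (Scheme.Modules.Hom.app φ ⊤).hom (ProjUP.pullSec (z' ≫ ι) L (s i)))
    (compIso z' ι L).hom_inv_id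

end comp'

end Groth.Agent.Lib.Helper60.Mult
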