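import Groth.Agent.Lib.Helper60.Link1
import Groth.Prelude.Def_W4c5nonratstablectREq

/-!
# Lines through two points of projective space: direct R-links
-/

set_option autoImplicit false
universe u
open CategoryTheory CategoryTheory.Limits AlgebraicGeometry TopologicalSpace Opposite

namespace Groth.Agent.Lib.Helper60.Mult

open Groth.Agent.Lib.Helper35.Gen Groth.Agent.Lib.Helper35.AbSheaf
open Groth.Agent.Lib.Helper60.ProjUPLib Groth.Agent.Lib.Helper60.TwistLib
open Groth.Agent.Lib.Helper60.ProjFrac Groth.Agent.Lib.Helper60.SecKer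
open Groth.Agent.Lib.Helper60.PbComp Groth.Agent.Lib.Helper35.PbInv
open Groth.Agent.Lib.Helper60.Segre Groth.Agent.Lib.Helper60.Hyper

section fieldpt

variable {R : Type u} [CommRing R] (N : ℕ) (K : Type u) [Field K]

/-- a field-valued point of projective space: generator and coefficients -/
theorem exists_gen_of_field_point (y : Spec (CommRingCat.of K) ⟶ CohB1.ProjSpace N R) :
    ∃ (j₀ : Fin (N + 1)) (c : Fin (N + 1) → Γ(Spec (CommRingCat.of K), ⊤)),
      IsGen ((Scheme.Modules.pullback y).obj (Twist.twistProjSpace N R 1)) ⊤ (tsec N y j₀) ∧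
      (∀ j, tsec N y j = c j • tsec N y j₀) ∧ c j₀ = 1 := by
  have : Subsingleton (Spec (CommRingCat.of K)) := inferInstanceAs (Subsingleton (PrimeSpectrum K))
  obtain ⟨pt⟩ : Nonempty (Spec (CommRingCat.of K)) := inferInstanceAs (Nonempty (PrimeSpectrum K))
  obtain ⟨j₀, hj₀⟩ := exists_mem_genOpen_tsec N y pt
  have he : IsGen _ ⊤ (tsec N y j₀) := by
    apply isGen_top_of_genOpen_eq_top
    rw [eq_top_iff]
    intro x _
    rwa [Subsingleton.elim x pt]
  have hcex : ∀ j, ∃ cj : Γ(Spec (CommRingCat.of K), ⊤), tsec N y j = cj • tsec N y j₀ := fun j =>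
    he.exists_eq_smul _
  choose c hc using hcex
  refine ⟨j₀, c, he, hc, ?_⟩
  apply he.smul_injective
  rw [one_smul]
  exact (hc j₀).symm

end fieldpt

section line

variable (K : Type u) [Field K] (n : ℕ)

/-- the projective line over `K` -/
noncomputable abbrev P1 : Scheme.{u} := CohB1.ProjSpaceOver 1 (Spec (CommRingCat.of K))

noncomputable abbrev fst1 : P1 K ⟶ CohB1.ProjSpace 1 (ULift.{u} ℤ) :=
  pullback.fst (CohB1.ProjSpace.toSpec 1 (ULift.{u} ℤ)) (specULiftZIsTerminal.from (Spec (CommRingCat.of K)))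

noncomputable abbrev snd1 : P1 K ⟶ (Spec (CommRingCat.of K)) :=
  pullback.snd (CohB1.ProjSpace.toSpec 1 (ULift.{u} ℤ)) (specULiftZIsTerminal.from (Spec (CommRingCat.of K)))

/-- `O(1)` on the projective line over `K` -/
noncomputable abbrev LK : (P1 K).Modules :=
  (Scheme.Modules.pullback (fst1 K)).obj (Twist.twistProjSpace 1 (ULift.{u} ℤ) 1)

variable (cA cB : Fin (n + 1) → Γ((Spec (CommRingCat.of K)), ⊤))

/-- the sections `a_i x_0 + b_i x_1` -/
noncomputable def lsec (i : Fin (n + 1)) : Γ(LK K, ⊤) :=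
  (snd1 K).appTop.hom (cA i) • tsec 1 (fst1 K) 0 + (snd1 K).appTop.hom (cB i) • tsec 1 (fst1 K) 1

theorem isInvertible_LK : PicF.IsInvertible (LK K) := isInvertible_pullback_twist 1 (fst1 K)

/-- a `K`-point of the projective line with given homogeneous coordinates, and the value of the
sections `lsec` there -/
theorem exists_point {M : (Spec (CommRingCat.of K)).Modules} {e : Γ(M, ⊤)} (he : IsGen M ⊤ e)
    (g : Fin (1 + 1) → Γ((Spec (CommRingCat.of K)), ⊤)) (hg : ∃ i, IsUnit (g i)) :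
    ∃ (a0 : (Spec (CommRingCat.of K)) ⟶ P1 K) (E : Γ((Scheme.Modules.pullback a0).obj (LK K), ⊤)),
      a0 ≫ snd1 K = 𝟙 _ ∧ IsGen _ ⊤ E ∧
      ∀ i, ProjUP.pullSec a0 (LK K) (lsec K n cA cB i) = (cA i * g 0 + cB i * g 1) • E := by
  obtain ⟨pt, hpt, hd⟩ := exists_map_of_gen (R := (ULift.{u} ℤ)) 1 (specULiftZIsTerminal.from (Spec (CommRingCat.of K))) he g hg
  let a0 : (Spec (CommRingCat.of K)) ⟶ P1 K := pullback.lift pt (𝟙 _) (specULiftZIsTerminal.hom_ext _ _)
  have ha1 : a0 ≫ fst1 K = pt := pullback.lift_fst _ _ _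
  have ha2 : a0 ≫ snd1 K = 𝟙 _ := pullback.lift_snd _ _ _
  obtain ⟨E, hE, hs⟩ := exists_gen_pullback 1 a0 (fst1 K) pt ha1 he g hd
  refine ⟨a0, E, ha2, hE, fun i => ?_⟩
  have hid : ∀ x : Γ((Spec (CommRingCat.of K)), ⊤), a0.appTop.hom ((snd1 K).appTop.hom x) = x := by
    intro x
    have h1 : (snd1 K).appTop ≫ a0.appTop = 𝟙 _ := by
      rw [← Scheme.Hom.comp_appTop, ha2, Scheme.Hom.id_appTop]
    exact congr($(h1) x)
  unfold lsec
  rw [pullSec_add, pullSec_smul, pullSec_smul, hid, hid, hs 0, hs 1, smul_smul, smul_smul,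
    ← add_smul]

end line

end Groth.Agent.Lib.Helper60.Mult
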