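import Groth.Agent.Lib.Helper60.Link2

/-!
# Any two `K`-points of an open of projective space are directly R-linked
-/

set_option autoImplicit false
universe u
open CategoryTheory CategoryTheory.Limits AlgebraicGeometry TopologicalSpace Opposite

namespace Groth.Agent.Lib.Helper60.Mult

open Groth.Agent.Lib.Helper35.Gen Groth.Agent.Lib.Helper35.AbSheaf
open Groth.Agent.Lib.Helper60.ProjUPLib Groth.Agent.Lib.Helper60.TwistLib
open Groth.Agent.Lib.Helper60.ProjFrac Groth.Agent.Lib.Helper60.SecKer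
open Groth.Agent.Lib.Helper60.PbComp Groth.Agent.Lib.Helper35.PbInv
open Groth.Agent.Lib.Helper60.Segre Groth.Agent.Lib.Helper60.Hyper

section link

variable (k : Type u) [Field k] (n : ℕ)
  (V : (CohB1.ProjSpaceOver n (Spec (CommRingCat.of k))).Opens) (K : Type u) [Field K] [Algebra k K]

theorem elemLink (A B : REq.Pts (V.ι ≫ CohB1.ProjSpaceOver.toBase n (Spec (CommRingCat.of k))) K) :
    REq.ElemLink (V.ι ≫ CohB1.ProjSpaceOver.toBase n (Spec (CommRingCat.of k))) K A B := by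
  have : Subsingleton (Spec (CommRingCat.of K)) := inferInstanceAs (Subsingleton (PrimeSpectrum K))
  obtain ⟨pt⟩ : Nonempty (Spec (CommRingCat.of K)) := inferInstanceAs (Nonempty (PrimeSpectrum K))
  let fstP : CohB1.ProjSpaceOver n (Spec (CommRingCat.of k)) ⟶ CohB1.ProjSpace n (ULift.{u} ℤ) :=
    pullback.fst (CohB1.ProjSpace.toSpec n (ULift.{u} ℤ))
      (specULiftZIsTerminal.from (Spec (CommRingCat.of k)))
  let sndP : CohB1.ProjSpaceOver n (Spec (CommRingCat.of k)) ⟶ Spec (CommRingCat.of k) :=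
    pullback.snd (CohB1.ProjSpace.toSpec n (ULift.{u} ℤ))
      (specULiftZIsTerminal.from (Spec (CommRingCat.of k)))
  have hA2 : A.1 ≫ V.ι ≫ sndP = REq.specMap k K := A.2
  have hB2 : B.1 ≫ V.ι ≫ sndP = REq.specMap k K := B.2
  let yA : Spec (CommRingCat.of K) ⟶ CohB1.ProjSpace n (ULift.{u} ℤ) := A.1 ≫ V.ι ≫ fstP
  let yB : Spec (CommRingCat.of K) ⟶ CohB1.ProjSpace n (ULift.{u} ℤ) := B.1 ≫ V.ι ≫ fstP
  obtain ⟨jA, cA, heA, hcA, hcA1⟩ := exists_gen_of_field_point n K yA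
  obtain ⟨jB, cB, heB, hcB, hcB1⟩ := exists_gen_of_field_point n K yB
  -- the open where the line is defined
  let U0 : (P1 K).Opens := ⨆ i, genOpen (LK K) (lsec K n cA cB i)
  have hcov : ∀ x : (U0 : Scheme.{u}), ∃ i, x ∈ genOpen ((Scheme.Modules.pullback U0.ι).obj (LK K))
      (ProjUP.pullSec U0.ι (LK K) (lsec K n cA cB i)) := by
    intro x
    obtain ⟨i, hi⟩ := Opens.mem_iSup.mp x.2
    exact ⟨i, preimage_genOpen_le U0.ι (LK K) _ hi⟩
  obtain ⟨h0, hh0, τ0, hτ0⟩ := exists_projSpace' (R := ULift.{u} ℤ) n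
    (specULiftZIsTerminal.from (U0 : Scheme.{u}))
    ((Scheme.Modules.pullback U0.ι).obj (LK K))
    (fun i => ProjUP.pullSec U0.ι (LK K) (lsec K n cA cB i)) hcov
  have hd0 : IsData n h0 ((Scheme.Modules.pullback U0.ι).obj (LK K))
      (fun i => ProjUP.pullSec U0.ι (LK K) (lsec K n cA cB i)) := ⟨τ0, hτ0⟩
  let h1 : (U0 : Scheme.{u}) ⟶ CohB1.ProjSpaceOver n (Spec (CommRingCat.of k)) :=
    pullback.lift h0 (U0.ι ≫ snd1 K ≫ REq.specMap k K) (specULiftZIsTerminal.hom_ext _ _)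
  have hh1f : h1 ≫ fstP = h0 := pullback.lift_fst _ _ _
  have hh1s : h1 ≫ sndP = U0.ι ≫ snd1 K ≫ REq.specMap k K := pullback.lift_snd _ _ _
  -- the key construction for a point
  have key : ∀ (Pt : REq.Pts (V.ι ≫ CohB1.ProjSpaceOver.toBase n (Spec (CommRingCat.of k))) K)
      (j₀ : Fin (n + 1)) (c : Fin (n + 1) → Γ(Spec (CommRingCat.of K), ⊤))
      (g : Fin (1 + 1) → Γ(Spec (CommRingCat.of K), ⊤)) (_ : ∃ i, IsUnit (g i))
      (_ : IsGen ((Scheme.Modules.pullback (Pt.1 ≫ V.ι ≫ fstP)).obj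
        (Twist.twistProjSpace n (ULift.{u} ℤ) 1)) ⊤ (tsec n (Pt.1 ≫ V.ι ≫ fstP) j₀))
      (_ : ∀ j, tsec n (Pt.1 ≫ V.ι ≫ fstP) j = c j • tsec n (Pt.1 ≫ V.ι ≫ fstP) j₀)
      (_ : c j₀ = 1) (_ : ∀ i, cA i * g 0 + cB i * g 1 = c i),
      ∃ aU : Spec (CommRingCat.of K) ⟶ (U0 : Scheme.{u}),
        aU ≫ U0.ι ≫ snd1 K = 𝟙 _ ∧ aU ≫ h1 = Pt.1 ≫ V.ι := by
    intro Pt j₀ c g hg he hc hc1 hcg
    obtain ⟨a0, E, ha2, hE, hs⟩ := exists_point K n cA cB he g hg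
    have hs' : ∀ i, ProjUP.pullSec a0 (LK K) (lsec K n cA cB i) = c i • E := by
      intro i
      rw [hs i, hcg i]
    have hmem : ∀ x, a0 x ∈ U0 := by
      intro x
      apply Opens.mem_iSup.mpr
      refine ⟨j₀, ?_⟩
      have h2 : genOpen ((Scheme.Modules.pullback a0).obj (LK K))
          (ProjUP.pullSec a0 (LK K) (lsec K n cA cB j₀)) = ⊤ := by
        apply genOpen_eq_top_of_isGen
        rw [hs' j₀, hc1, one_smul]
        exact hE
      rw [genOpen_pullSec a0 (LK K) (isInvertible_LK K)] at h2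
      have : x ∈ a0 ⁻¹ᵁ genOpen (LK K) (lsec K n cA cB j₀) := by
        rw [h2]
        trivial
      exact this
    have hrange : Set.range a0 ⊆ Set.range U0.ι := by
      rintro _ ⟨x, rfl⟩
      rw [Scheme.Opens.range_ι]
      exact hmem x
    let aU : Spec (CommRingCat.of K) ⟶ (U0 : Scheme.{u}) := IsOpenImmersion.lift U0.ι a0 hrange
    have haU : aU ≫ U0.ι = a0 := IsOpenImmersion.lift_fac _ _ _
    refine ⟨aU, by rw [← Category.assoc, haU, ha2], ?_⟩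
    have h3 : aU ≫ h0 = Pt.1 ≫ V.ι ≫ fstP := by
      refine eq_of_isData_gen (specULiftZIsTerminal.hom_ext _ _)
        (IsData.comp' aU U0.ι a0 haU hd0) ⟨Iso.refl _, fun _ => rfl⟩ hE he c hs' hc
    apply pullback.hom_ext
    · change (aU ≫ h1) ≫ fstP = (Pt.1 ≫ V.ι) ≫ fstP
      rw [Category.assoc, hh1f, h3, Category.assoc]
    · change (aU ≫ h1) ≫ sndP = (Pt.1 ≫ V.ι) ≫ sndP
      rw [Category.assoc, hh1s, ← Category.assoc, haU, ← Category.assoc, ha2, Category.id_comp,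
        Category.assoc]
      exact Pt.2.symm
  obtain ⟨aU, haU1, haU2⟩ := key A jA cA (fun i => if i = 0 then 1 else 0) ⟨0, by simp⟩
    heA hcA hcA1 (fun i => by simp)
  obtain ⟨bU, hbU1, hbU2⟩ := key B jB cB (fun i => if i = 0 then 0 else 1) ⟨1, by simp⟩
    heB hcB hcB1 (fun i => by simp)
  -- the final open
  let W : (U0 : Scheme.{u}).Opens := h1 ⁻¹ᵁ V
  let U : (P1 K).Opens := U0.ι ''ᵁ W
  have hUU0 : U ≤ U0 := by
    rintro _ ⟨w, _, rfl⟩
    exact w.2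
  have hrangeh : Set.range ((P1 K).homOfLE hUU0 ≫ h1) ⊆ Set.range V.ι := by
    rintro _ ⟨x, rfl⟩
    rw [Scheme.Opens.range_ι]
    obtain ⟨w, hw, hwx⟩ := x.2
    have h4 : (P1 K).homOfLE hUU0 x = w := by
      apply U0.ι.isOpenEmbedding.injective
      have h5 : U0.ι ((P1 K).homOfLE hUU0 x) = U.ι x := by
        change ((P1 K).homOfLE hUU0 ≫ U0.ι) x = _
        rw [Scheme.homOfLE_ι]
      exact h5.trans hwx.symm
    change h1 ((P1 K).homOfLE hUU0 x) ∈ V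
    rw [h4]
    exact hw
  let h : (U : Scheme.{u}) ⟶ (V : Scheme.{u}) :=
    IsOpenImmersion.lift V.ι ((P1 K).homOfLE hUU0 ≫ h1) hrangeh
  have hh : h ≫ V.ι = (P1 K).homOfLE hUU0 ≫ h1 := IsOpenImmersion.lift_fac _ _ _
  have mkpt : ∀ (aU : Spec (CommRingCat.of K) ⟶ (U0 : Scheme.{u}))
      (Pt : REq.Pts (V.ι ≫ CohB1.ProjSpaceOver.toBase n (Spec (CommRingCat.of k))) K),
      aU ≫ U0.ι ≫ snd1 K = 𝟙 _ → aU ≫ h1 = Pt.1 ≫ V.ι →
      ∃ a : Spec (CommRingCat.of K) ⟶ (U : Scheme.{u}),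
        a ≫ U.ι ≫ REq.P1K.toSpec K = 𝟙 _ ∧ a ≫ h = Pt.1 := by
    intro aU Pt h5 h6
    have hr : Set.range (aU ≫ U0.ι) ⊆ Set.range U.ι := by
      rintro _ ⟨x, rfl⟩
      rw [Scheme.Opens.range_ι]
      refine ⟨aU x, ?_, rfl⟩
      change h1 (aU x) ∈ V
      have : h1 (aU x) = (aU ≫ h1) x := rfl
      rw [this, h6]
      exact (Pt.1 x).2
    let a : Spec (CommRingCat.of K) ⟶ (U : Scheme.{u}) := IsOpenImmersion.lift U.ι (aU ≫ U0.ι) hr
    have ha : a ≫ U.ι = aU ≫ U0.ι := IsOpenImmersion.lift_fac _ _ _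
    have ha' : a ≫ (P1 K).homOfLE hUU0 = aU := by
      rw [← cancel_mono U0.ι, Category.assoc, Scheme.homOfLE_ι, ha]
    refine ⟨a, ?_, ?_⟩
    · rw [← Category.assoc, ha, Category.assoc]
      exact h5
    · rw [← cancel_mono V.ι, Category.assoc, hh, ← Category.assoc, ha', h6]
  obtain ⟨a, ha1, ha2⟩ := mkpt aU A haU1 haU2
  obtain ⟨b, hb1, hb2⟩ := mkpt bU B hbU1 hbU2
  refine ⟨U, h, a, b, ?_, ha1, hb1, ha2, hb2⟩
  rw [← Category.assoc, hh, Category.assoc]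
  refine (congrArg ((P1 K).homOfLE hUU0 ≫ ·) hh1s).trans ?_
  rw [← Category.assoc, Scheme.homOfLE_ι]
  rfl

end link

end Groth.Agent.Lib.Helper60.Mult
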