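import Groth.Agent.Lib.Helper60.Link3
import Groth.Agent.Lib.Helper60.Hyper2

/-!
# Morphisms to affine space by tuples of functions; assembling direct R-links
-/

set_option autoImplicit false
universe u
open CategoryTheory CategoryTheory.Limits AlgebraicGeometry TopologicalSpace Opposite

namespace Groth.Agent.Lib.Helper60.Mult

open Groth.Agent.Lib.Helper35.Gen Groth.Agent.Lib.Helper35.AbSheaf
open Groth.Agent.Lib.Helper60.ProjUPLib Groth.Agent.Lib.Helper60.TwistLib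
open Groth.Agent.Lib.Helper60.ProjFrac Groth.Agent.Lib.Helper60.SecKer
open Groth.Agent.Lib.Helper60.PbComp Groth.Agent.Lib.Helper35.PbInv
open Groth.Agent.Lib.Helper60.Segre Groth.Agent.Lib.Helper60.Hyper

section aff

variable (k : Type u) [CommRing k] (n : ℕ)

/-- affine `n`-space over `k` -/
noncomputable abbrev AffN : Scheme.{u} := Spec (CommRingCat.of (MvPolynomial (Fin n) k))

/-- its structure morphism -/
noncomputable abbrev affπ : AffN k n ⟶ Spec (CommRingCat.of k) :=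
  Spec.map (CommRingCat.ofHom (algebraMap k (MvPolynomial (Fin n) k)))

variable {k n} {T : Scheme.{u}}

/-- the morphism to affine space defined by a tuple of functions -/
noncomputable def affHom (q : T ⟶ Spec (CommRingCat.of k)) (v : Fin n → Γ(T, ⊤)) : T ⟶ AffN k n :=
  T.toSpecΓ ≫ Spec.map (CommRingCat.ofHom (MvPolynomial.eval₂Hom (ProjUP.toGlobal q) v))

theorem affHom_π (q : T ⟶ Spec (CommRingCat.of k)) (v : Fin n → Γ(T, ⊤)) :
    affHom q v ≫ affπ k n = q := by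
  unfold affHom
  rw [Category.assoc, ← Spec.map_comp]
  have h1 : CommRingCat.ofHom (algebraMap k (MvPolynomial (Fin n) k)) ≫
      CommRingCat.ofHom (MvPolynomial.eval₂Hom (ProjUP.toGlobal q) v) =
      (Scheme.ΓSpecIso (CommRingCat.of k)).inv ≫ q.appTop := by
    ext c
    change MvPolynomial.eval₂ (ProjUP.toGlobal q) v (MvPolynomial.C c) = _
    rw [MvPolynomial.eval₂_C]
    rfl
  rw [h1, Spec.map_comp, ← Scheme.toSpecΓ_naturality_assoc, toSpecΓ_SpecMap_ΓSpecIso_inv,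
    Category.comp_id]

theorem comp_affHom {T' : Scheme.{u}} (z : T' ⟶ T) (q : T ⟶ Spec (CommRingCat.of k))
    (v : Fin n → Γ(T, ⊤)) :
    z ≫ affHom q v = affHom (z ≫ q) (fun i => z.appTop.hom (v i)) := by
  unfold affHom
  rw [Scheme.toSpecΓ_naturality_assoc, ← Spec.map_comp]
  congr 2
  ext1
  apply MvPolynomial.ringHom_ext
  · intro c
    change z.appTop.hom (MvPolynomial.eval₂ (ProjUP.toGlobal q) v (MvPolynomial.C c)) =
      MvPolynomial.eval₂ (ProjUP.toGlobal (z ≫ q)) _ (MvPolynomial.C c)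
    rw [MvPolynomial.eval₂_C, MvPolynomial.eval₂_C, appTop_toGlobal]
  · intro i
    change z.appTop.hom (MvPolynomial.eval₂ (ProjUP.toGlobal q) v (MvPolynomial.X i)) =
      MvPolynomial.eval₂ (ProjUP.toGlobal (z ≫ q)) _ (MvPolynomial.X i)
    rw [MvPolynomial.eval₂_X, MvPolynomial.eval₂_X]

/-- the coordinates of a morphism to affine space -/
noncomputable def affCoord (ψ : T ⟶ AffN k n) (i : Fin n) : Γ(T, ⊤) :=
  ψ.appTop.hom ((Scheme.ΓSpecIso (CommRingCat.of (MvPolynomial (Fin n) k))).inv.hom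
    (MvPolynomial.X i))

theorem eq_affHom (ψ : T ⟶ AffN k n) : ψ = affHom (ψ ≫ affπ k n) (affCoord ψ) := by
  have h1 : ψ = T.toSpecΓ ≫ Spec.map ((Scheme.ΓSpecIso
      (CommRingCat.of (MvPolynomial (Fin n) k))).inv ≫ ψ.appTop) := by
    rw [Spec.map_comp, ← Scheme.toSpecΓ_naturality_assoc, toSpecΓ_SpecMap_ΓSpecIso_inv,
      Category.comp_id]
  conv_lhs => rw [h1]
  unfold affHom
  congr 2
  ext1
  apply MvPolynomial.ringHom_ext
  · intro c
    change ψ.appTop.hom ((Scheme.ΓSpecIso (CommRingCat.of (MvPolynomial (Fin n) k))).inv.hom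
      (MvPolynomial.C c)) = MvPolynomial.eval₂ (ProjUP.toGlobal (ψ ≫ affπ k n)) _ (MvPolynomial.C c)
    rw [MvPolynomial.eval₂_C, ← appTop_toGlobal]
    congr 1
    have h2 := Scheme.ΓSpecIso_inv_naturality
      (CommRingCat.ofHom (algebraMap k (MvPolynomial (Fin n) k)))
    exact congr($(h2) c)
  · intro i
    change _ = MvPolynomial.eval₂ (ProjUP.toGlobal (ψ ≫ affπ k n)) _ (MvPolynomial.X i)
    rw [MvPolynomial.eval₂_X]
    rfl

end aff

section assemble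

variable {k : Type u} [Field k] {K : Type u} [Field K] [Algebra k K]
  {Y : Scheme.{u}} (g : Y ⟶ Spec (CommRingCat.of k)) (V : Y.Opens)

/-- assembling a direct R-link from a morphism defined on an open of the projective line -/
theorem elemLink_of_line (A B : REq.Pts (V.ι ≫ g) K) (D : (P1 K).Opens)
    (φ : (D : Scheme.{u}) ⟶ Y) (hφ : φ ≫ g = D.ι ≫ snd1 K ≫ REq.specMap k K)
    (aU bU : Spec (CommRingCat.of K) ⟶ (D : Scheme.{u}))
    (haU1 : aU ≫ D.ι ≫ snd1 K = 𝟙 _) (haU2 : aU ≫ φ = A.1 ≫ V.ι)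
    (hbU1 : bU ≫ D.ι ≫ snd1 K = 𝟙 _) (hbU2 : bU ≫ φ = B.1 ≫ V.ι) :
    REq.ElemLink (V.ι ≫ g) K A B := by
  let W : (D : Scheme.{u}).Opens := φ ⁻¹ᵁ V
  let U : (P1 K).Opens := D.ι ''ᵁ W
  have hUU0 : U ≤ D := by
    rintro _ ⟨w, _, rfl⟩
    exact w.2
  have hrangeh : Set.range ((P1 K).homOfLE hUU0 ≫ φ) ⊆ Set.range V.ι := by
    rintro _ ⟨x, rfl⟩
    rw [Scheme.Opens.range_ι]
    obtain ⟨w, hw, hwx⟩ := x.2
    have h4 : (P1 K).homOfLE hUU0 x = w := by
      apply D.ι.isOpenEmbedding.injective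
      have h5 : D.ι ((P1 K).homOfLE hUU0 x) = U.ι x := by
        change ((P1 K).homOfLE hUU0 ≫ D.ι) x = _
        rw [Scheme.homOfLE_ι]
      exact h5.trans hwx.symm
    change φ ((P1 K).homOfLE hUU0 x) ∈ V
    rw [h4]
    exact hw
  let h : (U : Scheme.{u}) ⟶ (V : Scheme.{u}) :=
    IsOpenImmersion.lift V.ι ((P1 K).homOfLE hUU0 ≫ φ) hrangeh
  have hh : h ≫ V.ι = (P1 K).homOfLE hUU0 ≫ φ := IsOpenImmersion.lift_fac _ _ _
  have mkpt : ∀ (aU : Spec (CommRingCat.of K) ⟶ (D : Scheme.{u})) (Pt : REq.Pts (V.ι ≫ g) K),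
      aU ≫ D.ι ≫ snd1 K = 𝟙 _ → aU ≫ φ = Pt.1 ≫ V.ι →
      ∃ a : Spec (CommRingCat.of K) ⟶ (U : Scheme.{u}),
        a ≫ U.ι ≫ REq.P1K.toSpec K = 𝟙 _ ∧ a ≫ h = Pt.1 := by
    intro aU Pt h5 h6
    have hr : Set.range (aU ≫ D.ι) ⊆ Set.range U.ι := by
      rintro _ ⟨x, rfl⟩
      rw [Scheme.Opens.range_ι]
      refine ⟨aU x, ?_, rfl⟩
      change φ (aU x) ∈ V
      have : φ (aU x) = (aU ≫ φ) x := rfl
      rw [this, h6]
      exact (Pt.1 x).2
    let a : Spec (CommRingCat.of K) ⟶ (U : Scheme.{u}) := IsOpenImmersion.lift U.ι (aU ≫ D.ι) hr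
    have ha : a ≫ U.ι = aU ≫ D.ι := IsOpenImmersion.lift_fac _ _ _
    have ha' : a ≫ (P1 K).homOfLE hUU0 = aU := by
      rw [← cancel_mono D.ι, Category.assoc, Scheme.homOfLE_ι, ha]
    refine ⟨a, ?_, ?_⟩
    · rw [← Category.assoc, ha, Category.assoc]
      exact h5
    · rw [← cancel_mono V.ι, Category.assoc, hh, ← Category.assoc, ha', h6]
  obtain ⟨a, ha1, ha2⟩ := mkpt aU A haU1 haU2
  obtain ⟨b, hb1, hb2⟩ := mkpt bU B hbU1 hbU2
  refine ⟨U, h, a, b, ?_, ha1, hb1, ha2, hb2⟩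
  rw [← Category.assoc, hh, Category.assoc, hφ, ← Category.assoc, Scheme.homOfLE_ι]
  rfl

end assemble

section pt'

variable (K : Type u) [Field K]

/-- a `K`-point of the projective line with given homogeneous coordinates -/
theorem exists_point' {M : (Spec (CommRingCat.of K)).Modules} {e : Γ(M, ⊤)} (he : IsGen M ⊤ e)
    (g : Fin (1 + 1) → Γ(Spec (CommRingCat.of K), ⊤)) (hg : ∃ i, IsUnit (g i)) :
    ∃ (a0 : Spec (CommRingCat.of K) ⟶ P1 K) (E : Γ((Scheme.Modules.pullback a0).obj (LK K), ⊤)),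
      a0 ≫ snd1 K = 𝟙 _ ∧ IsGen _ ⊤ E ∧
      ∀ i, ProjUP.pullSec a0 (LK K) (tsec 1 (fst1 K) i) = g i • E := by
  obtain ⟨pt, hpt, hd⟩ := exists_map_of_gen (R := (ULift.{u} ℤ)) 1
    (specULiftZIsTerminal.from (Spec (CommRingCat.of K))) he g hg
  let a0 : (Spec (CommRingCat.of K)) ⟶ P1 K :=
    pullback.lift pt (𝟙 _) (specULiftZIsTerminal.hom_ext _ _)
  have ha1 : a0 ≫ fst1 K = pt := pullback.lift_fst _ _ _
  have ha2 : a0 ≫ snd1 K = 𝟙 _ := pullback.lift_snd _ _ _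
  obtain ⟨E, hE, hs⟩ := exists_gen_pullback 1 a0 (fst1 K) pt ha1 he g hd
  exact ⟨a0, E, ha2, hE, hs⟩

end pt'

end Groth.Agent.Lib.Helper60.Mult
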