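import Groth.Agent.Lib.Helper60.Link4

/-!
# Any two `K`-points of an open of affine space are directly R-linked
-/

set_option autoImplicit false
universe u
open CategoryTheory CategoryTheory.Limits AlgebraicGeometry TopologicalSpace Opposite

namespace Groth.Agent.Lib.Helper60.Mult

open Groth.Agent.Lib.Helper35.Gen Groth.Agent.Lib.Helper35.AbSheaf
open Groth.Agent.Lib.Helper60.ProjUPLib Groth.Agent.Lib.Helper60.TwistLib
open Groth.Agent.Lib.Helper60.ProjFrac Groth.Agent.Lib.Helper60.SecKer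
open Groth.Agent.Lib.Helper60.PbComp Groth.Agent.Lib.Helper35.PbInv
open Groth.Agent.Lib.Helper60.Segre Groth.Agent.Lib.Helper60.Hyper

section afflink

variable (k : Type u) [Field k] (n : ℕ) (V : (AffN k n).Opens) (K : Type u) [Field K] [Algebra k K]

theorem elemLink_aff (P Q : REq.Pts (V.ι ≫ affπ k n) K) :
    REq.ElemLink (V.ι ≫ affπ k n) K P Q := by
  -- the chart `x₀ ≠ 0` of the projective line
  let D0 : (P1 K).Opens := genOpen (LK K) (tsec 1 (fst1 K) 0)
  let eZ : Γ((Scheme.Modules.pullback D0.ι).obj (LK K), ⊤) :=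
    ProjUP.pullSec D0.ι (LK K) (tsec 1 (fst1 K) 0)
  have heZ : IsGen ((Scheme.Modules.pullback D0.ι).obj (LK K)) ⊤ eZ := by
    apply isGen_top_of_genOpen_eq_top
    rw [eq_top_iff]
    refine le_trans ?_ (preimage_genOpen_le D0.ι (LK K) (tsec 1 (fst1 K) 0))
    exact (Scheme.Opens.ι_preimage_self D0).ge
  obtain ⟨Tf, hT⟩ := heZ.exists_eq_smul (ProjUP.pullSec D0.ι (LK K) (tsec 1 (fst1 K) 1))
  -- coordinates of the two points
  let α : Fin n → Γ(Spec (CommRingCat.of K), ⊤) := affCoord (P.1 ≫ V.ι)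
  let β : Fin n → Γ(Spec (CommRingCat.of K), ⊤) := affCoord (Q.1 ≫ V.ι)
  let c : Γ(Spec (CommRingCat.of K), ⊤) →+* Γ((D0 : Scheme.{u}), ⊤) := (D0.ι ≫ snd1 K).appTop.hom
  let v : Fin n → Γ((D0 : Scheme.{u}), ⊤) := fun i => c (α i) + Tf * (c (β i) - c (α i))
  let φ : (D0 : Scheme.{u}) ⟶ AffN k n := affHom (D0.ι ≫ snd1 K ≫ REq.specMap k K) v
  have hφ : φ ≫ affπ k n = D0.ι ≫ snd1 K ≫ REq.specMap k K := affHom_π _ _
  have hP2 : (P.1 ≫ V.ι) ≫ affπ k n = REq.specMap k K := by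
    rw [Category.assoc]
    exact P.2
  have hQ2 : (Q.1 ≫ V.ι) ≫ affπ k n = REq.specMap k K := by
    rw [Category.assoc]
    exact Q.2
  -- the key construction for a point with coordinates `(1 : τ)`
  have key : ∀ (τ : Γ(Spec (CommRingCat.of K), ⊤)),
      ∃ pa : Spec (CommRingCat.of K) ⟶ (D0 : Scheme.{u}),
        pa ≫ D0.ι ≫ snd1 K = 𝟙 _ ∧
        pa ≫ φ = affHom (REq.specMap k K) (fun i => α i + τ * (β i - α i)) := by
    intro τ
    obtain ⟨a0, E, ha2, hE, hs⟩ := exists_point' K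
      (isGen_one (X := Spec (CommRingCat.of K)) ⊤) (fun i => if i = 0 then 1 else τ)
      ⟨0, by simp⟩
    have hs0 : ProjUP.pullSec a0 (LK K) (tsec 1 (fst1 K) 0) = (1 : Γ(Spec (CommRingCat.of K), ⊤)) • E := by
      have := hs 0
      simpa using this
    have hs1 : ProjUP.pullSec a0 (LK K) (tsec 1 (fst1 K) 1) = τ • E := by
      have := hs 1
      simpa using this
    have hmem : ∀ x, a0 x ∈ D0 := by
      intro x
      have h2 : genOpen ((Scheme.Modules.pullback a0).obj (LK K))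
          (ProjUP.pullSec a0 (LK K) (tsec 1 (fst1 K) 0)) = ⊤ := by
        apply genOpen_eq_top_of_isGen
        rw [hs0, one_smul]
        exact hE
      rw [genOpen_pullSec a0 (LK K) (isInvertible_LK K)] at h2
      have : x ∈ a0 ⁻¹ᵁ genOpen (LK K) (tsec 1 (fst1 K) 0) := by
        rw [h2]
        trivial
      exact this
    have hrange : Set.range a0 ⊆ Set.range D0.ι := by
      rintro _ ⟨x, rfl⟩
      rw [Scheme.Opens.range_ι]
      exact hmem x
    let pa : Spec (CommRingCat.of K) ⟶ (D0 : Scheme.{u}) := IsOpenImmersion.lift D0.ι a0 hrange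
    have hpa : pa ≫ D0.ι = a0 := IsOpenImmersion.lift_fac _ _ _
    have hsec : pa ≫ D0.ι ≫ snd1 K = 𝟙 _ := by rw [← Category.assoc, hpa, ha2]
    refine ⟨pa, hsec, ?_⟩
    -- the value of `Tf` at the point
    have hτ : pa.appTop.hom Tf = τ := by
      obtain ⟨e1, he1⟩ := exists_iso_of_eq hpa (LK K)
      have hθ : ∀ s : Γ(LK K, ⊤), (e1.hom.app ⊤).hom (((compIso pa D0.ι (LK K)).inv.app ⊤).hom
          (ProjUP.pullSec pa _ (ProjUP.pullSec D0.ι (LK K) s))) = ProjUP.pullSec a0 (LK K) s := by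
        intro s
        rw [← he1 s, ← compIso_pullSec pa D0.ι (LK K) s, iso_inv_hom_apply]
      have h1 := hθ (tsec 1 (fst1 K) 1)
      rw [hT, pullSec_smul, Scheme.Modules.Hom.app_smul, Scheme.Modules.Hom.app_smul] at h1
      have h0 := hθ (tsec 1 (fst1 K) 0)
      change (e1.hom.app ⊤).hom (((compIso pa D0.ι (LK K)).inv.app ⊤).hom
        (ProjUP.pullSec pa _ eZ)) = _ at h0
      rw [h0, hs0, hs1, one_smul] at h1
      exact hE.smul_injective h1
    have hc : ∀ y : Γ(Spec (CommRingCat.of K), ⊤), pa.appTop.hom (c y) = y := by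
      intro y
      have h1 : (D0.ι ≫ snd1 K).appTop ≫ pa.appTop = 𝟙 _ := by
        rw [← Scheme.Hom.comp_appTop, hsec, Scheme.Hom.id_appTop]
      exact congr($(h1) y)
    rw [comp_affHom]
    have hq : pa ≫ D0.ι ≫ snd1 K ≫ REq.specMap k K = REq.specMap k K := by
      rw [← Category.assoc, ← Category.assoc, Category.assoc pa, hsec, Category.id_comp]
    rw [hq]
    congr 1
    funext i
    change pa.appTop.hom (c (α i) + Tf * (c (β i) - c (α i))) = _
    rw [map_add, map_mul, map_sub, hc, hc, hτ]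
  obtain ⟨pa, hpa1, hpa2⟩ := key 0
  obtain ⟨pb, hpb1, hpb2⟩ := key 1
  refine elemLink_of_line (affπ k n) V P Q D0 φ hφ pa pb hpa1 ?_ hpb1 ?_
  · rw [hpa2]
    have h1 := eq_affHom (P.1 ≫ V.ι)
    rw [hP2] at h1
    rw [h1]
    congr 1
    funext i
    simp [α]
  · rw [hpb2]
    have h1 := eq_affHom (Q.1 ≫ V.ι)
    rw [hQ2] at h1
    rw [h1]
    congr 1
    funext i
    simp [β]

end afflink

end Groth.Agent.Lib.Helper60.Mult
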