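import Groth.Agent.Lib.Helper60.Link5
import Mathlib.Algebra.MvPolynomial.Funext

/-!
# Retract rational schemes: direct R-links and rational points
-/

set_option autoImplicit false
universe u
open CategoryTheory CategoryTheory.Limits AlgebraicGeometry TopologicalSpace Opposite

namespace Groth.Agent.Lib.Helper60.Mult

section retract

variable (k : Type u) [Field k] {X : Scheme.{u}} (f : X ⟶ Spec (CommRingCat.of k))
  (U : X.Opens) (n : ℕ) (V : (AffN k n).Opens)
  (a : (U : Scheme.{u}) ⟶ (V : Scheme.{u})) (b : (V : Scheme.{u}) ⟶ (U : Scheme.{u}))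
  (hab : a ≫ b = 𝟙 (U : Scheme.{u})) (ha : a ≫ V.ι ≫ affπ k n = U.ι ≫ f)
  (hb : b ≫ U.ι ≫ f = V.ι ≫ affπ k n)

include hab ha hb in
/-- in a retract of an open of affine space, any two points are directly R-linked -/
theorem elemLink_of_retract (K : Type u) [Field K] [Algebra k K] (A B : REq.Pts (U.ι ≫ f) K) :
    REq.ElemLink (U.ι ≫ f) K A B := by
  have hA : (A.1 ≫ a) ≫ V.ι ≫ affπ k n = REq.specMap k K := by
    rw [Category.assoc, ha]
    exact A.2
  have hB : (B.1 ≫ a) ≫ V.ι ≫ affπ k n = REq.specMap k K := by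
    rw [Category.assoc, ha]
    exact B.2
  obtain ⟨U', h', pa, pb, h1, h2, h3, h4, h5⟩ :=
    elemLink_aff k n V K ⟨A.1 ≫ a, hA⟩ ⟨B.1 ≫ a, hB⟩
  refine ⟨U', h' ≫ b, pa, pb, ?_, h2, h3, ?_, ?_⟩
  · rw [Category.assoc, hb]
    exact h1
  · rw [← Category.assoc, h4]
    change (A.1 ≫ a) ≫ b = A.1
    rw [Category.assoc, hab, Category.comp_id]
  · rw [← Category.assoc, h5]
    change (B.1 ≫ a) ≫ b = B.1
    rw [Category.assoc, hab, Category.comp_id]

/-- a nonempty open of affine space over an infinite field has a rational point -/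
theorem exists_pt_aff [Infinite k] (hV : (V : Set (AffN k n)).Nonempty)
    (K : Type u) [Field K] [Algebra k K] :
    ∃ x : Spec (CommRingCat.of K) ⟶ (V : Scheme.{u}), x ≫ V.ι ≫ affπ k n = REq.specMap k K := by
  obtain ⟨y, hy⟩ := hV
  obtain ⟨_, ⟨_, ⟨⟨p, rfl⟩, rfl⟩⟩, hyp, hsub⟩ :=
    (PrimeSpectrum.isBasis_basic_opens (R := MvPolynomial (Fin n) k)).exists_subset_of_mem_open
      hy V.2
  have hp0 : p ≠ 0 := by
    rintro rfl
    exact hyp (Ideal.zero_mem _)
  obtain ⟨c, hc⟩ : ∃ c : Fin n → k, MvPolynomial.eval c p ≠ 0 := by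
    by_contra hcon
    push Not at hcon
    apply hp0
    apply MvPolynomial.funext
    intro x
    rw [hcon x, map_zero]
  let ev : MvPolynomial (Fin n) k →+* K := (algebraMap k K).comp (MvPolynomial.eval c)
  let x0 : Spec (CommRingCat.of K) ⟶ AffN k n := Spec.map (CommRingCat.ofHom ev)
  have hx0 : x0 ≫ affπ k n = REq.specMap k K := by
    change Spec.map _ ≫ Spec.map _ = Spec.map _
    rw [← Spec.map_comp]
    congr 1
    ext z
    change ev (algebraMap k (MvPolynomial (Fin n) k) z) = algebraMap k K z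
    change algebraMap k K (MvPolynomial.eval c (MvPolynomial.C z)) = _
    rw [MvPolynomial.eval_C]
  have hrange : Set.range x0 ⊆ Set.range V.ι := by
    rintro _ ⟨pt, rfl⟩
    rw [Scheme.Opens.range_ι]
    apply hsub
    change p ∉ (PrimeSpectrum.comap ev pt).asIdeal
    rw [PrimeSpectrum.comap_asIdeal, Ideal.mem_comap]
    have hbot : pt.asIdeal = ⊥ := by
      have := pt.isPrime
      exact ((Ideal.eq_bot_or_top pt.asIdeal).resolve_right this.ne_top)
    rw [hbot, Ideal.mem_bot]
    change algebraMap k K (MvPolynomial.eval c p) ≠ 0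
    rw [Ne, map_eq_zero]
    exact hc
  refine ⟨IsOpenImmersion.lift V.ι x0 hrange, ?_⟩
  rw [← Category.assoc, IsOpenImmersion.lift_fac]
  exact hx0

end retract

section final

variable (k : Type u) [Field k] (X : Scheme.{u}) (f : X ⟶ Spec (CommRingCat.of k))

theorem retractRational_elemLink (hX : REq.IsRetractRational f) :
    ∃ U : X.Opens, (U : Set X).Nonempty ∧
      ∀ (K : Type u) [Field K] [Algebra k K] (A B : REq.Pts (U.ι ≫ f) K),
        REq.ElemLink (U.ι ≫ f) K A B := by
  obtain ⟨U, n, V, a, b, hne, hab, ha, hb⟩ := hX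
  exact ⟨U, hne, fun K _ _ A B => elemLink_of_retract k f U n V a b hab ha hb K A B⟩

theorem retractRational_almostRTrivial [Infinite k] [IrreducibleSpace X]
    (hX : REq.IsRetractRational f) : REq.IsAlmostRTrivial f := by
  obtain ⟨U, n, V, a, b, hne, hab, ha, hb⟩ := hX
  refine ⟨U, U.2.dense hne, fun K _ _ => ⟨?_, ?_⟩⟩
  · have hV : (V : Set (AffN k n)).Nonempty := by
      obtain ⟨u, hu⟩ := hne
      exact ⟨V.ι (a ⟨u, hu⟩), (a ⟨u, hu⟩).2⟩
    obtain ⟨x, hx⟩ := exists_pt_aff k n V hV K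
    refine ⟨⟨x ≫ b ≫ U.ι, ?_⟩, ?_⟩
    · rw [Category.assoc, Category.assoc, hb]
      exact hx
    · rintro _ ⟨pt, rfl⟩
      exact (b (x pt)).2
  · intro A B hA hB
    have hrA : Set.range A.1 ⊆ Set.range U.ι := by
      rw [Scheme.Opens.range_ι]
      exact hA
    have hrB : Set.range B.1 ⊆ Set.range U.ι := by
      rw [Scheme.Opens.range_ι]
      exact hB
    have hA' : IsOpenImmersion.lift U.ι A.1 hrA ≫ U.ι ≫ f = REq.specMap k K := by
      rw [← Category.assoc, IsOpenImmersion.lift_fac]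
      exact A.2
    have hB' : IsOpenImmersion.lift U.ι B.1 hrB ≫ U.ι ≫ f = REq.specMap k K := by
      rw [← Category.assoc, IsOpenImmersion.lift_fac]
      exact B.2
    obtain ⟨U', h, pa, pb, h1, h2, h3, h4, h5⟩ := elemLink_of_retract k f U n V a b hab ha hb K
      ⟨IsOpenImmersion.lift U.ι A.1 hrA, hA'⟩ ⟨IsOpenImmersion.lift U.ι B.1 hrB, hB'⟩
    apply Relation.EqvGen.rel
    refine ⟨U', h ≫ U.ι, pa, pb, ?_, h2, h3, ?_, ?_⟩
    · rw [Category.assoc]
      exact h1
    · rw [← Category.assoc, h4]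
      exact IsOpenImmersion.lift_fac _ _ _
    · rw [← Category.assoc, h5]
      exact IsOpenImmersion.lift_fac _ _ _

end final

end Groth.Agent.Lib.Helper60.Mult
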