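import Groth.Agent.Lib.Helper60.Seg3
import Groth.Agent.Lib.Helper60.Hyper1
import Groth.Agent.Lib.Helper7.ProjSpaceProper

/-!
# The multiplication map `P^n × P^m → P^{n+m}` (product of binary forms): finiteness
-/

set_option autoImplicit false
universe u
open CategoryTheory CategoryTheory.Limits AlgebraicGeometry TopologicalSpace Opposite

namespace Groth.Agent.Lib.Helper60.Mult

open Groth.Agent.Lib.Helper35.Gen Groth.Agent.Lib.Helper35.AbSheaf
open Groth.Agent.Lib.Helper60.ProjUPLib Groth.Agent.Lib.Helper60.TwistLib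
open Groth.Agent.Lib.Helper60.ProjFrac Groth.Agent.Lib.Helper60.SecKer
open Groth.Agent.Lib.Helper60.PbComp Groth.Agent.Lib.Helper35.PbInv
open Groth.Agent.Lib.Helper60.Segre Groth.Agent.Lib.Helper60.Hyper

section gen

variable {Y : Scheme.{u}} {L : Y.Modules}

/-- if exactly one of the summands generates near `z`, so does the sum -/
theorem mem_genOpen_sum {ι : Type*} (s : ι → Γ(L, ⊤)) (T : Finset ι) (p₀ : ι)
    (hp₀ : p₀ ∈ T) (z : Y) (hz : z ∈ genOpen L (s p₀))
    (hnz : ∀ p ∈ T, p ≠ p₀ → z ∉ genOpen L (s p)) :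
    z ∈ genOpen L (∑ p ∈ T, s p) := by
  classical
  let t : Option ↥(T.erase p₀) → Γ(L, ⊤) := fun o => o.elim (∑ p ∈ T, s p) (fun p => s p.1)
  let b : Option ↥(T.erase p₀) → Γ(Y, ⊤) := fun o => o.elim 1 (fun _ => -1)
  have hrel : (1 : Γ(Y, ⊤)) • s p₀ = ∑ o, b o • t o := by
    rw [one_smul, Fintype.sum_option]
    have h1 : (∑ p : ↥(T.erase p₀), b (some p) • t (some p)) = - ∑ p ∈ T.erase p₀, s p := by
      rw [← Finset.sum_coe_sort (T.erase p₀) (fun p => s p), ← Finset.sum_neg_distrib]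
      refine Finset.sum_congr rfl (fun p _ => ?_)
      change (-1 : Γ(Y, ⊤)) • s p.1 = - s p.1
      rw [neg_smul, one_smul]
    have h2 : b none • t none = ∑ p ∈ T, s p := by
      change (1 : Γ(Y, ⊤)) • (∑ p ∈ T, s p) = _
      rw [one_smul]
    rw [h1, h2, ← Finset.add_sum_erase T s hp₀]
    abel
  obtain ⟨o, ho⟩ := exists_mem_genOpen_of_unit_relation (s p₀) t 1 isUnit_one b hrel z hz
  cases o with
  | none => exact ho
  | some p =>
    exact absurd ho (hnz p.1 (Finset.mem_of_mem_erase p.2) (Finset.ne_of_mem_erase p.2))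

end gen

section lin

variable (R : Type u) [CommRing R] (n m : ℕ)

/-- sections of `O(1,1)` that are `R`-linear combinations of the Segre sections -/
def IsLin (w : Γ(LL R n m, ⊤)) : Prop :=
  ∃ a : Fin (n * m + n + m + 1) → R,
    w = ∑ k, ProjUP.toGlobal (qq R n m) (a k) • vsec R n m k

theorem isLin_zero : IsLin R n m 0 := ⟨0, by simp⟩

variable {R n m} in
theorem IsLin.add {w w' : Γ(LL R n m, ⊤)} (h : IsLin R n m w) (h' : IsLin R n m w') :
    IsLin R n m (w + w') := by
  obtain ⟨a, rfl⟩ := h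
  obtain ⟨a', rfl⟩ := h'
  refine ⟨a + a', ?_⟩
  rw [← Finset.sum_add_distrib]
  refine Finset.sum_congr rfl (fun k _ => ?_)
  rw [Pi.add_apply, map_add, add_smul]

theorem isLin_vsec (k : Fin (n * m + n + m + 1)) : IsLin R n m (vsec R n m k) := by
  classical
  refine ⟨fun k' => if k' = k then 1 else 0, ?_⟩
  rw [Finset.sum_eq_single k]
  · simp
  · intro b _ hb
    simp [hb]
  · intro h
    exact absurd (Finset.mem_univ k) h

theorem isLin_usec (i : Fin (n + 1)) (j : Fin (m + 1)) : IsLin R n m (usec R n m i j) := by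
  rw [← vsec_idx]
  exact isLin_vsec R n m _

theorem isLin_sum {ι : Type*} (T : Finset ι) (w : ι → Γ(LL R n m, ⊤))
    (h : ∀ i ∈ T, IsLin R n m (w i)) : IsLin R n m (∑ i ∈ T, w i) := by
  classical
  induction T using Finset.induction_on with
  | empty => simpa using isLin_zero R n m
  | insert i s hi ih =>
    rw [Finset.sum_insert hi]
    exact (h i (Finset.mem_insert_self i s)).add
      (ih (fun j hj => h j (Finset.mem_insert_of_mem hj)))

/-- the non-vanishing locus of a linear combination of the Segre sections is affine -/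
theorem isAffineOpen_genOpen_of_isLin (w : Γ(LL R n m, ⊤)) (h : IsLin R n m w) :
    IsAffineOpen (genOpen (LL R n m) w) := by
  obtain ⟨a, rfl⟩ := h
  obtain ⟨σ, τ, hci, hσ, hτ⟩ := exists_segre' R n m
  have hgen : Algebra.adjoin R (Set.range (fun i : Fin (n * m + n + m + 1) =>
      (MvPolynomial.X i : MvPolynomial (Fin (n * m + n + m + 1)) R))) = ⊤ :=
    MvPolynomial.adjoin_range_X
  obtain ⟨ℓ, hℓ⟩ : ∃ ℓ : CohB1.polyGrading (n * m + n + m) R 1,
      ℓ = ∑ i, a i • Xdeg R (n * m + n + m) i := ⟨_, rfl⟩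
  have h1 : σ ⁻¹ᵁ Proj.basicOpen (CohB1.polyGrading (n * m + n + m) R) ℓ.1 =
      genOpen ((Scheme.Modules.pullback σ).obj
        (Twist.twist (CohB1.polyGrading (n * m + n + m) R) ((1 : ℕ) : ℤ)))
        (psec (CohB1.polyGrading (n * m + n + m) R) σ ℓ) :=
    preimage_basicOpen_eq_genOpen (CohB1.polyGrading (n * m + n + m) R)
      (fun i : Fin (n * m + n + m + 1) =>
        (MvPolynomial.X i : MvPolynomial (Fin (n * m + n + m + 1)) R))
      (fun i => MvPolynomial.isHomogeneous_X R i) hgen σ ℓ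
  have h2 : (τ.hom.app ⊤).hom (ProjUP.pullSec σ (Twist.twistProjSpace (n * m + n + m) R 1)
      (gsec (CohB1.polyGrading (n * m + n + m) R) ℓ)) =
      ∑ k, ProjUP.toGlobal (qq R n m) (a k) • vsec R n m k := by
    rw [hℓ, pullSec_linear, map_sum]
    refine Finset.sum_congr rfl (fun k _ => ?_)
    rw [Scheme.Modules.Hom.app_smul, hτ, hσ]
  rw [← h2, genOpen_map_iso τ]
  have : IsClosedImmersion σ := hci
  have hA : IsAffineOpen (X := CohB1.ProjSpace (n * m + n + m) R)
      (Proj.basicOpen (CohB1.polyGrading (n * m + n + m) R) ℓ.1) :=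
    Proj.isAffineOpen_basicOpen _ ℓ.1 ℓ.2 one_pos
  have h3 : IsAffineOpen (σ ⁻¹ᵁ Proj.basicOpen (CohB1.polyGrading (n * m + n + m) R) ℓ.1) :=
    hA.preimage σ
  rw [h1] at h3
  exact h3

end lin

section mult

variable (R : Type u) [CommRing R] (n m : ℕ)

/-- the index pairs contributing to the `j`-th coefficient of a product -/
def wset (j : Fin (n + m + 1)) : Finset (Fin (n + 1) × Fin (m + 1)) :=
  Finset.univ.filter (fun p => p.1.val + p.2.val = j.val)

/-- the coefficient sections `Σ_{i+k=j} x_i ⊗ y_k` -/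
noncomputable def wsec (j : Fin (n + m + 1)) : Γ(LL R n m, ⊤) :=
  ∑ p ∈ wset n m j, usec R n m p.1 p.2

theorem isLin_wsec (j : Fin (n + m + 1)) : IsLin R n m (wsec R n m j) :=
  isLin_sum R n m _ _ (fun p _ => isLin_usec R n m p.1 p.2)

theorem wsec_cov (x : XX R n m) : ∃ j, x ∈ genOpen (LL R n m) (wsec R n m j) := by
  classical
  have hP : ∃ i : ℕ, ∃ h : i < n + 1, x ∈ genOpen (L1 R n m) (tsec n (p1 R n m) ⟨i, h⟩) := by
    obtain ⟨i, hi⟩ := exists_mem_genOpen_tsec n (p1 R n m) x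
    exact ⟨i.1, i.2, hi⟩
  have hQ : ∃ k : ℕ, ∃ h : k < m + 1, x ∈ genOpen (L2 R n m) (tsec m (p2 R n m) ⟨k, h⟩) := by
    obtain ⟨k, hk⟩ := exists_mem_genOpen_tsec m (p2 R n m) x
    exact ⟨k.1, k.2, hk⟩
  obtain ⟨hi₀, hxi⟩ := Nat.find_spec hP
  obtain ⟨hk₀, hxk⟩ := Nat.find_spec hQ
  have hmini : ∀ i : Fin (n + 1), i.1 < Nat.find hP →
      x ∉ genOpen (L1 R n m) (tsec n (p1 R n m) i) := fun i hi hx =>
    Nat.find_min hP hi ⟨i.2, hx⟩
  have hmink : ∀ k : Fin (m + 1), k.1 < Nat.find hQ →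
      x ∉ genOpen (L2 R n m) (tsec m (p2 R n m) k) := fun k hk hx =>
    Nat.find_min hQ hk ⟨k.2, hx⟩
  refine ⟨⟨Nat.find hP + Nat.find hQ, by omega⟩, ?_⟩
  unfold wsec
  have hgu : ∀ (i : Fin (n + 1)) (k : Fin (m + 1)), genOpen (LL R n m) (usec R n m i k) =
      genOpen (L1 R n m) (tsec n (p1 R n m) i) ⊓ genOpen (L2 R n m) (tsec m (p2 R n m) k) := by
    intro i k
    rw [genOpen_usec, genOpen_tsec, genOpen_tsec]
  refine mem_genOpen_sum (fun p : Fin (n + 1) × Fin (m + 1) => usec R n m p.1 p.2) _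
    (⟨Nat.find hP, hi₀⟩, ⟨Nat.find hQ, hk₀⟩) ?_ x ?_ ?_
  · simp [wset]
  · rw [hgu]
    exact ⟨hxi, hxk⟩
  · intro p hp hne hx
    rw [hgu] at hx
    have hp' : p.1.val + p.2.val = Nat.find hP + Nat.find hQ := by
      simpa [wset] using hp
    by_cases h1 : p.1.1 < Nat.find hP
    · exact hmini p.1 h1 hx.1
    · by_cases h2 : p.2.1 < Nat.find hQ
      · exact hmink p.2 h2 hx.2
      · apply hne
        apply Prod.ext
        · apply Fin.ext
          change p.1.1 = Nat.find hP
          omega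
        · apply Fin.ext
          change p.2.1 = Nat.find hQ
          omega

/-- **The multiplication map**, with its defining data. -/
theorem exists_mult' :
    ∃ (μ : XX R n m ⟶ CohB1.ProjSpace (n + m) R)
      (τ : (Scheme.Modules.pullback μ).obj (Twist.twistProjSpace (n + m) R 1) ≅ LL R n m),
      μ ≫ CohB1.ProjSpace.toSpec (n + m) R = qq R n m ∧
        ∀ j, (τ.hom.app ⊤).hom (tsec (n + m) μ j) = wsec R n m j := by
  obtain ⟨μ, hμ, τ, hτ⟩ := exists_projSpace' (n + m) (qq R n m) (LL R n m)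
    (wsec R n m) (wsec_cov R n m)
  exact ⟨μ, τ, hμ, hτ⟩

variable {R n m} in
/-- the multiplication map is finite -/
theorem isFinite_of_data (μ : XX R n m ⟶ CohB1.ProjSpace (n + m) R)
    (τ : (Scheme.Modules.pullback μ).obj (Twist.twistProjSpace (n + m) R 1) ≅ LL R n m)
    (hμ : μ ≫ CohB1.ProjSpace.toSpec (n + m) R = qq R n m)
    (hτ : ∀ j, (τ.hom.app ⊤).hom (tsec (n + m) μ j) = wsec R n m j) : IsFinite μ := by
  rw [IsFinite.iff_isProper_and_isAffineHom]
  constructor
  · have h1 : IsProper (qq R n m) := by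
      unfold qq p1
      infer_instance
    have h2 : IsProper (μ ≫ CohB1.ProjSpace.toSpec (n + m) R) := by
      rw [hμ]
      exact h1
    exact IsProper.of_comp μ (CohB1.ProjSpace.toSpec (n + m) R)
  · apply isAffineHom_of_forall_exists_isAffineOpen
    intro y
    have hgen : Algebra.adjoin R (Set.range (fun i : Fin (n + m + 1) =>
        (MvPolynomial.X i : MvPolynomial (Fin (n + m + 1)) R))) = ⊤ := MvPolynomial.adjoin_range_X
    obtain ⟨j, hj⟩ := exists_mem_basicOpen (CohB1.polyGrading (n + m) R)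
      (fun i : Fin (n + m + 1) => (MvPolynomial.X i : MvPolynomial (Fin (n + m + 1)) R)) hgen y
    refine ⟨Dp (n + m) j, hj, Proj.isAffineOpen_basicOpen (CohB1.polyGrading (n + m) R) _
      (MvPolynomial.isHomogeneous_X R j) one_pos, ?_⟩
    rw [preimage_Dp_eq_genOpen (n + m) μ τ (wsec R n m) hτ j]
    exact isAffineOpen_genOpen_of_isLin R n m _ (isLin_wsec R n m j)

end mult

end Groth.Agent.Lib.Helper60.Mult
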