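import Groth.Agent.Lib.Helper60.Mul2

/-!
# Lifting points through the multiplication map
-/

set_option autoImplicit false
universe u
open CategoryTheory CategoryTheory.Limits AlgebraicGeometry TopologicalSpace Opposite

namespace Groth.Agent.Lib.Helper60.Mult

open Groth.Agent.Lib.Helper35.Gen Groth.Agent.Lib.Helper35.AbSheaf
open Groth.Agent.Lib.Helper60.ProjUPLib Groth.Agent.Lib.Helper60.TwistLib
open Groth.Agent.Lib.Helper60.ProjFrac Groth.Agent.Lib.Helper60.SecKer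
open Groth.Agent.Lib.Helper60.PbComp Groth.Agent.Lib.Helper35.PbInv
open Groth.Agent.Lib.Helper60.Segre Groth.Agent.Lib.Helper60.Hyper

section lift

variable {R : Type u} [CommRing R] {Y : Scheme.{u}}

theorem isGen_top_of_genOpen_eq_top {L : Y.Modules} (s : Γ(L, ⊤)) (h : genOpen L s = ⊤) :
    IsGen L ⊤ s := by
  have h1 := (isGen_genOpen L s).mono (h.ge : (⊤ : Y.Opens) ≤ genOpen L s)
  rwa [rs_rs, rs_self] at h1

theorem genOpen_eq_top_of_isGen {L : Y.Modules} (s : Γ(L, ⊤)) (h : IsGen L ⊤ s) :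
    genOpen L s = ⊤ := by
  rw [eq_top_iff]
  apply le_genOpen
  rwa [rs_self]

/-- a tuple of functions containing a unit, times a global generator, defines a morphism -/
theorem exists_map_of_gen (N : ℕ) (q : Y ⟶ Spec (CommRingCat.of R)) {M : Y.Modules} {e : Γ(M, ⊤)}
    (he : IsGen M ⊤ e) (g : Fin (N + 1) → Γ(Y, ⊤)) (hg : ∃ i, IsUnit (g i)) :
    ∃ y1 : Y ⟶ CohB1.ProjSpace N R, y1 ≫ CohB1.ProjSpace.toSpec N R = q ∧
      IsData N y1 M (fun i => g i • e) := by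
  have hcov : ∀ x : Y, ∃ i, x ∈ genOpen M (g i • e) := by
    intro x
    obtain ⟨i, hi⟩ := hg
    refine ⟨i, ?_⟩
    have h1 : IsGen M ⊤ (g i • e) := by
      rw [isGen_smul_iff he, Scheme.basicOpen_of_isUnit Y hi]
    rw [genOpen_eq_top_of_isGen _ h1]
    trivial
  obtain ⟨y1, hy1, τ, hτ⟩ := exists_projSpace' N q M (fun i => g i • e) hcov
  exact ⟨y1, hy1, τ, hτ⟩

/-- pulling back the coordinates of a factor -/
theorem exists_gen_pullback {X : Scheme.{u}} (N : ℕ) (z : Y ⟶ X) (p : X ⟶ CohB1.ProjSpace N R)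
    (y1 : Y ⟶ CohB1.ProjSpace N R) (hzp : z ≫ p = y1) {M : Y.Modules} {e : Γ(M, ⊤)}
    (he : IsGen M ⊤ e) (g : Fin (N + 1) → Γ(Y, ⊤)) (hd : IsData N y1 M (fun i => g i • e)) :
    ∃ E : Γ((Scheme.Modules.pullback z).obj
        ((Scheme.Modules.pullback p).obj (Twist.twistProjSpace N R 1)), ⊤),
      IsGen _ ⊤ E ∧ ∀ i, ProjUP.pullSec z _ (tsec N p i) = g i • E := by
  obtain ⟨τ1, hτ1⟩ := hd
  obtain ⟨e1, he1⟩ := exists_iso_of_eq hzp (Twist.twistProjSpace N R 1)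
  let ψ : M ≅ (Scheme.Modules.pullback z).obj
      ((Scheme.Modules.pullback p).obj (Twist.twistProjSpace N R 1)) :=
    τ1.symm ≪≫ e1.symm ≪≫ compIso z p (Twist.twistProjSpace N R 1)
  refine ⟨(ψ.hom.app ⊤).hom e, IsGen.map_iso ψ he, fun i => ?_⟩
  rw [← Scheme.Modules.Hom.app_smul]
  have h0 : (τ1.hom.app ⊤).hom (tsec N y1 i) = g i • e := hτ1 i
  have h1 : (τ1.inv.app ⊤).hom (g i • e) = tsec N y1 i := by
    rw [← h0]
    exact congrArg (fun φ => (Scheme.Modules.Hom.app φ ⊤).hom (tsec N y1 i)) τ1.hom_inv_id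
  have h2 : (e1.inv.app ⊤).hom (tsec N y1 i) =
      ProjUP.pullSec (z ≫ p) (Twist.twistProjSpace N R 1) (ProjUP.coord N R i) := by
    have h3 : tsec N y1 i = (e1.hom.app ⊤).hom
        (ProjUP.pullSec (z ≫ p) (Twist.twistProjSpace N R 1) (ProjUP.coord N R i)) :=
      (he1 (ProjUP.coord N R i)).symm
    rw [h3]
    exact congrArg (fun φ => (Scheme.Modules.Hom.app φ ⊤).hom
      (ProjUP.pullSec (z ≫ p) (Twist.twistProjSpace N R 1) (ProjUP.coord N R i))) e1.hom_inv_id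
  change _ = ((compIso z p (Twist.twistProjSpace N R 1)).hom.app ⊤).hom
    ((e1.inv.app ⊤).hom ((τ1.inv.app ⊤).hom (g i • e)))
  rw [h1, h2, compIso_pullSec]
  rfl

end lift

section main

variable {R : Type u} [CommRing R] {n : ℕ} {Y : Scheme.{u}}

/-- **Lifting through the multiplication map** from a factorisation of the coefficients. -/
theorem exists_lift_of_factor (μ : XX R n 1 ⟶ CohB1.ProjSpace (n + 1) R)
    (hμ : μ ≫ CohB1.ProjSpace.toSpec (n + 1) R = qq R n 1)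
    (hdμ : IsData (n + 1) μ (LL R n 1) (wsec R n 1))
    (y' : Y ⟶ CohB1.ProjSpace (n + 1) R)
    {e : Γ((Scheme.Modules.pullback y').obj (Twist.twistProjSpace (n + 1) R 1), ⊤)}
    (he : IsGen _ ⊤ e) (c : Fin (n + 1 + 1) → Γ(Y, ⊤))
    (hc : ∀ j, tsec (n + 1) y' j = c j • e)
    (g : Fin (n + 1) → Γ(Y, ⊤)) (α : Fin (1 + 1) → Γ(Y, ⊤))
    (hg : ∃ i, IsUnit (g i)) (hα : ∃ k, IsUnit (α k))
    (hfac : ∀ j, c j = ∑ p ∈ wset n 1 j, g p.1 * α p.2) :
    ∃ z : Y ⟶ XX R n 1, z ≫ μ = y' := by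
  obtain ⟨y1, hy1, hd1⟩ := exists_map_of_gen n (y' ≫ CohB1.ProjSpace.toSpec (n + 1) R) he g hg
  obtain ⟨y2, hy2, hd2⟩ := exists_map_of_gen 1 (y' ≫ CohB1.ProjSpace.toSpec (n + 1) R) he α hα
  let z : Y ⟶ XX R n 1 := pullback.lift y1 y2 (hy1.trans hy2.symm)
  have hz1 : z ≫ p1 R n 1 = y1 := pullback.lift_fst _ _ _
  have hz2 : z ≫ p2 R n 1 = y2 := pullback.lift_snd _ _ _
  refine ⟨z, ?_⟩
  obtain ⟨E1, hE1, hs1⟩ := exists_gen_pullback n z (p1 R n 1) y1 hz1 he g hd1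
  obtain ⟨E2, hE2, hs2⟩ := exists_gen_pullback 1 z (p2 R n 1) y2 hz2 he α hd2
  have hL1 : PicF.IsInvertible (L1 R n 1) := isInvertible_pullback_twist n _
  have hL2 : PicF.IsInvertible (L2 R n 1) := isInvertible_pullback_twist 1 _
  have := Groth.Agent.Lib.Helper35.PbTensor.isIso_cmp z hL1 hL2
  have hd := (hdμ.comp z).map_iso (asIso (Groth.Agent.Lib.Helper35.PbTensor.cmp z (L1 R n 1) (L2 R n 1)))
  have hrr' : (z ≫ μ) ≫ CohB1.ProjSpace.toSpec (n + 1) R =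
      y' ≫ CohB1.ProjSpace.toSpec (n + 1) R := by
    rw [Category.assoc, hμ]
    change z ≫ p1 R n 1 ≫ _ = _
    rw [← Category.assoc, hz1, hy1]
  have hd' : IsData (n + 1) y' ((Scheme.Modules.pullback y').obj (Twist.twistProjSpace (n + 1) R 1))
      (tsec (n + 1) y') := ⟨Iso.refl _, fun _ => rfl⟩
  refine eq_of_isData_gen hrr' hd hd' (E := tm _ _ E1 E2) (IsGen.tm hE1 hE2) he c ?_ hc
  intro j
  have hu : ∀ (i : Fin (n + 1)) (k : Fin (1 + 1)),
      ((Groth.Agent.Lib.Helper35.PbTensor.cmp z (L1 R n 1) (L2 R n 1)).app ⊤).hom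
        (ProjUP.pullSec z (LL R n 1) (usec R n 1 i k)) = (g i * α k) • tm _ _ E1 E2 := by
    intro i k
    have h1 : ((Groth.Agent.Lib.Helper35.PbTensor.cmp z (L1 R n 1) (L2 R n 1)).app ⊤).hom
        (ProjUP.pullSec z (LL R n 1) (usec R n 1 i k)) =
        tm ((Scheme.Modules.pullback z).obj (L1 R n 1)) ((Scheme.Modules.pullback z).obj (L2 R n 1))
          (ProjUP.pullSec z (L1 R n 1) (tsec n (p1 R n 1) i))
          (ProjUP.pullSec z (L2 R n 1) (tsec 1 (p2 R n 1) k)) :=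
      Groth.Agent.Lib.Helper35.PbTensor.cmp_pbSec_tm z (L1 R n 1) (L2 R n 1) ⊤
        (tsec n (p1 R n 1) i) (tsec 1 (p2 R n 1) k)
    rw [hs1 i, hs2 k, tm_smul_left, tm_smul_right, ← mul_smul] at h1
    exact h1
  change ((asIso (Groth.Agent.Lib.Helper35.PbTensor.cmp z (L1 R n 1) (L2 R n 1))).hom.app ⊤).hom
    (ProjUP.pullSec z (LL R n 1) (wsec R n 1 j)) = _
  rw [asIso_hom, hfac j, Finset.sum_smul]
  unfold wsec
  rw [pullSec_sum, map_sum]
  exact Finset.sum_congr rfl (fun p _ => hu p.1 p.2)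

end main

end Groth.Agent.Lib.Helper60.Mult
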