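import Groth.Agent.Lib.Helper60.Mul3
import Mathlib.FieldTheory.IsAlgClosed.AlgebraicClosure

/-!
# The multiplication map `P^n × P^1 → P^{n+1}` is surjective
-/

set_option autoImplicit false
universe u
open CategoryTheory CategoryTheory.Limits AlgebraicGeometry TopologicalSpace Opposite

namespace Groth.Agent.Lib.Helper60.Mult

open Groth.Agent.Lib.Helper35.Gen Groth.Agent.Lib.Helper35.AbSheaf
open Groth.Agent.Lib.Helper60.ProjUPLib Groth.Agent.Lib.Helper60.TwistLib
open Groth.Agent.Lib.Helper60.ProjFrac Groth.Agent.Lib.Helper60.SecKer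
open Groth.Agent.Lib.Helper60.PbComp Groth.Agent.Lib.Helper35.PbInv
open Groth.Agent.Lib.Helper60.Segre Groth.Agent.Lib.Helper60.Hyper

section alg

open Polynomial

theorem coeff_mul_sum_monomial {K : Type*} [CommRing K] (n m : ℕ) (g : Fin (n + 1) → K)
    (α : Fin (m + 1) → K) (j : Fin (n + m + 1)) :
    ((∑ i : Fin (n + 1), monomial i.1 (g i)) * (∑ k : Fin (m + 1), monomial k.1 (α k))).coeff j.1 =
      ∑ p ∈ wset n m j, g p.1 * α p.2 := by
  classical
  rw [Finset.sum_mul_sum]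
  simp only [monomial_mul_monomial, finsetSum_coeff, coeff_monomial]
  unfold wset
  rw [Finset.sum_filter, Fintype.sum_prod_type]

theorem exists_factor {K : Type*} [Field K] [IsAlgClosed K] (n : ℕ) (c : Fin (n + 1 + 1) → K)
    (hc : ∃ j, c j ≠ 0) :
    ∃ (g : Fin (n + 1) → K) (α : Fin (1 + 1) → K), (∃ i, g i ≠ 0) ∧ (∃ k, α k ≠ 0) ∧
      ∀ j, c j = ∑ p ∈ wset n 1 j, g p.1 * α p.2 := by
  classical
  set C : K[X] := ∑ j : Fin (n + 1 + 1), monomial j.1 (c j) with hCdef
  have hCcoeff : ∀ j : Fin (n + 1 + 1), C.coeff j.1 = c j := by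
    intro j
    rw [hCdef, finsetSum_coeff, Finset.sum_eq_single j]
    · rw [coeff_monomial, if_pos rfl]
    · intro b _ hb
      rw [coeff_monomial, if_neg]
      exact fun h => hb (Fin.ext h)
    · intro h
      exact absurd (Finset.mem_univ j) h
  have hC0 : C ≠ 0 := by
    obtain ⟨j, hj⟩ := hc
    intro h
    apply hj
    rw [← hCcoeff j, h, coeff_zero]
  have hCdeg : C.natDegree < n + 1 + 1 := by
    have : C.natDegree ≤ n + 1 := by
      apply natDegree_sum_le_of_forall_le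
      intro j _
      exact (natDegree_monomial_le _).trans (Nat.lt_succ_iff.mp j.2)
    omega
  obtain ⟨G, A, hG0, hA0, hGdeg, hAdeg, hCGA⟩ : ∃ G A : K[X], G ≠ 0 ∧ A ≠ 0 ∧
      G.natDegree < n + 1 ∧ A.natDegree < 1 + 1 ∧ C = G * A := by
    by_cases h : C.natDegree < n + 1
    · exact ⟨C, 1, hC0, one_ne_zero, h, by simp, (mul_one C).symm⟩
    · have hdeg : C.natDegree = n + 1 := by omega
      have hd0 : C.degree ≠ 0 := by
        rw [degree_eq_natDegree hC0, hdeg]
        exact_mod_cast Nat.succ_ne_zero n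
      obtain ⟨ρ, hρ⟩ := IsAlgClosed.exists_root C hd0
      obtain ⟨G, hG⟩ := dvd_iff_isRoot.mpr hρ
      have hG0 : G ≠ 0 := by
        rintro rfl
        exact hC0 (by rw [hG, mul_zero])
      have h1 : C.natDegree = 1 + G.natDegree := by
        rw [hG, natDegree_mul (X_sub_C_ne_zero ρ) hG0, natDegree_X_sub_C]
      refine ⟨G, X - Polynomial.C ρ, hG0, X_sub_C_ne_zero ρ, by omega, ?_, ?_⟩
      · rw [natDegree_X_sub_C]
        omega
      · rw [hG, mul_comm]
  have hGsum : G = ∑ i : Fin (n + 1), monomial i.1 (G.coeff i.1) :=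
    (G.as_sum_range' (n + 1) hGdeg).trans
      (Fin.sum_univ_eq_sum_range (fun i => monomial i (G.coeff i)) (n + 1)).symm
  have hAsum : A = ∑ k : Fin (1 + 1), monomial k.1 (A.coeff k.1) :=
    (A.as_sum_range' (1 + 1) hAdeg).trans
      (Fin.sum_univ_eq_sum_range (fun i => monomial i (A.coeff i)) (1 + 1)).symm
  refine ⟨fun i => G.coeff i.1, fun k => A.coeff k.1, ⟨⟨G.natDegree, hGdeg⟩, ?_⟩,
    ⟨⟨A.natDegree, hAdeg⟩, ?_⟩, fun j => ?_⟩
  · exact leadingCoeff_ne_zero.mpr hG0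
  · exact leadingCoeff_ne_zero.mpr hA0
  · rw [← hCcoeff j, hCGA]
    rw [← coeff_mul_sum_monomial n 1 (fun i => G.coeff i.1) (fun k => A.coeff k.1) j,
      ← hGsum, ← hAsum]

end alg

section surj

variable {R : Type u} [CommRing R] {n : ℕ}

theorem opens_eq_top_of_subsingleton {Y : Scheme.{u}} [Subsingleton Y] (U : Y.Opens) (pt : Y)
    (h : pt ∈ U) : U = ⊤ := by
  rw [eq_top_iff]
  intro x _
  rwa [Subsingleton.elim x pt]

/-- the multiplication map is surjective -/
theorem surjective_of_data (μ : XX R n 1 ⟶ CohB1.ProjSpace (n + 1) R)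
    (hμ : μ ≫ CohB1.ProjSpace.toSpec (n + 1) R = qq R n 1)
    (hdμ : IsData (n + 1) μ (LL R n 1) (wsec R n 1)) : Surjective μ := by
  constructor
  intro y
  let κ := (CohB1.ProjSpace (n + 1) R).residueField y
  let K := AlgebraicClosure κ
  let Y : Scheme.{u} := Spec (CommRingCat.of K)
  let y' : Y ⟶ CohB1.ProjSpace (n + 1) R :=
    Spec.map (CommRingCat.ofHom (algebraMap κ K)) ≫ (CohB1.ProjSpace (n + 1) R).fromSpecResidueField y
  have : Subsingleton Y := inferInstanceAs (Subsingleton (PrimeSpectrum K))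
  obtain ⟨pt⟩ : Nonempty Y := inferInstanceAs (Nonempty (PrimeSpectrum K))
  have hy'pt : y' pt = y := by
    change ((CohB1.ProjSpace (n + 1) R).fromSpecResidueField y)
      ((Spec.map (CommRingCat.ofHom (algebraMap κ K))) pt) = y
    exact Scheme.fromSpecResidueField_apply _ _
  obtain ⟨j₀, hj₀⟩ := exists_mem_genOpen_tsec (n + 1) y' pt
  have he : IsGen _ ⊤ (tsec (n + 1) y' j₀) :=
    isGen_top_of_genOpen_eq_top _ (opens_eq_top_of_subsingleton _ pt hj₀)
  have hcex : ∀ j, ∃ cj : Γ(Y, ⊤), tsec (n + 1) y' j = cj • tsec (n + 1) y' j₀ := fun j =>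
    he.exists_eq_smul _
  choose c hc using hcex
  have hcj₀ : c j₀ = 1 := by
    apply he.smul_injective
    rw [one_smul]
    exact (hc j₀).symm
  let φ : Γ(Y, ⊤) ≃+* K := (Scheme.ΓSpecIso (CommRingCat.of K)).commRingCatIsoToRingEquiv
  obtain ⟨g', α', ⟨i₀, hi₀⟩, ⟨k₀, hk₀⟩, hfac'⟩ := exists_factor n (fun j => φ (c j))
    ⟨j₀, by
      rw [hcj₀, map_one]
      exact one_ne_zero⟩
  obtain ⟨z, hz⟩ := exists_lift_of_factor μ hμ hdμ y' he c hc
    (fun i => φ.symm (g' i)) (fun k => φ.symm (α' k))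
    ⟨i₀, (IsUnit.mk0 _ hi₀).map φ.symm⟩ ⟨k₀, (IsUnit.mk0 _ hk₀).map φ.symm⟩
    (fun j => by
      have h := congrArg φ.symm (hfac' j)
      rw [RingEquiv.symm_apply_apply] at h
      rw [h, map_sum]
      refine Finset.sum_congr rfl (fun p _ => ?_)
      rw [map_mul])
  refine ⟨z pt, ?_⟩
  rw [← hy'pt, ← hz]
  rfl

end surj

end Groth.Agent.Lib.Helper60.Mult
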