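import Groth.Agent.Lib.Helper60.Mul4
import Groth.Agent.S3581

/-!
# A finite surjective morphism `(P^1)^n → P^n` over any base
-/

set_option autoImplicit false
universe u
open CategoryTheory CategoryTheory.Limits AlgebraicGeometry TopologicalSpace Opposite

namespace Groth.Agent.Lib.Helper60.Mult

open Groth.Agent.Lib.Helper60.Segre

section ring

variable (R : Type u) [CommRing R] (n : ℕ)

/-- **The multiplication map `P^n × P^1 → P^{n+1}` is finite and surjective.** -/
theorem exists_mult :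
    ∃ μ : XX R n 1 ⟶ CohB1.ProjSpace (n + 1) R, IsFinite μ ∧ Surjective μ ∧
      μ ≫ CohB1.ProjSpace.toSpec (n + 1) R = qq R n 1 := by
  obtain ⟨μ, τ, hμ, hτ⟩ := exists_mult' R n 1
  exact ⟨μ, isFinite_of_data μ τ hμ hτ, surjective_of_data μ hμ ⟨τ, hτ⟩, hμ⟩

end ring

section basechange

variable (S : Scheme.{u}) (n m N : ℕ)

/-- base change of a morphism `P^n × P^m → P^N` over `ℤ` to an arbitrary base -/
theorem exists_over_of_exists
    (σ : XX (ULift.{u} ℤ) n m ⟶ CohB1.ProjSpace N (ULift.{u} ℤ))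
    (hσ : σ ≫ CohB1.ProjSpace.toSpec N (ULift.{u} ℤ) = qq (ULift.{u} ℤ) n m) :
    ∃ (φ : pullback (CohB1.ProjSpaceOver.toBase n S) (CohB1.ProjSpaceOver.toBase m S) ⟶
        CohB1.ProjSpaceOver N S)
      (a : pullback (CohB1.ProjSpaceOver.toBase n S) (CohB1.ProjSpaceOver.toBase m S) ⟶
        XX (ULift.{u} ℤ) n m),
      IsPullback φ a (pullback.fst (CohB1.ProjSpace.toSpec N (ULift.{u} ℤ))
        (specULiftZIsTerminal.from S)) σ ∧
      φ ≫ CohB1.ProjSpaceOver.toBase N S =
        pullback.fst (CohB1.ProjSpaceOver.toBase n S) (CohB1.ProjSpaceOver.toBase m S) ≫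
          CohB1.ProjSpaceOver.toBase n S := by
  let tS := specULiftZIsTerminal.from S
  let πn := CohB1.ProjSpace.toSpec n (ULift.{u} ℤ)
  let πm := CohB1.ProjSpace.toSpec m (ULift.{u} ℤ)
  let πN := CohB1.ProjSpace.toSpec N (ULift.{u} ℤ)
  let βn : CohB1.ProjSpaceOver n S ⟶ S := pullback.snd πn tS
  let βm : CohB1.ProjSpaceOver m S ⟶ S := pullback.snd πm tS
  let βN : CohB1.ProjSpaceOver N S ⟶ S := pullback.snd πN tS
  let αn : CohB1.ProjSpaceOver n S ⟶ CohB1.ProjSpace n (ULift.{u} ℤ) := pullback.fst πn tS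
  let αm : CohB1.ProjSpaceOver m S ⟶ CohB1.ProjSpace m (ULift.{u} ℤ) := pullback.fst πm tS
  let αN : CohB1.ProjSpaceOver N S ⟶ CohB1.ProjSpace N (ULift.{u} ℤ) := pullback.fst πN tS
  let f1 : pullback βn βm ⟶ CohB1.ProjSpaceOver n S := pullback.fst βn βm
  let f2 : pullback βn βm ⟶ CohB1.ProjSpaceOver m S := pullback.snd βn βm
  let a : pullback βn βm ⟶ XX (ULift.{u} ℤ) n m :=
    pullback.lift (f1 ≫ αn) (f2 ≫ αm) (specULiftZIsTerminal.hom_ext _ _)
  let b : pullback βn βm ⟶ S := f1 ≫ βn
  let φ : pullback βn βm ⟶ CohB1.ProjSpaceOver N S :=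
    pullback.lift (a ≫ σ) b (specULiftZIsTerminal.hom_ext _ _)
  have hφ2 : φ ≫ βN = b := pullback.lift_snd _ _ _
  have hφ1 : φ ≫ αN = a ≫ σ := pullback.lift_fst _ _ _
  have ha1 : a ≫ p1 (ULift.{u} ℤ) n m = f1 ≫ αn := pullback.lift_fst _ _ _
  have ha2 : a ≫ p2 (ULift.{u} ℤ) n m = f2 ≫ αm := pullback.lift_snd _ _ _
  refine ⟨φ, a, ?_, hφ2⟩
  have sqN : IsPullback αN βN πN tS := IsPullback.of_hasPullback πN tS
  have sqn : IsPullback αn βn πn tS := IsPullback.of_hasPullback πn tS
  have sqm : IsPullback αm βm πm tS := IsPullback.of_hasPullback πm tS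
  have sqX : IsPullback f1 f2 βn βm := IsPullback.of_hasPullback βn βm
  have sqZ : IsPullback (p1 (ULift.{u} ℤ) n m) (p2 (ULift.{u} ℤ) n m) πn πm :=
    IsPullback.of_hasPullback πn πm
  have R1 : IsPullback (f2 ≫ αm) f1 πm (βn ≫ tS) := sqX.flip.paste_horiz sqm
  have R1' : IsPullback (a ≫ p2 (ULift.{u} ℤ) n m) f1 πm (αn ≫ πn) := by
    rw [ha2, sqn.w]
    exact R1
  have R2 : IsPullback a f1 (p1 (ULift.{u} ℤ) n m) αn := IsPullback.of_right R1' ha1 sqZ.flip
  have R3 : IsPullback (f1 ≫ βn) a tS (p1 (ULift.{u} ℤ) n m ≫ πn) := R2.flip.paste_horiz sqn.flip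
  have R3' : IsPullback (φ ≫ βN) a tS (σ ≫ πN) := by
    rw [hφ2, hσ]
    exact R3
  exact IsPullback.of_right R3' hφ1 sqN.flip

/-- the multiplication map over an arbitrary base -/
theorem exists_mult_over :
    ∃ φ : pullback (CohB1.ProjSpaceOver.toBase n S) (CohB1.ProjSpaceOver.toBase 1 S) ⟶
        CohB1.ProjSpaceOver (n + 1) S,
      IsFinite φ ∧ Surjective φ ∧ φ ≫ CohB1.ProjSpaceOver.toBase (n + 1) S =
        pullback.fst (CohB1.ProjSpaceOver.toBase n S) (CohB1.ProjSpaceOver.toBase 1 S) ≫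
          CohB1.ProjSpaceOver.toBase n S := by
  obtain ⟨μ, hfin, hsurj, hμ⟩ := exists_mult (ULift.{u} ℤ) n
  obtain ⟨φ, a, hpb, hφ⟩ := exists_over_of_exists S n 1 (n + 1) μ hμ
  exact ⟨φ, MorphismProperty.of_isPullback (P := @IsFinite) hpb.flip hfin,
    MorphismProperty.of_isPullback (P := @Surjective) hpb.flip hsurj, hφ⟩

theorem isIso_toBase_zero : IsIso (CohB1.ProjSpaceOver.toBase 0 S) := by
  have h : IsIso (CohB1.ProjSpace.toSpec 0 (ULift.{u} ℤ)) := Groth.Agent.S3581.result _
  unfold CohB1.ProjSpaceOver.toBase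
  exact (IsPullback.of_hasPullback (CohB1.ProjSpace.toSpec 0 (ULift.{u} ℤ))
    (specULiftZIsTerminal.from S)).isIso_snd_of_isIso h

end basechange

section wide

variable {S P : Scheme.{u}} (f : P ⟶ S)

/-- the `n`-fold fibre power -/
noncomputable abbrev W (n : ℕ) : Scheme.{u} :=
  widePullback S (fun _ : Fin n => P) (fun _ => f)

/-- forgetting the last factor -/
noncomputable def pr (n : ℕ) : W f (n + 1) ⟶ W f n :=
  WidePullback.lift (WidePullback.base (fun _ : Fin (n + 1) => f))
    (fun j => WidePullback.π (fun _ : Fin (n + 1) => f) j.castSucc)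
    (fun j => WidePullback.π_arrow (fun _ : Fin (n + 1) => f) j.castSucc)

theorem pr_base (n : ℕ) :
    pr f n ≫ WidePullback.base (fun _ : Fin n => f) = WidePullback.base (fun _ : Fin (n + 1) => f) :=
  WidePullback.lift_base _ _ _ _

theorem pr_π (n : ℕ) (j : Fin n) :
    pr f n ≫ WidePullback.π (fun _ : Fin n => f) j =
      WidePullback.π (fun _ : Fin (n + 1) => f) j.castSucc :=
  WidePullback.lift_π _ _ _ _ _

theorem isPullback_pr (n : ℕ) :
    IsPullback (pr f n) (WidePullback.π (fun _ : Fin (n + 1) => f) (Fin.last n))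
      (WidePullback.base (fun _ : Fin n => f)) f := by
  refine ⟨⟨?_⟩, ⟨PullbackCone.IsLimit.mk _ (fun s => ?_) (fun s => ?_) (fun s => ?_)
    (fun s m h1 h2 => ?_)⟩⟩
  · rw [pr_base, WidePullback.π_arrow]
  · exact WidePullback.lift (s.fst ≫ WidePullback.base (fun _ : Fin n => f))
      (fun j => Fin.lastCases s.snd (fun i => s.fst ≫ WidePullback.π (fun _ : Fin n => f) i) j)
      (fun j => by
        refine Fin.lastCases ?_ (fun i => ?_) j
        · rw [Fin.lastCases_last]
          exact s.condition.symm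
        · rw [Fin.lastCases_castSucc, Category.assoc, WidePullback.π_arrow])
  · apply WidePullback.hom_ext
    · intro j
      rw [Category.assoc, pr_π, WidePullback.lift_π, Fin.lastCases_castSucc]
    · rw [Category.assoc, pr_base, WidePullback.lift_base]
  · rw [WidePullback.lift_π, Fin.lastCases_last]
  · apply WidePullback.hom_ext
    · intro j
      rw [WidePullback.lift_π]
      refine Fin.lastCases ?_ (fun i => ?_) j
      · rw [Fin.lastCases_last]
        exact h2
      · rw [Fin.lastCases_castSucc, ← h1, Category.assoc, pr_π]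
    · rw [WidePullback.lift_base, ← h1, Category.assoc, pr_base]

theorem isIso_base_zero : IsIso (WidePullback.base (fun _ : Fin 0 => f)) := by
  let i : S ⟶ W f 0 := WidePullback.lift (𝟙 S) (fun j => j.elim0) (fun j => j.elim0)
  refine ⟨⟨i, ?_, ?_⟩⟩
  · apply WidePullback.hom_ext
    · intro j
      exact j.elim0
    · rw [Category.assoc, WidePullback.lift_base, Category.comp_id, Category.id_comp]
  · exact WidePullback.lift_base (arrows := fun _ : Fin 0 => f) (𝟙 S) (fun j => j.elim0)
      (fun j => j.elim0)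

end wide

section final

variable (S : Scheme.{u})

/-- **A finite surjective morphism from the `n`-fold fibre power of the projective line to
projective `n`-space.** -/
theorem exists_finite_surjective (n : ℕ) :
    ∃ φ : widePullback S (fun _ : Fin n => CohB1.ProjSpaceOver 1 S)
        (fun _ => CohB1.ProjSpaceOver.toBase 1 S) ⟶ CohB1.ProjSpaceOver n S,
      IsFinite φ ∧ Surjective φ ∧
        φ ≫ CohB1.ProjSpaceOver.toBase n S =
          WidePullback.base (fun _ => CohB1.ProjSpaceOver.toBase 1 S) := by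
  induction n with
  | zero =>
    have := isIso_toBase_zero S
    have := isIso_base_zero (CohB1.ProjSpaceOver.toBase 1 S)
    refine ⟨WidePullback.base (fun _ : Fin 0 => CohB1.ProjSpaceOver.toBase 1 S) ≫
      inv (CohB1.ProjSpaceOver.toBase 0 S), inferInstance, inferInstance, ?_⟩
    rw [Category.assoc, IsIso.inv_hom_id, Category.comp_id]
  | succ n ih =>
    obtain ⟨φn, hfin, hsurj, hφn⟩ := ih
    obtain ⟨μ, hμfin, hμsurj, hμ⟩ := exists_mult_over S n
    let f := CohB1.ProjSpaceOver.toBase 1 S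
    let ψ : W f (n + 1) ⟶ pullback (CohB1.ProjSpaceOver.toBase n S) f :=
      pullback.lift (pr f n ≫ φn) (WidePullback.π (fun _ : Fin (n + 1) => f) (Fin.last n))
        (by rw [Category.assoc, hφn, pr_base, WidePullback.π_arrow])
    have hψ1 : ψ ≫ pullback.fst (CohB1.ProjSpaceOver.toBase n S) f = pr f n ≫ φn :=
      pullback.lift_fst _ _ _
    have hψ2 : ψ ≫ pullback.snd (CohB1.ProjSpaceOver.toBase n S) f =
        WidePullback.π (fun _ : Fin (n + 1) => f) (Fin.last n) := pullback.lift_snd _ _ _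
    have sq : IsPullback (pullback.snd (CohB1.ProjSpaceOver.toBase n S) f)
        (pullback.fst (CohB1.ProjSpaceOver.toBase n S) f) f (CohB1.ProjSpaceOver.toBase n S) :=
      (IsPullback.of_hasPullback _ _).flip
    have big : IsPullback (ψ ≫ pullback.snd (CohB1.ProjSpaceOver.toBase n S) f) (pr f n) f
        (φn ≫ CohB1.ProjSpaceOver.toBase n S) := by
      rw [hψ2, hφn]
      exact (isPullback_pr f n).flip
    have left : IsPullback ψ (pr f n) (pullback.fst (CohB1.ProjSpaceOver.toBase n S) f) φn :=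
      IsPullback.of_right big hψ1 sq
    have hψfin : IsFinite ψ := MorphismProperty.of_isPullback (P := @IsFinite) left.flip hfin
    have hψsurj : Surjective ψ :=
      MorphismProperty.of_isPullback (P := @Surjective) left.flip hsurj
    refine ⟨ψ ≫ μ, inferInstance, inferInstance, ?_⟩
    rw [Category.assoc, hμ, ← Category.assoc, hψ1, Category.assoc, hφn, pr_base]

end final

end Groth.Agent.Lib.Helper60.Mult
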