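import Mathlib
import Groth.Prelude.Def_W4c5qllcourbesmultMultCrv

set_option autoImplicit false
set_option linter.unusedSectionVars false

namespace Groth.Agent.Lib.Helper60.MC

open Polynomial _root_.MultCrv

universe u v w

section Basic

variable (R : Type u) [CommRing R] (n : ℕ)

noncomputable def tcPoly (i : ℕ) : R[X] →ₗ[R] R := if i < n then lcoeff R i else 0

theorem tcPoly_apply (i : ℕ) (p : R[X]) : tcPoly R n i p = if i < n then p.coeff i else 0 := by
  unfold tcPoly
  split_ifs <;> simp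

theorem tcPoly_mem (i : ℕ) (p : R[X]) (hp : p ∈ Ideal.span {(X : R[X]) ^ n}) :
    tcPoly R n i p = 0 := by
  rw [tcPoly_apply]
  split_ifs with h
  · rw [Ideal.mem_span_singleton] at hp
    exact (Polynomial.X_pow_dvd_iff.mp hp) i h
  · rfl

noncomputable def tc (i : ℕ) : Rn R n →ₗ[R] R :=
  (Submodule.liftQ ((Ideal.span {(X : R[X]) ^ n}).restrictScalars R) (tcPoly R n i)
    (fun p hp => tcPoly_mem R n i p hp)) ∘ₗ
    (Submodule.Quotient.restrictScalarsEquiv R (Ideal.span {(X : R[X]) ^ n})).symm.toLinearMap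

theorem tc_mk (i : ℕ) (p : R[X]) :
    tc R n i (Ideal.Quotient.mk (Ideal.span {(X : R[X]) ^ n}) p) =
      if i < n then p.coeff i else 0 := by
  rw [← tcPoly_apply]
  rfl

theorem z_pow_n : z R n ^ n = 0 := by
  rw [← map_pow, Ideal.Quotient.eq_zero_iff_mem]
  exact Ideal.mem_span_singleton_self _

theorem z_pow_of_le {m : ℕ} (h : n ≤ m) : z R n ^ m = 0 := by
  obtain ⟨k, rfl⟩ := Nat.exists_eq_add_of_le h
  rw [pow_add, z_pow_n, zero_mul]

theorem mk_eq_sum (p : R[X]) :
    Ideal.Quotient.mk (Ideal.span {(X : R[X]) ^ n}) p =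
      ∑ i ∈ Finset.range n, algebraMap R (Rn R n) (p.coeff i) * z R n ^ i := by
  have h : p - ∑ i ∈ Finset.range n, C (p.coeff i) * X ^ i ∈ Ideal.span {(X : R[X]) ^ n} := by
    rw [Ideal.mem_span_singleton, Polynomial.X_pow_dvd_iff]
    intro d hd
    rw [coeff_sub, finsetSum_coeff]
    simp only [coeff_C_mul, coeff_X_pow]
    rw [Finset.sum_eq_single d]
    · simp
    · intro b _ hb
      simp [Ne.symm hb]
    · intro hd'
      exact absurd (Finset.mem_range.mpr hd) hd'
  rw [← Ideal.Quotient.eq_zero_iff_mem, map_sub, sub_eq_zero] at h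
  rw [h, map_sum]
  refine Finset.sum_congr rfl fun i _ => ?_
  rw [map_mul, map_pow]
  rfl

theorem eq_sum (a : Rn R n) :
    a = ∑ i ∈ Finset.range n, algebraMap R (Rn R n) (tc R n i a) * z R n ^ i := by
  obtain ⟨p, rfl⟩ := Ideal.Quotient.mk_surjective a
  rw [mk_eq_sum R n p]
  refine Finset.sum_congr rfl fun i hi => ?_
  rw [← mk_eq_sum, tc_mk, if_pos (Finset.mem_range.mp hi)]

theorem tc_zpow_mul (i j : ℕ) (hi : i < n) (a : Rn R n) :
    tc R n i (z R n ^ j * a) = if j ≤ i then tc R n (i - j) a else 0 := by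
  obtain ⟨p, rfl⟩ := Ideal.Quotient.mk_surjective a
  rw [← map_pow, ← map_mul, tc_mk, tc_mk, coeff_X_pow_mul']
  have : i - j < n := by omega
  simp [hi, this]

theorem tc_algebraMap_mul (i : ℕ) (r : R) (a : Rn R n) :
    tc R n i (algebraMap R (Rn R n) r * a) = r * tc R n i a := by
  rw [← Algebra.smul_def, map_smul, smul_eq_mul]

theorem tc_zpow (i j : ℕ) (hi : i < n) :
    tc R n i (z R n ^ j) = if j = i then 1 else 0 := by
  rw [← map_pow, tc_mk, if_pos hi, coeff_X_pow]
  simp only [eq_comm]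

end Basic

section Lin

variable (R : Type u) [CommRing R] (n : ℕ)

theorem smul_comm_of {M : Type v} {N : Type w} [AddCommGroup M] [Module (Rn R n) M]
    [AddCommGroup N] [Module (Rn R n) N] (f : M →+ N)
    (h1 : ∀ (r : R) (m : M), f (algebraMap R (Rn R n) r • m) = algebraMap R (Rn R n) r • f m)
    (h2 : ∀ m : M, f (z R n • m) = z R n • f m) (a : Rn R n) (m : M) : f (a • m) = a • f m := by
  have h3 : ∀ (i : ℕ) (m : M), f (z R n ^ i • m) = z R n ^ i • f m := by
    intro i
    induction i with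
    | zero => simp
    | succ i ih =>
      intro m
      rw [pow_succ, mul_smul, ih, h2, ← mul_smul]
  rw [eq_sum R n a, Finset.sum_smul, map_sum, Finset.sum_smul]
  refine Finset.sum_congr rfl fun i _ => ?_
  rw [mul_smul, h1, h3, mul_smul]

noncomputable def mkLin {M : Type v} {N : Type w} [AddCommGroup M] [Module (Rn R n) M]
    [AddCommGroup N] [Module (Rn R n) N] (f : M →+ N)
    (h1 : ∀ (r : R) (m : M), f (algebraMap R (Rn R n) r • m) = algebraMap R (Rn R n) r • f m)
    (h2 : ∀ m : M, f (z R n • m) = z R n • f m) : M →ₗ[Rn R n] N where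
  toFun := f
  map_add' := f.map_add
  map_smul' := fun a m => smul_comm_of R n f h1 h2 a m

@[simp] theorem mkLin_apply {M : Type v} {N : Type w} [AddCommGroup M] [Module (Rn R n) M]
    [AddCommGroup N] [Module (Rn R n) N] (f : M →+ N)
    (h1 : ∀ (r : R) (m : M), f (algebraMap R (Rn R n) r • m) = algebraMap R (Rn R n) r • f m)
    (h2 : ∀ m : M, f (z R n • m) = z R n • f m) (m : M) : mkLin R n f h1 h2 m = f m := rfl

end Lin

section Frob

variable (R : Type u) [CommRing R] (k : ℕ)

noncomputable def lam : Rn R (k + 1) →ₗ[R] R := tc R (k + 1) k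

theorem eq_sum_lam (a : Rn R (k + 1)) :
    a = ∑ i ∈ Finset.range (k + 1),
      algebraMap R (Rn R (k + 1)) (lam R k (z R (k + 1) ^ (k - i) * a)) * z R (k + 1) ^ i := by
  conv_lhs => rw [eq_sum R (k + 1) a]
  refine Finset.sum_congr rfl fun i hi => ?_
  have hi' := Finset.mem_range.mp hi
  rw [lam, tc_zpow_mul R (k + 1) k (k - i) (by omega), if_pos (by omega)]
  have : k - (k - i) = i := by omega
  rw [this]

variable {M : Type v} [AddCommGroup M] [Module (Rn R (k + 1)) M] [Module R M]
  [IsScalarTower R (Rn R (k + 1)) M]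

noncomputable def thetaAdd (ψ : M →ₗ[R] R) : M →+ Rn R (k + 1) where
  toFun m := ∑ i ∈ Finset.range (k + 1),
    algebraMap R (Rn R (k + 1)) (ψ (z R (k + 1) ^ (k - i) • m)) * z R (k + 1) ^ i
  map_zero' := by simp
  map_add' := by
    intro x y
    simp [smul_add, add_mul, Finset.sum_add_distrib]

omit [IsScalarTower R (Rn R (k + 1)) M] in
theorem thetaAdd_apply (ψ : M →ₗ[R] R) (m : M) : thetaAdd R k ψ m =
    ∑ i ∈ Finset.range (k + 1),
      algebraMap R (Rn R (k + 1)) (ψ (z R (k + 1) ^ (k - i) • m)) * z R (k + 1) ^ i := rfl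

theorem thetaAdd_h1 (ψ : M →ₗ[R] R) (r : R) (m : M) :
    thetaAdd R k ψ (algebraMap R (Rn R (k + 1)) r • m) =
      algebraMap R (Rn R (k + 1)) r • thetaAdd R k ψ m := by
  rw [thetaAdd_apply, thetaAdd_apply, Finset.smul_sum]
  refine Finset.sum_congr rfl fun i _ => ?_
  rw [smul_comm, algebraMap_smul, map_smul, smul_eq_mul, map_mul, smul_eq_mul, mul_assoc]

theorem thetaAdd_h2 (ψ : M →ₗ[R] R) (m : M) :
    thetaAdd R k ψ (z R (k + 1) • m) = z R (k + 1) • thetaAdd R k ψ m := by
  rw [thetaAdd_apply, thetaAdd_apply, Finset.smul_sum, Finset.sum_range_succ',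
    Finset.sum_range_succ]
  have e1 : z R (k + 1) ^ (k - 0) • z R (k + 1) • m = 0 := by
    rw [← mul_smul, Nat.sub_zero, ← pow_succ, z_pow_n]
    exact zero_smul (Rn R (k + 1)) m
  have e2 : z R (k + 1) • (algebraMap R (Rn R (k + 1)) (ψ (z R (k + 1) ^ (k - k) • m)) *
      z R (k + 1) ^ k) = 0 := by
    rw [smul_eq_mul, mul_left_comm, ← pow_succ', z_pow_n, mul_zero]
  rw [e1, e2, map_zero, map_zero, zero_mul, add_zero, add_zero]
  refine Finset.sum_congr rfl fun i hi => ?_
  have hi' := Finset.mem_range.mp hi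
  have e3 : z R (k + 1) ^ (k - (i + 1)) • z R (k + 1) • m = z R (k + 1) ^ (k - i) • m := by
    rw [← mul_smul, ← pow_succ]
    congr 2
    omega
  rw [e3, smul_eq_mul, mul_left_comm, ← pow_succ']

noncomputable def theta (ψ : M →ₗ[R] R) : M →ₗ[Rn R (k + 1)] Rn R (k + 1) :=
  mkLin R (k + 1) (thetaAdd R k ψ) (thetaAdd_h1 R k ψ) (thetaAdd_h2 R k ψ)

theorem theta_apply (ψ : M →ₗ[R] R) (m : M) : theta R k ψ m =
    ∑ i ∈ Finset.range (k + 1),
      algebraMap R (Rn R (k + 1)) (ψ (z R (k + 1) ^ (k - i) • m)) * z R (k + 1) ^ i := rfl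

theorem lam_theta (ψ : M →ₗ[R] R) (m : M) : lam R k (theta R k ψ m) = ψ m := by
  rw [theta_apply, map_sum, Finset.sum_eq_single k]
  · rw [lam, tc_algebraMap_mul, tc_zpow R (k + 1) k k (by omega), if_pos rfl, mul_one,
      Nat.sub_self, pow_zero, one_smul]
  · intro b _ hb
    rw [lam, tc_algebraMap_mul, tc_zpow R (k + 1) k b (by omega), if_neg hb, mul_zero]
  · intro h
    exact absurd (Finset.mem_range.mpr (Nat.lt_succ_self k)) h

theorem theta_lam (φ : M →ₗ[Rn R (k + 1)] Rn R (k + 1)) :
    theta R k ((lam R k).comp (φ.restrictScalars R)) = φ := by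
  ext m
  rw [theta_apply]
  conv_rhs => rw [eq_sum_lam R k (φ m)]
  refine Finset.sum_congr rfl fun i _ => ?_
  simp

end Frob

section Inst

variable (R : Type u) [CommRing R] (n : ℕ)

instance instFiniteRn : Module.Finite R (Rn R n) := (monic_X_pow n).finite_adjoinRoot

instance instFreeRn : Module.Free R (Rn R n) := (monic_X_pow n).free_adjoinRoot

theorem isTorsionFree_submodule {M : Type v} [AddCommGroup M] [Module (Rn R n) M] [Module R M]
    [IsScalarTower R (Rn R n) M] [Module.IsTorsionFree R M] (p : Submodule (Rn R n) M) :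
    Module.IsTorsionFree R p :=
  Function.Injective.moduleIsTorsionFree (fun x : p => (x : M)) Subtype.val_injective
    (fun _ _ => rfl)

end Inst

section Extend

variable (R : Type u) [CommRing R] [IsDomain R] [IsPrincipalIdealRing R] (k : ℕ)

theorem exists_extend_form {M : Type v} {M'' : Type w} [AddCommGroup M]
    [Module (Rn R (k + 1)) M] [Module R M]
    [IsScalarTower R (Rn R (k + 1)) M] [AddCommGroup M''] [Module (Rn R (k + 1)) M'']
    [Module R M''] [IsScalarTower R (Rn R (k + 1)) M''] [Module.Finite (Rn R (k + 1)) M'']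
    [Module.IsTorsionFree R M'']
    (g : M →ₗ[Rn R (k + 1)] M'') (hg : Function.Surjective g)
    (φ : LinearMap.ker g →ₗ[Rn R (k + 1)] Rn R (k + 1)) :
    ∃ Φ : M →ₗ[Rn R (k + 1)] Rn R (k + 1), ∀ x : LinearMap.ker g, Φ x = φ x := by
  have : Module.Finite R M'' := Module.Finite.trans (Rn R (k + 1)) M''
  have : Module.Free R M'' := Module.free_of_finite_type_torsion_free'
  obtain ⟨s, hs⟩ := Module.projective_lifting_property (g.restrictScalars R) LinearMap.id hg
  have hs' : ∀ y, g (s y) = y := fun y => LinearMap.congr_fun hs y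
  let proj : M →ₗ[R] LinearMap.ker g :=
    { toFun := fun m => ⟨m - s (g m), by rw [LinearMap.mem_ker, map_sub, hs', sub_self]⟩
      map_add' := fun x y => by
        apply Subtype.ext
        simp only [map_add, Submodule.coe_add]
        abel
      map_smul' := fun r x => by
        apply Subtype.ext
        simp only [RingHom.id_apply, Submodule.coe_smul_of_tower, smul_sub,
          LinearMap.map_smul_of_tower, map_smul] }
  have hproj : ∀ x : LinearMap.ker g, proj (x : M) = x := by
    intro x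
    apply Subtype.ext
    change (x : M) - s (g x) = x
    rw [LinearMap.mem_ker.mp x.2, map_zero, sub_zero]
  let ψ : M →ₗ[R] R := (lam R k).comp ((φ.restrictScalars R).comp proj)
  refine ⟨theta R k ψ, fun x => ?_⟩
  rw [theta_apply]
  conv_rhs => rw [eq_sum_lam R k (φ x)]
  refine Finset.sum_congr rfl fun i _ => ?_
  have : proj (z R (k + 1) ^ (k - i) • (x : M)) = z R (k + 1) ^ (k - i) • x :=
    hproj (z R (k + 1) ^ (k - i) • x)
  simp only [ψ, LinearMap.comp_apply, this, LinearMap.restrictScalars_apply, map_smul,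
    smul_eq_mul]

end Extend

section ExtendZ

variable (R : Type u) [CommRing R] [IsDomain R] [IsPrincipalIdealRing R] (k : ℕ)

theorem exists_extend_zpow {F : Type v} {M : Type w} {N : Type*} [AddCommGroup F]
    [Module (Rn R (k + 1)) F] [Module R F] [IsScalarTower R (Rn R (k + 1)) F]
    [AddCommGroup M] [Module (Rn R (k + 1)) M] [Module R M] [IsScalarTower R (Rn R (k + 1)) M]
    [Module.Finite (Rn R (k + 1)) M] [Module.IsTorsionFree R M]
    [AddCommGroup N] [Module (Rn R (k + 1)) N]
    (g : F →ₗ[Rn R (k + 1)] M) (φ : LinearMap.ker g →ₗ[Rn R (k + 1)] N) :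
    ∃ Φ : F →ₗ[Rn R (k + 1)] N, ∀ x : LinearMap.ker g, Φ x = z R (k + 1) ^ k • φ x := by
  let u : F →ₗ[Rn R (k + 1)] M := z R (k + 1) ^ k • g
  have hu : ∀ f, u f = z R (k + 1) ^ k • g f := fun f => rfl
  have : Module.Finite R (LinearMap.range u) := Module.Finite.trans (Rn R (k + 1)) _
  have : Module.IsTorsionFree R (LinearMap.range u) := isTorsionFree_submodule R (k + 1) _
  have : Module.Free R (LinearMap.range u) := Module.free_of_finite_type_torsion_free'
  obtain ⟨s, hs⟩ := Module.projective_lifting_property (u.rangeRestrict.restrictScalars R)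
    LinearMap.id (LinearMap.surjective_rangeRestrict u)
  have hs' : ∀ q : LinearMap.range u, u (s q) = q := fun q =>
    congrArg Subtype.val (LinearMap.congr_fun hs q)
  let G : F →ₗ[R] LinearMap.ker g :=
    { toFun := fun f => ⟨z R (k + 1) ^ k • (f - s (u.rangeRestrict f)), by
        rw [LinearMap.mem_ker, map_smul, ← hu, map_sub, hs']
        exact sub_self _⟩
      map_add' := fun x y => by
        apply Subtype.ext
        simp only [map_add, Submodule.coe_add, ← smul_add]
        congr 1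
        abel
      map_smul' := fun r x => by
        apply Subtype.ext
        simp only [RingHom.id_apply, Submodule.coe_smul_of_tower, smul_sub,
          LinearMap.map_smul_of_tower, map_smul]
        rw [smul_comm, smul_comm (z R (k + 1) ^ k) r (s _)] }
  have hG : ∀ f, ((G f : LinearMap.ker g) : F) =
      z R (k + 1) ^ k • (f - s (u.rangeRestrict f)) := fun f => rfl
  have hzero : ∀ f : F, z R (k + 1) ^ k • z R (k + 1) • f = 0 := by
    intro f
    rw [← mul_smul, ← pow_succ, z_pow_n]
    exact zero_smul (Rn R (k + 1)) f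
  have hzero' : ∀ f : M, z R (k + 1) ^ k • z R (k + 1) • f = 0 := by
    intro f
    rw [← mul_smul, ← pow_succ, z_pow_n]
    exact zero_smul (Rn R (k + 1)) f
  have hGz : ∀ f, G (z R (k + 1) • f) = 0 := by
    intro f
    apply Subtype.ext
    rw [hG]
    have : u.rangeRestrict (z R (k + 1) • f) = 0 := by
      apply Subtype.ext
      change u (z R (k + 1) • f) = 0
      rw [hu, map_smul, hzero']
    rw [this, map_zero, sub_zero, hzero]
    rfl
  have hzG : ∀ f, z R (k + 1) • G f = 0 := by
    intro f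
    apply Subtype.ext
    rw [Submodule.coe_smul, hG, smul_comm, hzero]
    rfl
  refine ⟨mkLin R (k + 1) (φ.toAddMonoidHom.comp G.toAddMonoidHom) ?_ ?_, ?_⟩
  · intro r m
    change φ (G (algebraMap R (Rn R (k + 1)) r • m)) = algebraMap R (Rn R (k + 1)) r • φ (G m)
    rw [algebraMap_smul, map_smul, ← algebraMap_smul (Rn R (k + 1)) r (G m), map_smul]
  · intro m
    change φ (G (z R (k + 1) • m)) = z R (k + 1) • φ (G m)
    rw [hGz, map_zero, ← map_smul, hzG, map_zero]
  · intro x
    change φ (G x) = _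
    rw [← map_smul]
    congr 1
    apply Subtype.ext
    rw [hG]
    have : u.rangeRestrict (x : F) = 0 := by
      apply Subtype.ext
      change u x = 0
      rw [hu, LinearMap.mem_ker.mp x.2, smul_zero]
    rw [this, map_zero, sub_zero]
    rfl

end ExtendZ

section TorsionFreeOfExtend

variable (R : Type u) [CommRing R] [IsDomain R] [IsPrincipalIdealRing R] (k : ℕ)

theorem isTorsionFree_of_extend {F : Type v} {M : Type w} [AddCommGroup F]
    [Module (Rn R (k + 1)) F] [Module R F] [IsScalarTower R (Rn R (k + 1)) F]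
    [Module.Finite (Rn R (k + 1)) F] [Module.IsTorsionFree R F]
    [AddCommGroup M] [Module (Rn R (k + 1)) M] [Module R M] [IsScalarTower R (Rn R (k + 1)) M]
    (g : F →ₗ[Rn R (k + 1)] M) (hg : Function.Surjective g)
    (h : ∀ φ : LinearMap.ker g →ₗ[Rn R (k + 1)] Rn R (k + 1),
      ∃ Φ : F →ₗ[Rn R (k + 1)] Rn R (k + 1), ∀ x : LinearMap.ker g, Φ x = φ x) :
    Module.IsTorsionFree R M := by
  have : Module.Finite R (LinearMap.ker g) := Module.Finite.trans (Rn R (k + 1)) _
  have : Module.IsTorsionFree R (LinearMap.ker g) := isTorsionFree_submodule R (k + 1) _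
  have : Module.Free R (LinearMap.ker g) := Module.free_of_finite_type_torsion_free'
  let b := Module.Free.chooseBasis R (LinearMap.ker g)
  choose Φ hΦ using fun j => h (theta R k (b.coord j))
  have hΨ : ∀ j (x : LinearMap.ker g), lam R k (Φ j x) = b.repr x j := by
    intro j x
    rw [hΦ, lam_theta]
    rfl
  refine ⟨fun r hr m₁ m₂ hm => ?_⟩
  rw [← sub_eq_zero]
  have hm' : r • (m₁ - m₂) = 0 := by
    rw [smul_sub]
    exact sub_eq_zero.mpr hm
  obtain ⟨f, hf⟩ := hg (m₁ - m₂)
  have hx : r • f ∈ LinearMap.ker g := by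
    rw [LinearMap.mem_ker, LinearMap.map_smul_of_tower, hf, hm']
  let k₀ : LinearMap.ker g := ∑ j, lam R k (Φ j f) • b j
  have hk : (⟨r • f, hx⟩ : LinearMap.ker g) = r • k₀ := by
    apply b.ext_elem
    intro j
    have e1 : b.repr (r • k₀) j = r • lam R k (Φ j f) := by
      rw [map_smul, Finsupp.smul_apply, Module.Basis.repr_sum_self]
    have e2 : lam R k (Φ j (r • f)) = r • lam R k (Φ j f) := by
      rw [LinearMap.map_smul_of_tower, map_smul]
    rw [e1, ← e2, ← hΨ]
  have hf' : f = (k₀ : F) := by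
    apply hr.isSMulRegular
    exact congrArg Subtype.val hk
  rw [← hf, hf']
  exact LinearMap.mem_ker.mp k₀.2

end TorsionFreeOfExtend

section Reflexive

variable (R : Type u) [CommRing R]

theorem isTorsionFree_of_isReflexive (n : ℕ) (M : Type v) [AddCommGroup M]
    [Module (Rn R n) M] [Module R M] [IsScalarTower R (Rn R n) M]
    [Module.IsReflexive (Rn R n) M] : Module.IsTorsionFree R M := by
  refine ⟨fun r hr m₁ m₂ hm => ?_⟩
  apply (Module.bijective_dual_eval (Rn R n) M).1
  ext φ
  change φ m₁ = φ m₂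
  apply hr.isSMulRegular (M := Rn R n)
  change r • φ m₁ = r • φ m₂
  rw [← LinearMap.map_smul_of_tower, ← LinearMap.map_smul_of_tower]
  exact congrArg φ hm

variable (k : ℕ) {M : Type v} [AddCommGroup M] [Module (Rn R (k + 1)) M] [Module R M]
  [IsScalarTower R (Rn R (k + 1)) M]

theorem theta_add (ψ₁ ψ₂ : M →ₗ[R] R) :
    theta R k (ψ₁ + ψ₂) = theta R k ψ₁ + theta R k ψ₂ := by
  ext m
  simp only [theta_apply, LinearMap.add_apply, map_add, add_mul, Finset.sum_add_distrib]

theorem theta_smul (r : R) (ψ : M →ₗ[R] R) :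
    theta R k (r • ψ) = algebraMap R (Rn R (k + 1)) r • theta R k ψ := by
  ext m
  simp only [theta_apply, LinearMap.smul_apply, smul_eq_mul, map_mul, Finset.mul_sum, mul_assoc]

theorem isReflexive_of_isTorsionFree [IsDomain R] [IsPrincipalIdealRing R]
    [Module.Finite (Rn R (k + 1)) M] [Module.IsTorsionFree R M] :
    Module.IsReflexive (Rn R (k + 1)) M := by
  have : Module.Finite R M := Module.Finite.trans (Rn R (k + 1)) M
  have : Module.Free R M := Module.free_of_finite_type_torsion_free'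
  refine ⟨⟨?_, ?_⟩⟩
  · rw [injective_iff_map_eq_zero]
    intro m hm
    rw [← Module.forall_dual_apply_eq_zero_iff R m]
    intro ψ
    rw [← lam_theta R k ψ m]
    have : theta R k ψ m = Module.Dual.eval (Rn R (k + 1)) M m (theta R k ψ) := rfl
    rw [this, hm, LinearMap.zero_apply, map_zero]
  · intro ξ
    let ξ' : Module.Dual R (Module.Dual R M) :=
      { toFun := fun ψ => lam R k (ξ (theta R k ψ))
        map_add' := fun ψ₁ ψ₂ => by rw [theta_add, map_add, map_add]
        map_smul' := fun r ψ => by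
          rw [theta_smul, map_smul, smul_eq_mul]
          exact tc_algebraMap_mul R (k + 1) k r _ }
    have hξ' : ∀ ψ, ξ' ψ = lam R k (ξ (theta R k ψ)) := fun ψ => rfl
    refine ⟨(Module.evalEquiv R M).symm ξ', ?_⟩
    have hm : ∀ ψ : Module.Dual R M, ψ ((Module.evalEquiv R M).symm ξ') = ξ' ψ :=
      fun ψ => Module.apply_evalEquiv_symm_apply R M ψ ξ'
    ext φ
    change φ ((Module.evalEquiv R M).symm ξ') = ξ φ
    have key : ∀ a : Rn R (k + 1), lam R k (a * φ ((Module.evalEquiv R M).symm ξ')) =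
        lam R k (a * ξ φ) := by
      intro a
      have e1 : a * ξ φ = ξ (a • φ) := by rw [map_smul, smul_eq_mul]
      rw [e1, ← theta_lam R k (a • φ), ← hξ', ← hm]
      rfl
    rw [eq_sum_lam R k (φ _), eq_sum_lam R k (ξ φ)]
    refine Finset.sum_congr rfl fun i _ => ?_
    rw [key]

end Reflexive

section Finrank

variable (R : Type u) [CommRing R] [IsDomain R] [IsPrincipalIdealRing R] (n : ℕ)
  (M : Type v) [AddCommGroup M] [Module (Rn R n) M] [Module R M] [IsScalarTower R (Rn R n) M]
  [Module.Finite (Rn R n) M]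

theorem filt_succ_le (i : ℕ) : filt R n M (i + 1) ≤ filt R n M i := by
  rintro _ ⟨m, rfl⟩
  refine ⟨z R n • m, ?_⟩
  change z R n ^ i • z R n • m = z R n ^ (i + 1) • m
  rw [← mul_smul, ← pow_succ]

theorem filt2_le_succ (i : ℕ) : filt2 R n M i ≤ filt2 R n M (i + 1) := by
  intro m hm
  change z R n ^ i • m = 0 at hm
  change z R n ^ (i + 1) • m = 0
  rw [pow_succ', mul_smul, hm, smul_zero]

theorem finrank_sub_quot {N : Type v} [AddCommGroup N] [Module (Rn R n) N] [Module R N]
    [IsScalarTower R (Rn R n) N] [Module.Finite R N] (P : Submodule (Rn R n) N) :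
    Module.finrank R (N ⧸ P) + Module.finrank R P = Module.finrank R N :=
  (P.restrictScalars R).finrank_quotient_add_finrank

theorem finrank_filt_add (j : ℕ) :
    Module.finrank R (filt R n M j) + Module.finrank R (filt2 R n M j) = Module.finrank R M := by
  have : Module.Finite R M := Module.Finite.trans (Rn R n) M
  let Z : M →ₗ[R] M := (z R n ^ j • (LinearMap.id : M →ₗ[Rn R n] M)).restrictScalars R
  have h1 := (LinearMap.ker Z).finrank_quotient_add_finrank
  rw [LinearEquiv.finrank_eq Z.quotKerEquivRange] at h1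
  let e1 : LinearMap.range Z ≃ₗ[R] filt R n M j :=
    { toFun := fun x => ⟨x.1, x.2⟩
      invFun := fun x => ⟨x.1, x.2⟩
      map_add' := fun _ _ => rfl
      map_smul' := fun _ _ => rfl
      left_inv := fun _ => rfl
      right_inv := fun _ => rfl }
  let e2 : LinearMap.ker Z ≃ₗ[R] filt2 R n M j :=
    { toFun := fun x => ⟨x.1, x.2⟩
      invFun := fun x => ⟨x.1, x.2⟩
      map_add' := fun _ _ => rfl
      map_smul' := fun _ _ => rfl
      left_inv := fun _ => rfl
      right_inv := fun _ => rfl }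
  rw [← LinearEquiv.finrank_eq e1, ← LinearEquiv.finrank_eq e2]
  exact h1

theorem finrank_G2_add (i : ℕ) :
    Module.finrank R (G2 R n M (i + 1)) + Module.finrank R (filt2 R n M i) =
      Module.finrank R (filt2 R n M (i + 1)) := by
  have : Module.Finite R (filt2 R n M (i + 1)) := Module.Finite.trans (Rn R n) _
  have h := finrank_sub_quot R n (N := filt2 R n M (i + 1))
    (Submodule.comap (filt2 R n M (i + 1)).subtype (filt2 R n M i))
  rw [LinearEquiv.finrank_eq
    ((Submodule.comapSubtypeEquivOfLe (filt2_le_succ R n M i)).restrictScalars R)] at h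
  exact h

theorem finrank_G1_add (i : ℕ) :
    Module.finrank R (G1 R n M i) + Module.finrank R (filt R n M (i + 1)) =
      Module.finrank R (filt R n M i) := by
  have : Module.Finite R (filt R n M i) := Module.Finite.trans (Rn R n) _
  have h := finrank_sub_quot R n (N := filt R n M i)
    (Submodule.comap (filt R n M i).subtype (filt R n M (i + 1)))
  rw [LinearEquiv.finrank_eq
    ((Submodule.comapSubtypeEquivOfLe (filt_succ_le R n M i)).restrictScalars R)] at h
  exact h

theorem finrank_G2_eq_G1 (i : ℕ) :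
    Module.finrank R (G2 R n M (i + 1)) = Module.finrank R (G1 R n M i) := by
  have h1 := finrank_G2_add R n M i
  have h2 := finrank_G1_add R n M i
  have h3 := finrank_filt_add R n M i
  have h4 := finrank_filt_add R n M (i + 1)
  omega

end Finrank

section ExtSec

open CategoryTheory Abelian

variable {A : Type u} [CommRing A] {F M N : Type u} [AddCommGroup F] [Module A F]
  [AddCommGroup M] [Module A M] [AddCommGroup N] [Module A N]

theorem smul_ext_one_eq_zero [Module.Projective A F] (g : F →ₗ[A] M)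
    (hg : Function.Surjective g) (a : A)
    (h : ∀ φ : LinearMap.ker g →ₗ[A] N, ∃ Φ : F →ₗ[A] N, ∀ x : LinearMap.ker g, Φ x = a • φ x)
    (x : Ext (ModuleCat.of A M) (ModuleCat.of A N) 1) : a • x = 0 := by
  have hS := LinearMap.shortExact_shortComplexKer hg
  have : Projective g.shortComplexKer.X₂ :=
    (IsProjective.iff_projective F).mp inferInstance
  obtain ⟨x₁, rfl⟩ := precomp_extClass_surjective_of_projective_X₂ (ModuleCat.of A N) hS 0 x
  obtain ⟨ψ, rfl⟩ := (Ext.mk₀_bijective _ _).2 x₁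
  obtain ⟨Φ, hΦ⟩ := h ψ.hom
  have e : a • ψ = g.shortComplexKer.f ≫ ModuleCat.ofHom Φ := by
    ext x
    exact (hΦ x).symm
  change a • hS.extClass.comp (Ext.mk₀ ψ) (add_comm 1 0) = 0
  rw [← Ext.comp_smul, ← Ext.mk₀_smul, e, ← Ext.mk₀_comp_mk₀, hS.extClass_comp_assoc]

theorem ext_succ_exists [Module.Projective A F] (g : F →ₗ[A] M)
    (hg : Function.Surjective g) (i : ℕ)
    (x : Ext (ModuleCat.of A M) (ModuleCat.of A N) (i + 1)) :
    ∃ x₁ : Ext (ModuleCat.of A (LinearMap.ker g)) (ModuleCat.of A N) i,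
      (LinearMap.shortExact_shortComplexKer hg).extClass.comp x₁ (add_comm 1 i) = x := by
  have : Projective g.shortComplexKer.X₂ :=
    (IsProjective.iff_projective F).mp inferInstance
  exact precomp_extClass_surjective_of_projective_X₂ (ModuleCat.of A N)
    (LinearMap.shortExact_shortComplexKer hg) i x

theorem exists_extend_of_ext_one_eq_zero (g : F →ₗ[A] M)
    (hg : Function.Surjective g)
    (h : ∀ x : Ext (ModuleCat.of A M) (ModuleCat.of A N) 1, x = 0)
    (φ : LinearMap.ker g →ₗ[A] N) : ∃ Φ : F →ₗ[A] N, ∀ x : LinearMap.ker g, Φ x = φ x := by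
  have hS := LinearMap.shortExact_shortComplexKer hg
  obtain ⟨x₂, hx₂⟩ := Ext.contravariant_sequence_exact₁ hS (ModuleCat.of A N)
    (Ext.mk₀ (ModuleCat.ofHom φ)) (rfl : 1 + 0 = 1) (h _)
  obtain ⟨Ψ, rfl⟩ := (Ext.mk₀_bijective _ _).2 x₂
  rw [Ext.mk₀_comp_mk₀] at hx₂
  have := (Ext.mk₀_bijective _ _).1 hx₂
  refine ⟨Ψ.hom, fun x => ?_⟩
  have h2 := congrArg (fun t => t.hom x) this
  exact h2

end ExtSec

section ExtVanish

open CategoryTheory Abelian

variable (R : Type u) [CommRing R] [IsDomain R] [IsPrincipalIdealRing R] (k : ℕ)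

theorem ext_self_eq_zero (i : ℕ) : ∀ (M : Type u) [AddCommGroup M] [Module (Rn R (k + 1)) M]
    [Module R M] [IsScalarTower R (Rn R (k + 1)) M] [Module.Finite (Rn R (k + 1)) M]
    [Module.IsTorsionFree R M]
    (x : Ext (ModuleCat.of (Rn R (k + 1)) M) (ModuleCat.of (Rn R (k + 1)) (Rn R (k + 1))) (i + 1)),
    x = 0 := by
  induction i with
  | zero =>
    intro M _ _ _ _ _ _ x
    obtain ⟨r, g, hg⟩ := Module.Finite.exists_fin' (Rn R (k + 1)) M
    have := smul_ext_one_eq_zero g hg 1 (fun φ => by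
      obtain ⟨Φ, hΦ⟩ := exists_extend_form R k g hg φ
      exact ⟨Φ, fun x => by rw [one_smul]; exact hΦ x⟩) x
    simpa using this
  | succ i ih =>
    intro M _ _ _ _ _ _ x
    obtain ⟨r, g, hg⟩ := Module.Finite.exists_fin' (Rn R (k + 1)) M
    obtain ⟨x₁, rfl⟩ := ext_succ_exists g hg (i + 1) x
    have : Module.IsTorsionFree R (LinearMap.ker g) := isTorsionFree_submodule R (k + 1) _
    rw [ih (LinearMap.ker g) x₁, Ext.comp_zero]

theorem ext_self_eq_zero' (i : ℕ) (M : Type u) [AddCommGroup M] [Module (Rn R (k + 1)) M]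
    [Module.Finite (Rn R (k + 1)) M]
    (x : Ext (ModuleCat.of (Rn R (k + 1)) M) (ModuleCat.of (Rn R (k + 1)) (Rn R (k + 1))) (i + 2)) :
    x = 0 := by
  obtain ⟨r, g, hg⟩ := Module.Finite.exists_fin' (Rn R (k + 1)) M
  obtain ⟨x₁, rfl⟩ := ext_succ_exists g hg (i + 1) x
  have : Module.IsTorsionFree R (LinearMap.ker g) := isTorsionFree_submodule R (k + 1) _
  rw [ext_self_eq_zero R k i (LinearMap.ker g) x₁, Ext.comp_zero]

end ExtVanish

section ExtKill

open CategoryTheory Abelian

variable (R : Type u) [CommRing R] [IsDomain R] [IsPrincipalIdealRing R] (k : ℕ)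

theorem zpow_smul_ext_one (M N : Type u) [AddCommGroup M] [Module (Rn R (k + 1)) M]
    [Module R M] [IsScalarTower R (Rn R (k + 1)) M] [Module.Finite (Rn R (k + 1)) M]
    [Module.IsTorsionFree R M] [AddCommGroup N] [Module (Rn R (k + 1)) N]
    (x : Ext (ModuleCat.of (Rn R (k + 1)) M) (ModuleCat.of (Rn R (k + 1)) N) 1) :
    z R (k + 1) ^ k • x = 0 := by
  obtain ⟨r, g, hg⟩ := Module.Finite.exists_fin' (Rn R (k + 1)) M
  exact smul_ext_one_eq_zero g hg (z R (k + 1) ^ k) (fun φ => exists_extend_zpow R k g φ) x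

theorem zpow_smul_ext_succ (i : ℕ) : ∀ (M N : Type u) [AddCommGroup M] [Module (Rn R (k + 1)) M]
    [Module.Finite (Rn R (k + 1)) M] [AddCommGroup N] [Module (Rn R (k + 1)) N]
    (x : Ext (ModuleCat.of (Rn R (k + 1)) M) (ModuleCat.of (Rn R (k + 1)) N) (i + 2)),
    z R (k + 1) ^ k • x = 0 := by
  induction i with
  | zero =>
    intro M N _ _ _ _ _ x
    obtain ⟨r, g, hg⟩ := Module.Finite.exists_fin' (Rn R (k + 1)) M
    obtain ⟨x₁, rfl⟩ := ext_succ_exists g hg 1 x
    have : Module.IsTorsionFree R (LinearMap.ker g) := isTorsionFree_submodule R (k + 1) _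
    rw [← Ext.comp_smul, zpow_smul_ext_one R k (LinearMap.ker g) N x₁, Ext.comp_zero]
  | succ i ih =>
    intro M N _ _ _ _ _ x
    obtain ⟨r, g, hg⟩ := Module.Finite.exists_fin' (Rn R (k + 1)) M
    obtain ⟨x₁, rfl⟩ := ext_succ_exists g hg (i + 2) x
    rw [← Ext.comp_smul, ih (LinearMap.ker g) N x₁, Ext.comp_zero]

end ExtKill

end Groth.Agent.Lib.Helper60.MC
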