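import Groth.Agent.Lib.Helper60.Ns1
import Groth.Agent.Lib.Helper60.Hyper2

/-!
# A locally free module of rank at least two with a section and a cosection is not simple
-/

set_option autoImplicit false
universe u
open CategoryTheory CategoryTheory.Limits AlgebraicGeometry TopologicalSpace Opposite

namespace Groth.Agent.Lib.Helper60.NonSimple

open Groth.Agent.Lib.Helper35.Gen Groth.Agent.Lib.Helper35.AbSheaf
open Groth.Agent.Lib.Helper60.ProjUPLib Groth.Agent.Lib.Helper60.FrameLib
open Groth.Agent.Lib.Helper60.ZeroSch Groth.Agent.Lib.Helper60.Hyper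

variable {X : Scheme.{u}} {r : ℕ} (E : X.Modules)

/-- sectionwise form of the equality with a homothety -/
theorem app_eq_of_eq_smulAb (φ : E ⟶ E) (a : Γ(X, ⊤))
    (h : (SheafOfModules.toSheaf X.ringCatSheaf).map φ = Coh.smulAb E a) (U : X.Opens)
    (m : Γ(E, U)) : (φ.app U).hom m = rr X (le_top : U ≤ ⊤) a • m := by
  have h1 := congrArg (fun ψ => ψ.hom.app (op U) m) h
  exact h1

theorem nonempty_of_ne_zero {U : X.Opens} (b : Γ(X, U)) (hb : b ≠ 0) : (U : Set X).Nonempty := by
  by_contra hne
  apply hb
  have hU : U = ⊥ := by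
    ext y
    simp only [Opens.coe_bot, Set.mem_empty_iff_false, iff_false]
    intro hy
    exact hne ⟨y, hy⟩
  subst hU
  exact Subsingleton.elim _ _

/-- a locally free module of rank at least two on an integral scheme with a nonzero section and a
nonzero cosection has an endomorphism which is not a homothety by zero or by a unit -/
theorem ne_smulAb [IsIntegral X] (hr : 1 < r) (hE : FlatMod.IsFinLocFreeOfRank r E)
    (s : Coh.structureModule X ⟶ E) (hs : s ≠ 0) (t : E ⟶ Coh.structureModule X) (ht : t ≠ 0)
    (a : Γ(X, ⊤)) (ha : a = 0 ∨ IsUnit a) :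
    (SheafOfModules.toSheaf X.ringCatSheaf).map (t ≫ s) ≠ Coh.smulAb E a := by
  intro h
  have key : ∀ (U : X.Opens) (m : Γ(E, U)),
      (s.app U).hom ((t.app U).hom m) = rr X (le_top : U ≤ ⊤) a • m :=
    fun U m => app_eq_of_eq_smulAb E (t ≫ s) a h U m
  rcases ha with rfl | hu
  · have hσ : sval E s ⊤ ≠ 0 := fun h0 => hs (eq_zero_of_sval_top E s h0)
    have hex : ∃ (U : X.Opens) (m : Γ(E, U)), (t.app U).hom m ≠ 0 := by
      by_contra hcon
      push Not at hcon
      apply ht
      apply Scheme.Modules.hom_ext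
      intro U
      ext m
      exact hcon U m
    obtain ⟨U, m, hm⟩ := hex
    have h1 : (show Γ(X, U) from (t.app U).hom m) • sval E s U = 0 := by
      have h2 := key U m
      rw [map_zero, zero_smul] at h2
      rw [← h2]
      exact (app_eq_smul_val s U _).symm
    have hU : (U : Set X).Nonempty := nonempty_of_ne_zero (show Γ(X, U) from (t.app U).hom m) hm
    have h2 := eq_zero_of_smul_eq_zero E hE U _ hm _ h1
    have h3 := eq_zero_of_rs_eq_zero E hE (le_top : U ≤ ⊤) hU (sval E s ⊤)
      (by rw [rs_sval]; exact h2)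
    exact hσ h3
  · obtain ⟨x⟩ : Nonempty X := inferInstance
    obtain ⟨V, hxV, e, he⟩ := exists_local_frame E hE x
    have : Nonempty V := ⟨⟨x, hxV⟩⟩
    have hu' : IsUnit (rr X (le_top : V ≤ ⊤) a) := hu.map _
    have hinj : ∀ m : Γ(E, V), (t.app V).hom m = 0 → m = 0 := by
      intro m hm
      have h2 := key V m
      rw [hm, map_zero] at h2
      obtain ⟨w, hw⟩ := hu'.exists_left_inv
      calc m = (w * rr X (le_top : V ≤ ⊤) a) • m := by rw [hw, one_smul]
        _ = 0 := by rw [mul_smul, ← h2, smul_zero]
    let f : (Fin r → Γ(X, V)) →ₗ[Γ(X, V)] (Fin 1 → Γ(X, V)) :=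
      Fintype.linearCombination Γ(X, V)
        (fun i => (fun _ : Fin 1 => (show Γ(X, V) from (t.app V).hom (e i))))
    have hf : Function.Injective f := by
      rw [injective_iff_map_eq_zero]
      intro c hc
      have h3 : (t.app V).hom (∑ i, c i • e i) = 0 := by
        rw [map_sum]
        have h4 := congrFun hc 0
        rw [Fintype.linearCombination_apply] at h4
        simp only [Finset.sum_apply, Pi.zero_apply] at h4
        refine Eq.trans (Finset.sum_congr rfl (fun i _ => ?_)) h4
        exact Scheme.Modules.Hom.app_smul t (c i) (e i)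
      have h5 := hinj _ h3
      have h0 : (fun c : Fin r → Γ(X, V) => ∑ i, c i • e i) c =
          (fun c : Fin r → Γ(X, V) => ∑ i, c i • e i) 0 := by
        simp only [Pi.zero_apply, zero_smul, Finset.sum_const_zero]
        exact h5
      exact he.bij.1 h0
    have := le_of_fin_injective Γ(X, V) f hf
    omega

end Groth.Agent.Lib.Helper60.NonSimple
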