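import Groth.Agent.Lib.Helper60.HomOfGen
import Groth.Agent.Lib.Helper35.PbTensor

/-!
# Two modules with local generators having the same transition coefficients are isomorphic
-/

set_option autoImplicit false
universe u w
open CategoryTheory AlgebraicGeometry TopologicalSpace Opposite

namespace Groth.Agent.Lib.Helper60.PConeLib

open Groth.Agent.Lib.Helper35.Gen Groth.Agent.Lib.Helper35.AbSheaf

variable {X : Scheme.{u}}

/-- If `N` and `P` are both freely generated on a cover `D i` by sections `t i`, `s i` with the same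
transition coefficients `c i j`, then `N ≅ P`. -/
theorem nonempty_iso_of_gens {N P : X.Modules} {ι : Sort w} {D : ι → X.Opens}
    {t : ∀ i, Γ(N, D i)} (ht : ∀ i, IsGen N (D i) (t i))
    {s : ∀ i, Γ(P, D i)} (hs : ∀ i, IsGen P (D i) (s i))
    (c : ∀ i j, Γ(X, D i ⊓ D j))
    (htc : ∀ i j, rs N inf_le_right (t j) = c i j • rs N inf_le_left (t i))
    (hsc : ∀ i j, rs P inf_le_right (s j) = c i j • rs P inf_le_left (s i))
    (hcov : ∀ x : X, ∃ i, x ∈ D i) : Nonempty (N ≅ P) := by
  have hp : ∀ (i j : ι) (c' : Γ(X, D i ⊓ D j)),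
      rs N inf_le_right (t j) = c' • rs N inf_le_left (t i) →
        rs P inf_le_right (s j) = c' • rs P inf_le_left (s i) := by
    intro i j c' hc'
    have h1 : c' = c i j := by
      apply ((ht i).mono (inf_le_left : D i ⊓ D j ≤ D i)).smul_injective
      exact hc'.symm.trans (htc i j)
    rw [h1]
    exact hsc i j
  let θ : N ⟶ P := HomOfGen.hom ht s hp hcov
  have hθ : ∀ i, ((θ.app (D i)).hom (t i)) = s i := fun i => HomOfGen.hom_app_gen ht s hp hcov i
  have : IsIso θ := by
    apply Groth.Agent.Lib.Helper35.PbTensor.isIso_of_isGen_map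
    intro x
    obtain ⟨i, hi⟩ := hcov x
    refine ⟨D i, hi, t i, ht i, ?_⟩
    rw [hθ]
    exact hs i
  exact ⟨asIso θ⟩

end Groth.Agent.Lib.Helper60.PConeLib
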