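import Groth.Agent.Lib.Helper60.ProjUP2

/-!
# Universal property of `Proj`: ring maps out of `Γ(Proj, D₊(f))` are determined on coordinates
-/

set_option autoImplicit false
universe u
open CategoryTheory AlgebraicGeometry TopologicalSpace Opposite

namespace Groth.Agent.Lib.Helper60.ProjUPLib

open Groth.Agent.Lib.Helper35.Gen Groth.Agent.Lib.Helper35.PbInv Groth.Agent.Lib.Helper35.AbSheaf
open Groth.Agent.Lib.Helper60.TwistLib Groth.Agent.Lib.Helper60.ProjFrac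

variable {R A : Type u} [CommRing R] [CommRing A] [Algebra R A] (𝒜 : ℕ → Submodule R A) [GradedAlgebra 𝒜]

theorem fr_congr {k k' : ℕ} {a a' b b' : A} (ha : a ∈ 𝒜 k) (hb : b ∈ 𝒜 k) (ha' : a' ∈ 𝒜 k')
    (hb' : b' ∈ 𝒜 k') (V : (Proj 𝒜).Opens) (hV : ∀ y ∈ V, b ∉ y.asHomogeneousIdeal)
    (hV' : ∀ y ∈ V, b' ∉ y.asHomogeneousIdeal) (h : a = a') (h' : b = b') :
    fr 𝒜 a b ha hb V hV = fr 𝒜 a' b' ha' hb' V hV' := by
  apply fr_eq_of_mul_eq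
  rw [h, h']

theorem pow_mem_deg {f : A} (hf : f ∈ 𝒜 1) (n : ℕ) : f ^ n ∈ 𝒜 n := by
  have := SetLike.pow_mem_graded n hf
  simpa using this

section ext

variable {ι : Type*} (g : ι → A) (hg : ∀ i, g i ∈ 𝒜 1) (hgen : Algebra.adjoin R (Set.range g) = ⊤)
variable {f : A} (hf : f ∈ 𝒜 1) {B : Type*} [CommRing B]
  (ρ ρ' : Γ(Proj 𝒜, Proj.basicOpen 𝒜 f) →+* B)
  (h1 : ∀ i, ρ (fr 𝒜 (g i) f (hg i) hf (Proj.basicOpen 𝒜 f) (notMem_of_mem_basicOpen 𝒜 le_rfl)) =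
    ρ' (fr 𝒜 (g i) f (hg i) hf (Proj.basicOpen 𝒜 f) (notMem_of_mem_basicOpen 𝒜 le_rfl)))
  (h0 : ∀ c : R, ρ (fr 𝒜 (algebraMap R A c) 1 (SetLike.algebraMap_mem_graded 𝒜 c)
      SetLike.GradedOne.one_mem (Proj.basicOpen 𝒜 f) (fun y _ => one_notMem 𝒜 y)) =
    ρ' (fr 𝒜 (algebraMap R A c) 1 (SetLike.algebraMap_mem_graded 𝒜 c)
      SetLike.GradedOne.one_mem (Proj.basicOpen 𝒜 f) (fun y _ => one_notMem 𝒜 y)))

include hg h1 in
theorem ext_aux_closure (a : A) (ha : a ∈ Submonoid.closure (Set.range g)) :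
    ∃ (n : ℕ) (han : a ∈ 𝒜 n),
      ρ (fr 𝒜 a (f ^ n) han (pow_mem_deg 𝒜 hf n) (Proj.basicOpen 𝒜 f) (pow_notMem 𝒜 le_rfl n)) =
      ρ' (fr 𝒜 a (f ^ n) han (pow_mem_deg 𝒜 hf n) (Proj.basicOpen 𝒜 f)
        (pow_notMem 𝒜 le_rfl n)) := by
  induction ha using Submonoid.closure_induction with
  | mem a ha =>
    obtain ⟨i, rfl⟩ := ha
    refine ⟨1, hg i, ?_⟩
    have e : fr 𝒜 (g i) (f ^ 1) (hg i) (pow_mem_deg 𝒜 hf 1) (Proj.basicOpen 𝒜 f)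
        (pow_notMem 𝒜 le_rfl 1) =
        fr 𝒜 (g i) f (hg i) hf (Proj.basicOpen 𝒜 f) (notMem_of_mem_basicOpen 𝒜 le_rfl) :=
      fr_congr 𝒜 _ _ _ _ _ _ _ rfl (pow_one f)
    rw [e]
    exact h1 i
  | one =>
    refine ⟨0, SetLike.GradedOne.one_mem, ?_⟩
    have e : fr 𝒜 1 (f ^ 0) SetLike.GradedOne.one_mem (pow_mem_deg 𝒜 hf 0) (Proj.basicOpen 𝒜 f)
        (pow_notMem 𝒜 le_rfl 0) = 1 := by
      rw [← fr_self 𝒜 1 SetLike.GradedOne.one_mem (Proj.basicOpen 𝒜 f) (fun y _ => one_notMem 𝒜 y)]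
      exact fr_congr 𝒜 _ _ _ _ _ _ _ rfl (pow_zero f)
    rw [e, map_one, map_one]
  | mul a b _ _ iha ihb =>
    obtain ⟨n, han, hn⟩ := iha
    obtain ⟨m, hbm, hm⟩ := ihb
    refine ⟨n + m, SetLike.GradedMul.mul_mem han hbm, ?_⟩
    have e : fr 𝒜 (a * b) (f ^ (n + m)) (SetLike.GradedMul.mul_mem han hbm)
        (pow_mem_deg 𝒜 hf (n + m)) (Proj.basicOpen 𝒜 f) (pow_notMem 𝒜 le_rfl (n + m)) =
        fr 𝒜 a (f ^ n) han (pow_mem_deg 𝒜 hf n) (Proj.basicOpen 𝒜 f) (pow_notMem 𝒜 le_rfl n) *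
        fr 𝒜 b (f ^ m) hbm (pow_mem_deg 𝒜 hf m) (Proj.basicOpen 𝒜 f) (pow_notMem 𝒜 le_rfl m) := by
      rw [fr_mul]
      exact fr_congr 𝒜 _ _ _ _ _ _ _ rfl (pow_add f n m)
    rw [e, map_mul, map_mul, hn, hm]

include hg h1 h0 hgen in
theorem ext_aux (a : A) (n : ℕ) :
    ρ (fr 𝒜 (DirectSum.decompose 𝒜 a n : A) (f ^ n) (DirectSum.decompose 𝒜 a n).2
        (pow_mem_deg 𝒜 hf n) (Proj.basicOpen 𝒜 f) (pow_notMem 𝒜 le_rfl n)) =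
    ρ' (fr 𝒜 (DirectSum.decompose 𝒜 a n : A) (f ^ n) (DirectSum.decompose 𝒜 a n).2
        (pow_mem_deg 𝒜 hf n) (Proj.basicOpen 𝒜 f) (pow_notMem 𝒜 le_rfl n)) := by
  have ha : a ∈ Submodule.span R (Submonoid.closure (Set.range g) : Set A) := by
    rw [← Algebra.adjoin_eq_span, hgen]; trivial
  induction ha using Submodule.span_induction with
  | mem a ha =>
    obtain ⟨n₀, han, hn⟩ := ext_aux_closure 𝒜 g hg hf ρ ρ' h1 a ha
    by_cases hnn : n = n₀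
    · subst hnn
      have e : fr 𝒜 (DirectSum.decompose 𝒜 a n : A) (f ^ n) (DirectSum.decompose 𝒜 a n).2
          (pow_mem_deg 𝒜 hf n) (Proj.basicOpen 𝒜 f) (pow_notMem 𝒜 le_rfl n) =
          fr 𝒜 a (f ^ n) han (pow_mem_deg 𝒜 hf n) (Proj.basicOpen 𝒜 f)
            (pow_notMem 𝒜 le_rfl n) :=
        fr_congr 𝒜 _ _ _ _ _ _ _ (DirectSum.decompose_of_mem_same 𝒜 han) rfl
      rw [e]
      exact hn
    · have e : fr 𝒜 (DirectSum.decompose 𝒜 a n : A) (f ^ n) (DirectSum.decompose 𝒜 a n).2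
          (pow_mem_deg 𝒜 hf n) (Proj.basicOpen 𝒜 f) (pow_notMem 𝒜 le_rfl n) = 0 := by
        rw [← fr_zero 𝒜 (f ^ n) (pow_mem_deg 𝒜 hf n) (Proj.basicOpen 𝒜 f) (pow_notMem 𝒜 le_rfl n)]
        exact fr_congr 𝒜 _ _ _ _ _ _ _
          (DirectSum.decompose_of_mem_ne 𝒜 han (fun h => hnn h.symm)) rfl
      rw [e, map_zero, map_zero]
  | zero =>
    have e : fr 𝒜 (DirectSum.decompose 𝒜 (0 : A) n : A) (f ^ n) (DirectSum.decompose 𝒜 (0 : A) n).2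
        (pow_mem_deg 𝒜 hf n) (Proj.basicOpen 𝒜 f) (pow_notMem 𝒜 le_rfl n) = 0 := by
      rw [← fr_zero 𝒜 (f ^ n) (pow_mem_deg 𝒜 hf n) (Proj.basicOpen 𝒜 f) (pow_notMem 𝒜 le_rfl n)]
      refine fr_congr 𝒜 _ _ _ _ _ _ _ ?_ rfl
      rw [DirectSum.decompose_zero]
      rfl
    rw [e, map_zero, map_zero]
  | add a b _ _ iha ihb =>
    have e : fr 𝒜 (DirectSum.decompose 𝒜 (a + b) n : A) (f ^ n)
        (DirectSum.decompose 𝒜 (a + b) n).2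
        (pow_mem_deg 𝒜 hf n) (Proj.basicOpen 𝒜 f) (pow_notMem 𝒜 le_rfl n) =
        fr 𝒜 (DirectSum.decompose 𝒜 a n : A) (f ^ n) (DirectSum.decompose 𝒜 a n).2
          (pow_mem_deg 𝒜 hf n) (Proj.basicOpen 𝒜 f) (pow_notMem 𝒜 le_rfl n) +
        fr 𝒜 (DirectSum.decompose 𝒜 b n : A) (f ^ n) (DirectSum.decompose 𝒜 b n).2
          (pow_mem_deg 𝒜 hf n) (Proj.basicOpen 𝒜 f) (pow_notMem 𝒜 le_rfl n) := by
      rw [fr_add]
      refine fr_congr 𝒜 _ _ _ _ _ _ _ ?_ rfl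
      rw [DirectSum.decompose_add]
      rfl
    rw [e, map_add, map_add, iha, ihb]
  | smul c a _ iha =>
    have e : fr 𝒜 (DirectSum.decompose 𝒜 (c • a) n : A) (f ^ n)
        (DirectSum.decompose 𝒜 (c • a) n).2
        (pow_mem_deg 𝒜 hf n) (Proj.basicOpen 𝒜 f) (pow_notMem 𝒜 le_rfl n) =
        fr 𝒜 (algebraMap R A c) 1 (SetLike.algebraMap_mem_graded 𝒜 c)
          SetLike.GradedOne.one_mem (Proj.basicOpen 𝒜 f) (fun y _ => one_notMem 𝒜 y) *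
        fr 𝒜 (DirectSum.decompose 𝒜 a n : A) (f ^ n) (DirectSum.decompose 𝒜 a n).2
          (pow_mem_deg 𝒜 hf n) (Proj.basicOpen 𝒜 f) (pow_notMem 𝒜 le_rfl n) := by
      rw [fr_mul]
      apply fr_eq_of_mul_eq
      rw [DirectSum.decompose_smul]
      change (c • (DirectSum.decompose 𝒜 a n : A)) * _ = _
      rw [Algebra.smul_def, one_mul]
    rw [e, map_mul, map_mul, iha, h0]

include hg h1 h0 hgen hf in
/-- two ring maps out of `Γ(Proj, D₊(f))` agreeing on the `gᵢ/f` and on constants are equal -/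
theorem ringHom_ext_basicOpen : ρ = ρ' := by
  ext s
  have hiso : IsIso (Proj.awayToSection 𝒜 f) := (Proj.basicOpenIsoAway 𝒜 f hf one_pos).isIso_hom
  obtain ⟨z, rfl⟩ := (ConcreteCategory.bijective_of_isIso (Proj.awayToSection 𝒜 f)).2 s
  obtain ⟨n, a, ha, rfl⟩ := HomogeneousLocalization.Away.mk_surjective 𝒜 hf z
  have han : a ∈ 𝒜 n := by simpa using ha
  change ρ ((Proj.awayToSection 𝒜 f).hom _) = ρ' ((Proj.awayToSection 𝒜 f).hom _)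
  rw [awayToSection_mk]
  have e : fr 𝒜 a (f ^ n) ha (SetLike.pow_mem_graded n hf) (Proj.basicOpen 𝒜 f)
      (pow_notMem 𝒜 le_rfl n) =
      fr 𝒜 (DirectSum.decompose 𝒜 a n : A) (f ^ n) (DirectSum.decompose 𝒜 a n).2
        (pow_mem_deg 𝒜 hf n) (Proj.basicOpen 𝒜 f) (pow_notMem 𝒜 le_rfl n) :=
    fr_congr 𝒜 _ _ _ _ _ _ _ (DirectSum.decompose_of_mem_same 𝒜 han).symm rfl
  rw [e]
  exact ext_aux 𝒜 g hg hgen hf ρ ρ' h1 h0 a n

end ext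

end Groth.Agent.Lib.Helper60.ProjUPLib
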