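import Groth.Agent.Lib.Helper60.PCone1
import Groth.Agent.Lib.Helper60.ProjUP3
import Groth.Agent.Lib.Helper35.PbGen
import Groth.Agent.Lib.Helper35.PbSec

/-!
# Local generators of `O(n)` on `Proj` (all integers `n`) in degree-one charts, and their
transition coefficients; behaviour of generators under pullback of modules.
-/

set_option autoImplicit false
universe u
open CategoryTheory AlgebraicGeometry TopologicalSpace Opposite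

namespace Groth.Agent.Lib.Helper60.PConeLib

open Groth.Agent.Lib.Helper35.Gen Groth.Agent.Lib.Helper35.PbInv Groth.Agent.Lib.Helper35.AbSheaf
open Groth.Agent.Lib.Helper60.TwistLib Groth.Agent.Lib.Helper60.ProjFrac
open Groth.Agent.Lib.Helper60.ProjUPLib

section pb

variable {X' X : Scheme.{u}} (v : X' ⟶ X)

theorem pb_rs (M : X.Modules) {U₀ W : X.Opens} (hW : W ≤ U₀) (e₀ : Γ(M, U₀)) (V : X'.Opens)
    (hV : V ≤ v ⁻¹ᵁ W) :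
    rs ((Scheme.Modules.pullback v).obj M) (hV.trans (v.preimage_mono hW)) (pbSec v M U₀ e₀) =
      rs ((Scheme.Modules.pullback v).obj M) hV (pbSec v M W (rs M hW e₀)) := by
  rw [← pbSec_rs, rs_rs]

theorem pb_trans (M : X.Modules) {W : X.Opens} (e e' : Γ(M, W)) (r : Γ(X, W)) (h : e' = r • e)
    (V : X'.Opens) (hV : V ≤ v ⁻¹ᵁ W) :
    rs ((Scheme.Modules.pullback v).obj M) hV (pbSec v M W e') =
      (v.appLE W V hV).hom r • rs ((Scheme.Modules.pullback v).obj M) hV (pbSec v M W e) := by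
  rw [h, pbSec_smul, rs_smul]
  rfl

end pb

variable {R A : Type u} [CommRing R] [CommRing A] [Algebra R A] (𝒜 : ℕ → Submodule R A) [GradedAlgebra 𝒜]

/-- numerator exponent -/
def ni (n : ℤ) : ℕ := n.toNat + 1

/-- denominator exponent -/
def nk (n : ℤ) : ℕ := (-n).toNat + 1

theorem ni_eq (n : ℤ) : (ni n : ℤ) = nk n + n := by
  unfold ni nk; omega

/-- the generator `g^(i+1)/g^(k+1)` of `O(n)` on opens inside `D₊(g)`, `g` of degree one -/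
noncomputable def tgen (n : ℤ) (g : 𝒜 1) (W : (Proj 𝒜).Opens) (hW : W ≤ Proj.basicOpen 𝒜 g.1) :
    Γ(Twist.twist 𝒜 n, W) :=
  genSec n (⟨g.1 ^ ni n, pow_mem_deg 𝒜 g.2 _⟩ : 𝒜 (ni n)) (⟨g.1 ^ nk n, pow_mem_deg 𝒜 g.2 _⟩ : 𝒜 (nk n))
    (ni_eq n) W (pow_notMem 𝒜 hW _)

theorem rs_tgen (n : ℤ) (g : 𝒜 1) {W W' : (Proj 𝒜).Opens} (h : W' ≤ W)
    (hW : W ≤ Proj.basicOpen 𝒜 g.1) :
    rs (Twist.twist 𝒜 n) h (tgen 𝒜 n g W hW) = tgen 𝒜 n g W' (h.trans hW) := rfl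

theorem isGen_tgen (n : ℤ) (g : 𝒜 1) :
    IsGen (Twist.twist 𝒜 n) (Proj.basicOpen 𝒜 g.1) (tgen 𝒜 n g _ le_rfl) := by
  intro W hW
  have hbij := genSec_bijective (𝒜 := 𝒜) n
    (⟨g.1 ^ ni n, pow_mem_deg 𝒜 g.2 _⟩ : 𝒜 (ni n)) (⟨g.1 ^ nk n, pow_mem_deg 𝒜 g.2 _⟩ : 𝒜 (nk n))
    (ni_eq n) W (pow_notMem 𝒜 hW _) (pow_notMem 𝒜 hW _)
  exact hbij

theorem num_mem (n : ℤ) (g g' : 𝒜 1) : g'.1 ^ ni n * g.1 ^ nk n ∈ 𝒜 (ni n + nk n) :=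
  SetLike.mul_mem_graded (pow_mem_deg 𝒜 g'.2 _) (pow_mem_deg 𝒜 g.2 _)

theorem den_mem (n : ℤ) (g g' : 𝒜 1) : g.1 ^ ni n * g'.1 ^ nk n ∈ 𝒜 (ni n + nk n) :=
  SetLike.mul_mem_graded (pow_mem_deg 𝒜 g.2 _) (pow_mem_deg 𝒜 g'.2 _)

theorem den_notMem (n : ℤ) (g g' : 𝒜 1) {W : (Proj 𝒜).Opens} (hW : W ≤ Proj.basicOpen 𝒜 g.1)
    (hW' : W ≤ Proj.basicOpen 𝒜 g'.1) :
    ∀ y ∈ W, g.1 ^ ni n * g'.1 ^ nk n ∉ y.asHomogeneousIdeal := fun y hy hmem =>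
  (y.isPrime.mem_or_mem hmem).elim (pow_notMem 𝒜 hW _ y hy) (pow_notMem 𝒜 hW' _ y hy)

theorem le_basicOpen_den (n : ℤ) (g g' : 𝒜 1) {W : (Proj 𝒜).Opens} (hW : W ≤ Proj.basicOpen 𝒜 g.1)
    (hW' : W ≤ Proj.basicOpen 𝒜 g'.1) :
    W ≤ Proj.basicOpen 𝒜 (g.1 ^ ni n * g'.1 ^ nk n) := fun y hy =>
  (Proj.mem_basicOpen 𝒜 _ y).2 (den_notMem 𝒜 n g g' hW hW' y hy)

/-- transition between the generators on `D₊(g) ∩ D₊(g')` -/
theorem tgen_trans (n : ℤ) (g g' : 𝒜 1) (W : (Proj 𝒜).Opens) (hW : W ≤ Proj.basicOpen 𝒜 g.1)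
    (hW' : W ≤ Proj.basicOpen 𝒜 g'.1) :
    tgen 𝒜 n g' W hW' =
      fr 𝒜 (g'.1 ^ ni n * g.1 ^ nk n) (g.1 ^ ni n * g'.1 ^ nk n) (num_mem 𝒜 n g g')
        (den_mem 𝒜 n g g') W (den_notMem 𝒜 n g g' hW hW') • tgen 𝒜 n g W hW := by
  apply sect_ext
  intro x
  refine Eq.trans ?_ (smul_sect_val n W _ _ x).symm
  change Localization.mk (g'.1 ^ ni n) _ = Localization.mk (g'.1 ^ ni n * g.1 ^ nk n) _ *
    Localization.mk (g.1 ^ ni n) _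
  rw [Localization.mk_mul, Localization.mk_eq_mk_iff, Localization.r_iff_exists]
  exact ⟨1, by simp; ring⟩

end Groth.Agent.Lib.Helper60.PConeLib
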