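import Groth.Agent.Lib.Helper60.PCone2
import Groth.Agent.Lib.Helper60.ProjUP2
import Groth.Prelude.Def_PCone

/-!
# The morphism `G(φ) ⟶ Proj 𝒜` induced by a graded homomorphism: compatibility on functions
-/

set_option autoImplicit false
universe u
open CategoryTheory AlgebraicGeometry TopologicalSpace Opposite

namespace Groth.Agent.Lib.Helper60.PConeLib

open Groth.Agent.Lib.Helper35.Gen Groth.Agent.Lib.Helper35.PbInv Groth.Agent.Lib.Helper35.AbSheaf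
open Groth.Agent.Lib.Helper60.TwistLib Groth.Agent.Lib.Helper60.ProjFrac
open Groth.Agent.Lib.Helper60.ProjUPLib

section general

theorem appLE_congr_hom {X Y : Scheme.{u}} {f g : X ⟶ Y} (h : f = g) (U : Y.Opens) (V : X.Opens)
    (e : V ≤ f ⁻¹ᵁ U) (x : Γ(Y, U)) :
    (f.appLE U V e).hom x = (g.appLE U V (h ▸ e)).hom x := by
  subst h; rfl

theorem presheaf_map_top_injective {S : Scheme.{u}} (T : S.Opens) (e : ⊤ ≤ T) :
    Function.Injective (S.presheaf.map (homOfLE e).op).hom := by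
  obtain rfl : T = ⊤ := top_le_iff.mp e
  have : S.presheaf.map (homOfLE e).op = 𝟙 _ := S.presheaf.map_id _
  rw [this]
  exact fun _ _ h => h

theorem appLE_top_injective {S Y : Scheme.{u}} (c : S ⟶ Y) [IsOpenImmersion c] (V : Y.Opens)
    (hV : V ≤ c.opensRange) (e : ⊤ ≤ c ⁻¹ᵁ V) : Function.Injective (c.appLE V ⊤ e).hom := by
  have h1 : IsIso (c.app V) := c.isIso_app V hV
  have h2 : Function.Injective (c.app V).hom :=
    ((ConcreteCategory.isIso_iff_bijective (c.app V)).mp h1).1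
  intro x y hxy
  apply h2
  apply presheaf_map_top_injective (c ⁻¹ᵁ V) e
  exact hxy

end general

variable {R A : Type u} [CommRing R] [CommRing A] [Algebra R A] (𝒜 : ℕ → Submodule R A) [GradedAlgebra 𝒜]
  {B : Type u} [CommRing B] [Algebra R B] (ℬ : ℕ → Submodule R B) [GradedAlgebra ℬ] (φ : 𝒜 →+*ᵍ ℬ)

section chart

variable {d : ℕ} {f : A} (hf : f ∈ 𝒜 d) (hd : 0 < d)

theorem chart_fac : PCone.chart φ hf hd ≫ (PCone.dom φ).ι = Proj.awayι ℬ (φ f) (φ.2 hf) hd :=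
  IsOpenImmersion.lift_fac _ _ _

instance : IsOpenImmersion (PCone.chart φ hf hd) := by
  have : IsOpenImmersion (PCone.chart φ hf hd ≫ (PCone.dom φ).ι) := by
    rw [chart_fac]; infer_instance
  exact IsOpenImmersion.of_comp (PCone.chart φ hf hd) (PCone.dom φ).ι

/-- the open `D₊(φ f) ∩ G(φ)` of `G(φ)` -/
noncomputable abbrev Dd (f : A) : (PCone.dom φ : Scheme.{u}).Opens :=
  (PCone.dom φ).ι ⁻¹ᵁ Proj.basicOpen ℬ (φ f)

theorem Dd_le_opensRange : Dd 𝒜 ℬ φ f ≤ (PCone.chart φ hf hd).opensRange := by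
  intro x hx
  have hx' : (PCone.dom φ).ι x ∈ (Proj.awayι ℬ (φ f) (φ.2 hf) hd).opensRange := by
    rw [Proj.opensRange_awayι]; exact hx
  obtain ⟨y, hy⟩ := hx'
  refine ⟨y, ?_⟩
  apply (PCone.dom φ).ι.isOpenEmbedding.injective
  rw [← hy, ← chart_fac 𝒜 ℬ φ hf hd]
  rfl

theorem chart_preimage_Dd : PCone.chart φ hf hd ⁻¹ᵁ Dd 𝒜 ℬ φ f = ⊤ := by
  rw [eq_top_iff]
  intro y _
  change (PCone.dom φ).ι (PCone.chart φ hf hd y) ∈ Proj.basicOpen ℬ (φ f)
  have : (PCone.dom φ).ι (PCone.chart φ hf hd y) = Proj.awayι ℬ (φ f) (φ.2 hf) hd y := by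
    rw [← chart_fac 𝒜 ℬ φ hf hd]; rfl
  rw [this, ← Proj.opensRange_awayι ℬ (φ f) (φ.2 hf) hd]
  exact ⟨y, rfl⟩

variable (p : (PCone.dom φ : Scheme.{u}) ⟶ Proj 𝒜)
    (hp : ∀ (d : ℕ) (f : A) (hd : 0 < d) (hf : f ∈ 𝒜 d),
        PCone.chart φ hf hd ≫ p =
          Spec.map (CommRingCat.ofHom (HomogeneousLocalization.Away.map φ f)) ≫ Proj.awayι 𝒜 f hf hd)

include hp hf hd in
theorem Dd_le_preimage : Dd 𝒜 ℬ φ f ≤ p ⁻¹ᵁ Proj.basicOpen 𝒜 f := by
  intro x hx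
  obtain ⟨y, rfl⟩ := Dd_le_opensRange 𝒜 ℬ φ hf hd hx
  change p (PCone.chart φ hf hd y) ∈ Proj.basicOpen 𝒜 f
  have : p (PCone.chart φ hf hd y) = Proj.awayι 𝒜 f hf hd
      (Spec.map (CommRingCat.ofHom (HomogeneousLocalization.Away.map φ f)) y) := by
    have := congrArg (fun q => q y) (hp d f hd hf)
    exact this
  rw [this, ← Proj.opensRange_awayι 𝒜 f hf hd]
  exact ⟨_, rfl⟩

end chart

end Groth.Agent.Lib.Helper60.PConeLib
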