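import Groth.Agent.Lib.Helper60.PCone3

/-!
# The morphism `G(φ) ⟶ Proj 𝒜`: the key compatibility of pulled-back fractions
-/

set_option autoImplicit false
universe u
open CategoryTheory AlgebraicGeometry TopologicalSpace Opposite

namespace Groth.Agent.Lib.Helper60.PConeLib

open Groth.Agent.Lib.Helper35.Gen Groth.Agent.Lib.Helper35.PbInv Groth.Agent.Lib.Helper35.AbSheaf
open Groth.Agent.Lib.Helper60.TwistLib Groth.Agent.Lib.Helper60.ProjFrac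
open Groth.Agent.Lib.Helper60.ProjUPLib

variable {R A : Type u} [CommRing R] [CommRing A] [Algebra R A] (𝒜 : ℕ → Submodule R A) [GradedAlgebra 𝒜]
  {B : Type u} [CommRing B] [Algebra R B] (ℬ : ℕ → Submodule R B) [GradedAlgebra ℬ] (φ : 𝒜 →+*ᵍ ℬ)

/-- `a/f` as the image of an element of `A_(f)` -/
theorem fr_eq_awayToSection {d : ℕ} {f : A} (hf : f ∈ 𝒜 d) (a : A) (ha : a ∈ 𝒜 d)
    (ha' : a ∈ 𝒜 (1 • d)) :
    fr 𝒜 a f ha hf (Proj.basicOpen 𝒜 f) (notMem_of_mem_basicOpen 𝒜 le_rfl) =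
      (Proj.awayToSection 𝒜 f).hom (HomogeneousLocalization.Away.mk 𝒜 hf 1 a ha') := by
  rw [awayToSection_mk]
  exact fr_congr 𝒜 _ _ _ _ _ _ _ rfl (pow_one f).symm

variable {d : ℕ} {f : A} (hf : f ∈ 𝒜 d) (hd : 0 < d)
  (p : (PCone.dom φ : Scheme.{u}) ⟶ Proj 𝒜)
  (hp : ∀ (d : ℕ) (f : A) (hd : 0 < d) (hf : f ∈ 𝒜 d),
      PCone.chart φ hf hd ≫ p =
        Spec.map (CommRingCat.ofHom (HomogeneousLocalization.Away.map φ f)) ≫ Proj.awayι 𝒜 f hf hd)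

include hp in
theorem key_top (a : A) (ha : a ∈ 𝒜 d) :
    (p.appLE (Proj.basicOpen 𝒜 f) (Dd 𝒜 ℬ φ f) (Dd_le_preimage 𝒜 ℬ φ hf hd p hp)).hom
        (fr 𝒜 a f ha hf (Proj.basicOpen 𝒜 f) (notMem_of_mem_basicOpen 𝒜 le_rfl)) =
      ((PCone.dom φ).ι.appLE (Proj.basicOpen ℬ (φ f)) (Dd 𝒜 ℬ φ f) le_rfl).hom
        (fr ℬ (φ a) (φ f) (φ.2 ha) (φ.2 hf) (Proj.basicOpen ℬ (φ f))
          (notMem_of_mem_basicOpen ℬ le_rfl)) := by
  have ha' : a ∈ 𝒜 (1 • d) := by simpa using ha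
  apply appLE_top_injective (PCone.chart φ hf hd) (Dd 𝒜 ℬ φ f) (Dd_le_opensRange 𝒜 ℬ φ hf hd)
    (chart_preimage_Dd 𝒜 ℬ φ hf hd).ge
  -- left side
  have hL : ((PCone.chart φ hf hd).appLE (Dd 𝒜 ℬ φ f) ⊤ (chart_preimage_Dd 𝒜 ℬ φ hf hd).ge).hom
      ((p.appLE (Proj.basicOpen 𝒜 f) (Dd 𝒜 ℬ φ f) (Dd_le_preimage 𝒜 ℬ φ hf hd p hp)).hom
        (fr 𝒜 a f ha hf (Proj.basicOpen 𝒜 f) (notMem_of_mem_basicOpen 𝒜 le_rfl))) =
      (Scheme.ΓSpecIso _).inv.hom (HomogeneousLocalization.Away.mk ℬ (φ.2 hf) 1 (φ a) (φ.2 ha')) := by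
    have h1 := Scheme.Hom.appLE_comp_appLE (PCone.chart φ hf hd) p (Proj.basicOpen 𝒜 f)
      (Dd 𝒜 ℬ φ f) ⊤ (Dd_le_preimage 𝒜 ℬ φ hf hd p hp) (chart_preimage_Dd 𝒜 ℬ φ hf hd).ge
    have h2 := congrArg (fun q => q.hom
      (fr 𝒜 a f ha hf (Proj.basicOpen 𝒜 f) (notMem_of_mem_basicOpen 𝒜 le_rfl))) h1
    refine h2.trans ?_
    refine (appLE_congr_hom (hp d f hd hf) _ _ _ _).trans ?_
    rw [fr_eq_awayToSection 𝒜 hf a ha ha']
    have h3 := awayToSection_comp_appLE 𝒜 hf hd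
      (Spec.map (CommRingCat.ofHom (HomogeneousLocalization.Away.map φ f)))
    have h4 := congrArg (fun q => q.hom (HomogeneousLocalization.Away.mk 𝒜 hf 1 a ha')) h3
    refine h4.trans ?_
    have h5 := Scheme.ΓSpecIso_inv_naturality
      (CommRingCat.ofHom (HomogeneousLocalization.Away.map φ f))
    have h6 := congrArg (fun q => q.hom (HomogeneousLocalization.Away.mk 𝒜 hf 1 a ha')) h5
    refine h6.symm.trans ?_
    change (Scheme.ΓSpecIso (CommRingCat.of (HomogeneousLocalization.Away ℬ (φ f)))).inv.hom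
      (HomogeneousLocalization.Away.map φ f (HomogeneousLocalization.Away.mk 𝒜 hf 1 a ha')) = _
    rw [HomogeneousLocalization.Away.map_mk]
  -- right side
  have hR : ((PCone.chart φ hf hd).appLE (Dd 𝒜 ℬ φ f) ⊤ (chart_preimage_Dd 𝒜 ℬ φ hf hd).ge).hom
      (((PCone.dom φ).ι.appLE (Proj.basicOpen ℬ (φ f)) (Dd 𝒜 ℬ φ f) le_rfl).hom
        (fr ℬ (φ a) (φ f) (φ.2 ha) (φ.2 hf) (Proj.basicOpen ℬ (φ f))
          (notMem_of_mem_basicOpen ℬ le_rfl))) =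
      (Scheme.ΓSpecIso _).inv.hom (HomogeneousLocalization.Away.mk ℬ (φ.2 hf) 1 (φ a) (φ.2 ha')) := by
    have h1 := Scheme.Hom.appLE_comp_appLE (PCone.chart φ hf hd) (PCone.dom φ).ι
      (Proj.basicOpen ℬ (φ f)) (Dd 𝒜 ℬ φ f) ⊤ le_rfl (chart_preimage_Dd 𝒜 ℬ φ hf hd).ge
    have h2 := congrArg (fun q => q.hom
      (fr ℬ (φ a) (φ f) (φ.2 ha) (φ.2 hf) (Proj.basicOpen ℬ (φ f))
          (notMem_of_mem_basicOpen ℬ le_rfl))) h1
    refine h2.trans ?_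
    refine (appLE_congr_hom (chart_fac 𝒜 ℬ φ hf hd) _ _ _ _).trans ?_
    rw [fr_eq_awayToSection ℬ (f := φ f) (φ.2 hf) (φ a) (φ.2 ha) (φ.2 ha')]
    have h3 := awayToSection_awayι_appLE ℬ (φ.2 hf) hd
    exact congrArg (fun q => q.hom (HomogeneousLocalization.Away.mk ℬ (φ.2 hf) 1 (φ a) (φ.2 ha'))) h3
  exact hL.trans hR.symm

end Groth.Agent.Lib.Helper60.PConeLib
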