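import Groth.Agent.Lib.Helper60.PCone4

/-!
# `Φ^* O_{Proj 𝒜}(n) ≅ O_{Proj ℬ}(n)|_{G(φ)}` for the morphism `Φ : G(φ) ⟶ Proj 𝒜` induced by a
graded homomorphism `φ : 𝒜 → ℬ`, when `𝒜₊` is generated in degree one.
-/

set_option autoImplicit false
universe u
open CategoryTheory AlgebraicGeometry TopologicalSpace Opposite

namespace Groth.Agent.Lib.Helper60.PConeLib

open Groth.Agent.Lib.Helper35.Gen Groth.Agent.Lib.Helper35.PbInv Groth.Agent.Lib.Helper35.AbSheaf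
open Groth.Agent.Lib.Helper60.TwistLib Groth.Agent.Lib.Helper60.ProjFrac
open Groth.Agent.Lib.Helper60.ProjUPLib

variable {R A : Type u} [CommRing R] [CommRing A] [Algebra R A] (𝒜 : ℕ → Submodule R A) [GradedAlgebra 𝒜]
  {B : Type u} [CommRing B] [Algebra R B] (ℬ : ℕ → Submodule R B) [GradedAlgebra ℬ] (φ : 𝒜 →+*ᵍ ℬ)
  (p : (PCone.dom φ : Scheme.{u}) ⟶ Proj 𝒜)
  (hp : ∀ (d : ℕ) (f : A) (hd : 0 < d) (hf : f ∈ 𝒜 d),
      PCone.chart φ hf hd ≫ p =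
        Spec.map (CommRingCat.ofHom (HomogeneousLocalization.Away.map φ f)) ≫ Proj.awayι 𝒜 f hf hd)

include hp in
theorem key {d : ℕ} {f : A} (hf : f ∈ 𝒜 d) (hd : 0 < d) (a : A) (ha : a ∈ 𝒜 d)
    (W : (Proj 𝒜).Opens) (hW : W ≤ Proj.basicOpen 𝒜 f)
    (W' : (Proj ℬ).Opens) (hW' : W' ≤ Proj.basicOpen ℬ (φ f))
    (V : (PCone.dom φ : Scheme.{u}).Opens) (hV : V ≤ p ⁻¹ᵁ W)
    (hV' : V ≤ (PCone.dom φ).ι ⁻¹ᵁ W') :
    (p.appLE W V hV).hom (fr 𝒜 a f ha hf W (notMem_of_mem_basicOpen 𝒜 hW)) =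
      ((PCone.dom φ).ι.appLE W' V hV').hom
        (fr ℬ (φ a) (φ f) (φ.2 ha) (φ.2 hf) W' (notMem_of_mem_basicOpen ℬ hW')) := by
  have hVD : V ≤ Dd 𝒜 ℬ φ f := hV'.trans ((PCone.dom φ).ι.preimage_mono hW')
  have e1 : (p.appLE W V hV).hom (fr 𝒜 a f ha hf W (notMem_of_mem_basicOpen 𝒜 hW)) =
      ((PCone.dom φ : Scheme.{u}).presheaf.map (homOfLE hVD).op).hom
        ((p.appLE (Proj.basicOpen 𝒜 f) (Dd 𝒜 ℬ φ f) (Dd_le_preimage 𝒜 ℬ φ hf hd p hp)).hom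
          (fr 𝒜 a f ha hf (Proj.basicOpen 𝒜 f) (notMem_of_mem_basicOpen 𝒜 le_rfl))) := by
    have h1 := Scheme.Hom.map_appLE p hV (homOfLE hW).op
    have h2 := Scheme.Hom.appLE_map p (Dd_le_preimage 𝒜 ℬ φ hf hd p hp) (homOfLE hVD).op
    exact congrArg (fun q => q.hom
      (fr 𝒜 a f ha hf (Proj.basicOpen 𝒜 f) (notMem_of_mem_basicOpen 𝒜 le_rfl))) (h1.trans h2.symm)
  have e2 : ((PCone.dom φ).ι.appLE W' V hV').hom
        (fr ℬ (φ a) (φ f) (φ.2 ha) (φ.2 hf) W' (notMem_of_mem_basicOpen ℬ hW')) =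
      ((PCone.dom φ : Scheme.{u}).presheaf.map (homOfLE hVD).op).hom
        (((PCone.dom φ).ι.appLE (Proj.basicOpen ℬ (φ f)) (Dd 𝒜 ℬ φ f) le_rfl).hom
          (fr ℬ (φ a) (φ f) (φ.2 ha) (φ.2 hf) (Proj.basicOpen ℬ (φ f))
            (notMem_of_mem_basicOpen ℬ le_rfl))) := by
    have h1 := Scheme.Hom.map_appLE (PCone.dom φ).ι hV' (homOfLE hW').op
    have h2 := Scheme.Hom.appLE_map (PCone.dom φ).ι
      (le_rfl : Dd 𝒜 ℬ φ f ≤ (PCone.dom φ).ι ⁻¹ᵁ Proj.basicOpen ℬ (φ f)) (homOfLE hVD).op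
    exact congrArg (fun q => q.hom
      (fr ℬ (φ a) (φ f) (φ.2 ha) (φ.2 hf) (Proj.basicOpen ℬ (φ f))
            (notMem_of_mem_basicOpen ℬ le_rfl))) (h1.trans h2.symm)
  rw [e1, e2, key_top 𝒜 ℬ φ hf hd p hp a ha]

/-- the image of a degree one element -/
def φg (g : 𝒜 1) : ℬ 1 := ⟨φ g.1, φ.2 g.2⟩

variable (hgen : (HomogeneousIdeal.irrelevant 𝒜).toIdeal = Ideal.span (𝒜 1 : Set A))

include hgen in
theorem cover (x : (PCone.dom φ : Scheme.{u})) : ∃ g : 𝒜 1, x ∈ Dd 𝒜 ℬ φ g.1 := by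
  obtain ⟨⟨f, d, hd, hf⟩, hx⟩ := Opens.mem_iSup.mp x.2
  have hx' : φ f ∉ x.1.asHomogeneousIdeal := (Proj.mem_basicOpen ℬ _ _).1 hx
  by_contra hcon
  push Not at hcon
  apply hx'
  have hfI : f ∈ (HomogeneousIdeal.irrelevant 𝒜).toIdeal := by
    change f ∈ HomogeneousIdeal.irrelevant 𝒜
    rw [HomogeneousIdeal.mem_irrelevant_iff]
    exact DirectSum.decompose_of_mem_ne 𝒜 hf hd.ne'
  have hle : (HomogeneousIdeal.irrelevant 𝒜).toIdeal ≤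
      Ideal.comap φ x.1.asHomogeneousIdeal.toIdeal := by
    rw [hgen, Ideal.span_le]
    intro g hg
    have := hcon ⟨g, hg⟩
    change ¬ ((PCone.dom φ).ι x ∈ Proj.basicOpen ℬ (φ g)) at this
    rw [Proj.mem_basicOpen, not_not] at this
    exact this
  exact hle hfI

end Groth.Agent.Lib.Helper60.PConeLib
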