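import Groth.Agent.Lib.Helper60.PCone5

/-!
# `Φ^* O_{Proj 𝒜}(n) ≅ j^* O_{Proj ℬ}(n)`: main theorem
-/

set_option autoImplicit false
universe u
open CategoryTheory AlgebraicGeometry TopologicalSpace Opposite

namespace Groth.Agent.Lib.Helper60.PConeLib

open Groth.Agent.Lib.Helper35.Gen Groth.Agent.Lib.Helper35.PbInv Groth.Agent.Lib.Helper35.AbSheaf
open Groth.Agent.Lib.Helper60.TwistLib Groth.Agent.Lib.Helper60.ProjFrac
open Groth.Agent.Lib.Helper60.ProjUPLib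

variable {R A : Type u} [CommRing R] [CommRing A] [Algebra R A] (𝒜 : ℕ → Submodule R A) [GradedAlgebra 𝒜]
  {B : Type u} [CommRing B] [Algebra R B] (ℬ : ℕ → Submodule R B) [GradedAlgebra ℬ] (φ : 𝒜 →+*ᵍ ℬ)
  (p : (PCone.dom φ : Scheme.{u}) ⟶ Proj 𝒜)
  (hp : ∀ (d : ℕ) (f : A) (hd : 0 < d) (hf : f ∈ 𝒜 d),
      PCone.chart φ hf hd ≫ p =
        Spec.map (CommRingCat.ofHom (HomogeneousLocalization.Away.map φ f)) ≫ Proj.awayι 𝒜 f hf hd)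
  (hgen : (HomogeneousIdeal.irrelevant 𝒜).toIdeal = Ideal.span (𝒜 1 : Set A))

theorem ni_nk_pos (n : ℤ) : 0 < ni n + nk n := by unfold ni nk; omega

include hp hgen in
theorem nonempty_pullback_iso (n : ℤ) :
    Nonempty ((Scheme.Modules.pullback p).obj (Twist.twist 𝒜 n) ≅
      (Scheme.Modules.pullback (PCone.dom φ).ι).obj (Twist.twist ℬ n)) := by
  let j := (PCone.dom φ).ι
  let N := (Scheme.Modules.pullback p).obj (Twist.twist 𝒜 n)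
  let P := (Scheme.Modules.pullback j).obj (Twist.twist ℬ n)
  let D : 𝒜 1 → (PCone.dom φ : Scheme.{u}).Opens := fun g => Dd 𝒜 ℬ φ g.1
  have hD : ∀ g : 𝒜 1, D g ≤ p ⁻¹ᵁ Proj.basicOpen 𝒜 g.1 := fun g =>
    Dd_le_preimage 𝒜 ℬ φ g.2 one_pos p hp
  let t : ∀ g : 𝒜 1, Γ(N, D g) := fun g =>
    rs N (hD g) (pbSec p _ (Proj.basicOpen 𝒜 g.1) (tgen 𝒜 n g _ le_rfl))
  let s : ∀ g : 𝒜 1, Γ(P, D g) := fun g =>
    pbSec j _ (Proj.basicOpen ℬ (φ g.1)) (tgen ℬ n (φg 𝒜 ℬ φ g) _ le_rfl)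
  have ht : ∀ g, IsGen N (D g) (t g) := fun g =>
    (isGen_pbSec p _ _ _ (isGen_tgen 𝒜 n g)).mono (hD g)
  have hs : ∀ g, IsGen P (D g) (s g) := fun g =>
    isGen_pbSec j _ _ _ (isGen_tgen ℬ n (φg 𝒜 ℬ φ g))
  -- opens for the overlaps
  let W₀ : 𝒜 1 → 𝒜 1 → (Proj 𝒜).Opens := fun g g' =>
    Proj.basicOpen 𝒜 g.1 ⊓ Proj.basicOpen 𝒜 g'.1
  let W₀' : 𝒜 1 → 𝒜 1 → (Proj ℬ).Opens := fun g g' =>
    Proj.basicOpen ℬ (φ g.1) ⊓ Proj.basicOpen ℬ (φ g'.1)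
  have hV : ∀ g g', D g ⊓ D g' ≤ p ⁻¹ᵁ W₀ g g' := fun g g' x hx => ⟨hD g hx.1, hD g' hx.2⟩
  have hV' : ∀ g g', D g ⊓ D g' ≤ j ⁻¹ᵁ W₀' g g' := fun g g' x hx => ⟨hx.1, hx.2⟩
  let c : ∀ g g' : 𝒜 1, Γ((PCone.dom φ : Scheme.{u}), D g ⊓ D g') := fun g g' =>
    (j.appLE (W₀' g g') (D g ⊓ D g') (hV' g g')).hom
      (fr ℬ ((φg 𝒜 ℬ φ g').1 ^ ni n * (φg 𝒜 ℬ φ g).1 ^ nk n)
        ((φg 𝒜 ℬ φ g).1 ^ ni n * (φg 𝒜 ℬ φ g').1 ^ nk n)
        (num_mem ℬ n (φg 𝒜 ℬ φ g) (φg 𝒜 ℬ φ g')) (den_mem ℬ n (φg 𝒜 ℬ φ g) (φg 𝒜 ℬ φ g'))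
        (W₀' g g') (den_notMem ℬ n (φg 𝒜 ℬ φ g) (φg 𝒜 ℬ φ g') inf_le_left inf_le_right))
  have hsc : ∀ g g', rs P inf_le_right (s g') = c g g' • rs P inf_le_left (s g) := by
    intro g g'
    have h1 : rs P (inf_le_right : D g ⊓ D g' ≤ D g') (s g') =
        rs P (hV' g g') (pbSec j _ (W₀' g g')
          (tgen ℬ n (φg 𝒜 ℬ φ g') (W₀' g g') inf_le_right)) :=
      pb_rs j (Twist.twist ℬ n) (inf_le_right : W₀' g g' ≤ Proj.basicOpen ℬ (φ g'.1)) _ _ (hV' g g')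
    have h2 : rs P (inf_le_left : D g ⊓ D g' ≤ D g) (s g) =
        rs P (hV' g g') (pbSec j _ (W₀' g g')
          (tgen ℬ n (φg 𝒜 ℬ φ g) (W₀' g g') inf_le_left)) :=
      pb_rs j (Twist.twist ℬ n) (inf_le_left : W₀' g g' ≤ Proj.basicOpen ℬ (φ g.1)) _ _ (hV' g g')
    rw [h1, h2]
    exact pb_trans j (Twist.twist ℬ n) _ _ _
      (tgen_trans ℬ n (φg 𝒜 ℬ φ g) (φg 𝒜 ℬ φ g') (W₀' g g') inf_le_left inf_le_right) _ (hV' g g')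
  have htc : ∀ g g', rs N inf_le_right (t g') = c g g' • rs N inf_le_left (t g) := by
    intro g g'
    have h1 : rs N (inf_le_right : D g ⊓ D g' ≤ D g') (t g') =
        rs N (hV g g') (pbSec p _ (W₀ g g') (tgen 𝒜 n g' (W₀ g g') inf_le_right)) := by
      have := pb_rs p (Twist.twist 𝒜 n) (inf_le_right : W₀ g g' ≤ Proj.basicOpen 𝒜 g'.1)
        (tgen 𝒜 n g' _ le_rfl) _ (hV g g')
      refine Eq.trans ?_ this
      exact rs_rs N _ _ _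
    have h2 : rs N (inf_le_left : D g ⊓ D g' ≤ D g) (t g) =
        rs N (hV g g') (pbSec p _ (W₀ g g') (tgen 𝒜 n g (W₀ g g') inf_le_left)) := by
      have := pb_rs p (Twist.twist 𝒜 n) (inf_le_left : W₀ g g' ≤ Proj.basicOpen 𝒜 g.1)
        (tgen 𝒜 n g _ le_rfl) _ (hV g g')
      refine Eq.trans ?_ this
      exact rs_rs N _ _ _
    rw [h1, h2]
    refine (pb_trans p (Twist.twist 𝒜 n) _ _ _
      (tgen_trans 𝒜 n g g' (W₀ g g') inf_le_left inf_le_right) _ (hV g g')).trans ?_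
    congr 1
    have hk := key 𝒜 ℬ φ p hp (den_mem 𝒜 n g g') (ni_nk_pos n) _ (num_mem 𝒜 n g g')
      (W₀ g g') (le_basicOpen_den 𝒜 n g g' inf_le_left inf_le_right)
      (W₀' g g') (by
        have := le_basicOpen_den ℬ n (φg 𝒜 ℬ φ g) (φg 𝒜 ℬ φ g')
          (inf_le_left : W₀' g g' ≤ _) (inf_le_right : W₀' g g' ≤ _)
        refine this.trans (le_of_eq ?_)
        congr 1
        simp [φg]) (D g ⊓ D g') (hV g g') (hV' g g')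
    refine hk.trans ?_
    apply congrArg
    apply fr_congr
    · simp [φg]
    · simp [φg]
  exact nonempty_iso_of_gens ht hs c htc hsc (cover 𝒜 ℬ φ hgen)

end Groth.Agent.Lib.Helper60.PConeLib
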