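import Groth.Agent.Lib.Helper60.SecKer3
import Groth.Agent.Lib.Helper2.RankSections

/-!
# Sections of projective space over an affine base: algebraic bridge
-/

set_option autoImplicit false
universe u
open CategoryTheory CategoryTheory.Limits AlgebraicGeometry TopologicalSpace Opposite

namespace Groth.Agent.Lib.Helper60.SecKer

open Groth.Agent.Lib.Helper35.Gen Groth.Agent.Lib.Helper35.AbSheaf
open Groth.Agent.Lib.Helper60.ProjUPLib

section Alg

/-- the rank at a prime is invariant under semilinear equivalences over a ring isomorphism -/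
theorem rankAtStalk_of_semilinearEquiv {R S M N : Type*} [CommRing R] [CommRing S]
    [AddCommGroup M] [AddCommGroup N] [Module R M] [Module S N] {σ : R →+* S} {σ' : S →+* R}
    [RingHomInvPair σ σ'] [RingHomInvPair σ' σ] [Module.Finite R M] [Module.Flat R M]
    (e : M ≃ₛₗ[σ] N) (q : PrimeSpectrum S) :
    Module.rankAtStalk N q = Module.rankAtStalk M (q.comap σ) := by
  letI : Module R N := Module.compHom N σ
  letI : Algebra R S := σ.toAlgebra
  haveI : IsScalarTower R S N := IsScalarTower.of_algebraMap_smul fun _ _ => rfl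
  let e' : M ≃ₗ[R] N :=
    { toFun := e
      invFun := e.symm
      left_inv := e.left_inv
      right_inv := e.right_inv
      map_add' := e.map_add
      map_smul' := fun r m => e.map_smulₛₗ r m }
  haveI : Module.Finite R N := Module.Finite.equiv e'
  haveI : Module.Flat R N := Module.Flat.of_linearEquiv e'.symm
  have hbij : Function.Bijective (algebraMap R S) := by
    change Function.Bijective σ
    exact (RingHomInvPair.toRingEquiv σ σ').bijective
  haveI : IsLocalization (⊥ : Submonoid R) S := by
    refine IsLocalization.of_le_isUnit_of_bijective ?_ hbij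
    rintro _ ⟨x, hx, rfl⟩
    rw [Submonoid.mem_bot.1 hx, map_one]
    exact isUnit_one
  haveI := isLocalizedModule_id (⊥ : Submonoid R) N S
  have hbc : IsBaseChange S (LinearMap.id : N →ₗ[R] N) :=
    (isLocalizedModule_iff_isBaseChange (⊥ : Submonoid R) S _).1 inferInstance
  rw [Module.rankAtStalk_isBaseChange hbc q, Module.rankAtStalk_eq_of_equiv e']
  rfl

end Alg

section inst

variable {R : Type u} [CommRing R]

instance invPair_inv_hom : RingHomInvPair (Scheme.ΓSpecIso (CommRingCat.of R)).inv.hom
    (Scheme.ΓSpecIso (CommRingCat.of R)).hom.hom :=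
  ⟨by ext x; exact congr($((Scheme.ΓSpecIso (CommRingCat.of R)).inv_hom_id) x),
    by ext x; exact congr($((Scheme.ΓSpecIso (CommRingCat.of R)).hom_inv_id) x)⟩

instance invPair_hom_inv : RingHomInvPair (Scheme.ΓSpecIso (CommRingCat.of R)).hom.hom
    (Scheme.ΓSpecIso (CommRingCat.of R)).inv.hom :=
  ⟨by ext x; exact congr($((Scheme.ΓSpecIso (CommRingCat.of R)).hom_inv_id) x),
    by ext x; exact congr($((Scheme.ΓSpecIso (CommRingCat.of R)).inv_hom_id) x)⟩

end inst

section fwd

variable {R : Type u} [CommRing R] (n : ℕ) (s : Spec (CommRingCat.of R) ⟶ CohB1.ProjSpace n R)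

/-- the semilinear map `c ↦ Σ c_i s^*T_i` -/
noncomputable def Phi : (Fin (n + 1) → R) →ₛₗ[(Scheme.ΓSpecIso (CommRingCat.of R)).inv.hom]
    Γ((Scheme.Modules.pullback s).obj (Twist.twistProjSpace n R 1), ⊤) where
  toFun c := ∑ i, (Scheme.ΓSpecIso (CommRingCat.of R)).inv.hom (c i) • tsec n s i
  map_add' c c' := by
    simp only [Pi.add_apply, map_add, add_smul, Finset.sum_add_distrib]
  map_smul' r c := by
    simp only [Pi.smul_apply, smul_eq_mul, map_mul, mul_smul, Finset.smul_sum]

theorem Phi_apply (c : Fin (n + 1) → R) :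
    Phi n s c = ∑ i, (Scheme.ΓSpecIso (CommRingCat.of R)).inv.hom (c i) • tsec n s i := rfl

theorem mem_secKernel_iff_Phi (c : Fin (n + 1) → R) :
    c ∈ ProjUP.secKernel n R s ↔ Phi n s c = 0 := mem_secKernel_iff n s c

theorem isQuasicoherent_pullback_twist :
    ((Scheme.Modules.pullback s).obj (Twist.twistProjSpace n R 1)).IsQuasicoherent :=
  Groth.Agent.Lib.Helper35.Ample.isQuasicoherent_of_isInvertible (isInvertible_pullback_twist n s)

theorem Phi_surjective : Function.Surjective (Phi n s) := by
  intro m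
  haveI := isQuasicoherent_pullback_twist n s
  have hspan := span_eq_top_of_genOpen (tsec n s) (exists_mem_genOpen_tsec n s)
  have hm : m ∈ Submodule.span Γ(Spec (CommRingCat.of R), ⊤) (Set.range (tsec n s)) := by
    rw [hspan]; trivial
  obtain ⟨a, ha⟩ := (Submodule.mem_span_range_iff_exists_fun _).mp hm
  refine ⟨fun i => (Scheme.ΓSpecIso (CommRingCat.of R)).hom.hom (a i), ?_⟩
  rw [Phi_apply, ← ha]
  refine Finset.sum_congr rfl (fun i _ => ?_)
  congr 1
  exact congrArg (fun φ => φ.hom (a i)) (Scheme.ΓSpecIso (CommRingCat.of R)).hom_inv_id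

/-- `R^{n+1}/F(s) ≅ Γ(s^*O(1))` -/
noncomputable def quotEquiv : ((Fin (n + 1) → R) ⧸ ProjUP.secKernel n R s)
    ≃ₛₗ[(Scheme.ΓSpecIso (CommRingCat.of R)).inv.hom]
    Γ((Scheme.Modules.pullback s).obj (Twist.twistProjSpace n R 1), ⊤) :=
  LinearEquiv.ofBijective
    ((ProjUP.secKernel n R s).liftQ (Phi n s)
      (fun c hc => (mem_secKernel_iff_Phi n s c).mp hc))
    ⟨by
      rw [← LinearMap.ker_eq_bot, LinearMap.ker_eq_bot']
      intro x hx
      induction x using Submodule.Quotient.induction_on with
      | H c =>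
        rw [Submodule.liftQ_apply] at hx
        exact (Submodule.Quotient.mk_eq_zero _).mpr ((mem_secKernel_iff_Phi n s c).mpr hx),
    by
      intro m
      obtain ⟨c, hc⟩ := Phi_surjective n s m
      exact ⟨Submodule.Quotient.mk c, by rw [Submodule.liftQ_apply]; exact hc⟩⟩

open Groth.Agent.Lib.Helper2.FinLocFreeAff Groth.Agent.Lib.Helper2.RankSections in
/-- the forward direction: `R^{n+1}/F(s)` is invertible -/
theorem projective_and_rank :
    Module.Projective R ((Fin (n + 1) → R) ⧸ ProjUP.secKernel n R s) ∧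
      ∀ p : PrimeSpectrum R, Module.finrank (Localization.AtPrime p.asIdeal)
        (LocalizedModule p.asIdeal.primeCompl
          ((Fin (n + 1) → R) ⧸ ProjUP.secKernel n R s)) = 1 := by
  haveI := isQuasicoherent_pullback_twist n s
  have hF1 : FlatMod.IsFinLocFreeOfRank 1
      ((Scheme.Modules.pullback s).obj (Twist.twistProjSpace n R 1)) := by
    intro x
    obtain ⟨U, hxU, ⟨e⟩⟩ := isInvertible_pullback_twist n s x
    exact ⟨U, hxU, ⟨e ≪≫ (coproductUniqueIso (fun _ : Fin 1 => Coh.structureModule _)).symm⟩⟩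
  have hTop := isAffineOpen_top (Spec (CommRingCat.of R))
  haveI hfp := finitePresentation_sections_of_isFinLocFree _ (isFinLocFree_of_rank hF1) hTop
  haveI hproj := projective_sections_of_isFinLocFree _ (isFinLocFree_of_rank hF1) hTop
  refine ⟨Module.Projective.of_equiv (quotEquiv n s).symm, fun p => ?_⟩
  have h1 := rankAtStalk_of_semilinearEquiv (quotEquiv n s).symm p
  exact h1.trans (rankAtStalk_sections_eq _ 1 hF1 hTop _)

end fwd

section poly'

variable {R : Type u} [CommRing R] (n : ℕ) {X : Scheme.{u}}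
    (q : X ⟶ Spec (CommRingCat.of R)) (L : X.Modules)
    (s : Fin (n + 1) → ProjUP.Γm L) (hcov : ∀ x : X, ∃ i, x ∈ genOpen L (s i))

include hcov in
/-- Existence in the universal property of projective space, from local generation. -/
theorem exists_projSpace' :
    ∃ (r : X ⟶ CohB1.ProjSpace n R) (_ : r ≫ CohB1.ProjSpace.toSpec n R = q)
      (τ : (Scheme.Modules.pullback r).obj (Twist.twistProjSpace n R 1) ≅ L),
      ∀ i, (τ.hom.app ⊤).hom (tsec n r i) = s i := by
  have hadj : Algebra.adjoin R (Set.range (fun i : Fin (n + 1) =>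
      (MvPolynomial.X i : MvPolynomial (Fin (n + 1)) R))) = ⊤ := MvPolynomial.adjoin_range_X
  let XX : Fin (n + 1) → X.Opens := fun i => genOpen L (s i)
  have hgenL : ∀ i, IsGen L (XX i) (rs L le_top (s i)) := fun i => isGen_genOpen L (s i)
  let φ : ∀ i, MvPolynomial (Fin (n + 1)) R →+* Γ(X, XX i) := fun i =>
    MvPolynomial.eval₂Hom ((rr X (le_top : XX i ≤ ⊤)).comp (ProjUP.toGlobal q))
      (fun j => HomOfGen.coef (hgenL i) (XX i) le_rfl (rs L le_top (s j)))
  have hφc : ∀ i (c : R), φ i (algebraMap R _ c) = rr X le_top (ProjUP.toGlobal q c) := by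
    intro i c
    change MvPolynomial.eval₂ _ _ (MvPolynomial.C c) = _
    rw [MvPolynomial.eval₂_C]
    rfl
  have hφv : ∀ i j, rs L (le_top : XX i ≤ ⊤) (s j) =
      φ i (MvPolynomial.X j) • rs L le_top (s i) := by
    intro i j
    have h1 : φ i (MvPolynomial.X j) =
        HomOfGen.coef (hgenL i) (XX i) le_rfl (rs L le_top (s j)) := MvPolynomial.eval₂_X _ _ _
    rw [h1]
    have h2 := HomOfGen.coef_spec (hgenL i) (XX i) le_rfl (rs L le_top (s j))
    rw [rs_self] at h2
    exact h2.symm
  exact exists_morphism_iso (CohB1.polyGrading n R) q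
    (fun i : Fin (n + 1) => (MvPolynomial.X i : MvPolynomial (Fin (n + 1)) R))
    (fun i => MvPolynomial.isHomogeneous_X R i) hadj s XX hgenL hcov φ hφc hφv

end poly'

end Groth.Agent.Lib.Helper60.SecKer
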