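import Groth.Agent.Lib.Helper60.SecKer4
import Groth.Agent.Lib.Helper60.PbComp

/-!
# Generation of `Γ(Proj, D₊(f))` and a closed immersion criterion for morphisms to `Proj`
-/

set_option autoImplicit false
universe u
open CategoryTheory CategoryTheory.Limits AlgebraicGeometry TopologicalSpace Opposite

namespace Groth.Agent.Lib.Helper60.Segre

open Groth.Agent.Lib.Helper35.Gen Groth.Agent.Lib.Helper35.AbSheaf
open Groth.Agent.Lib.Helper60.ProjUPLib Groth.Agent.Lib.Helper60.TwistLib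
open Groth.Agent.Lib.Helper60.ProjFrac Groth.Agent.Lib.Helper60.SecKer
open Groth.Agent.Lib.Helper60.PbComp Groth.Agent.Lib.Helper35.PbInv

variable {R A : Type u} [CommRing R] [CommRing A] [Algebra R A] (𝒜 : ℕ → Submodule R A)
  [GradedAlgebra 𝒜]

section gen

variable {ι : Type*} (g : ι → A) (hg : ∀ i, g i ∈ 𝒜 1) (hgen : Algebra.adjoin R (Set.range g) = ⊤)
variable {f : A} (hf : f ∈ 𝒜 1) (S : Subring Γ(Proj 𝒜, Proj.basicOpen 𝒜 f))
  (h1 : ∀ i, fr 𝒜 (g i) f (hg i) hf (Proj.basicOpen 𝒜 f) (notMem_of_mem_basicOpen 𝒜 le_rfl) ∈ S)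
  (h0 : ∀ c : R, fr 𝒜 (algebraMap R A c) 1 (SetLike.algebraMap_mem_graded 𝒜 c)
      SetLike.GradedOne.one_mem (Proj.basicOpen 𝒜 f) (fun y _ => one_notMem 𝒜 y) ∈ S)

include hg h1 in
theorem gen_aux_closure (a : A) (ha : a ∈ Submonoid.closure (Set.range g)) :
    ∃ (n : ℕ) (han : a ∈ 𝒜 n),
      fr 𝒜 a (f ^ n) han (pow_mem_deg 𝒜 hf n) (Proj.basicOpen 𝒜 f) (pow_notMem 𝒜 le_rfl n) ∈ S := by
  induction ha using Submonoid.closure_induction with
  | mem a ha =>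
    obtain ⟨i, rfl⟩ := ha
    refine ⟨1, hg i, ?_⟩
    have e : fr 𝒜 (g i) (f ^ 1) (hg i) (pow_mem_deg 𝒜 hf 1) (Proj.basicOpen 𝒜 f)
        (pow_notMem 𝒜 le_rfl 1) =
        fr 𝒜 (g i) f (hg i) hf (Proj.basicOpen 𝒜 f) (notMem_of_mem_basicOpen 𝒜 le_rfl) :=
      fr_congr 𝒜 _ _ _ _ _ _ _ rfl (pow_one f)
    rw [e]
    exact h1 i
  | one =>
    refine ⟨0, SetLike.GradedOne.one_mem, ?_⟩
    have e : fr 𝒜 1 (f ^ 0) SetLike.GradedOne.one_mem (pow_mem_deg 𝒜 hf 0) (Proj.basicOpen 𝒜 f)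
        (pow_notMem 𝒜 le_rfl 0) = 1 := by
      rw [← fr_self 𝒜 1 SetLike.GradedOne.one_mem (Proj.basicOpen 𝒜 f) (fun y _ => one_notMem 𝒜 y)]
      exact fr_congr 𝒜 _ _ _ _ _ _ _ rfl (pow_zero f)
    rw [e]
    exact one_mem S
  | mul a b _ _ iha ihb =>
    obtain ⟨n, han, hn⟩ := iha
    obtain ⟨m, hbm, hm⟩ := ihb
    refine ⟨n + m, SetLike.GradedMul.mul_mem han hbm, ?_⟩
    have e : fr 𝒜 (a * b) (f ^ (n + m)) (SetLike.GradedMul.mul_mem han hbm)
        (pow_mem_deg 𝒜 hf (n + m)) (Proj.basicOpen 𝒜 f) (pow_notMem 𝒜 le_rfl (n + m)) =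
        fr 𝒜 a (f ^ n) han (pow_mem_deg 𝒜 hf n) (Proj.basicOpen 𝒜 f) (pow_notMem 𝒜 le_rfl n) *
        fr 𝒜 b (f ^ m) hbm (pow_mem_deg 𝒜 hf m) (Proj.basicOpen 𝒜 f) (pow_notMem 𝒜 le_rfl m) := by
      rw [fr_mul]
      exact fr_congr 𝒜 _ _ _ _ _ _ _ rfl (pow_add f n m)
    rw [e]
    exact mul_mem hn hm

include hg h1 h0 hgen in
theorem gen_aux (a : A) (n : ℕ) :
    fr 𝒜 (DirectSum.decompose 𝒜 a n : A) (f ^ n) (DirectSum.decompose 𝒜 a n).2
        (pow_mem_deg 𝒜 hf n) (Proj.basicOpen 𝒜 f) (pow_notMem 𝒜 le_rfl n) ∈ S := by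
  have ha : a ∈ Submodule.span R (Submonoid.closure (Set.range g) : Set A) := by
    rw [← Algebra.adjoin_eq_span, hgen]; trivial
  induction ha using Submodule.span_induction with
  | mem a ha =>
    obtain ⟨n₀, han, hn⟩ := gen_aux_closure 𝒜 g hg hf S h1 a ha
    by_cases hnn : n = n₀
    · subst hnn
      have e : fr 𝒜 (DirectSum.decompose 𝒜 a n : A) (f ^ n) (DirectSum.decompose 𝒜 a n).2
          (pow_mem_deg 𝒜 hf n) (Proj.basicOpen 𝒜 f) (pow_notMem 𝒜 le_rfl n) =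
          fr 𝒜 a (f ^ n) han (pow_mem_deg 𝒜 hf n) (Proj.basicOpen 𝒜 f)
            (pow_notMem 𝒜 le_rfl n) :=
        fr_congr 𝒜 _ _ _ _ _ _ _ (DirectSum.decompose_of_mem_same 𝒜 han) rfl
      rw [e]
      exact hn
    · have e : fr 𝒜 (DirectSum.decompose 𝒜 a n : A) (f ^ n) (DirectSum.decompose 𝒜 a n).2
          (pow_mem_deg 𝒜 hf n) (Proj.basicOpen 𝒜 f) (pow_notMem 𝒜 le_rfl n) = 0 := by
        rw [← fr_zero 𝒜 (f ^ n) (pow_mem_deg 𝒜 hf n) (Proj.basicOpen 𝒜 f) (pow_notMem 𝒜 le_rfl n)]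
        exact fr_congr 𝒜 _ _ _ _ _ _ _
          (DirectSum.decompose_of_mem_ne 𝒜 han (fun h => hnn h.symm)) rfl
      rw [e]
      exact zero_mem S
  | zero =>
    have e : fr 𝒜 (DirectSum.decompose 𝒜 (0 : A) n : A) (f ^ n) (DirectSum.decompose 𝒜 (0 : A) n).2
        (pow_mem_deg 𝒜 hf n) (Proj.basicOpen 𝒜 f) (pow_notMem 𝒜 le_rfl n) = 0 := by
      rw [← fr_zero 𝒜 (f ^ n) (pow_mem_deg 𝒜 hf n) (Proj.basicOpen 𝒜 f) (pow_notMem 𝒜 le_rfl n)]
      refine fr_congr 𝒜 _ _ _ _ _ _ _ ?_ rfl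
      rw [DirectSum.decompose_zero]
      rfl
    rw [e]
    exact zero_mem S
  | add a b _ _ iha ihb =>
    have e : fr 𝒜 (DirectSum.decompose 𝒜 (a + b) n : A) (f ^ n)
        (DirectSum.decompose 𝒜 (a + b) n).2
        (pow_mem_deg 𝒜 hf n) (Proj.basicOpen 𝒜 f) (pow_notMem 𝒜 le_rfl n) =
        fr 𝒜 (DirectSum.decompose 𝒜 a n : A) (f ^ n) (DirectSum.decompose 𝒜 a n).2
          (pow_mem_deg 𝒜 hf n) (Proj.basicOpen 𝒜 f) (pow_notMem 𝒜 le_rfl n) +
        fr 𝒜 (DirectSum.decompose 𝒜 b n : A) (f ^ n) (DirectSum.decompose 𝒜 b n).2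
          (pow_mem_deg 𝒜 hf n) (Proj.basicOpen 𝒜 f) (pow_notMem 𝒜 le_rfl n) := by
      rw [fr_add]
      refine fr_congr 𝒜 _ _ _ _ _ _ _ ?_ rfl
      rw [DirectSum.decompose_add]
      rfl
    rw [e]
    exact add_mem iha ihb
  | smul c a _ iha =>
    have e : fr 𝒜 (DirectSum.decompose 𝒜 (c • a) n : A) (f ^ n)
        (DirectSum.decompose 𝒜 (c • a) n).2
        (pow_mem_deg 𝒜 hf n) (Proj.basicOpen 𝒜 f) (pow_notMem 𝒜 le_rfl n) =
        fr 𝒜 (algebraMap R A c) 1 (SetLike.algebraMap_mem_graded 𝒜 c)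
          SetLike.GradedOne.one_mem (Proj.basicOpen 𝒜 f) (fun y _ => one_notMem 𝒜 y) *
        fr 𝒜 (DirectSum.decompose 𝒜 a n : A) (f ^ n) (DirectSum.decompose 𝒜 a n).2
          (pow_mem_deg 𝒜 hf n) (Proj.basicOpen 𝒜 f) (pow_notMem 𝒜 le_rfl n) := by
      rw [fr_mul]
      apply fr_eq_of_mul_eq
      rw [DirectSum.decompose_smul]
      change (c • (DirectSum.decompose 𝒜 a n : A)) * _ = _
      rw [Algebra.smul_def, one_mul]
    rw [e]
    exact mul_mem (h0 c) iha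

include hg h1 h0 hgen hf in
/-- a subring of `Γ(Proj, D₊(f))` containing the `gᵢ/f` and the constants is everything -/
theorem subring_eq_top : S = ⊤ := by
  rw [eq_top_iff]
  intro s _
  have hiso : IsIso (Proj.awayToSection 𝒜 f) := (Proj.basicOpenIsoAway 𝒜 f hf one_pos).isIso_hom
  obtain ⟨z, rfl⟩ := (ConcreteCategory.bijective_of_isIso (Proj.awayToSection 𝒜 f)).2 s
  obtain ⟨n, a, ha, rfl⟩ := HomogeneousLocalization.Away.mk_surjective 𝒜 hf z
  have han : a ∈ 𝒜 n := by simpa using ha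
  change (Proj.awayToSection 𝒜 f).hom _ ∈ S
  rw [awayToSection_mk]
  have e : fr 𝒜 a (f ^ n) ha (SetLike.pow_mem_graded n hf) (Proj.basicOpen 𝒜 f)
      (pow_notMem 𝒜 le_rfl n) =
      fr 𝒜 (DirectSum.decompose 𝒜 a n : A) (f ^ n) (DirectSum.decompose 𝒜 a n).2
        (pow_mem_deg 𝒜 hf n) (Proj.basicOpen 𝒜 f) (pow_notMem 𝒜 le_rfl n) :=
    fr_congr 𝒜 _ _ _ _ _ _ _ (DirectSum.decompose_of_mem_same 𝒜 han).symm rfl
  rw [e]
  exact gen_aux 𝒜 g hg hgen hf S h1 h0 a n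

end gen

section crit

variable {ι : Type*} (g : ι → A) (hg : ∀ i, g i ∈ 𝒜 1) (hgen : Algebra.adjoin R (Set.range g) = ⊤)
variable {X : Scheme.{u}} (r : X ⟶ Proj 𝒜)

include hg hgen in
theorem preimage_basicOpen_eq_genOpen (b : 𝒜 1) :
    r ⁻¹ᵁ Proj.basicOpen 𝒜 b.1 =
      genOpen ((Scheme.Modules.pullback r).obj (Twist.twist 𝒜 ((1 : ℕ) : ℤ))) (psec 𝒜 r b) := by
  apply le_antisymm
  · exact le_genOpen _ _ _ (isGen_psec 𝒜 r b)
  · exact le_preimage_of_isGen_psec 𝒜 g hg hgen r b _ (isGen_genOpen _ _)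

theorem app_surjective_of_eq {X Y : Scheme.{u}} (f : X ⟶ Y) {U V : Y.Opens} (h : U = V)
    (hs : Function.Surjective (f.app U)) : Function.Surjective (f.app V) := by
  subst h
  exact hs

include hgen in
/-- **Closed immersion criterion** for a morphism to `Proj` in terms of the standard charts. -/
theorem isClosedImmersion_of_charts
    (haff : ∀ i, IsAffineOpen (r ⁻¹ᵁ Proj.basicOpen 𝒜 (g i)))
    (hsurj : ∀ i (S : Subring Γ(X, r ⁻¹ᵁ Proj.basicOpen 𝒜 (g i))),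
      (∀ j, cfun 𝒜 r ⟨g j, hg j⟩ ⟨g i, hg i⟩ ∈ S) →
      (∀ c : R, rr X le_top (ProjUP.toGlobal (r ≫ strMap 𝒜) c) ∈ S) → S = ⊤) :
    IsClosedImmersion r := by
  have hsup : (⨆ i, Proj.basicOpen 𝒜 (g i)) = ⊤ := by
    rw [eq_top_iff]
    intro y _
    obtain ⟨i, hi⟩ := exists_mem_basicOpen 𝒜 g hgen y
    exact Opens.mem_iSup.mpr ⟨i, hi⟩
  rw [IsZariskiLocalAtTarget.iff_of_iSup_eq_top (P := @IsClosedImmersion) _ hsup]
  intro i
  have : IsAffine ↑(r ⁻¹ᵁ Proj.basicOpen 𝒜 (g i)) := haff i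
  have : IsAffine ↑(Proj.basicOpen 𝒜 (g i)) := Proj.isAffineOpen_basicOpen 𝒜 (g i) (hg i) one_pos
  apply IsClosedImmersion.of_surjective_of_isAffine
  rw [morphismRestrict_appTop]
  have h1 : Function.Surjective (r.app (Proj.basicOpen 𝒜 (g i))) := by
    have hS := hsurj i (r.app (Proj.basicOpen 𝒜 (g i))).hom.range ?_ ?_
    · intro s
      have : s ∈ (r.app (Proj.basicOpen 𝒜 (g i))).hom.range := by rw [hS]; trivial
      exact this
    · intro j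
      exact ⟨_, rfl⟩
    · intro c
      have h2 := appLE_const 𝒜 r (D := Proj.basicOpen 𝒜 (g i)) (W := r ⁻¹ᵁ Proj.basicOpen 𝒜 (g i))
        le_rfl c
      rw [appLE_apply] at h2
      refine ⟨fr 𝒜 (algebraMap R A c) 1 (SetLike.algebraMap_mem_graded 𝒜 c)
          SetLike.GradedOne.one_mem (Proj.basicOpen 𝒜 (g i)) (fun y _ => one_notMem 𝒜 y), ?_⟩
      rw [← h2]
      exact (rr_self _).symm
  have h2 := app_surjective_of_eq r (Scheme.Opens.ι_image_top (Proj.basicOpen 𝒜 (g i))).symm h1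
  change Function.Surjective ((X.presheaf.map (eqToHom _).op).hom ∘
    (r.app ((Proj.basicOpen 𝒜 (g i)).ι ''ᵁ ⊤)).hom)
  refine Function.Surjective.comp ?_ h2
  exact (ConcreteCategory.bijective_of_isIso (X.presheaf.map (eqToHom _).op)).2

end crit

section crit'

variable {R : Type u} [CommRing R] (N : ℕ) {X : Scheme.{u}} {L : X.Modules}
  (r : X ⟶ CohB1.ProjSpace N R)
  (τ : (Scheme.Modules.pullback r).obj (Twist.twistProjSpace N R 1) ≅ L)
  (v : Fin (N + 1) → Γ(L, ⊤)) (hτ : ∀ i, (τ.hom.app ⊤).hom (tsec N r i) = v i)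

/-- the standard chart of projective space -/
noncomputable abbrev Dp (i : Fin (N + 1)) : (CohB1.ProjSpace N R).Opens :=
  Proj.basicOpen (CohB1.polyGrading N R) (MvPolynomial.X i)

theorem genOpen_map_iso {M M' : X.Modules} (e : M ≅ M') (s : Γ(M, ⊤)) :
    genOpen M' ((e.hom.app ⊤).hom s) = genOpen M s := by
  apply le_antisymm
  · apply le_genOpen
    have h1 := IsGen.map_iso e.symm (isGen_genOpen M' ((e.hom.app ⊤).hom s))
    have h2 : (e.symm.hom.app ⊤).hom ((e.hom.app ⊤).hom s) = s :=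
      congrArg (fun φ => (Scheme.Modules.Hom.app φ ⊤).hom s) e.hom_inv_id
    rwa [hom_rs, h2] at h1
  · apply le_genOpen
    have h1 := IsGen.map_iso e (isGen_genOpen M s)
    rwa [hom_rs] at h1

include hτ in
theorem preimage_Dp_eq_genOpen (i : Fin (N + 1)) : r ⁻¹ᵁ Dp N i = genOpen L (v i) := by
  have hgen : Algebra.adjoin R (Set.range (fun i : Fin (N + 1) =>
      (MvPolynomial.X i : MvPolynomial (Fin (N + 1)) R))) = ⊤ := MvPolynomial.adjoin_range_X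
  rw [← hτ i, genOpen_map_iso τ]
  exact preimage_basicOpen_eq_genOpen (CohB1.polyGrading N R)
    (fun i : Fin (N + 1) => (MvPolynomial.X i : MvPolynomial (Fin (N + 1)) R))
    (fun i => MvPolynomial.isHomogeneous_X R i) hgen r
    ⟨MvPolynomial.X i, MvPolynomial.isHomogeneous_X R i⟩

include hτ in
/-- **Closed immersion criterion** for the morphism to projective space defined by sections `v`
of an invertible module. -/
theorem isClosedImmersion_of_sections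
    (haff : ∀ i, IsAffineOpen (r ⁻¹ᵁ Dp N i))
    (hsurj : ∀ i (S : Subring Γ(X, r ⁻¹ᵁ Dp N i)),
      (∀ j (c : Γ(X, r ⁻¹ᵁ Dp N i)), rs L (le_top : r ⁻¹ᵁ Dp N i ≤ ⊤) (v j) =
        c • rs L (le_top : r ⁻¹ᵁ Dp N i ≤ ⊤) (v i) → c ∈ S) →
      (∀ c : R, rr X le_top (ProjUP.toGlobal (r ≫ CohB1.ProjSpace.toSpec N R) c) ∈ S) → S = ⊤) :
    IsClosedImmersion r := by
  have hgen : Algebra.adjoin R (Set.range (fun i : Fin (N + 1) =>
      (MvPolynomial.X i : MvPolynomial (Fin (N + 1)) R))) = ⊤ := MvPolynomial.adjoin_range_X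
  refine isClosedImmersion_of_charts (CohB1.polyGrading N R)
    (fun i : Fin (N + 1) => (MvPolynomial.X i : MvPolynomial (Fin (N + 1)) R))
    (fun i => MvPolynomial.isHomogeneous_X R i) hgen r haff ?_
  intro i S h1 h0
  refine hsurj i S ?_ h0
  intro j c hc
  have h3 : (τ.hom.app ⊤).hom (psec (CohB1.polyGrading N R) r
      ⟨MvPolynomial.X j, MvPolynomial.isHomogeneous_X R j⟩) = v j := hτ j
  have h4 : (τ.hom.app ⊤).hom (psec (CohB1.polyGrading N R) r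
      ⟨MvPolynomial.X i, MvPolynomial.isHomogeneous_X R i⟩) = v i := hτ i
  have e1 := rs_psec_eq_smul (CohB1.polyGrading N R) r
      ⟨MvPolynomial.X j, MvPolynomial.isHomogeneous_X R j⟩
      ⟨MvPolynomial.X i, MvPolynomial.isHomogeneous_X R i⟩
  obtain ⟨c0, hc0⟩ : ∃ c0 : Γ(X, r ⁻¹ᵁ Dp N i), c0 = cfun (CohB1.polyGrading N R) r
        ⟨MvPolynomial.X j, MvPolynomial.isHomogeneous_X R j⟩
        ⟨MvPolynomial.X i, MvPolynomial.isHomogeneous_X R i⟩ := ⟨_, rfl⟩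
  have h2 : rs L (le_top : r ⁻¹ᵁ Dp N i ≤ ⊤) (v j) =
      c0 • rs L (le_top : r ⁻¹ᵁ Dp N i ≤ ⊤) (v i) := by
    rw [← h3, ← h4, ← hom_rs, ← hom_rs, hc0]
    refine (congrArg (τ.hom.app (r ⁻¹ᵁ Dp N i)).hom e1).trans ?_
    exact Scheme.Modules.Hom.app_smul τ.hom _ _
  have hgi : IsGen L (r ⁻¹ᵁ Dp N i) (rs L le_top (v i)) := by
    rw [← h4, ← hom_rs]
    exact IsGen.map_iso τ (isGen_psec (CohB1.polyGrading N R) r
      ⟨MvPolynomial.X i, MvPolynomial.isHomogeneous_X R i⟩)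
  have hceq : c = c0 := hgi.smul_injective (hc.symm.trans h2)
  rw [hceq, hc0]
  exact h1 j

end crit'

end Groth.Agent.Lib.Helper60.Segre
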