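import Mathlib
import Groth.Prelude.Def_CohB1
import Groth.Agent.Lib.Helper93.ProjNN2
import Groth.Agent.Lib.Helper60.Seg1
import Groth.Agent.Lib.Helper60.SecKer4

/-!
# Projective Noether normalisation with control of `O(1)` (helper60)

Built on helper93's `ProjNN` (linear forms missing a closed subset, dimension bookkeeping `pdim`)
and on the functor of points of projective space (`SecKer.exists_projSpace'`).
-/

set_option autoImplicit false
open AlgebraicGeometry TopologicalSpace Topology Order CategoryTheory

namespace Groth.Agent.Lib.Helper60.PNN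

open Groth.Agent.Lib.Helper93.ProjDim Groth.Agent.Lib.Helper93.ProjAvoid
open Groth.Agent.Lib.Helper93.ProjNN
open Groth.Agent.Lib.Helper60.ProjUPLib Groth.Agent.Lib.Helper60.SecKer
open Groth.Agent.Lib.Helper60.Segre Groth.Agent.Lib.Helper35.Gen

universe u

section surj

variable (n : ℕ) (k : Type u) [Field k]

/-- A quasi-finite closed map from a `d`-dimensional closed subscheme of `P^n_k` to `P^d_k` is
surjective. (helper93's argument in `ProjNN.exists_finite_surjective`, for an arbitrary map.) -/
theorem surjective_of_quasiFinite {X : Scheme.{u}}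
    (ι : X ⟶ Proj (CohB1.polyGrading n k))
    [IsClosedImmersion ι] (d : ℕ) (hd : topologicalKrullDim X = d)
    (π : X ⟶ Proj (CohB1.polyGrading d k)) [LocallyQuasiFinite π]
    (hcl : IsClosedMap π.base) : Function.Surjective π.base := by
  have hmaxd := irrelevant_isMaximal d k
  have hmaxn := irrelevant_isMaximal n k
  have hZ : IsClosed (Set.range ι.base) := ι.isClosedEmbedding.isClosed_range
  have hdimZ : topologicalKrullDim ↥(Set.range ι.base) = d := by
    rw [← hd]
    exact (IsHomeomorph.topologicalKrullDim_eq _
      ι.isClosedEmbedding.isEmbedding.toHomeomorph.isHomeomorph).symm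
  have key : ∀ m : ℕ, ∀ a : X, pdim (ι.base a) = m → m ≤ pdim (π.base a) := by
    intro m
    induction m with
    | zero => intros; exact Nat.zero_le _
    | succ m ih =>
      intro a ha
      obtain ⟨y, hay, hy⟩ := pdim_step n k (ι.base a) (by omega)
      have hyZ : y ∈ Set.range ι.base :=
        (specializes_iff_le.mpr hay.le).mem_closed hZ ⟨a, rfl⟩
      obtain ⟨a', rfl⟩ := hyZ
      have haa' : a ⤳ a' :=
        ι.isClosedEmbedding.isInducing.specializes_iff.mp (specializes_iff_le.mpr hay.le)
      have hne : a ≠ a' := fun e => by rw [e] at hay; exact lt_irrefl _ hay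
      have hπne : π.base a ≠ π.base a' :=
        fun e => hne (eq_of_specializes_of_map_eq π haa' e)
      have hπle : @LE.le (ProjectiveSpectrum (CohB1.polyGrading d k)) _
          (π.base a) (π.base a') :=
        specializes_iff_le.mp (haa'.map π.continuous)
      have hlt := pdim_anti d k _ _ (lt_of_le_of_ne hπle hπne)
      have := ih a' (by omega)
      omega
  have hXne : Nonempty X := by
    by_contra hemp
    rw [not_nonempty_iff] at hemp
    have := isEmpty_irreducibleCloseds_of_isEmpty X
    have hbot : topologicalKrullDim X = ⊥ := Order.krullDim_eq_bot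
    rw [hbot] at hd
    exact absurd hd (by simp)
  obtain ⟨x0, hx0Z, hx0⟩ := exists_pdim_eq_of_dim_eq n k hZ
    ⟨ι.base hXne.some, ⟨_, rfl⟩⟩ hdimZ
  obtain ⟨a0, rfl⟩ := hx0Z
  have h1 := key d a0 hx0
  have h2 := pdim_le d k (π.base a0)
  have hgen : π.base a0 = zeroPt d k := by
    by_contra hne
    have hlt : zeroPt d k < π.base a0 :=
      lt_of_le_of_ne (zeroPt_le d k _) (Ne.symm hne)
    have := pdim_anti d k _ _ hlt
    rw [pdim_zeroPt] at this
    omega
  have hclosed : IsClosed (Set.range π.base) := hcl.isClosed_range
  intro y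
  have hy : zeroPt d k ⤳ y := specializes_iff_le.mpr (zeroPt_le d k y)
  exact hy.mem_closed hclosed ⟨a0, hgen⟩

end surj

end Groth.Agent.Lib.Helper60.PNN
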