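import Mathlib
import Groth.Prelude.Def_CohB1
import Groth.Agent.Lib.Helper60.PNN1

set_option autoImplicit false
open AlgebraicGeometry TopologicalSpace Topology Order CategoryTheory

namespace Groth.Agent.Lib.Helper60.PNN

open Groth.Agent.Lib.Helper93.ProjDim Groth.Agent.Lib.Helper93.ProjAvoid
open Groth.Agent.Lib.Helper93.ProjNN
open Groth.Agent.Lib.Helper60.ProjUPLib Groth.Agent.Lib.Helper60.SecKer
open Groth.Agent.Lib.Helper60.Segre Groth.Agent.Lib.Helper35.Gen

universe u

section fin

variable {R : Type u} [CommRing R] (N : ℕ) {X : Scheme.{u}} {L : X.Modules}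
  (r : X ⟶ CohB1.ProjSpace N R)
  (τ : (Scheme.Modules.pullback r).obj (Twist.twistProjSpace N R 1) ≅ L)
  (v : Fin (N + 1) → Γ(L, ⊤)) (hτ : ∀ i, (τ.hom.app ⊤).hom (tsec N r i) = v i)

include hτ in
/-- the morphism to projective space defined by sections with affine non-vanishing loci on a
proper scheme is finite -/
theorem isFinite_of_sections [IsProper (r ≫ CohB1.ProjSpace.toSpec N R)]
    (haff : ∀ j, IsAffineOpen (genOpen L (v j))) : IsFinite r := by
  rw [IsFinite.iff_isProper_and_isAffineHom]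
  constructor
  · exact IsProper.of_comp r (CohB1.ProjSpace.toSpec N R)
  · apply isAffineHom_of_forall_exists_isAffineOpen
    intro y
    have hgen : Algebra.adjoin R (Set.range (fun i : Fin (N + 1) =>
        (MvPolynomial.X i : MvPolynomial (Fin (N + 1)) R))) = ⊤ := MvPolynomial.adjoin_range_X
    obtain ⟨j, hj⟩ := exists_mem_basicOpen (CohB1.polyGrading N R)
      (fun i : Fin (N + 1) => (MvPolynomial.X i : MvPolynomial (Fin (N + 1)) R)) hgen y
    refine ⟨Dp N j, hj, Proj.isAffineOpen_basicOpen (CohB1.polyGrading N R) _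
      (MvPolynomial.isHomogeneous_X R j) one_pos, ?_⟩
    rw [preimage_Dp_eq_genOpen N r τ v hτ j]
    exact haff j

end fin

end Groth.Agent.Lib.Helper60.PNN

namespace Groth.Agent.Lib.Helper60.PNN

open Groth.Agent.Lib.Helper93.ProjDim Groth.Agent.Lib.Helper93.ProjAvoid
open Groth.Agent.Lib.Helper93.ProjNN
open Groth.Agent.Lib.Helper60.ProjUPLib Groth.Agent.Lib.Helper60.SecKer
open Groth.Agent.Lib.Helper60.Segre Groth.Agent.Lib.Helper35.Gen

universe u

section main

variable (k : Type u) [Field k] [Infinite k] (N d : ℕ) {Y : Scheme.{u}}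
  (ι : Y ⟶ CohB1.ProjSpace N k) [IsClosedImmersion ι]
  (hdim : topologicalKrullDim ↥Y = (d : WithBot ℕ∞))

include hdim in
/-- **Projective Noether normalisation with `O(1)`**: a `d`-dimensional closed subscheme `Y` of
`P^N_k` (`k` infinite) admits a finite surjective `k`-morphism `π` to `P^d_k` with
`π^*O(1) ≅ O_Y(1)`; moreover the pulled back coordinates are restrictions of linear forms. -/
theorem exists_normalization :
    ∃ π : Y ⟶ CohB1.ProjSpace d k,
      π ≫ CohB1.ProjSpace.toSpec d k = ι ≫ CohB1.ProjSpace.toSpec N k ∧ IsFinite π ∧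
      Function.Surjective π.base ∧
      Nonempty ((Scheme.Modules.pullback π).obj (Twist.twistProjSpace d k 1) ≅
        (Scheme.Modules.pullback ι).obj (Twist.twistProjSpace N k 1)) := by
  have hmaxn := irrelevant_isMaximal N k
  have hci : @IsClosedImmersion Y (Proj (CohB1.polyGrading N k)) ι := ‹IsClosedImmersion ι›
  have haffι : @IsAffineHom Y (Proj (CohB1.polyGrading N k)) ι := inferInstance
  have hZ : IsClosed (Set.range ι.base) := ι.isClosedEmbedding.isClosed_range
  have hdimZ : topologicalKrullDim ↥(Set.range ι.base) = d := by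
    rw [← hdim]
    exact (IsHomeomorph.topologicalKrullDim_eq _
      ι.isClosedEmbedding.isEmbedding.toHomeomorph.isHomeomorph).symm
  have hr : ∀ x ∈ Set.range ι.base, pdim x ≤ d := by
    intro x hx
    have h1 := pdim_le_dim N k hZ hx
    have h2 : ((pdim x : ℕ) : WithBot ℕ∞) ≤ (d : WithBot ℕ∞) := h1.trans (le_of_eq hdimZ)
    exact_mod_cast h2
  obtain ⟨h, hh, h3⟩ := exists_linear_forms N k (Set.range ι.base) hZ d hr (d + 1) le_rfl
  have hex : ∀ x ∈ Set.range ι.base, ∃ j, h j ∉ x.asHomogeneousIdeal.toIdeal := by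
    intro x hx
    by_contra hcon
    push Not at hcon
    have := h3 x hx hcon
    omega
  let L : Y.Modules := (Scheme.Modules.pullback ι).obj (Twist.twistProjSpace N k 1)
  let s : Fin (d + 1) → ProjUP.Γm L := fun j =>
    psec (CohB1.polyGrading N k) ι (⟨h j, hh j⟩ : CohB1.polyGrading N k 1)
  have hgenX : Algebra.adjoin k (Set.range (fun i : Fin (N + 1) =>
      (MvPolynomial.X i : MvPolynomial (Fin (N + 1)) k))) = ⊤ := MvPolynomial.adjoin_range_X
  have hpre : ∀ j, ι ⁻¹ᵁ Proj.basicOpen (CohB1.polyGrading N k) (h j) = genOpen L (s j) :=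
    fun j => preimage_basicOpen_eq_genOpen (CohB1.polyGrading N k)
      (fun i : Fin (N + 1) => (MvPolynomial.X i : MvPolynomial (Fin (N + 1)) k))
      (fun i => MvPolynomial.isHomogeneous_X k i) hgenX ι ⟨h j, hh j⟩
  have hcov : ∀ a : Y, ∃ j, a ∈ genOpen L (s j) := by
    intro a
    obtain ⟨j, hj⟩ := hex (ι.base a) ⟨a, rfl⟩
    refine ⟨j, ?_⟩
    rw [← hpre j]
    exact (Proj.mem_basicOpen _ _ _).2 hj
  obtain ⟨π, hπ, τ, hτ⟩ := exists_projSpace' d (ι ≫ CohB1.ProjSpace.toSpec N k) L s hcov
  have hprop : IsProper (π ≫ CohB1.ProjSpace.toSpec d k) := by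
    rw [hπ]
    infer_instance
  have hfin : IsFinite π := isFinite_of_sections d π τ s hτ (fun j => by
    rw [← hpre j]
    exact (Proj.isAffineOpen_basicOpen (CohB1.polyGrading N k) (h j) (hh j) one_pos).preimage ι)
  refine ⟨π, hπ, hfin, ?_, ⟨τ⟩⟩
  have hfin' : @IsFinite Y (Proj (CohB1.polyGrading d k)) π := hfin
  have hqf : @LocallyQuasiFinite Y (Proj (CohB1.polyGrading d k)) π := inferInstance
  have hclm : IsClosedMap π.base := π.isClosedMap
  exact surjective_of_quasiFinite N k ι d hdim π hclm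

end main

end Groth.Agent.Lib.Helper60.PNN
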