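import Groth.Agent.Lib.Helper60.PCone2
import Groth.Agent.Lib.Helper64.UfdPicGen
import Groth.Agent.Lib.Helper35.Triv
import Groth.Agent.Lib.Helper35.ModRestrict

/-!
# Generators of restrictions along open immersions; fractions on `Proj` of a domain
-/

set_option autoImplicit false
universe u
open CategoryTheory AlgebraicGeometry TopologicalSpace Opposite

namespace Groth.Agent.Lib.Helper60.PicPn

open Groth.Agent.Lib.Helper35.Gen Groth.Agent.Lib.Helper35.AbSheaf Scheme.Modules
open Groth.Agent.Lib.Helper60.ProjFrac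

variable {X Y : Scheme.{u}}

/-- a generator of the restriction of `L` along an open immersion is a generator of `L` -/
theorem isGen_of_restrict' (L : X.Modules) (f : Y ⟶ X) [IsOpenImmersion f] (G : Y.Opens)
    (e : Γ(L.restrict f, G)) (he : IsGen (L.restrict f) G e) :
    IsGen L (f ''ᵁ G) (show Γ(L, f ''ᵁ G) from e) := by
  intro W hW
  let W' : Y.Opens := f ⁻¹ᵁ W
  have hW'G : W' ≤ G := by
    intro y hy
    obtain ⟨z, hz, hzy⟩ := hW hy
    have : z = y := f.isOpenEmbedding.injective hzy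
    exact this ▸ hz
  have hW' : f ''ᵁ W' = W := by
    rw [Scheme.Hom.image_preimage_eq_opensRange_inf]
    exact inf_eq_right.mpr (hW.trans (Scheme.Hom.image_le_opensRange f G))
  have hle : f ''ᵁ W' ≤ f ''ᵁ G := Scheme.Hom.image_mono f hW'G
  let x : Γ(L, f ''ᵁ W') := rs L hle (show Γ(L, f ''ᵁ G) from e)
  have hx : rs L hW'.ge x = rs L hW (show Γ(L, f ''ᵁ G) from e) := by
    rw [rs_rs]
  rw [← hx, ← bij_smul_congr L hW' x]
  have h1 := he W' hW'G
  have hb2 : Function.Bijective (f.appIso W').hom :=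
    ConcreteCategory.bijective_of_isIso (f.appIso W').hom
  have key : (fun r : Γ(X, f ''ᵁ W') => r • x) =
      (fun r' : Γ(Y, W') => r' • rs (L.restrict f) hW'G e) ∘
        (f.appIso W').hom := by
    funext r
    change r • x = ((f.appIso W').hom r) • rs (L.restrict f) hW'G e
    have h4 : ((f.appIso W').hom r) • rs (L.restrict f) hW'G e =
        ((f.appIso W').inv ((f.appIso W').hom r) • x : Γ(L, f ''ᵁ W')) := rfl
    rw [h4]
    congr 1
    exact (congrArg (fun f => f.hom r) (f.appIso W').hom_inv_id).symm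
  rw [key]
  exact h1.comp hb2

theorem exists_isGen_of_eq (L : X.Modules) {U V : X.Opens} (h : U = V)
    (hU : ∃ e : Γ(L, U), IsGen L U e) : ∃ e : Γ(L, V), IsGen L V e := by
  subst h
  exact hU

section Dom

variable {A σ : Type u} [CommRing A] [IsDomain A] [SetLike σ A] [AddSubgroupClass σ A]
  (𝒜 : ℕ → σ) [GradedRing 𝒜]

/-- equal fractions on a nonempty open of `Proj` of a domain have equal cross products -/
theorem mul_eq_of_fr_eq {k k' : ℕ} (a b a' b' : A) (ha : a ∈ 𝒜 k) (hb : b ∈ 𝒜 k) (ha' : a' ∈ 𝒜 k')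
    (hb' : b' ∈ 𝒜 k') (V : (Proj 𝒜).Opens) (hV : ∀ y ∈ V, b ∉ y.asHomogeneousIdeal)
    (hV' : ∀ y ∈ V, b' ∉ y.asHomogeneousIdeal) (y : Proj 𝒜) (hy : y ∈ V)
    (h : fr 𝒜 a b ha hb V hV = fr 𝒜 a' b' ha' hb' V hV') : a * b' = a' * b := by
  have h1 := congrArg (fun r => oval 𝒜 r ⟨y, hy⟩) h
  simp only [oval_fr] at h1
  rw [Localization.mk_eq_mk_iff, Localization.r_iff_exists] at h1
  obtain ⟨c, hc⟩ := h1
  have hc0 : (c : A) ≠ 0 := by
    intro h0
    exact c.2 (h0 ▸ zero_mem _)
  have := mul_left_cancel₀ hc0 hc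
  simp only at this
  rw [mul_comm a b', this, mul_comm]

end Dom

end Groth.Agent.Lib.Helper60.PicPn
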