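import Groth.Agent.Lib.Helper60.Pic2

/-!
# Invertible modules on projective space over a UFD are trivial on the standard charts
-/

set_option autoImplicit false
universe u
open CategoryTheory AlgebraicGeometry TopologicalSpace Opposite

namespace Groth.Agent.Lib.Helper60.PicPn

open Groth.Agent.Lib.Helper35.Gen Groth.Agent.Lib.Helper35.AbSheaf Scheme.Modules
open Groth.Agent.Lib.Helper60.ProjFrac Groth.Agent.Lib.Helper60.ProjUPLib
open HomogeneousLocalization

variable {n : ℕ} {R : Type u} [CommRing R] [IsDomain R] [UniqueFactorizationMonoid R]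

theorem exists_isGen_chart (L : (Proj (CohB1.polyGrading n R)).Modules)
    (hL : PicF.IsInvertible L) (i : Fin (n + 1)) :
    ∃ s : Γ(L, Proj.basicOpen (CohB1.polyGrading n R) (MvPolynomial.X i)),
      IsGen L (Proj.basicOpen (CohB1.polyGrading n R) (MvPolynomial.X i)) s := by
  let f := Proj.awayι (CohB1.polyGrading n R) (MvPolynomial.X i) (hX n R i) one_pos
  let M := L.restrict f
  have hM : PicF.IsInvertible M :=
    Groth.Agent.Lib.Helper35.ModRestrict.isInvertible_restrict f L hL
  have hloc : ∀ y ∈ (⊤ : (Spec (CommRingCat.of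
      (Away (CohB1.polyGrading n R) (MvPolynomial.X i)))).Opens),
      ∃ W : (Spec (CommRingCat.of (Away (CohB1.polyGrading n R) (MvPolynomial.X i)))).Opens,
        y ∈ W ∧ ∃ e : Γ(M, W), Groth.Agent.Lib.Lead.Inv.IsGen M W e := by
    intro y _
    obtain ⟨U, hyU, ⟨ε⟩⟩ := hM y
    obtain ⟨e, he⟩ := Groth.Agent.Lib.Helper35.Gen.exists_isGen_of_iso U ε
    exact ⟨U, hyU, e, he⟩
  obtain ⟨e, he⟩ := Groth.Agent.Lib.Helper64.UfdPicGen.exists_isGen_of_locally_gen M ⊤ hloc
  have h1 := isGen_of_restrict' L f ⊤ e he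
  refine exists_isGen_of_eq L ?_ ⟨_, h1⟩
  rw [Scheme.Hom.image_top_eq_opensRange, Proj.opensRange_awayι]

end Groth.Agent.Lib.Helper60.PicPn
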