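import Groth.Agent.Lib.Helper60.Pic3

/-!
# Monomial fractions `(X j / X i)^m` on projective space and comparison of exponents
-/

set_option autoImplicit false
universe u
open CategoryTheory AlgebraicGeometry TopologicalSpace Opposite

namespace Groth.Agent.Lib.Helper60.PicPn

open Groth.Agent.Lib.Helper35.Gen Groth.Agent.Lib.Helper35.AbSheaf Scheme.Modules
open Groth.Agent.Lib.Helper60.ProjFrac Groth.Agent.Lib.Helper60.ProjUPLib
open Groth.Agent.Lib.Helper60.PConeLib
open HomogeneousLocalization

variable (n : ℕ) (R : Type u) [CommRing R]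

/-- the standard chart `D₊(X i)` -/
noncomputable abbrev DD (i : Fin (n + 1)) : (Proj (CohB1.polyGrading n R)).Opens :=
  Proj.basicOpen (CohB1.polyGrading n R) (gX n R i).1

theorem C_mem_zero (c : R) :
    (MvPolynomial.C c : MvPolynomial (Fin (n + 1)) R) ∈ CohB1.polyGrading n R 0 :=
  MvPolynomial.isHomogeneous_C _ c

theorem one_mem_zero :
    (1 : MvPolynomial (Fin (n + 1)) R) ∈ CohB1.polyGrading n R 0 :=
  MvPolynomial.isHomogeneous_one _ _

/-- constant functions -/
noncomputable def cst (c : R) (W : (Proj (CohB1.polyGrading n R)).Opens) :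
    Γ(Proj (CohB1.polyGrading n R), W) :=
  fr (CohB1.polyGrading n R) (MvPolynomial.C c) 1 (C_mem_zero n R c) (one_mem_zero n R) W
    (fun y _ h => y.isPrime.ne_top ((Ideal.eq_top_iff_one _).2 h))

theorem cst_one (W : (Proj (CohB1.polyGrading n R)).Opens) : cst n R 1 W = 1 := by
  unfold cst
  rw [← fr_self (CohB1.polyGrading n R) 1 (one_mem_zero n R) W
    (fun y _ h => y.isPrime.ne_top ((Ideal.eq_top_iff_one _).2 h))]
  apply fr_eq_of_mul_eq
  simp

theorem cst_mul (a b : R) (W : (Proj (CohB1.polyGrading n R)).Opens) :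
    cst n R a W * cst n R b W = cst n R (a * b) W := by
  unfold cst
  rw [fr_mul]
  apply fr_eq_of_mul_eq
  simp

theorem rr_cst (c : R) {U W : (Proj (CohB1.polyGrading n R)).Opens} (h : W ≤ U) :
    rr _ h (cst n R c U) = cst n R c W := rfl

theorem isUnit_cst (c : Rˣ) (W : (Proj (CohB1.polyGrading n R)).Opens) :
    IsUnit (cst n R (c : R) W) := by
  refine IsUnit.of_mul_eq_one (cst n R ((c⁻¹ : Rˣ) : R) W) ?_
  rw [cst_mul, Units.mul_inv, cst_one]

/-- `(X j / X i)^m` as a function on an open inside `D₊(X i) ∩ D₊(X j)` -/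
noncomputable def mono (i j : Fin (n + 1)) (m : ℤ) (W : (Proj (CohB1.polyGrading n R)).Opens)
    (hi : W ≤ DD n R i) (hj : W ≤ DD n R j) : Γ(Proj (CohB1.polyGrading n R), W) :=
  fr (CohB1.polyGrading n R) ((gX n R j).1 ^ ni m * (gX n R i).1 ^ nk m)
    ((gX n R i).1 ^ ni m * (gX n R j).1 ^ nk m) (num_mem _ m (gX n R i) (gX n R j))
    (den_mem _ m (gX n R i) (gX n R j)) W (den_notMem _ m (gX n R i) (gX n R j) hi hj)

theorem rr_mono (i j : Fin (n + 1)) (m : ℤ) {U W : (Proj (CohB1.polyGrading n R)).Opens}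
    (h : W ≤ U) (hi : U ≤ DD n R i) (hj : U ≤ DD n R j) :
    rr _ h (mono n R i j m U hi hj) = mono n R i j m W (h.trans hi) (h.trans hj) := rfl

theorem mono_self (i : Fin (n + 1)) (m : ℤ) (W : (Proj (CohB1.polyGrading n R)).Opens)
    (hi : W ≤ DD n R i) (hi' : W ≤ DD n R i) : mono n R i i m W hi hi' = 1 := by
  unfold mono
  exact fr_self _ _ _ _ _

theorem mono_mul_swap (i j : Fin (n + 1)) (m : ℤ) (W : (Proj (CohB1.polyGrading n R)).Opens)
    (hi : W ≤ DD n R i) (hj : W ≤ DD n R j) :
    mono n R j i m W hj hi * mono n R i j m W hi hj = 1 := by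
  unfold mono
  rw [fr_mul]
  rw [← fr_self (CohB1.polyGrading n R) (((gX n R j).1 ^ ni m * (gX n R i).1 ^ nk m) *
    ((gX n R i).1 ^ ni m * (gX n R j).1 ^ nk m))
    (SetLike.GradedMul.mul_mem (num_mem _ m (gX n R i) (gX n R j))
      (den_mem _ m (gX n R i) (gX n R j))) W
    (fun y hy h => (y.isPrime.mem_or_mem h).elim
      (den_notMem _ m (gX n R j) (gX n R i) hj hi y hy)
      (den_notMem _ m (gX n R i) (gX n R j) hi hj y hy))]
  apply fr_eq_of_mul_eq
  ring

/-- the transition of the standard generators of `O(m)` -/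
theorem tgen_mono (m : ℤ) (i j : Fin (n + 1)) (W : (Proj (CohB1.polyGrading n R)).Opens)
    (hi : W ≤ DD n R i) (hj : W ≤ DD n R j) :
    tgen (CohB1.polyGrading n R) m (gX n R j) W hj =
      mono n R i j m W hi hj • tgen (CohB1.polyGrading n R) m (gX n R i) W hi :=
  tgen_trans _ m (gX n R i) (gX n R j) W hi hj

section Dom

variable [IsDomain R]

/-- the generic point of projective space over a domain -/
noncomputable def genPt : Proj (CohB1.polyGrading n R) :=
  show ProjectiveSpectrum (CohB1.polyGrading n R) from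
  { asHomogeneousIdeal := ⊥
    isPrime := by
      change (⊥ : Ideal (MvPolynomial (Fin (n + 1)) R)).IsPrime
      exact Ideal.isPrime_bot
    not_irrelevant_le := by
      intro h
      have h1 : (MvPolynomial.X (0 : Fin (n + 1)) : MvPolynomial (Fin (n + 1)) R) ∈
          HomogeneousIdeal.irrelevant (CohB1.polyGrading n R) := by
        rw [HomogeneousIdeal.mem_irrelevant_iff]
        have := DirectSum.decompose_of_mem_ne (CohB1.polyGrading n R) (hX n R 0)
          (show (1 : ℕ) ≠ 0 by norm_num)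
        rw [GradedRing.proj_apply, this]
      have h2 := h h1
      have h3 : (MvPolynomial.X (0 : Fin (n + 1)) : MvPolynomial (Fin (n + 1)) R) = 0 := h2
      exact MvPolynomial.X_ne_zero _ h3 }

theorem genPt_mem (i : Fin (n + 1)) : genPt n R ∈ DD n R i := by
  rw [Proj.mem_basicOpen]
  intro h
  have h3 : (MvPolynomial.X i : MvPolynomial (Fin (n + 1)) R) = 0 := h
  exact MvPolynomial.X_ne_zero _ h3

end Dom

/-- evaluation `X o ↦ T`, the other variables to `1` -/
noncomputable def evT (o : Fin (n + 1)) : MvPolynomial (Fin (n + 1)) R →+* Polynomial R :=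
  MvPolynomial.eval₂Hom Polynomial.C (fun j => if j = o then Polynomial.X else 1)

theorem evT_X_self (o : Fin (n + 1)) : evT n R o (MvPolynomial.X o) = Polynomial.X := by
  unfold evT
  simp

theorem evT_X_ne (o j : Fin (n + 1)) (h : j ≠ o) : evT n R o (MvPolynomial.X j) = 1 := by
  unfold evT
  simp [h]

theorem evT_C (o : Fin (n + 1)) (c : R) : evT n R o (MvPolynomial.C c) = Polynomial.C c := by
  unfold evT
  simp

theorem exp_eq_of_C_mul_pow [Nontrivial R] (a : R) (ha : a ≠ 0) (p q : ℕ)
    (h : Polynomial.C a * Polynomial.X ^ p = (Polynomial.X ^ q : Polynomial R)) : p = q := by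
  have h1 := congrArg Polynomial.natDegree h
  rw [Polynomial.natDegree_C_mul_X_pow p a ha, Polynomial.natDegree_X_pow] at h1
  exact h1

theorem coeff_eq_of_C_mul_pow (a : R) (p : ℕ)
    (h : Polynomial.C a * Polynomial.X ^ p = (Polynomial.X ^ p : Polynomial R)) : a = 1 := by
  have h1 := congrArg (fun f => Polynomial.coeff f p) h
  simpa using h1

end Groth.Agent.Lib.Helper60.PicPn
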