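import Groth.Agent.Lib.Helper60.Pic4

/-!
# Comparison of exponents of monomial fractions on a triple overlap
-/

set_option autoImplicit false
universe u
open CategoryTheory AlgebraicGeometry TopologicalSpace Opposite

namespace Groth.Agent.Lib.Helper60.PicPn

open Groth.Agent.Lib.Helper35.Gen Groth.Agent.Lib.Helper35.AbSheaf Scheme.Modules
open Groth.Agent.Lib.Helper60.ProjFrac Groth.Agent.Lib.Helper60.ProjUPLib
open Groth.Agent.Lib.Helper60.PConeLib
open HomogeneousLocalization

variable (n : ℕ) (R : Type u) [CommRing R] [IsDomain R]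

theorem exp_compare (o i j : Fin (n + 1)) (hio : i ≠ o) (hjo : j ≠ o) (hij : i ≠ j)
    (W : (Proj (CohB1.polyGrading n R)).Opens) (ho : W ≤ DD n R o) (hi : W ≤ DD n R i)
    (hj : W ≤ DD n R j) (y : Proj (CohB1.polyGrading n R)) (hy : y ∈ W)
    (a : R) (ha : a ≠ 0) (m p q : ℤ)
    (h : cst n R a W * mono n R i j m W hi hj * mono n R o i p W ho hi = mono n R o j q W ho hj) :
    p = q ∧ m = q ∧ a = 1 := by
  unfold cst mono at h
  rw [fr_mul, fr_mul] at h
  have h0 := mul_eq_of_fr_eq (CohB1.polyGrading n R) _ _ _ _ _ _ _ _ W _ _ y hy h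
  simp only [gX_val] at h0
  -- evaluate at `X o ↦ T`
  have h1 := congrArg (evT n R o) h0
  simp only [map_mul, map_pow, map_one, evT_X_self, evT_X_ne n R o i hio, evT_X_ne n R o j hjo,
    evT_C, one_pow, mul_one, one_mul] at h1
  have h2 : Polynomial.C a * Polynomial.X ^ (nk p + ni q) =
      (Polynomial.X ^ (nk q + ni p) : Polynomial R) := by
    rw [pow_add, pow_add]
    linear_combination h1
  have h3 := exp_eq_of_C_mul_pow R a ha _ _ h2
  have hpq : p = q := by
    have e1 := ni_eq p
    have e2 := ni_eq q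
    omega
  -- evaluate at `X j ↦ T`
  have h4 := congrArg (evT n R j) h0
  simp only [map_mul, map_pow, map_one, evT_X_self, evT_X_ne n R j i hij,
    evT_X_ne n R j o (Ne.symm hjo), evT_C, one_pow, mul_one, one_mul] at h4
  have h5 : Polynomial.C a * Polynomial.X ^ (ni m + nk q) =
      (Polynomial.X ^ (ni q + nk m) : Polynomial R) := by
    rw [pow_add, pow_add]
    linear_combination h4
  have h6 := exp_eq_of_C_mul_pow R a ha _ _ h5
  have hmq : m = q := by
    have e1 := ni_eq m
    have e2 := ni_eq q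
    omega
  refine ⟨hpq, hmq, ?_⟩
  subst hmq
  have h7 : Polynomial.C a * Polynomial.X ^ (ni m + nk m) =
      (Polynomial.X ^ (ni m + nk m) : Polynomial R) := h5
  exact coeff_eq_of_C_mul_pow R a _ h7

end Groth.Agent.Lib.Helper60.PicPn
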