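import Groth.Agent.Lib.Helper60.Pic5

/-!
# Units on the overlaps of standard charts of projective space over a domain
-/

set_option autoImplicit false
universe u
open CategoryTheory AlgebraicGeometry TopologicalSpace Opposite

namespace Groth.Agent.Lib.Helper60.PicPn

open Groth.Agent.Lib.Helper35.Gen Groth.Agent.Lib.Helper35.AbSheaf Scheme.Modules
open Groth.Agent.Lib.Helper60.ProjFrac Groth.Agent.Lib.Helper60.ProjUPLib
open Groth.Agent.Lib.Helper60.PConeLib
open HomogeneousLocalization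

variable (n : ℕ) (R : Type u) [CommRing R] [IsDomain R]

theorem dvd_struct (i j : Fin (n + 1)) (a a' : MvPolynomial (Fin (n + 1)) R) (N M : ℕ)
    (h : a * a' = MvPolynomial.X i ^ N * MvPolynomial.X j ^ M) :
    ∃ (c : Rˣ) (p q : ℕ), a = MvPolynomial.C (c : R) * MvPolynomial.X i ^ p * MvPolynomial.X j ^ q := by
  obtain ⟨q, q', b, c, -, hbc, hab, -⟩ :=
    mul_eq_mul_prime_pow (MvPolynomial.X_prime (R := R) (i := j)) h
  have hbc' : b * c = 1 * MvPolynomial.X i ^ N := by rw [one_mul, hbc]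
  obtain ⟨p, p', u, u', -, huu, hbu, -⟩ :=
    mul_eq_mul_prime_pow (MvPolynomial.X_prime (R := R) (i := i)) hbc'
  have hu : IsUnit u := IsUnit.of_mul_eq_one u' huu.symm
  rw [MvPolynomial.isUnit_iff_totalDegree_of_isReduced] at hu
  obtain ⟨⟨c0, hc0⟩, hud⟩ := hu
  rw [MvPolynomial.totalDegree_eq_zero_iff_eq_C] at hud
  refine ⟨c0, p, q, ?_⟩
  rw [hab, hbu, hud, ← hc0]

theorem f_ne_zero (i j : Fin (n + 1)) :
    (MvPolynomial.X i * MvPolynomial.X j : MvPolynomial (Fin (n + 1)) R) ≠ 0 :=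
  mul_ne_zero (MvPolynomial.X_ne_zero _) (MvPolynomial.X_ne_zero _)

/-- a unit of `A_(f)` has numerator dividing a power of `f` -/
theorem unit_num {d : ℕ} (f : MvPolynomial (Fin (n + 1)) R) (hf : f ∈ CohB1.polyGrading n R d)
    (hf0 : f ≠ 0) (z z' : Away (CohB1.polyGrading n R) f) (hzz : z * z' = 1) :
    ∃ (k : ℕ) (a : MvPolynomial (Fin (n + 1)) R) (ha : a ∈ CohB1.polyGrading n R (k • d))
      (a' : MvPolynomial (Fin (n + 1)) R) (N : ℕ),
      z = Away.mk (CohB1.polyGrading n R) hf k a ha ∧ a * a' = f ^ N := by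
  obtain ⟨k, a, ha, rfl⟩ := Away.mk_surjective (CohB1.polyGrading n R) hf z
  obtain ⟨k', a', ha', rfl⟩ := Away.mk_surjective (CohB1.polyGrading n R) hf z'
  refine ⟨k, a, ha, a', k + k', rfl, ?_⟩
  have h1 := congrArg HomogeneousLocalization.val hzz
  rw [HomogeneousLocalization.val_mul, Away.val_mk, Away.val_mk, HomogeneousLocalization.val_one,
    Localization.mk_mul, ← Localization.mk_one, Localization.mk_eq_mk_iff,
    Localization.r_iff_exists] at h1
  obtain ⟨c, hc⟩ := h1
  obtain ⟨N, hN⟩ := c.2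
  have hc0 : (c : MvPolynomial (Fin (n + 1)) R) ≠ 0 := by
    rw [← hN]
    exact pow_ne_zero _ hf0
  have h2 := mul_left_cancel₀ hc0 hc
  simp only [OneMemClass.coe_one, one_mul, Submonoid.coe_mul, mul_one] at h2
  rw [h2, pow_add]

theorem unit_struct (i j : Fin (n + 1)) (W : (Proj (CohB1.polyGrading n R)).Opens)
    (hW : W = Proj.basicOpen (CohB1.polyGrading n R) (MvPolynomial.X i * MvPolynomial.X j))
    (hi : W ≤ DD n R i) (hj : W ≤ DD n R j) (r : Γ(Proj (CohB1.polyGrading n R), W))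
    (hr : IsUnit r) : ∃ (c : Rˣ) (m : ℤ), r = cst n R (c : R) W * mono n R i j m W hi hj := by
  subst hW
  have hf : (MvPolynomial.X i * MvPolynomial.X j : MvPolynomial (Fin (n + 1)) R) ∈
      CohB1.polyGrading n R (1 + 1) := SetLike.mul_mem_graded (hX n R i) (hX n R j)
  let e := Proj.basicOpenIsoAway (CohB1.polyGrading n R) _ hf (by norm_num)
  obtain ⟨r', hrr'⟩ := hr.exists_right_inv
  have hzz : e.inv.hom r * e.inv.hom r' = 1 := by
    rw [← map_mul, hrr', map_one]
  obtain ⟨k, a, ha, a', N, hz, haa⟩ := unit_num n R _ hf (f_ne_zero n R i j) _ _ hzz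
  have hr1 : r = (Proj.awayToSection (CohB1.polyGrading n R) _).hom
      (Away.mk (CohB1.polyGrading n R) hf k a ha) := by
    rw [← hz]
    have h1 : e.hom.hom (e.inv.hom r) = r := by
      have := congrArg (fun φ => φ.hom r) e.inv_hom_id
      exact this
    exact h1.symm
  rw [mul_pow] at haa
  obtain ⟨c, p, q, hapq⟩ := dvd_struct n R i j a a' N N haa
  have ha0 : a ≠ 0 := by
    intro h0
    rw [h0, zero_mul] at haa
    exact (mul_ne_zero (pow_ne_zero _ (MvPolynomial.X_ne_zero _))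
      (pow_ne_zero _ (MvPolynomial.X_ne_zero _))) haa.symm
  have ha2 : a ∈ CohB1.polyGrading n R (0 + p + q) := by
    rw [hapq]
    exact SetLike.mul_mem_graded (SetLike.mul_mem_graded (C_mem_zero n R _)
      (pow_mem_deg _ (hX n R i) p)) (pow_mem_deg _ (hX n R j) q)
  have hdeg := DirectSum.degree_eq_of_mem_mem (CohB1.polyGrading n R) ha ha2 ha0
  refine ⟨c, (q : ℤ) - k, ?_⟩
  rw [hr1, awayToSection_mk]
  unfold cst mono
  rw [fr_mul]
  apply fr_eq_of_mul_eq
  simp only [gX_val]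
  set m : ℤ := (q : ℤ) - k with hm
  have e0 := ni_eq m
  have e1 : p + ni m = nk m + k := by
    simp only [smul_eq_mul] at hdeg
    omega
  have e2 : q + nk m = ni m + k := by
    simp only [smul_eq_mul] at hdeg
    omega
  have hA : (MvPolynomial.X i : MvPolynomial (Fin (n + 1)) R) ^ p * MvPolynomial.X i ^ ni m =
      MvPolynomial.X i ^ nk m * MvPolynomial.X i ^ k := by
    rw [← pow_add, ← pow_add, e1]
  have hB : (MvPolynomial.X j : MvPolynomial (Fin (n + 1)) R) ^ q * MvPolynomial.X j ^ nk m =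
      MvPolynomial.X j ^ ni m * MvPolynomial.X j ^ k := by
    rw [← pow_add, ← pow_add, e2]
  rw [hapq, mul_pow]
  linear_combination (MvPolynomial.C (c : R) * MvPolynomial.X j ^ q * MvPolynomial.X j ^ nk m) * hA +
    (MvPolynomial.C (c : R) * MvPolynomial.X i ^ nk m * MvPolynomial.X i ^ k) * hB

theorem unit_struct_single (i : Fin (n + 1)) (W : (Proj (CohB1.polyGrading n R)).Opens)
    (hW : W = Proj.basicOpen (CohB1.polyGrading n R) (MvPolynomial.X i))
    (r : Γ(Proj (CohB1.polyGrading n R), W))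
    (hr : IsUnit r) : ∃ c : Rˣ, r = cst n R (c : R) W := by
  subst hW
  have hf := hX n R i
  let e := Proj.basicOpenIsoAway (CohB1.polyGrading n R) _ hf one_pos
  obtain ⟨r', hrr'⟩ := hr.exists_right_inv
  have hzz : e.inv.hom r * e.inv.hom r' = 1 := by
    rw [← map_mul, hrr', map_one]
  obtain ⟨k, a, ha, a', N, hz, haa⟩ := unit_num n R _ hf (MvPolynomial.X_ne_zero _) _ _ hzz
  have hr1 : r = (Proj.awayToSection (CohB1.polyGrading n R) _).hom
      (Away.mk (CohB1.polyGrading n R) hf k a ha) := by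
    rw [← hz]
    have h1 : e.hom.hom (e.inv.hom r) = r := by
      have := congrArg (fun φ => φ.hom r) e.inv_hom_id
      exact this
    exact h1.symm
  have haa' : a * a' = MvPolynomial.X i ^ N * MvPolynomial.X i ^ 0 := by
    rw [pow_zero, mul_one, haa]
  obtain ⟨c, p, q, hapq⟩ := dvd_struct n R i i a a' N 0 haa'
  have ha0 : a ≠ 0 := by
    intro h0
    rw [h0, zero_mul] at haa
    exact (pow_ne_zero _ (MvPolynomial.X_ne_zero _)) haa.symm
  have ha2 : a ∈ CohB1.polyGrading n R (0 + p + q) := by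
    rw [hapq]
    exact SetLike.mul_mem_graded (SetLike.mul_mem_graded (C_mem_zero n R _)
      (pow_mem_deg _ (hX n R i) p)) (pow_mem_deg _ (hX n R i) q)
  have hdeg := DirectSum.degree_eq_of_mem_mem (CohB1.polyGrading n R) ha ha2 ha0
  refine ⟨c, ?_⟩
  rw [hr1, awayToSection_mk]
  unfold cst
  apply fr_eq_of_mul_eq
  have e1 : p + q = k := by
    simp only [smul_eq_mul] at hdeg
    omega
  rw [hapq, mul_one, ← e1, pow_add]
  ring

end Groth.Agent.Lib.Helper60.PicPn
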