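import Groth.Agent.Lib.Helper60.Pic6
import Groth.Agent.Lib.Helper35.Gen3

/-!
# Invertible modules on projective space over a UFD are twists
-/

set_option autoImplicit false
universe u
open CategoryTheory AlgebraicGeometry TopologicalSpace Opposite

namespace Groth.Agent.Lib.Helper60.PicPn

open Groth.Agent.Lib.Helper35.Gen Groth.Agent.Lib.Helper35.AbSheaf Scheme.Modules
open Groth.Agent.Lib.Helper60.ProjFrac Groth.Agent.Lib.Helper60.ProjUPLib
open Groth.Agent.Lib.Helper60.PConeLib
open HomogeneousLocalization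

section General

variable {X : Scheme.{u}}

theorem exists_unit_smul {L : X.Modules} {U : X.Opens} {e e' : Γ(L, U)} (he : IsGen L U e)
    (he' : IsGen L U e') : ∃ w : Γ(X, U), IsUnit w ∧ e' = w • e := by
  obtain ⟨w, hw⟩ := he.exists_eq_smul e'
  obtain ⟨w', hw'⟩ := he'.exists_eq_smul e
  refine ⟨w, ?_, hw⟩
  have h1 : (w * w') • e = (1 : Γ(X, U)) • e := by
    rw [one_smul, mul_comm, mul_smul, ← hw, ← hw']
  exact IsUnit.of_mul_eq_one w' (he.smul_injective h1)

theorem isGen_unit_smul {L : X.Modules} {U : X.Opens} {e : Γ(L, U)} (he : IsGen L U e)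
    (w : Γ(X, U)) (hw : IsUnit w) : IsGen L U (w • e) := by
  rw [Groth.Agent.Lib.Helper35.Gen.isGen_smul_iff he w, X.basicOpen_of_isUnit hw]

end General

variable (n : ℕ) (R : Type u) [CommRing R] [IsDomain R]

theorem DD_inf (i j : Fin (n + 1)) :
    DD n R i ⊓ DD n R j =
      Proj.basicOpen (CohB1.polyGrading n R) (MvPolynomial.X i * MvPolynomial.X j) :=
  (Proj.basicOpen_mul (CohB1.polyGrading n R) (MvPolynomial.X i) (MvPolynomial.X j)).symm

variable {n R}

/-- the triple-overlap lemma -/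
theorem triple (L : (Proj (CohB1.polyGrading n R)).Modules) (o i j : Fin (n + 1)) (hio : i ≠ o)
    (hjo : j ≠ o) (hij : i ≠ j) (so : Γ(L, DD n R o)) (si : Γ(L, DD n R i)) (sj : Γ(L, DD n R j))
    (hso : IsGen L (DD n R o) so) (hsi : IsGen L (DD n R i) si) (hsj : IsGen L (DD n R j) sj)
    (p q : ℤ)
    (hi : rs L (inf_le_right : DD n R o ⊓ DD n R i ≤ DD n R i) si =
      mono n R o i p (DD n R o ⊓ DD n R i) inf_le_left inf_le_right • rs L inf_le_left so)
    (hj : rs L (inf_le_right : DD n R o ⊓ DD n R j ≤ DD n R j) sj =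
      mono n R o j q (DD n R o ⊓ DD n R j) inf_le_left inf_le_right • rs L inf_le_left so) :
    p = q ∧ rs L (inf_le_right : DD n R i ⊓ DD n R j ≤ DD n R j) sj =
      mono n R i j q (DD n R i ⊓ DD n R j) inf_le_left inf_le_right • rs L inf_le_left si := by
  obtain ⟨c, hcu, hc⟩ := exists_unit_smul (hsi.mono (inf_le_left : DD n R i ⊓ DD n R j ≤ DD n R i))
    (hsj.mono (inf_le_right : DD n R i ⊓ DD n R j ≤ DD n R j))
  obtain ⟨a, m, hcam⟩ := unit_struct n R i j (DD n R i ⊓ DD n R j) (DD_inf n R i j)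
    inf_le_left inf_le_right c hcu
  let W : (Proj (CohB1.polyGrading n R)).Opens := DD n R o ⊓ DD n R i ⊓ DD n R j
  have hWo : W ≤ DD n R o := inf_le_left.trans inf_le_left
  have hWi : W ≤ DD n R i := inf_le_left.trans inf_le_right
  have hWj : W ≤ DD n R j := inf_le_right
  have hWoi : W ≤ DD n R o ⊓ DD n R i := inf_le_left
  have hWoj : W ≤ DD n R o ⊓ DD n R j := le_inf hWo hWj
  have hWij : W ≤ DD n R i ⊓ DD n R j := le_inf hWi hWj
  have e1 := congrArg (rs L hWij) hc
  rw [rs_rs, rs_smul, rs_rs] at e1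
  have e2 := congrArg (rs L hWoi) hi
  rw [rs_rs, rs_smul, rs_rs] at e2
  have e3 := congrArg (rs L hWoj) hj
  rw [rs_rs, rs_smul, rs_rs] at e3
  have e4 : (rr _ hWij c * mono n R o i p W hWo hWi) • rs L hWo so =
      mono n R o j q W hWo hWj • rs L hWo so := by
    rw [mul_smul]
    have e2' : rs L hWi si = mono n R o i p W hWo hWi • rs L hWo so := e2
    have e3' : rs L hWj sj = mono n R o j q W hWo hWj • rs L hWo so := e3
    rw [← e2', ← e3']
    exact e1.symm
  have e5 := (hso.mono hWo).smul_injective e4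
  have e6 : rr _ hWij c = cst n R (a : R) W * mono n R i j m W hWi hWj := by
    rw [hcam, map_mul]
    rfl
  rw [e6] at e5
  have hy : genPt n R ∈ W := ⟨⟨genPt_mem n R o, genPt_mem n R i⟩, genPt_mem n R j⟩
  obtain ⟨hpq, hmq, ha1⟩ := exp_compare n R o i j hio hjo hij W hWo hWi hWj (genPt n R) hy
    (a : R) a.ne_zero m p q e5
  refine ⟨hpq, ?_⟩
  rw [hc, hcam, ha1, cst_one, one_mul, hmq]

end Groth.Agent.Lib.Helper60.PicPn
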