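import Groth.Agent.Lib.Helper60.ProjUP3

/-!
# Universal property of `Proj`: pulled back coordinates and the uniqueness criterion
-/

set_option autoImplicit false
universe u
open CategoryTheory AlgebraicGeometry TopologicalSpace Opposite

namespace Groth.Agent.Lib.Helper60.ProjUPLib

open Groth.Agent.Lib.Helper35.Gen Groth.Agent.Lib.Helper35.PbInv Groth.Agent.Lib.Helper35.AbSheaf
open Groth.Agent.Lib.Helper60.TwistLib Groth.Agent.Lib.Helper60.ProjFrac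

variable {R A : Type u} [CommRing R] [CommRing A] [Algebra R A] (𝒜 : ℕ → Submodule R A) [GradedAlgebra 𝒜]
variable {Z : Scheme.{u}} (r : Z ⟶ Proj 𝒜)

/-- the pulled back coordinate section `r^*(a/1)` -/
noncomputable def psec {n : ℕ} (a : 𝒜 n) :
    Γ((Scheme.Modules.pullback r).obj (Twist.twist 𝒜 (n : ℤ)), ⊤) :=
  ProjUP.pullSec r (Twist.twist 𝒜 (n : ℤ)) (Twist.globalOf 𝒜 a)

theorem rs_psec {n : ℕ} (a : 𝒜 n) (V : (Proj 𝒜).Opens) :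
    rs ((Scheme.Modules.pullback r).obj (Twist.twist 𝒜 (n : ℤ))) (le_top : r ⁻¹ᵁ V ≤ ⊤) (psec 𝒜 r a) =
      pbSec r (Twist.twist 𝒜 (n : ℤ)) V (rs _ le_top (gsec 𝒜 a)) :=
  pbSec_rs r _ le_top _

/-- the chart function `r♯(a/b)` on `r⁻¹ D₊(b)` -/
noncomputable def cfun {n : ℕ} (a b : 𝒜 n) : Γ(Z, r ⁻¹ᵁ Proj.basicOpen 𝒜 b.1) :=
  (r.app (Proj.basicOpen 𝒜 b.1)).hom
    (fr 𝒜 a.1 b.1 a.2 b.2 (Proj.basicOpen 𝒜 b.1) (notMem_of_mem_basicOpen 𝒜 le_rfl))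

theorem isGen_psec {n : ℕ} (b : 𝒜 n) :
    IsGen ((Scheme.Modules.pullback r).obj (Twist.twist 𝒜 (n : ℤ))) (r ⁻¹ᵁ Proj.basicOpen 𝒜 b.1)
      (rs _ le_top (psec 𝒜 r b)) := by
  rw [rs_psec]
  exact isGen_pbSec r _ _ _ (isGen_gsec 𝒜 b)

theorem rs_psec_eq_smul {n : ℕ} (a b : 𝒜 n) :
    rs ((Scheme.Modules.pullback r).obj (Twist.twist 𝒜 (n : ℤ)))
        (le_top : r ⁻¹ᵁ Proj.basicOpen 𝒜 b.1 ≤ ⊤) (psec 𝒜 r a) =
      cfun 𝒜 r a b • rs _ le_top (psec 𝒜 r b) := by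
  rw [rs_psec, rs_psec, rs_gsec_eq_fr_smul 𝒜 a b _ le_rfl, pbSec_smul]
  rfl

theorem basicOpen_fr {k : ℕ} (a b : A) (ha : a ∈ 𝒜 k) (hb : b ∈ 𝒜 k) :
    (Proj 𝒜).basicOpen (fr 𝒜 a b ha hb (Proj.basicOpen 𝒜 b) (notMem_of_mem_basicOpen 𝒜 le_rfl)) =
      Proj.basicOpen 𝒜 b ⊓ Proj.basicOpen 𝒜 a := by
  ext y
  rw [SetLike.mem_coe, mem_basicOpen_fr]
  rfl

theorem basicOpen_cfun {n : ℕ} (a b : 𝒜 n) :
    Z.basicOpen (cfun 𝒜 r a b) = r ⁻¹ᵁ (Proj.basicOpen 𝒜 b.1 ⊓ Proj.basicOpen 𝒜 a.1) := by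
  rw [← basicOpen_fr 𝒜 a.1 b.1 a.2 b.2, Scheme.preimage_basicOpen]
  rfl

section uniq

variable {ι : Type*} (g : ι → A) (hg : ∀ i, g i ∈ 𝒜 1) (hgen : Algebra.adjoin R (Set.range g) = ⊤)

include hgen in
theorem exists_mem_basicOpen (y : Proj 𝒜) : ∃ i, y ∈ Proj.basicOpen 𝒜 (g i) := by
  obtain ⟨i, hi⟩ := exists_notMem_of_adjoin_eq_top 𝒜 g hgen y
  exact ⟨i, (Proj.mem_basicOpen 𝒜 (g i) y).2 hi⟩

theorem appTop_toGlobal_strMap (c : R) :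
    r.appTop.hom (ProjUP.toGlobal (strMap 𝒜) c) = ProjUP.toGlobal (r ≫ strMap 𝒜) c := rfl

theorem appLE_apply {D : (Proj 𝒜).Opens} {W : Z.Opens} (e : W ≤ r ⁻¹ᵁ D) (s : Γ(Proj 𝒜, D)) :
    (r.appLE D W e).hom s = rr Z e ((r.app D).hom s) := rfl

theorem appLE_top_apply {W : Z.Opens} (s : Γ(Proj 𝒜, ⊤)) :
    (r.appLE ⊤ W le_top).hom s = rr Z (le_top : W ≤ ⊤) (r.appTop.hom s) := rfl

theorem appLE_res_apply {D : (Proj 𝒜).Opens} {W : Z.Opens} (e : W ≤ r ⁻¹ᵁ D) (s : Γ(Proj 𝒜, ⊤)) :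
    (r.appLE D W e).hom ((Proj 𝒜).presheaf.map (homOfLE (le_top : D ≤ ⊤)).op s) =
      rr Z (le_top : W ≤ ⊤) (r.appTop.hom s) := by
  have h1 := Scheme.Hom.map_appLE r e (homOfLE (le_top : D ≤ ⊤)).op
  have h2 := congrArg (fun φ => φ.hom s) h1
  exact h2.trans (appLE_top_apply 𝒜 r s)

theorem appLE_const {D : (Proj 𝒜).Opens} {W : Z.Opens} (e : W ≤ r ⁻¹ᵁ D) (c : R) :
    (r.appLE D W e).hom (fr 𝒜 (algebraMap R A c) 1 (SetLike.algebraMap_mem_graded 𝒜 c)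
      SetLike.GradedOne.one_mem D (fun y _ => one_notMem 𝒜 y)) =
      rr Z (le_top : W ≤ ⊤) (ProjUP.toGlobal (r ≫ strMap 𝒜) c) := by
  have h3 : fr 𝒜 (algebraMap R A c) 1 (SetLike.algebraMap_mem_graded 𝒜 c)
      SetLike.GradedOne.one_mem D (fun y _ => one_notMem 𝒜 y) =
      (Proj 𝒜).presheaf.map (homOfLE (le_top : D ≤ ⊤)).op (ProjUP.toGlobal (strMap 𝒜) c) := by
    rw [toGlobal_strMap]
    rfl
  rw [h3, appLE_res_apply]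
  rfl

omit [Algebra R A] [GradedAlgebra 𝒜] in
theorem resLE_eq_of_appLE_eq {Z Y : Scheme.{u}} (r r' : Z ⟶ Y) (D : Y.Opens) (hD : IsAffineOpen D)
    (W : Z.Opens) (e : W ≤ r ⁻¹ᵁ D) (e' : W ≤ r' ⁻¹ᵁ D)
    (h : r.appLE D W e = r'.appLE D W e') : W.ι ≫ r = W.ι ≫ r' := by
  rw [← Scheme.Hom.resLE_comp_ι r e, ← Scheme.Hom.resLE_comp_ι r' e']
  congr 1
  have : IsAffine ↑D := hD
  apply ext_of_isAffine
  refine (Scheme.Hom.resLE_app_top r e).trans ?_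
  rw [h]
  exact (Scheme.Hom.resLE_app_top r' e').symm

include hgen in
/-- **Uniqueness criterion**: two morphisms to `Proj` over the base with the same chart data agree. -/
theorem hom_ext_of_charts (r r' : Z ⟶ Proj 𝒜) (hover : r ≫ strMap 𝒜 = r' ≫ strMap 𝒜)
    (hpre : ∀ i, r ⁻¹ᵁ Proj.basicOpen 𝒜 (g i) = r' ⁻¹ᵁ Proj.basicOpen 𝒜 (g i))
    (hc : ∀ i j, rr Z (hpre i).le (cfun 𝒜 r' ⟨g j, hg j⟩ ⟨g i, hg i⟩) =
      cfun 𝒜 r ⟨g j, hg j⟩ ⟨g i, hg i⟩) : r = r' := by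
  refine Scheme.hom_ext_of_forall r r' (fun x => ?_)
  obtain ⟨i, hi⟩ := exists_mem_basicOpen 𝒜 g hgen (r x)
  refine ⟨r ⁻¹ᵁ Proj.basicOpen 𝒜 (g i), hi, resLE_eq_of_appLE_eq r r' (Proj.basicOpen 𝒜 (g i))
    (Proj.isAffineOpen_basicOpen 𝒜 (g i) (hg i) one_pos) _ le_rfl (hpre i).le ?_⟩
  apply CommRingCat.hom_ext
  apply ringHom_ext_basicOpen 𝒜 g hg hgen (hg i)
  · intro j
    rw [appLE_apply, appLE_apply, rr_self]
    exact (hc i j).symm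
  · intro c
    rw [appLE_const, appLE_const, hover]

end uniq

end Groth.Agent.Lib.Helper60.ProjUPLib
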