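import Groth.Agent.Lib.Helper60.Pic7
import Groth.Agent.Lib.Helper60.PCone1
import Groth.Agent.Lib.Helper60.ProjUP4

/-!
# Invertible modules on projective space over a UFD are twists: main theorem
-/

set_option autoImplicit false
universe u
open CategoryTheory AlgebraicGeometry TopologicalSpace Opposite

namespace Groth.Agent.Lib.Helper60.PicPn

open Groth.Agent.Lib.Helper35.Gen Groth.Agent.Lib.Helper35.AbSheaf Scheme.Modules
open Groth.Agent.Lib.Helper60.ProjFrac Groth.Agent.Lib.Helper60.ProjUPLib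
open Groth.Agent.Lib.Helper60.PConeLib
open HomogeneousLocalization

variable {n : ℕ} {R : Type u} [CommRing R] [IsDomain R]

theorem cover (y : Proj (CohB1.polyGrading n R)) : ∃ i, y ∈ DD n R i :=
  exists_mem_basicOpen (CohB1.polyGrading n R) (fun i => (MvPolynomial.X i : MvPolynomial (Fin (n + 1)) R))
    (MvPolynomial.adjoin_range_X) y

/-- normalisation relative to the chart `o` -/
theorem exists_normalised (L : (Proj (CohB1.polyGrading n R)).Modules) (o : Fin (n + 1))
    (s : ∀ i, Γ(L, DD n R i)) (hs : ∀ i, IsGen L (DD n R i) (s i)) :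
    ∃ (s' : ∀ i, Γ(L, DD n R i)) (m : Fin (n + 1) → ℤ), (∀ i, IsGen L (DD n R i) (s' i)) ∧
      ∀ i, rs L (inf_le_right : DD n R o ⊓ DD n R i ≤ DD n R i) (s' i) =
        mono n R o i (m i) (DD n R o ⊓ DD n R i) inf_le_left inf_le_right •
          rs L inf_le_left (s' o) := by
  have h1 : ∀ i, ∃ (c : Rˣ) (m : ℤ), (i = o → c = 1) ∧
      rs L (inf_le_right : DD n R o ⊓ DD n R i ≤ DD n R i) (s i) =
        (cst n R (c : R) (DD n R o ⊓ DD n R i) *
          mono n R o i m (DD n R o ⊓ DD n R i) inf_le_left inf_le_right) •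
          rs L inf_le_left (s o) := by
    intro i
    by_cases hio : i = o
    · subst hio
      refine ⟨1, 0, fun _ => rfl, ?_⟩
      rw [mono_self, Units.val_one, cst_one, one_mul, one_smul]
    · obtain ⟨c, hcu, hc⟩ := exists_unit_smul
        ((hs o).mono (inf_le_left : DD n R o ⊓ DD n R i ≤ DD n R o))
        ((hs i).mono (inf_le_right : DD n R o ⊓ DD n R i ≤ DD n R i))
      obtain ⟨a, m, hcam⟩ := unit_struct n R o i (DD n R o ⊓ DD n R i) (DD_inf n R o i)
        inf_le_left inf_le_right c hcu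
      exact ⟨a, m, fun h => absurd h hio, by rw [hc, hcam]⟩
  choose c m hco hcm using h1
  refine ⟨fun i => cst n R (((c i)⁻¹ : Rˣ) : R) (DD n R i) • s i, m,
    fun i => isGen_unit_smul (hs i) _ (isUnit_cst n R _ _), ?_⟩
  intro i
  have hco1 : c o = 1 := hco o rfl
  simp only
  rw [rs_smul, rs_smul, hcm i, hco1, inv_one, Units.val_one, rr_cst, rr_cst, cst_one, one_smul,
    ← mul_smul, ← mul_assoc, cst_mul, Units.inv_mul, cst_one, one_mul]

end Groth.Agent.Lib.Helper60.PicPn
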