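import Groth.Agent.Lib.Helper60.Pic8

/-!
# Invertible modules on projective space over a UFD are twists: main theorem
-/

set_option autoImplicit false
universe u
open CategoryTheory AlgebraicGeometry TopologicalSpace Opposite

namespace Groth.Agent.Lib.Helper60.PicPn

open Groth.Agent.Lib.Helper35.Gen Groth.Agent.Lib.Helper35.AbSheaf Scheme.Modules
open Groth.Agent.Lib.Helper60.ProjFrac Groth.Agent.Lib.Helper60.ProjUPLib
open Groth.Agent.Lib.Helper60.PConeLib
open HomogeneousLocalization

variable {n : ℕ} {R : Type u} [CommRing R] [IsDomain R]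

theorem last_ne_zero_of_ne {i : Fin (n + 1)} (h : i ≠ 0) : Fin.last n ≠ 0 := by
  intro hl
  apply h
  have hn : n = 0 := by
    have := congrArg Fin.val hl
    simpa using this
  subst hn
  exact Fin.ext (by omega)

/-- all transition functions are `(X j / X i)^d` once they are so relative to the chart `0` -/
theorem transitions (L : (Proj (CohB1.polyGrading n R)).Modules)
    (s : ∀ i, Γ(L, DD n R i)) (hs : ∀ i, IsGen L (DD n R i) (s i)) (m : Fin (n + 1) → ℤ)
    (hm : ∀ i, rs L (inf_le_right : DD n R 0 ⊓ DD n R i ≤ DD n R i) (s i) =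
        mono n R 0 i (m i) (DD n R 0 ⊓ DD n R i) inf_le_left inf_le_right •
          rs L inf_le_left (s 0)) :
    ∀ i j, rs L (inf_le_right : DD n R i ⊓ DD n R j ≤ DD n R j) (s j) =
        mono n R i j (m (Fin.last n)) (DD n R i ⊓ DD n R j) inf_le_left inf_le_right •
          rs L inf_le_left (s i) := by
  -- Claim A
  have hA : ∀ i, i ≠ 0 → m i = m (Fin.last n) := by
    intro i hi0
    by_cases hil : i = Fin.last n
    · rw [hil]
    · exact (triple L 0 i (Fin.last n) hi0 (last_ne_zero_of_ne hi0) hil (s 0) (s i) (s (Fin.last n))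
        (hs 0) (hs i) (hs _) (m i) (m (Fin.last n)) (hm i) (hm _)).1
  have hA' : ∀ i, rs L (inf_le_right : DD n R 0 ⊓ DD n R i ≤ DD n R i) (s i) =
        mono n R 0 i (m (Fin.last n)) (DD n R 0 ⊓ DD n R i) inf_le_left inf_le_right •
          rs L inf_le_left (s 0) := by
    intro i
    by_cases hi0 : i = 0
    · subst hi0
      rw [mono_self, one_smul]
    · rw [← hA i hi0]
      exact hm i
  intro i j
  by_cases hij : i = j
  · subst hij
    rw [mono_self, one_smul]
  by_cases hi0 : i = 0
  · subst hi0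
    exact hA' j
  by_cases hj0 : j = 0
  · subst hj0
    have h1 := congrArg (rs L (le_inf inf_le_right inf_le_left :
      DD n R i ⊓ DD n R 0 ≤ DD n R 0 ⊓ DD n R i)) (hA' i)
    rw [rs_rs, rs_smul, rs_rs, rr_mono] at h1
    have h2 : rs L (inf_le_left : DD n R i ⊓ DD n R 0 ≤ DD n R i) (s i) =
        mono n R 0 i (m (Fin.last n)) (DD n R i ⊓ DD n R 0) inf_le_right inf_le_left •
          rs L inf_le_right (s 0) := h1
    rw [h2, ← mul_smul, mono_mul_swap, one_smul]
  · exact (triple L 0 i j hi0 hj0 hij (s 0) (s i) (s j) (hs 0) (hs i) (hs j) _ _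
      (hA' i) (hA' j)).2

variable [UniqueFactorizationMonoid R]

/-- **Invertible modules on projective space over a UFD are twists.** -/
theorem exists_iso_twist (L : (Proj (CohB1.polyGrading n R)).Modules)
    (hL : PicF.IsInvertible L) :
    ∃ d : ℤ, Nonempty (L ≅ Twist.twist (CohB1.polyGrading n R) d) := by
  have h0 : ∀ i, ∃ s : Γ(L, DD n R i), IsGen L (DD n R i) s := fun i => exists_isGen_chart L hL i
  choose s₀ hs₀ using h0
  obtain ⟨s, m, hs, hm⟩ := exists_normalised L 0 s₀ hs₀
  have htr := transitions L s hs m hm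
  refine ⟨m (Fin.last n), ?_⟩
  have := nonempty_iso_of_gens (N := Twist.twist (CohB1.polyGrading n R) (m (Fin.last n))) (P := L)
    (D := fun i => DD n R i)
    (t := fun i => tgen (CohB1.polyGrading n R) (m (Fin.last n)) (gX n R i) (DD n R i) le_rfl)
    (fun i => isGen_tgen (CohB1.polyGrading n R) (m (Fin.last n)) (gX n R i)) hs
    (fun i j => mono n R i j (m (Fin.last n)) (DD n R i ⊓ DD n R j) inf_le_left inf_le_right)
    (fun i j => tgen_mono n R (m (Fin.last n)) i j (DD n R i ⊓ DD n R j) inf_le_left inf_le_right)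
    htr cover
  obtain ⟨e⟩ := this
  exact ⟨e.symm⟩

end Groth.Agent.Lib.Helper60.PicPn
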