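import Mathlib

/-!
# helper60: Krull step for the primary-fibre lemma (S4899 / SA / KV')
-/

set_option autoImplicit false
universe u

open TensorProduct IsLocalRing

namespace Groth.Agent.Lib.Helper60.PrimKR

section

variable {R S : Type u} [CommRing R] [CommRing S] [Algebra R S]

/-- the `i`-th coordinate of `S ⊗ V` with respect to an `R`-basis of `S` -/
noncomputable def coord {ι : Type*} (b : Module.Basis ι R S) (V : Type u) [AddCommGroup V]
    [Module R V] (i : ι) : S ⊗[R] V →ₗ[R] V :=
  (TensorProduct.lid R V).toLinearMap ∘ₗ (b.coord i).rTensor V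

theorem coord_tmul {ι : Type*} (b : Module.Basis ι R S) (V : Type u) [AddCommGroup V]
    [Module R V] (i : ι) (x : S) (v : V) : coord b V i (x ⊗ₜ[R] v) = b.repr x i • v := by
  simp [coord]

theorem coord_natural {ι : Type*} (b : Module.Basis ι R S) {V W : Type u} [AddCommGroup V]
    [Module R V] [AddCommGroup W] [Module R W] (f : V →ₗ[R] W) (i : ι) (w : S ⊗[R] V) :
    coord b W i (f.baseChange S w) = f (coord b V i w) := by
  induction w using TensorProduct.induction_on with
  | zero => simp
  | tmul x v => simp [coord_tmul]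
  | add x y hx hy => simp [hx, hy]

theorem eq_zero_of_coord {ι : Type*} (b : Module.Basis ι R S) (V : Type u) [AddCommGroup V]
    [Module R V] (w : S ⊗[R] V) (h : ∀ i, coord b V i w = 0) : w = 0 := by
  classical
  let e : S ⊗[R] V ≃ₗ[R] (ι →₀ V) :=
    (TensorProduct.congr b.repr (LinearEquiv.refl R V)) ≪≫ₗ TensorProduct.finsuppScalarLeft R V ι
  have he : ∀ (w : S ⊗[R] V) (i : ι), e w i = coord b V i w := by
    intro w i
    induction w using TensorProduct.induction_on with
    | zero => simp
    | tmul x v => simp [e, coord_tmul]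
    | add x y hx hy => simp [hx, hy]
  apply e.injective
  rw [map_zero]
  ext i
  rw [he, h]
  rfl

end

theorem isFiniteLength_quot {R : Type u} [CommRing R] [IsLocalRing R] [IsNoetherianRing R]
    (V : Type u) [AddCommGroup V] [Module R V] [Module.Finite R V] (n : ℕ) :
    IsFiniteLength R (V ⧸ (maximalIdeal R ^ (n + 1) • ⊤ : Submodule R V)) := by
  have hmin : maximalIdeal R ∈ (maximalIdeal R ^ (n + 1)).minimalPrimes := by
    refine ⟨⟨inferInstance, Ideal.pow_le_self (Nat.succ_ne_zero n)⟩, ?_⟩
    rintro q ⟨hq, hle⟩ _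
    exact hq.le_of_pow_le hle
  haveI : IsArtinianRing (R ⧸ maximalIdeal R ^ (n + 1)) :=
    IsLocalRing.quotient_artinian_of_mem_minimalPrimes_of_isLocalRing _ hmin
  haveI : Module.Finite (R ⧸ maximalIdeal R ^ (n + 1))
      (V ⧸ (maximalIdeal R ^ (n + 1) • ⊤ : Submodule R V)) :=
    Module.Finite.of_restrictScalars_finite R _ _
  haveI : IsArtinian R (V ⧸ (maximalIdeal R ^ (n + 1) • ⊤ : Submodule R V)) :=
    isArtinian_of_surjective_algebraMap (S := R) (R := R ⧸ maximalIdeal R ^ (n + 1))
      Ideal.Quotient.mk_surjective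
  exact isFiniteLength_iff_isNoetherian_isArtinian.2 ⟨inferInstance, inferInstance⟩

theorem kr {R S : Type u} [CommRing R] [IsLocalRing R] [IsNoetherianRing R] [CommRing S]
    [Algebra R S] [Module.Free R S] (s : S)
    (hfin : ∀ (W : Type u) [AddCommGroup W] [Module R W], IsFiniteLength R W →
      ∀ w : S ⊗[R] W, s • w = 0 → w = 0)
    (V : Type u) [AddCommGroup V] [Module R V] [Module.Finite R V] :
    ∀ w : S ⊗[R] V, s • w = 0 → w = 0 := by
  intro w hw
  let b := Module.Free.chooseBasis R S
  apply eq_zero_of_coord b V w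
  intro i
  -- `coord i w` lies in every `m^(n+1) V`
  have hmem' : ∀ n : ℕ, coord b V i w ∈ (maximalIdeal R ^ (n + 1) • ⊤ : Submodule R V) := by
    intro n
    have hfl : IsFiniteLength R (V ⧸ (maximalIdeal R ^ (n + 1) • ⊤ : Submodule R V)) :=
      isFiniteLength_quot V n
    have h1 : s • ((maximalIdeal R ^ (n + 1) • ⊤ : Submodule R V).mkQ.baseChange S w) = 0 := by
      rw [← map_smul, hw, map_zero]
    have h2 := hfin (V ⧸ (maximalIdeal R ^ (n + 1) • ⊤ : Submodule R V)) hfl _ h1
    have h3 := coord_natural b (maximalIdeal R ^ (n + 1) • ⊤ : Submodule R V).mkQ i w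
    rw [h2, map_zero] at h3
    exact (Submodule.Quotient.mk_eq_zero _).1 h3.symm
  have hmem : ∀ n : ℕ, coord b V i w ∈ (maximalIdeal R ^ n • ⊤ : Submodule R V) := fun n =>
    Submodule.smul_mono_left (Ideal.pow_le_pow_right (Nat.le_succ n)) (hmem' n)
  have hK := Ideal.iInf_pow_smul_eq_bot_of_isLocalRing (maximalIdeal R) (M := V)
    (Ideal.IsPrime.ne_top inferInstance)
  have : coord b V i w ∈ (⨅ n : ℕ, maximalIdeal R ^ n • ⊤ : Submodule R V) :=
    (Submodule.mem_iInf _).2 hmem
  rw [hK] at this
  exact (Submodule.mem_bot R).1 this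

end Groth.Agent.Lib.Helper60.PrimKR
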