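import Groth.Agent.Lib.Helper60.TildeQCoh

set_option autoImplicit false
universe u
open CategoryTheory AlgebraicGeometry TopologicalSpace Opposite

namespace Groth.Agent.Lib.Helper60.ProjFrac

open Groth.Agent.Lib.Helper60.TildeSec

variable {A σ : Type u} [CommRing A] [SetLike σ A] [AddSubgroupClass σ A] (𝒜 : ℕ → σ) [GradedRing 𝒜]

/-- value of a section of the structure sheaf at a point, in the localization -/
noncomputable def oval {V : (Proj 𝒜).Opens} (r : Γ(Proj 𝒜, V)) (y : V) :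
    Localization.AtPrime y.1.asHomogeneousIdeal.toIdeal :=
  ((show OSec 𝒜 V from r).1 y).val

theorem oext {V : (Proj 𝒜).Opens} (r r' : Γ(Proj 𝒜, V)) (h : ∀ y : V, oval 𝒜 r y = oval 𝒜 r' y) :
    r = r' := by
  change (show OSec 𝒜 V from r) = (show OSec 𝒜 V from r')
  apply Subtype.ext
  funext y
  exact HomogeneousLocalization.val_injective _ (h y)

theorem oval_mul {V : (Proj 𝒜).Opens} (r r' : Γ(Proj 𝒜, V)) (y : V) :
    oval 𝒜 (r * r') y = oval 𝒜 r y * oval 𝒜 r' y := by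
  change (((show OSec 𝒜 V from r) * (show OSec 𝒜 V from r')).1 y).val = _
  exact HomogeneousLocalization.val_mul _ _

theorem oval_add {V : (Proj 𝒜).Opens} (r r' : Γ(Proj 𝒜, V)) (y : V) :
    oval 𝒜 (r + r') y = oval 𝒜 r y + oval 𝒜 r' y := by
  change (((show OSec 𝒜 V from r) + (show OSec 𝒜 V from r')).1 y).val = _
  exact HomogeneousLocalization.val_add _ _

theorem oval_one {V : (Proj 𝒜).Opens} (y : V) : oval 𝒜 (1 : Γ(Proj 𝒜, V)) y = 1 := by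
  change (((1 : OSec 𝒜 V)).1 y).val = _
  exact HomogeneousLocalization.val_one

theorem oval_zero {V : (Proj 𝒜).Opens} (y : V) : oval 𝒜 (0 : Γ(Proj 𝒜, V)) y = 0 := by
  change (((0 : OSec 𝒜 V)).1 y).val = _
  exact HomogeneousLocalization.val_zero

theorem oval_res {V W : (Proj 𝒜).Opens} (i : W ⟶ V) (r : Γ(Proj 𝒜, V)) (y : W) :
    oval 𝒜 ((Proj 𝒜).presheaf.map i.op r) y = oval 𝒜 r ⟨y.1, i.le y.2⟩ := rfl

theorem oval_pow {V : (Proj 𝒜).Opens} (r : Γ(Proj 𝒜, V)) (n : ℕ) (y : V) :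
    oval 𝒜 (r ^ n) y = oval 𝒜 r y ^ n := by
  induction n with
  | zero => rw [pow_zero, pow_zero, oval_one]
  | succ n ih => rw [pow_succ, pow_succ, oval_mul, ih]

/-- The fraction `a / b` (`a`, `b` homogeneous of the same degree) as a section of the structure
sheaf over an open on which `b` does not vanish. -/
noncomputable def fr {k : ℕ} (a b : A) (ha : a ∈ 𝒜 k) (hb : b ∈ 𝒜 k) (V : (Proj 𝒜).Opens)
    (hV : ∀ y ∈ V, b ∉ y.asHomogeneousIdeal) : Γ(Proj 𝒜, V) :=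
  show OSec 𝒜 V from
  ⟨fun y => HomogeneousLocalization.mk ⟨k, ⟨a, ha⟩, ⟨b, hb⟩, hV y.1 y.2⟩,
    fun y => ⟨V, y.2, 𝟙 _, k, ⟨a, ha⟩, ⟨b, hb⟩, fun z => hV z.1 z.2, fun _ => rfl⟩⟩

theorem oval_fr {k : ℕ} (a b : A) (ha : a ∈ 𝒜 k) (hb : b ∈ 𝒜 k) (V : (Proj 𝒜).Opens)
    (hV : ∀ y ∈ V, b ∉ y.asHomogeneousIdeal) (y : V) :
    oval 𝒜 (fr 𝒜 a b ha hb V hV) y = Localization.mk a ⟨b, hV y.1 y.2⟩ := rfl

theorem fr_eq_of_mul_eq {k k' : ℕ} (a b a' b' : A) (ha : a ∈ 𝒜 k) (hb : b ∈ 𝒜 k) (ha' : a' ∈ 𝒜 k')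
    (hb' : b' ∈ 𝒜 k') (V : (Proj 𝒜).Opens) (hV : ∀ y ∈ V, b ∉ y.asHomogeneousIdeal)
    (hV' : ∀ y ∈ V, b' ∉ y.asHomogeneousIdeal) (h : a * b' = a' * b) :
    fr 𝒜 a b ha hb V hV = fr 𝒜 a' b' ha' hb' V hV' := by
  apply oext
  intro y
  rw [oval_fr, oval_fr, Localization.mk_eq_mk_iff, Localization.r_iff_exists]
  exact ⟨1, by simp only [OneMemClass.coe_one, one_mul]; rw [mul_comm b' a, h, mul_comm]⟩

theorem fr_mul {k k' : ℕ} (a b a' b' : A) (ha : a ∈ 𝒜 k) (hb : b ∈ 𝒜 k) (ha' : a' ∈ 𝒜 k')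
    (hb' : b' ∈ 𝒜 k') (V : (Proj 𝒜).Opens) (hV : ∀ y ∈ V, b ∉ y.asHomogeneousIdeal)
    (hV' : ∀ y ∈ V, b' ∉ y.asHomogeneousIdeal) :
    fr 𝒜 a b ha hb V hV * fr 𝒜 a' b' ha' hb' V hV' =
      fr 𝒜 (a * a') (b * b') (SetLike.GradedMul.mul_mem ha ha') (SetLike.GradedMul.mul_mem hb hb') V
        (fun y hy h => (y.isPrime.mem_or_mem h).elim (hV y hy) (hV' y hy)) := by
  apply oext
  intro y
  rw [oval_mul, oval_fr, oval_fr, oval_fr, Localization.mk_mul]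
  rfl

theorem fr_add {k : ℕ} (a a' b : A) (ha : a ∈ 𝒜 k) (ha' : a' ∈ 𝒜 k) (hb : b ∈ 𝒜 k)
    (V : (Proj 𝒜).Opens) (hV : ∀ y ∈ V, b ∉ y.asHomogeneousIdeal) :
    fr 𝒜 a b ha hb V hV + fr 𝒜 a' b ha' hb V hV = fr 𝒜 (a + a') b (add_mem ha ha') hb V hV := by
  apply oext
  intro y
  rw [oval_add, oval_fr, oval_fr, oval_fr, Localization.add_mk_self]

theorem fr_self {k : ℕ} (b : A) (hb : b ∈ 𝒜 k) (V : (Proj 𝒜).Opens)
    (hV : ∀ y ∈ V, b ∉ y.asHomogeneousIdeal) : fr 𝒜 b b hb hb V hV = 1 := by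
  apply oext
  intro y
  rw [oval_fr, oval_one]
  exact Localization.mk_self (⟨b, hV y.1 y.2⟩ : y.1.asHomogeneousIdeal.toIdeal.primeCompl)

theorem fr_zero {k : ℕ} (b : A) (hb : b ∈ 𝒜 k) (V : (Proj 𝒜).Opens)
    (hV : ∀ y ∈ V, b ∉ y.asHomogeneousIdeal) : fr 𝒜 0 b (zero_mem _) hb V hV = 0 := by
  apply oext
  intro y
  rw [oval_fr, oval_zero, Localization.mk_zero]

theorem fr_res {k : ℕ} (a b : A) (ha : a ∈ 𝒜 k) (hb : b ∈ 𝒜 k) {V W : (Proj 𝒜).Opens} (i : W ⟶ V)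
    (hV : ∀ y ∈ V, b ∉ y.asHomogeneousIdeal) :
    (Proj 𝒜).presheaf.map i.op (fr 𝒜 a b ha hb V hV) =
      fr 𝒜 a b ha hb W (fun y hy => hV y (i.le hy)) := rfl

theorem fr_pow {k : ℕ} (a b : A) (ha : a ∈ 𝒜 k) (hb : b ∈ 𝒜 k) (V : (Proj 𝒜).Opens)
    (hV : ∀ y ∈ V, b ∉ y.asHomogeneousIdeal) (n : ℕ) :
    fr 𝒜 a b ha hb V hV ^ n = fr 𝒜 (a ^ n) (b ^ n)
      (by have := SetLike.pow_mem_graded n ha; exact this)
      (by have := SetLike.pow_mem_graded n hb; exact this) V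
      (fun y hy h => hV y hy (y.isPrime.mem_of_pow_mem n h)) := by
  apply oext
  intro y
  rw [oval_pow, oval_fr, oval_fr, Localization.mk_pow]
  rfl

theorem fr_mul_inv {k : ℕ} (a b : A) (ha : a ∈ 𝒜 k) (hb : b ∈ 𝒜 k) (V : (Proj 𝒜).Opens)
    (hVa : ∀ y ∈ V, a ∉ y.asHomogeneousIdeal) (hVb : ∀ y ∈ V, b ∉ y.asHomogeneousIdeal) :
    fr 𝒜 a b ha hb V hVb * fr 𝒜 b a hb ha V hVa = 1 := by
  rw [fr_mul, ← fr_self 𝒜 (a * b) (SetLike.GradedMul.mul_mem ha hb) V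
    (fun y hy h => (y.isPrime.mem_or_mem h).elim (hVa y hy) (hVb y hy))]
  apply fr_eq_of_mul_eq
  ring

theorem mem_basicOpen_fr {k : ℕ} (a b : A) (ha : a ∈ 𝒜 k) (hb : b ∈ 𝒜 k) (V : (Proj 𝒜).Opens)
    (hV : ∀ y ∈ V, b ∉ y.asHomogeneousIdeal) (y : Proj 𝒜) :
    y ∈ (Proj 𝒜).basicOpen (fr 𝒜 a b ha hb V hV) ↔ y ∈ V ∧ a ∉ y.asHomogeneousIdeal := by
  constructor
  · intro hy
    have hyV : y ∈ V := (Proj 𝒜).basicOpen_le _ hy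
    refine ⟨hyV, ?_⟩
    rw [mem_basicOpen_iff 𝒜 V _ y hyV] at hy
    exact (isUnit_iff_of_val_eq 𝒜 y _ a ⟨b, hV y hyV⟩ rfl).1 hy
  · rintro ⟨hyV, hay⟩
    rw [mem_basicOpen_iff 𝒜 V _ y hyV]
    exact (isUnit_iff_of_val_eq 𝒜 y _ a ⟨b, hV y hyV⟩ rfl).2 hay

end Groth.Agent.Lib.Helper60.ProjFrac
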