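import Mathlib
import Groth.Agent.Lib.Helper60.TildeTwist

set_option autoImplicit false
universe u
open CategoryTheory AlgebraicGeometry TopologicalSpace Opposite MonoidalCategory

namespace Groth.Agent.Lib.Helper60.TensorLib

variable {X : Scheme.{u}}

/-- Symmetry of the tensor product of O_X-modules. -/
theorem nonempty_tensorMod_symm (M N : X.Modules) :
    Nonempty (CohB1.tensorMod M N ≅ CohB1.tensorMod N M) := by
  have e : (show X.PresheafOfModules from CohB1.tensorPre M N) ≅
      (show X.PresheafOfModules from CohB1.tensorPre N M) := by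
    unfold CohB1.tensorPre
    exact β_ (CohB1.toPMod M) (CohB1.toPMod N)
  exact ⟨(CohB1.sheafifyMod X).mapIso e⟩

end Groth.Agent.Lib.Helper60.TensorLib

namespace Groth.Agent.Lib.Helper60.TwistLib
section
variable {R A : Type u} [CommRing R] [CommRing A] [Algebra R A] (𝒜 : ℕ → Submodule R A) [GradedAlgebra 𝒜]

/-- If homogeneous elements of positive degree generate `A` as an `R`-algebra, every point of
`Proj` misses one of them. -/
theorem exists_notMem_of_adjoin_eq_top {ι : Type*} (f : ι → A)
    (hgen : Algebra.adjoin R (Set.range f) = ⊤) (x : ProjectiveSpectrum 𝒜) :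
    ∃ i, f i ∉ x.asHomogeneousIdeal := by
  classical
  by_contra hcon
  push Not at hcon
  apply x.not_irrelevant_le
  -- every element is a constant plus an element of `x`
  have key : ∀ a : A, ∃ r : R, a - algebraMap R A r ∈ x.asHomogeneousIdeal.toIdeal := by
    intro a
    have ha : a ∈ Algebra.adjoin R (Set.range f) := by rw [hgen]; trivial
    induction ha using Algebra.adjoin_induction with
    | mem a ha =>
      obtain ⟨i, rfl⟩ := ha
      exact ⟨0, by simpa using hcon i⟩
    | algebraMap r => exact ⟨r, by simp⟩
    | add a b _ _ iha ihb =>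
      obtain ⟨r, hr⟩ := iha
      obtain ⟨r', hr'⟩ := ihb
      refine ⟨r + r', ?_⟩
      have : a + b - algebraMap R A (r + r') = (a - algebraMap R A r) + (b - algebraMap R A r') := by
        rw [map_add]; ring
      rw [this]
      exact add_mem hr hr'
    | mul a b _ _ iha ihb =>
      obtain ⟨r, hr⟩ := iha
      obtain ⟨r', hr'⟩ := ihb
      refine ⟨r * r', ?_⟩
      have : a * b - algebraMap R A (r * r') =
          (a - algebraMap R A r) * b + algebraMap R A r * (b - algebraMap R A r') := by
        rw [map_mul]; ring
      rw [this]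
      exact add_mem (Ideal.mul_mem_right _ _ hr) (Ideal.mul_mem_left _ _ hr')
  intro a ha
  have ha0 : ((DirectSum.decompose 𝒜 a 0 : 𝒜 0) : A) = 0 := by
    have := (HomogeneousIdeal.mem_irrelevant_iff 𝒜 a).mp ha
    rwa [GradedRing.proj_apply] at this
  obtain ⟨r, hr⟩ := key a
  -- degree zero component
  have h0 := x.asHomogeneousIdeal.isHomogeneous 0 hr
  have hr0 : algebraMap R A r ∈ 𝒜 0 := by
    rw [Algebra.algebraMap_eq_smul_one]
    exact Submodule.smul_mem _ _ SetLike.GradedOne.one_mem
  rw [DirectSum.decompose_sub, DirectSum.sub_apply, AddSubgroupClass.coe_sub, ha0,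
    DirectSum.decompose_of_mem_same 𝒜 hr0, zero_sub, neg_mem_iff] at h0
  have : a = (a - algebraMap R A r) + algebraMap R A r := by ring
  rw [this]
  exact add_mem hr h0

end
end Groth.Agent.Lib.Helper60.TwistLib
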