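import Groth.Agent.Lib.Helper35.PbSection
import Groth.Agent.Lib.Helper35.PbTensor
import Groth.Agent.Lib.Helper60.ProjFrac
import Groth.Agent.Lib.Helper60.TwistExtra

/-!
# Universal property of `Proj`: the twisting sheaf `O(n)` and its coordinate sections
-/

set_option autoImplicit false
universe u
open CategoryTheory AlgebraicGeometry TopologicalSpace Opposite

namespace Groth.Agent.Lib.Helper60.ProjUPLib

open Groth.Agent.Lib.Helper35.Gen Groth.Agent.Lib.Helper35.PbInv Groth.Agent.Lib.Helper35.AbSheaf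
open Groth.Agent.Lib.Helper60.TwistLib Groth.Agent.Lib.Helper60.ProjFrac

variable {R A : Type u} [CommRing R] [CommRing A] [Algebra R A] (𝒜 : ℕ → Submodule R A) [GradedAlgebra 𝒜]

/-- the global section `a/1` of `O(n)` -/
noncomputable def gsec {n : ℕ} (a : 𝒜 n) : Γ(Twist.twist 𝒜 (n : ℤ), ⊤) := Twist.globalOf 𝒜 a

theorem notMem_of_mem_basicOpen {b : A} {W : (Proj 𝒜).Opens} (hW : W ≤ Proj.basicOpen 𝒜 b) :
    ∀ y ∈ W, b ∉ y.asHomogeneousIdeal := fun y hy => (Proj.mem_basicOpen 𝒜 b y).1 (hW hy)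

theorem rs_gsec {n : ℕ} (b : 𝒜 n) (W : (Proj 𝒜).Opens) :
    rs (Twist.twist 𝒜 (n : ℤ)) (le_top : W ≤ ⊤) (gsec 𝒜 b) =
      genSec (n : ℤ) b (⟨1, SetLike.GradedOne.one_mem⟩ : 𝒜 0) (by simp) W
        (fun y _ => one_notMem 𝒜 y) := rfl

/-- `b/1` generates `O(n)` over `D₊(b)`. -/
theorem isGen_gsec {n : ℕ} (b : 𝒜 n) :
    IsGen (Twist.twist 𝒜 (n : ℤ)) (Proj.basicOpen 𝒜 b.1)
      (rs (Twist.twist 𝒜 (n : ℤ)) le_top (gsec 𝒜 b)) := by
  intro W hW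
  have hbij := genSec_bijective (𝒜 := 𝒜) (n : ℤ) b (⟨1, SetLike.GradedOne.one_mem⟩ : 𝒜 0) (by simp)
    W (notMem_of_mem_basicOpen 𝒜 hW) (fun y _ => one_notMem 𝒜 y)
  exact hbij

/-- on `D₊(b)`, `a/1 = (a/b) • (b/1)` -/
theorem rs_gsec_eq_fr_smul {n : ℕ} (a b : 𝒜 n) (W : (Proj 𝒜).Opens)
    (hW : W ≤ Proj.basicOpen 𝒜 b.1) :
    rs (Twist.twist 𝒜 (n : ℤ)) (le_top : W ≤ ⊤) (gsec 𝒜 a) =
      fr 𝒜 a.1 b.1 a.2 b.2 W (notMem_of_mem_basicOpen 𝒜 hW) •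
        rs (Twist.twist 𝒜 (n : ℤ)) (le_top : W ≤ ⊤) (gsec 𝒜 b) := by
  rw [rs_gsec, rs_gsec]
  apply sect_ext
  intro x
  refine Eq.trans ?_ (smul_sect_val (n : ℤ) W _ _ x).symm
  change Localization.mk a.1 _ = Localization.mk a.1 _ * Localization.mk b.1 _
  rw [Localization.mk_mul, Localization.mk_eq_mk_iff, Localization.r_iff_exists]
  exact ⟨1, by simp; ring⟩

end Groth.Agent.Lib.Helper60.ProjUPLib
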