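import Groth.Agent.Lib.Helper60.ProjUP9

/-!
# Universal property of `Proj`: the isomorphism `r^*O(1) ≅ L` and the existence theorem
-/

set_option autoImplicit false
universe u
open CategoryTheory CategoryTheory.Limits AlgebraicGeometry TopologicalSpace Opposite

namespace Groth.Agent.Lib.Helper60.ProjUPLib

open Groth.Agent.Lib.Helper35.Gen Groth.Agent.Lib.Helper35.PbInv Groth.Agent.Lib.Helper35.AbSheaf
open Groth.Agent.Lib.Helper60.TwistLib Groth.Agent.Lib.Helper60.ProjFrac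
open Groth.Agent.Lib.Lead.SheafGlue

variable {R A : Type u} [CommRing R] [CommRing A] [Algebra R A] (𝒜 : ℕ → Submodule R A) [GradedAlgebra 𝒜]

section exist

variable {X : Scheme.{u}} (q : X ⟶ Spec (CommRingCat.of R)) {L : X.Modules}
variable {ι : Type*} (g : ι → A) (hg : ∀ i, g i ∈ 𝒜 1)
  (hgen : Algebra.adjoin R (Set.range g) = ⊤)
variable (v : ι → Γ(L, ⊤)) (XX : ι → X.Opens)
  (hgenL : ∀ i, IsGen L (XX i) (rs L le_top (v i)))
  (hcov : ∀ x : X, ∃ i, x ∈ XX i)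
  (φ : ∀ i, A →+* Γ(X, XX i))
  (hφc : ∀ i (c : R), φ i (algebraMap R A c) = rr X le_top (ProjUP.toGlobal q c))
  (hφv : ∀ i j, rs L (le_top : XX i ≤ ⊤) (v j) = φ i (g j) • rs L le_top (v i))
  (r : X ⟶ Proj 𝒜) (hr : ∀ i, (XX i).ι ≫ r = rho 𝒜 g hg v XX hgenL φ hφv i)

/-- the pulled back coordinate restricted to `XX i` -/
noncomputable def pp (i : ι) :
    Γ((Scheme.Modules.pullback r).obj (Twist.twist 𝒜 ((1 : ℕ) : ℤ)), XX i) :=
  rs _ le_top (psec 𝒜 r ⟨g i, hg i⟩)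

include hr in
theorem pp_rel (i j : ι) :
    rs ((Scheme.Modules.pullback r).obj (Twist.twist 𝒜 ((1 : ℕ) : ℤ))) (le_top : XX i ≤ ⊤)
        (psec 𝒜 r ⟨g j, hg j⟩) = φ i (g j) • pp 𝒜 g hg XX r i := by
  have h := congrArg (rs _ (le_preimage 𝒜 g hg v XX hgenL φ hφv r hr i))
    (rs_psec_eq_smul 𝒜 r ⟨g j, hg j⟩ ⟨g i, hg i⟩)
  rw [rs_smul, rs_rs, rs_rs, rr_cfun 𝒜 g hg v XX hgenL φ hφv r hr] at h
  exact h

include hr in
theorem pp_compat (i j : ι) (c : Γ(X, XX i ⊓ XX j))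
    (hc : rs L (inf_le_right : XX i ⊓ XX j ≤ XX j) (rs L le_top (v j)) =
      c • rs L (inf_le_left : XX i ⊓ XX j ≤ XX i) (rs L le_top (v i))) :
    rs _ (inf_le_right : XX i ⊓ XX j ≤ XX j) (pp 𝒜 g hg XX r j) =
      c • rs _ (inf_le_left : XX i ⊓ XX j ≤ XX i) (pp 𝒜 g hg XX r i) := by
  have h1 := congrArg (rs L (inf_le_left : XX i ⊓ XX j ≤ XX i)) (hφv i j)
  rw [rs_smul, rs_rs] at h1
  rw [rs_rs] at hc
  have hgi : IsGen L (XX i ⊓ XX j) (rs L inf_le_left (rs L le_top (v i))) :=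
    (hgenL i).mono inf_le_left
  have hc' : c = rr X inf_le_left (φ i (g j)) := hgi.smul_injective (hc.symm.trans h1)
  rw [hc']
  have h2 := congrArg (rs _ (inf_le_left : XX i ⊓ XX j ≤ XX i))
    (pp_rel 𝒜 g hg v XX hgenL φ hφv r hr i j)
  rw [rs_smul, rs_rs] at h2
  unfold pp
  rw [rs_rs]
  exact h2

/-- the comparison morphism `L ⟶ r^*O(1)` -/
noncomputable def beta : L ⟶ (Scheme.Modules.pullback r).obj (Twist.twist 𝒜 ((1 : ℕ) : ℤ)) :=
  HomOfGen.hom hgenL (pp 𝒜 g hg XX r) (pp_compat 𝒜 g hg v XX hgenL φ hφv r hr) hcov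

theorem beta_gen (i : ι) :
    ((beta 𝒜 g hg v XX hgenL hcov φ hφv r hr).app (XX i)).hom (rs L le_top (v i)) =
      pp 𝒜 g hg XX r i :=
  HomOfGen.hom_app_gen _ _ _ _ i

theorem isIso_beta : IsIso (beta 𝒜 g hg v XX hgenL hcov φ hφv r hr) := by
  apply Groth.Agent.Lib.Helper35.PbTensor.isIso_of_isGen_map
  intro x
  obtain ⟨i, hi⟩ := hcov x
  refine ⟨XX i, hi, rs L le_top (v i), hgenL i, ?_⟩
  rw [beta_gen]
  have := (isGen_psec 𝒜 r ⟨g i, hg i⟩).mono (le_preimage 𝒜 g hg v XX hgenL φ hφv r hr i)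
  rw [rs_rs] at this
  exact this

theorem beta_top (i : ι) :
    ((beta 𝒜 g hg v XX hgenL hcov φ hφv r hr).app ⊤).hom (v i) = psec 𝒜 r ⟨g i, hg i⟩ := by
  apply eq_of_locally_eq_pts
  intro x _
  obtain ⟨k, hk⟩ := hcov x
  refine ⟨XX k, le_top, hk, ?_⟩
  change rs _ le_top _ = rs _ le_top _
  rw [← hom_rs, hφv k i, Scheme.Modules.Hom.app_smul, beta_gen,
    pp_rel 𝒜 g hg v XX hgenL φ hφv r hr k i]

include hgen hφc hgenL hcov hφv in
/-- **Existence in the universal property of `Proj`** (abstract form). -/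
theorem exists_morphism_iso :
    ∃ (r : X ⟶ Proj 𝒜) (_ : r ≫ strMap 𝒜 = q)
      (τ : (Scheme.Modules.pullback r).obj (Twist.twist 𝒜 ((1 : ℕ) : ℤ)) ≅ L),
      ∀ i, (τ.hom.app ⊤).hom (psec 𝒜 r ⟨g i, hg i⟩) = v i := by
  obtain ⟨r, hr⟩ := exists_morphism 𝒜 q g hg hgen v XX hgenL hcov φ hφc hφv
  have hiso := isIso_beta 𝒜 g hg v XX hgenL hcov φ hφv r hr
  refine ⟨r, morphism_over 𝒜 q g hg v XX hgenL hcov φ hφc hφv r hr,
    (asIso (beta 𝒜 g hg v XX hgenL hcov φ hφv r hr)).symm, fun i => ?_⟩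
  rw [← beta_top 𝒜 g hg v XX hgenL hcov φ hφv r hr i]
  have h := congrArg (fun ψ => (Scheme.Modules.Hom.app ψ ⊤).hom (v i))
    (asIso (beta 𝒜 g hg v XX hgenL hcov φ hφv r hr)).hom_inv_id
  exact h

end exist

end Groth.Agent.Lib.Helper60.ProjUPLib
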