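import Groth.Agent.Lib.Helper60.ProjUP10
import Groth.Agent.Lib.Lead.QCohAff2

/-!
# Universal property of `Proj`: from stalkwise generation to local generators
-/

set_option autoImplicit false
universe u
open CategoryTheory CategoryTheory.Limits AlgebraicGeometry TopologicalSpace Opposite

namespace Groth.Agent.Lib.Helper60.ProjUPLib

open Groth.Agent.Lib.Helper35.Gen Groth.Agent.Lib.Helper35.PbInv Groth.Agent.Lib.Helper35.AbSheaf
open Groth.Agent.Lib.Lead.QCohAff

variable {X : Scheme.{u}}

/-- if the sections `s i` generate the invertible module `L` stalkwise, then near every point one of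
them is a local generator -/
theorem exists_isGen_of_generatedBy {L : X.Modules} (hL : PicF.IsInvertible L) {ι : Type*}
    (s : ι → ProjUP.Γm L) (hs : ProjUP.GeneratedBy L s) (x : X) :
    ∃ (i : ι) (W : X.Opens), x ∈ W ∧ IsGen L W (rs L le_top (s i)) := by
  obtain ⟨U, hxU, e, he⟩ := exists_isGen_of_isInvertible hL x
  let c : ι → Γ(X, U) := fun i => HomOfGen.coef he U le_rfl (rs L le_top (s i))
  have hc : ∀ i, rs L (le_top : U ≤ ⊤) (s i) = c i • e := by
    intro i
    have := HomOfGen.coef_spec he U le_rfl (rs L le_top (s i))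
    rw [rs_self] at this
    exact this.symm
  by_contra hcon
  push Not at hcon
  -- all germs of the `c i` are non-units
  have hnu : ∀ i, ¬ IsUnit (X.presheaf.germ U x hxU (c i)) := by
    intro i hu
    have hx : x ∈ X.basicOpen (c i) := (X.mem_basicOpen (c i) x hxU).2 hu
    apply hcon i (X.basicOpen (c i)) hx
    have hle : X.basicOpen (c i) ≤ U := X.basicOpen_le (c i)
    have h1 : rs L (le_top : X.basicOpen (c i) ≤ ⊤) (s i) = rr X hle (c i) • rs L hle e := by
      have := congrArg (rs L hle) (hc i)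
      rwa [rs_rs, rs_smul] at this
    rw [h1, isGen_smul_iff (he.mono hle)]
    change X.basicOpen (c i) ≤ X.basicOpen (X.presheaf.map (homOfLE hle).op (c i))
    rw [Scheme.basicOpen_res]
    exact le_inf le_rfl le_rfl
  let gx : L.presheaf.stalk x := L.presheaf.germ U x hxU e
  have hgerm : ∀ i, (L.presheaf.germ ⊤ x trivial).hom (s i) =
      X.presheaf.germ U x hxU (c i) • gx := by
    intro i
    change _ = X.presheaf.germ U x hxU (c i) • L.presheaf.germ U x hxU e
    rw [← germ_smul, ← hc i]
    exact (germ_res L le_top x hxU (s i)).symm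
  have hmem : gx ∈ Submodule.span (X.presheaf.stalk x)
      (Set.range fun i => (L.presheaf.germ ⊤ x trivial).hom (s i)) := by
    rw [hs x]; trivial
  have key : ∀ z ∈ Submodule.span (X.presheaf.stalk x)
      (Set.range fun i => (L.presheaf.germ ⊤ x trivial).hom (s i)),
      ∃ b ∈ IsLocalRing.maximalIdeal (X.presheaf.stalk x), z = b • gx := by
    intro z hz
    induction hz using Submodule.span_induction with
    | mem z hz =>
      obtain ⟨i, rfl⟩ := hz
      exact ⟨_, (IsLocalRing.mem_maximalIdeal _).2 (hnu i), hgerm i⟩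
    | zero => exact ⟨0, zero_mem _, (zero_smul _ _).symm⟩
    | add z w _ _ hz hw =>
      obtain ⟨b, hb, rfl⟩ := hz
      obtain ⟨b', hb', rfl⟩ := hw
      exact ⟨b + b', add_mem hb hb', (add_smul _ _ _).symm⟩
    | smul a z _ hz =>
      obtain ⟨b, hb, rfl⟩ := hz
      exact ⟨a * b, Ideal.mul_mem_left _ _ hb, (mul_smul _ _ _).symm⟩
  obtain ⟨b, hb, hgb⟩ := key gx hmem
  have hu : IsUnit (1 - b) := IsLocalRing.isUnit_one_sub_self_of_mem_nonunits b hb
  have hgx : gx = 0 := by
    have h0 : (1 - b) • gx = 0 := by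
      rw [sub_smul, one_smul, ← hgb, sub_self]
    exact (hu.smul_eq_zero).mp h0
  -- `e` vanishes near `x`
  have hgx' : L.presheaf.germ U x hxU e = L.presheaf.germ U x hxU 0 := by
    rw [map_zero]; exact hgx
  obtain ⟨W, hxW, iU, iV, hW⟩ := TopCat.Presheaf.germ_eq L.presheaf x hxU hxU e 0 hgx'
  have hWU : W ≤ U := iU.le
  have hrs : rs L hWU e = 0 := by
    have h1 : rs L hWU e = L.presheaf.map iU.op e := rfl
    have h2 : L.presheaf.map iV.op (0 : Γ(L, U)) = 0 := map_zero _
    rw [h1, hW, h2]
  have hbij := he W hWU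
  rw [hrs] at hbij
  have h10 : (1 : Γ(X, W)) = 0 := hbij.1 (by simp)
  have h11 : X.presheaf.germ W x hxW (1 : Γ(X, W)) = X.presheaf.germ W x hxW 0 := by rw [h10]
  rw [map_one, map_zero] at h11
  exact one_ne_zero h11

end Groth.Agent.Lib.Helper60.ProjUPLib
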