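import Groth.Agent.Lib.Helper60.ProjUP6

/-!
# Universal property of `Proj`: change of charts and gluing of chart maps
-/

set_option autoImplicit false
universe u
open CategoryTheory AlgebraicGeometry TopologicalSpace Opposite

namespace Groth.Agent.Lib.Helper60.ProjUPLib

open Groth.Agent.Lib.Helper35.Gen Groth.Agent.Lib.Helper35.PbInv Groth.Agent.Lib.Helper35.AbSheaf
open Groth.Agent.Lib.Helper60.TwistLib Groth.Agent.Lib.Helper60.ProjFrac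

variable {R A : Type u} [CommRing R] [CommRing A] [Algebra R A] (𝒜 : ℕ → Submodule R A) [GradedAlgebra 𝒜]
variable {Z : Scheme.{u}}

theorem appLE_fr_of_le (r : Z ⟶ Proj 𝒜) {n : ℕ} (a b : A) (ha : a ∈ 𝒜 n) (hb : b ∈ 𝒜 n)
    {D D' : (Proj 𝒜).Opens} (hD : D ≤ Proj.basicOpen 𝒜 b) (hDD' : D' ≤ D) (W : Z.Opens)
    (e : W ≤ r ⁻¹ᵁ D) (e' : W ≤ r ⁻¹ᵁ D') :
    (r.appLE D W e).hom (fr 𝒜 a b ha hb D (notMem_of_mem_basicOpen 𝒜 hD)) =
      (r.appLE D' W e').hom (fr 𝒜 a b ha hb D' (notMem_of_mem_basicOpen 𝒜 (hDD'.trans hD))) := by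
  have h1 := Scheme.Hom.map_appLE r e' (homOfLE hDD').op
  have h2 := congrArg (fun φ => φ.hom (fr 𝒜 a b ha hb D (notMem_of_mem_basicOpen 𝒜 hD))) h1
  exact h2.symm

/-- change of charts -/
theorem appLE_fr_mul (r : Z ⟶ Proj 𝒜) {n : ℕ} (a b c : A) (ha : a ∈ 𝒜 n) (hb : b ∈ 𝒜 n)
    (hc : c ∈ 𝒜 n) (W : Z.Opens) (eb : W ≤ r ⁻¹ᵁ Proj.basicOpen 𝒜 b)
    (ec : W ≤ r ⁻¹ᵁ Proj.basicOpen 𝒜 c) :
    (r.appLE (Proj.basicOpen 𝒜 b) W eb).hom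
        (fr 𝒜 a b ha hb (Proj.basicOpen 𝒜 b) (notMem_of_mem_basicOpen 𝒜 le_rfl)) *
      (r.appLE (Proj.basicOpen 𝒜 c) W ec).hom
        (fr 𝒜 b c hb hc (Proj.basicOpen 𝒜 c) (notMem_of_mem_basicOpen 𝒜 le_rfl)) =
      (r.appLE (Proj.basicOpen 𝒜 c) W ec).hom
        (fr 𝒜 a c ha hc (Proj.basicOpen 𝒜 c) (notMem_of_mem_basicOpen 𝒜 le_rfl)) := by
  have e : W ≤ r ⁻¹ᵁ (Proj.basicOpen 𝒜 b ⊓ Proj.basicOpen 𝒜 c) := le_inf eb ec
  rw [appLE_fr_of_le 𝒜 r a b ha hb le_rfl inf_le_left W eb e,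
    appLE_fr_of_le 𝒜 r b c hb hc le_rfl inf_le_right W ec e,
    appLE_fr_of_le 𝒜 r a c ha hc le_rfl inf_le_right W ec e, ← map_mul, fr_mul]
  congr 1
  apply fr_eq_of_mul_eq
  ring

section single

variable {ι : Type*} (g : ι → A) (hg : ∀ i, g i ∈ 𝒜 1) (hgen : Algebra.adjoin R (Set.range g) = ⊤)

include hgen in
/-- uniqueness criterion for morphisms landing in a single chart -/
theorem hom_ext_single_chart (k : ι) (r r' : Z ⟶ Proj 𝒜) (hover : r ≫ strMap 𝒜 = r' ≫ strMap 𝒜)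
    (h : r ⁻¹ᵁ Proj.basicOpen 𝒜 (g k) = ⊤) (h' : r' ⁻¹ᵁ Proj.basicOpen 𝒜 (g k) = ⊤)
    (hc : ∀ j, (r.appLE (Proj.basicOpen 𝒜 (g k)) ⊤ h.ge).hom
        (fr 𝒜 (g j) (g k) (hg j) (hg k) (Proj.basicOpen 𝒜 (g k)) (notMem_of_mem_basicOpen 𝒜 le_rfl)) =
      (r'.appLE (Proj.basicOpen 𝒜 (g k)) ⊤ h'.ge).hom
        (fr 𝒜 (g j) (g k) (hg j) (hg k) (Proj.basicOpen 𝒜 (g k))
          (notMem_of_mem_basicOpen 𝒜 le_rfl))) : r = r' := by
  have key := resLE_eq_of_appLE_eq r r' (Proj.basicOpen 𝒜 (g k))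
    (Proj.isAffineOpen_basicOpen 𝒜 (g k) (hg k) one_pos) ⊤ h.ge h'.ge (by
      apply CommRingCat.hom_ext
      apply ringHom_ext_basicOpen 𝒜 g hg hgen (hg k)
      · exact hc
      · intro c
        rw [appLE_const, appLE_const, hover])
  exact (cancel_epi (Scheme.topIso Z).hom).mp key

end single

section glue

variable {X : Scheme.{u}} {ι : Type*} (g : ι → A) (hg : ∀ i, g i ∈ 𝒜 1)
  (hgen : Algebra.adjoin R (Set.range g) = ⊤)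

/-- the fraction `g j / g k` in `A_(g k)` -/
noncomputable def gfrac (j k : ι) : HomogeneousLocalization.Away 𝒜 (g k) :=
  HomogeneousLocalization.Away.mk 𝒜 (hg k) 1 (g j) (hg j)

theorem chartMap_appLE_fr (k j : ι) (W : X.Opens)
    (ψ : HomogeneousLocalization.Away 𝒜 (g k) →+* Γ(X, W)) :
    ((chartMap 𝒜 (hg k) one_pos W ψ).appLE (Proj.basicOpen 𝒜 (g k)) ⊤
      (chartMap_preimage 𝒜 (hg k) one_pos W ψ).ge).hom
      (fr 𝒜 (g j) (g k) (hg j) (hg k) (Proj.basicOpen 𝒜 (g k)) (notMem_of_mem_basicOpen 𝒜 le_rfl)) =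
      W.topIso.inv.hom (ψ (gfrac 𝒜 g hg j k)) := by
  rw [← chartMap_appLE 𝒜 (hg k) one_pos, gfrac, awayToSection_mk]
  congr 1
  exact fr_congr 𝒜 _ _ _ _ _ _ _ rfl (pow_one _).symm

include hgen in
theorem chartMap_eq_chartMap (k l : ι) (W : X.Opens)
    (ψk : HomogeneousLocalization.Away 𝒜 (g k) →+* Γ(X, W))
    (ψl : HomogeneousLocalization.Away 𝒜 (g l) →+* Γ(X, W))
    (h1 : ∀ j, ψl (gfrac 𝒜 g hg j l) = ψk (gfrac 𝒜 g hg j k) * ψl (gfrac 𝒜 g hg k l))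
    (h2 : IsUnit (ψl (gfrac 𝒜 g hg k l)))
    (h3 : ∀ c : R, ψk (HomogeneousLocalization.fromZeroRingHom 𝒜 _ (algebraMap R (𝒜 0) c)) =
      ψl (HomogeneousLocalization.fromZeroRingHom 𝒜 _ (algebraMap R (𝒜 0) c))) :
    chartMap 𝒜 (hg k) one_pos W ψk = chartMap 𝒜 (hg l) one_pos W ψl := by
  have hpk := chartMap_preimage 𝒜 (hg k) one_pos W ψk
  have hpl := chartMap_preimage 𝒜 (hg l) one_pos W ψl
  have hval := chartMap_appLE_fr 𝒜 g hg l k W ψl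
  have hunit : IsUnit (((chartMap 𝒜 (hg l) one_pos W ψl).appLE (Proj.basicOpen 𝒜 (g l)) ⊤
      hpl.ge).hom (fr 𝒜 (g k) (g l) (hg k) (hg l) (Proj.basicOpen 𝒜 (g l))
        (notMem_of_mem_basicOpen 𝒜 le_rfl))) := by
    rw [hval]
    exact h2.map _
  have hpk' : chartMap 𝒜 (hg l) one_pos W ψl ⁻¹ᵁ Proj.basicOpen 𝒜 (g k) = ⊤ := by
    rw [eq_top_iff]
    have h4 := basicOpen_cfun 𝒜 (chartMap 𝒜 (hg l) one_pos W ψl) ⟨g k, hg k⟩ ⟨g l, hg l⟩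
    rw [appLE_apply] at hunit
    have h6 := Scheme.basicOpen_of_isUnit _ hunit
    have h7 : (W : Scheme.{u}).basicOpen (rr (W : Scheme.{u}) hpl.ge
        (cfun 𝒜 (chartMap 𝒜 (hg l) one_pos W ψl) ⟨g k, hg k⟩ ⟨g l, hg l⟩)) =
        ⊤ ⊓ (W : Scheme.{u}).basicOpen
          (cfun 𝒜 (chartMap 𝒜 (hg l) one_pos W ψl) ⟨g k, hg k⟩ ⟨g l, hg l⟩) :=
      Scheme.basicOpen_res _ _ (homOfLE hpl.ge).op
    have h8 := h7.symm.trans h6
    rw [h4, top_inf_eq] at h8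
    rw [← h8]
    exact (chartMap 𝒜 (hg l) one_pos W ψl).preimage_mono inf_le_right
  refine hom_ext_single_chart 𝒜 g hg hgen k _ _ ?_ hpk hpk' ?_
  · rw [chartMap_strMap, chartMap_strMap]
    congr 3
    ext c
    exact h3 c
  · intro j
    rw [chartMap_appLE_fr]
    have hR := appLE_fr_mul 𝒜 (chartMap 𝒜 (hg l) one_pos W ψl) (g j) (g k) (g l) (hg j) (hg k)
      (hg l) ⊤ hpk'.ge hpl.ge
    rw [hval, chartMap_appLE_fr 𝒜 g hg l j W ψl, h1 j, map_mul] at hR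
    exact ((h2.map W.topIso.inv.hom).mul_left_injective hR).symm

end glue

end Groth.Agent.Lib.Helper60.ProjUPLib
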