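import Groth.Agent.Lib.Helper60.ProjUP7

/-!
# Universal property of `Proj`: existence of the morphism
-/

set_option autoImplicit false
universe u
open CategoryTheory CategoryTheory.Limits AlgebraicGeometry TopologicalSpace Opposite

namespace Groth.Agent.Lib.Helper60.ProjUPLib

open Groth.Agent.Lib.Helper35.Gen Groth.Agent.Lib.Helper35.PbInv Groth.Agent.Lib.Helper35.AbSheaf
open Groth.Agent.Lib.Helper60.TwistLib Groth.Agent.Lib.Helper60.ProjFrac

/-- gluing morphisms defined on the members of a cover by opens -/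
theorem exists_glue_opens {X Y : Scheme.{u}} {ι : Type*} (U : ι → X.Opens)
    (hU : ∀ x : X, ∃ i, x ∈ U i) (ρ : ∀ i, (U i : Scheme.{u}) ⟶ Y)
    (hρ : ∀ k l, X.homOfLE (inf_le_left : U k ⊓ U l ≤ U k) ≫ ρ k =
      X.homOfLE (inf_le_right : U k ⊓ U l ≤ U l) ≫ ρ l) :
    ∃ r : X ⟶ Y, ∀ i, (U i).ι ≫ r = ρ i := by
  have hcov : IsOpenCover U := by
    rw [IsOpenCover, eq_top_iff]
    intro x _
    obtain ⟨i, hi⟩ := hU x
    exact Opens.mem_iSup.mpr ⟨i, hi⟩
  let 𝒰 : X.OpenCover := X.openCoverOfIsOpenCover U hcov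
  let ρ' : ∀ x : 𝒰.I₀, 𝒰.X x ⟶ Y := ρ
  have hf : ∀ k l : 𝒰.I₀, pullback.fst (𝒰.f k) (𝒰.f l) ≫ ρ' k =
      pullback.snd (𝒰.f k) (𝒰.f l) ≫ ρ' l := by
    intro k l
    change pullback.fst (U k).ι (U l).ι ≫ ρ k = pullback.snd (U k).ι (U l).ι ≫ ρ l
    have hpb := isPullback_opens_inf (U k) (U l)
    rw [← cancel_epi hpb.isoPullback.hom]
    have h1 : hpb.isoPullback.hom ≫ pullback.fst (U k).ι (U l).ι = X.homOfLE inf_le_left :=
      hpb.isoPullback_hom_fst
    have h2 : hpb.isoPullback.hom ≫ pullback.snd (U k).ι (U l).ι = X.homOfLE inf_le_right :=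
      hpb.isoPullback_hom_snd
    rw [← Category.assoc, ← Category.assoc, h1, h2]
    exact hρ k l
  exact ⟨𝒰.glueMorphisms ρ' hf, fun i => 𝒰.ι_glueMorphisms ρ' hf i⟩


variable {R A : Type u} [CommRing R] [CommRing A] [Algebra R A] (𝒜 : ℕ → Submodule R A) [GradedAlgebra 𝒜]

theorem awayLift_fromZero {B : Type*} [CommRing B] (φ : A →+* B) (f : A) (hu : IsUnit (φ f))
    (c : 𝒜 0) :
    awayLift 𝒜 φ f hu (HomogeneousLocalization.fromZeroRingHom 𝒜 _ c) = φ c.1 := by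
  unfold awayLift
  rw [RingHom.comp_apply, HomogeneousLocalization.algebraMap_apply]
  have h : (HomogeneousLocalization.fromZeroRingHom 𝒜 (Submonoid.powers f) c).val =
      algebraMap A (Localization.Away f) c.1 := (Localization.mk_one_eq_algebraMap c.1)
  rw [h, IsLocalization.Away.lift_eq]

section exist

variable {X : Scheme.{u}} (q : X ⟶ Spec (CommRingCat.of R)) {L : X.Modules}
variable {ι : Type*} (g : ι → A) (hg : ∀ i, g i ∈ 𝒜 1)
  (hgen : Algebra.adjoin R (Set.range g) = ⊤)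
variable (v : ι → Γ(L, ⊤)) (XX : ι → X.Opens)
  (hgenL : ∀ i, IsGen L (XX i) (rs L le_top (v i)))
  (hcov : ∀ x : X, ∃ i, x ∈ XX i)
  (φ : ∀ i, A →+* Γ(X, XX i))
  (hφc : ∀ i (c : R), φ i (algebraMap R A c) = rr X le_top (ProjUP.toGlobal q c))
  (hφv : ∀ i j, rs L (le_top : XX i ≤ ⊤) (v j) = φ i (g j) • rs L le_top (v i))

include hgenL hφv in
theorem phi_self (i : ι) : φ i (g i) = 1 := by
  apply (hgenL i).smul_injective
  rw [one_smul]
  exact (hφv i i).symm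

include hgenL hφv in
theorem phi_isUnit (i : ι) : IsUnit (φ i (g i)) := by
  rw [phi_self g v XX hgenL φ hφv i]
  exact isUnit_one

/-- the chart ring map `A_(g i) → Γ(X, XX i)` -/
noncomputable def psi (i : ι) : HomogeneousLocalization.Away 𝒜 (g i) →+* Γ(X, XX i) :=
  awayLift 𝒜 (φ i) (g i) (phi_isUnit g v XX hgenL φ hφv i)

theorem psi_gfrac (i j : ι) :
    psi 𝒜 g v XX hgenL φ hφv i (gfrac 𝒜 g hg j i) = φ i (g j) :=
  awayLift_mk 𝒜 (φ i) (g i) _ (hg i) (phi_self g v XX hgenL φ hφv i) 1 (g j) (hg j)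

theorem psi_const (i : ι) (c : R) :
    psi 𝒜 g v XX hgenL φ hφv i
      (HomogeneousLocalization.fromZeroRingHom 𝒜 _ (algebraMap R (𝒜 0) c)) =
      φ i (algebraMap R A c) :=
  awayLift_fromZero 𝒜 (φ i) (g i) _ _

/-- the chart morphism `XX i ⟶ Proj` -/
noncomputable def rho (i : ι) : (XX i : Scheme.{u}) ⟶ Proj 𝒜 :=
  chartMap 𝒜 (hg i) one_pos (XX i) (psi 𝒜 g v XX hgenL φ hφv i)

include hgenL hφv in
theorem phi_mul (k l j : ι) :
    rr X (inf_le_right : XX k ⊓ XX l ≤ XX l) (φ l (g j)) =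
      rr X (inf_le_left : XX k ⊓ XX l ≤ XX k) (φ k (g j)) *
        rr X (inf_le_right : XX k ⊓ XX l ≤ XX l) (φ l (g k)) := by
  have hl : IsGen L (XX k ⊓ XX l) (rs L le_top (v l)) := by
    have := (hgenL l).mono (inf_le_right : XX k ⊓ XX l ≤ XX l)
    rwa [rs_rs] at this
  apply hl.smul_injective
  have h1 := congrArg (rs L (inf_le_right : XX k ⊓ XX l ≤ XX l)) (hφv l j)
  have h2 := congrArg (rs L (inf_le_left : XX k ⊓ XX l ≤ XX k)) (hφv k j)
  have h3 := congrArg (rs L (inf_le_right : XX k ⊓ XX l ≤ XX l)) (hφv l k)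
  rw [rs_smul, rs_rs, rs_rs] at h1 h2 h3
  rw [← h1, mul_smul, ← h3]
  exact h2

include hgenL hφv in
theorem phi_unit (k l : ι) :
    IsUnit (rr X (inf_le_right : XX k ⊓ XX l ≤ XX l) (φ l (g k))) := by
  have hl : IsGen L (XX k ⊓ XX l) (rs L le_top (v l)) := by
    have := (hgenL l).mono (inf_le_right : XX k ⊓ XX l ≤ XX l)
    rwa [rs_rs] at this
  have hk : IsGen L (XX k ⊓ XX l) (rs L le_top (v k)) := by
    have := (hgenL k).mono (inf_le_left : XX k ⊓ XX l ≤ XX k)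
    rwa [rs_rs] at this
  have h3 := congrArg (rs L (inf_le_right : XX k ⊓ XX l ≤ XX l)) (hφv l k)
  rw [rs_smul, rs_rs, rs_rs] at h3
  rw [h3, isGen_smul_iff hl, ← forall_isUnit_iff_le_basicOpen _ _ le_rfl] at hk
  have := hk _ le_rfl
  rwa [rr_self] at this

include hgen hφc in
theorem rho_compat (k l : ι) :
    X.homOfLE (inf_le_left : XX k ⊓ XX l ≤ XX k) ≫ rho 𝒜 g hg v XX hgenL φ hφv k =
      X.homOfLE (inf_le_right : XX k ⊓ XX l ≤ XX l) ≫ rho 𝒜 g hg v XX hgenL φ hφv l := by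
  unfold rho
  rw [homOfLE_chartMap, homOfLE_chartMap]
  apply chartMap_eq_chartMap 𝒜 g hg hgen k l
  · intro j
    change rr X _ (psi 𝒜 g v XX hgenL φ hφv l _) =
      rr X _ (psi 𝒜 g v XX hgenL φ hφv k _) * rr X _ (psi 𝒜 g v XX hgenL φ hφv l _)
    rw [psi_gfrac, psi_gfrac, psi_gfrac]
    exact phi_mul g v XX hgenL φ hφv k l j
  · change IsUnit (rr X _ (psi 𝒜 g v XX hgenL φ hφv l _))
    rw [psi_gfrac]
    exact phi_unit g v XX hgenL φ hφv k l
  · intro c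
    change rr X _ (psi 𝒜 g v XX hgenL φ hφv k _) = rr X _ (psi 𝒜 g v XX hgenL φ hφv l _)
    rw [psi_const, psi_const, hφc, hφc, rr_rr, rr_rr]

end exist

end Groth.Agent.Lib.Helper60.ProjUPLib
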