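import Groth.Agent.Lib.Helper60.ProjUP8
import Groth.Agent.Lib.Helper60.HomOfGen

/-!
# Universal property of `Proj`: the glued morphism and the isomorphism `r^*O(1) ≅ L`
-/

set_option autoImplicit false
universe u
open CategoryTheory CategoryTheory.Limits AlgebraicGeometry TopologicalSpace Opposite

namespace Groth.Agent.Lib.Helper60.ProjUPLib

open Groth.Agent.Lib.Helper35.Gen Groth.Agent.Lib.Helper35.PbInv Groth.Agent.Lib.Helper35.AbSheaf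
open Groth.Agent.Lib.Helper60.TwistLib Groth.Agent.Lib.Helper60.ProjFrac

variable {R A : Type u} [CommRing R] [CommRing A] [Algebra R A] (𝒜 : ℕ → Submodule R A) [GradedAlgebra 𝒜]

theorem appLE_hom_congr {Z Y : Scheme.{u}} {f f' : Z ⟶ Y} (h : f = f') (U : Y.Opens) (V : Z.Opens)
    (e : V ≤ f ⁻¹ᵁ U) (e' : V ≤ f' ⁻¹ᵁ U) (s : Γ(Y, U)) :
    (f.appLE U V e).hom s = (f'.appLE U V e').hom s := by
  subst h
  rfl

theorem eq_toSpecΓ_comp {X : Scheme.{u}} (q : X ⟶ Spec (CommRingCat.of R)) :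
    q = X.toSpecΓ ≫ Spec.map ((Scheme.ΓSpecIso (CommRingCat.of R)).inv ≫ q.appTop) := by
  rw [Spec.map_comp, ← Category.assoc, ← Scheme.toSpecΓ_naturality, Category.assoc,
    toSpecΓ_SpecMap_ΓSpecIso_inv, Category.comp_id]

section exist

variable {X : Scheme.{u}} (q : X ⟶ Spec (CommRingCat.of R)) {L : X.Modules}
variable {ι : Type*} (g : ι → A) (hg : ∀ i, g i ∈ 𝒜 1)
  (hgen : Algebra.adjoin R (Set.range g) = ⊤)
variable (v : ι → Γ(L, ⊤)) (XX : ι → X.Opens)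
  (hgenL : ∀ i, IsGen L (XX i) (rs L le_top (v i)))
  (hcov : ∀ x : X, ∃ i, x ∈ XX i)
  (φ : ∀ i, A →+* Γ(X, XX i))
  (hφc : ∀ i (c : R), φ i (algebraMap R A c) = rr X le_top (ProjUP.toGlobal q c))
  (hφv : ∀ i j, rs L (le_top : XX i ≤ ⊤) (v j) = φ i (g j) • rs L le_top (v i))
  (r : X ⟶ Proj 𝒜) (hr : ∀ i, (XX i).ι ≫ r = rho 𝒜 g hg v XX hgenL φ hφv i)

include hgen hcov hφc in
theorem exists_morphism :
    ∃ r : X ⟶ Proj 𝒜, ∀ i, (XX i).ι ≫ r = rho 𝒜 g hg v XX hgenL φ hφv i :=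
  exists_glue_opens XX hcov _ (rho_compat 𝒜 q g hg hgen v XX hgenL φ hφc hφv)

include hcov hφc hr in
theorem morphism_over : r ≫ strMap 𝒜 = q := by
  refine Scheme.hom_ext_of_forall _ _ (fun x => ?_)
  obtain ⟨i, hi⟩ := hcov x
  refine ⟨XX i, hi, ?_⟩
  rw [← Category.assoc, hr i]
  unfold rho
  rw [chartMap_strMap]
  conv_rhs => rw [eq_toSpecΓ_comp q]
  rw [← Category.assoc, ← Scheme.Opens.toSpecΓ_SpecMap_presheaf_map_top, Category.assoc,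
    ← Spec.map_comp]
  congr 2
  ext c
  change psi 𝒜 g v XX hgenL φ hφv i _ = _
  rw [psi_const, hφc]
  rfl

include hr in
theorem le_preimage (i : ι) : XX i ≤ r ⁻¹ᵁ Proj.basicOpen 𝒜 (g i) := by
  intro x hx
  have h1 : rho 𝒜 g hg v XX hgenL φ hφv i ⁻¹ᵁ Proj.basicOpen 𝒜 (g i) = ⊤ :=
    chartMap_preimage 𝒜 (hg i) one_pos _ _
  rw [← hr i, Scheme.Hom.comp_preimage] at h1
  have h2 : (⟨x, hx⟩ : XX i) ∈ (XX i).ι ⁻¹ᵁ (r ⁻¹ᵁ Proj.basicOpen 𝒜 (g i)) := by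
    rw [h1]; trivial
  exact h2

include hr in
theorem rr_cfun (i j : ι) :
    rr X (le_preimage 𝒜 g hg v XX hgenL φ hφv r hr i) (cfun 𝒜 r ⟨g j, hg j⟩ ⟨g i, hg i⟩) =
      φ i (g j) := by
  have h1 := chartMap_appLE_fr 𝒜 g hg i j (XX i) (psi 𝒜 g v XX hgenL φ hφv i)
  rw [psi_gfrac] at h1
  have hpre : (⊤ : (XX i : Scheme.{u}).Opens) ≤ ((XX i).ι ≫ r) ⁻¹ᵁ Proj.basicOpen 𝒜 (g i) := by
    rw [hr i]
    exact (chartMap_preimage 𝒜 (hg i) one_pos _ _).ge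
  have h2 := appLE_hom_congr (hr i) (Proj.basicOpen 𝒜 (g i)) ⊤ hpre
    (chartMap_preimage 𝒜 (hg i) one_pos _ _).ge
    (fr 𝒜 (g j) (g i) (hg j) (hg i) (Proj.basicOpen 𝒜 (g i)) (notMem_of_mem_basicOpen 𝒜 le_rfl))
  have h3 : ((XX i).ι ≫ r).appLE (Proj.basicOpen 𝒜 (g i)) ⊤ hpre =
      r.appLE (Proj.basicOpen 𝒜 (g i)) (XX i) (le_preimage 𝒜 g hg v XX hgenL φ hφv r hr i) ≫
        (XX i).ι.appLE (XX i) ⊤ (by simp) :=
    (Scheme.Hom.appLE_comp_appLE _ _ _ _ _ _ _).symm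
  have h4 : (XX i).ι.appLE (XX i) ⊤ (by simp) = (XX i).topIso.inv := by
    rw [Scheme.Opens.ι_appLE]
    rfl
  rw [h3, h4] at h2
  have h5 := h2.trans h1
  have hinj : Function.Injective (XX i).topIso.inv.hom :=
    (ConcreteCategory.bijective_of_isIso (XX i).topIso.inv).1
  exact hinj h5

end exist

end Groth.Agent.Lib.Helper60.ProjUPLib
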