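import Groth.Agent.Lib.Helper97.RegClosed
import Groth.Agent.Lib.Helper48.Conormal1
import Groth.Agent.Lib.Helper21.QCohSections
import Groth.Agent.Lib.Helper35.PbAmple
import Groth.Agent.Lib.Helper60.Cm5
import Groth.Agent.Lib.Helper97.PushEdgeLin
import Groth.Agent.S11296

/-!
# helper60: pushing `0 → F(-1) → F → G → 0` forward along a closed immersion into `P^n_k`
-/

set_option autoImplicit false
universe u

open CategoryTheory CategoryTheory.Limits AlgebraicGeometry TopologicalSpace Opposite

namespace Groth.Agent.Lib.Helper60.RegCl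

section General

variable {X P : Scheme.{u}} (i : X ⟶ P)

/-- pushforward along an affine morphism preserves epimorphisms of quasi-coherent modules -/
theorem epi_pushforward [IsAffineHom i] {A B : X.Modules}
    [A.IsQuasicoherent] [B.IsQuasicoherent] (φ : A ⟶ B) [Epi φ] :
    Epi ((Scheme.Modules.pushforward i).map φ) := by
  apply Groth.Agent.Lib.Helper48.Conormal.epi_of_basis _ _ P.isBasis_affineOpens
  rintro V hV
  rw [Scheme.Modules.pushforward_map_app]
  exact Groth.Agent.Lib.Helper21.QCohSections.app_surjective_of_epi φ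
    (IsAffineOpen.preimage hV i)

instance : PreservesFiniteLimits (Scheme.Modules.pushforward i) := by
  haveI : (Scheme.Modules.pushforward i).IsRightAdjoint :=
    (Scheme.Modules.pullbackPushforwardAdjunction i).isRightAdjoint
  infer_instance

/-- pushforward along an affine morphism of a short exact sequence of quasi-coherent modules -/
theorem shortExact_pushforward [IsAffineHom i] (S : ShortComplex X.Modules) (hS : S.ShortExact)
    [S.X₂.IsQuasicoherent] [S.X₃.IsQuasicoherent] :
    (S.map (Scheme.Modules.pushforward i)).ShortExact := by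
  haveI := hS.mono_f
  haveI := hS.epi_g
  haveI : Mono (S.map (Scheme.Modules.pushforward i)).f :=
    inferInstanceAs (Mono ((Scheme.Modules.pushforward i).map S.f))
  haveI : Epi (S.map (Scheme.Modules.pushforward i)).g := epi_pushforward i S.g
  have hex : (S.map (Scheme.Modules.pushforward i)).Exact :=
    (((Functor.preservesFiniteLimits_iff_forall_exact_map_and_mono
      (Scheme.Modules.pushforward i)).1 inferInstance) S hS).1
  exact ShortComplex.ShortExact.mk hex

end General

section Pn

variable (k : Type u) [Field k] {n : ℕ} {X : Scheme.{u}} (i : X ⟶ CohB1.ProjSpace n k)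
  [IsClosedImmersion i]

/-- quasi-coherence of twists -/
theorem isQuasicoherent_twistOn (F : X.Modules) [F.IsQuasicoherent] (d : ℤ) :
    (Pic13.twistOn k i F d).IsQuasicoherent :=
  Groth.Agent.Lib.Lead.Inv.isQuasicoherent_tensorMod_right F
    (Groth.Agent.Lib.Helper35.PbInv.isInvertible_pullback i
      (Groth.Agent.Lib.Helper93.SerreVan.isInvertible_twist n k d))

/-- the pushed-forward sequence `0 → (i_*F)(-1) → i_*F → i_*G → 0` -/
theorem exists_mono (F G : X.Modules) (hF : Coh.IsCoh F) (hG : Coh.IsCoh G)
    (f : Pic13.twistOn k i F (-1) ⟶ F) (g : F ⟶ G) (hfg : f ≫ g = 0)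
    (hS : (ShortComplex.mk f g hfg).ShortExact) :
    ∃ ι' : CohB1.tensorMod ((Scheme.Modules.pushforward i).obj F)
        (Twist.twistProjSpace n k (-1)) ⟶ (Scheme.Modules.pushforward i).obj F,
      Mono ι' ∧ Nonempty (cokernel ι' ≅ (Scheme.Modules.pushforward i).obj G) := by
  haveI hFq : F.IsQuasicoherent := hF.1
  haveI hGq : G.IsQuasicoherent := hG.1
  obtain ⟨φ⟩ := Groth.Agent.Lib.Helper97.PruferSerreT4.projection' i F
    (Twist.twistProjSpace n k (-1))
    (Groth.Agent.Lib.Helper93.SerreVan.isInvertible_twist n k (-1))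
  have hS' := @shortExact_pushforward _ _ i _ (ShortComplex.mk f g hfg) hS hFq hGq
  have hm : Mono ((Scheme.Modules.pushforward i).map f) := hS'.mono_f
  refine ⟨φ.inv ≫ (Scheme.Modules.pushforward i).map f, mono_comp' inferInstance hm, ⟨?_⟩⟩
  exact cokernelEpiComp φ.inv _ ≪≫
    IsColimit.coconePointUniqueUpToIso (colimit.isColimit _) hS'.gIsCokernel

end Pn

end Groth.Agent.Lib.Helper60.RegCl
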