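import Groth.Agent.Lib.Helper60.Gg5
import Groth.Agent.Lib.Helper93.PnFin2
import Groth.Agent.Lib.Helper93.SerreVan

/-!
# Regularity and linear presentations: cohomological tools
-/

set_option autoImplicit false
universe u
open CategoryTheory CategoryTheory.Limits AlgebraicGeometry TopologicalSpace Opposite

namespace Groth.Agent.Lib.Helper60.Koszul

open Groth.Agent.Lib.Helper97.TwistExact Groth.Agent.Lib.Helper78.ModStalkExact Abelian

section General

variable {X : Scheme.{u}}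

theorem subsingleton_HH_X₁ {S : ShortComplex X.Modules} (hS : S.ShortExact) (p : ℕ)
    (h3 : Subsingleton (Coh.HH X S.X₃ p)) (h2 : Subsingleton (Coh.HH X S.X₂ (p + 1))) :
    Subsingleton (Coh.HH X S.X₁ (p + 1)) := by
  have hT := shortExact_toSh S hS
  refine ⟨fun a b => ?_⟩
  suffices h0 : ∀ x : Coh.HH X S.X₁ (p + 1), x = 0 from (h0 a).trans (h0 b).symm
  intro x₁
  have h : x₁.comp (Ext.mk₀ (S.map (toSh X)).f) (add_zero (p + 1)) = 0 :=
    @Subsingleton.elim (Coh.HH X S.X₂ (p + 1)) h2 _ _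
  obtain ⟨x₃, rfl⟩ := Ext.covariant_sequence_exact₁ _ hT x₁ h rfl
  have : x₃ = 0 := @Subsingleton.elim (Coh.HH X S.X₃ p) h3 _ _
  rw [this, Ext.zero_comp]
  rfl

theorem subsingleton_H1_X₁_of_surjective {S : ShortComplex X.Modules} (hS : S.ShortExact)
    (hsurj : Function.Surjective (S.g.val.app (op ⊤)).hom)
    (h2 : Subsingleton (Coh.HH X S.X₂ 1)) : Subsingleton (Coh.HH X S.X₁ 1) := by
  have hT := shortExact_toSh S hS
  have hTop : IsTerminal (⊤ : Opens X) := isTerminalTop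
  refine ⟨fun a b => ?_⟩
  suffices h0 : ∀ x : Coh.HH X S.X₁ 1, x = 0 from (h0 a).trans (h0 b).symm
  intro x₁
  have h : x₁.comp (Ext.mk₀ (S.map (toSh X)).f) (add_zero 1) = 0 :=
    @Subsingleton.elim (Coh.HH X S.X₂ 1) h2 _ _
  obtain ⟨x₃, rfl⟩ := Ext.covariant_sequence_exact₁ _ hT x₁ h (rfl : 0 + 1 = 1)
  obtain ⟨y, hy⟩ := hsurj (Sheaf.H.equiv₀ (Coh.toAb S.X₃) hTop x₃)
  let x₂ : Coh.HH X S.X₂ 0 := (Sheaf.H.equiv₀ (Coh.toAb S.X₂) hTop).symm y
  have hx : Sheaf.H.map ((S.map (toSh X)).g) 0 x₂ = x₃ := by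
    have h1 := Sheaf.H.equiv₀_symm_naturality (hT := hTop) ((S.map (toSh X)).g) y
    refine h1.trans ?_
    apply (Sheaf.H.equiv₀ (Coh.toAb S.X₃) hTop).injective
    exact ((Sheaf.H.equiv₀ (Coh.toAb S.X₃) hTop).apply_symm_apply _).trans hy
  rw [← hx, Sheaf.H.map_apply]
  exact Groth.Agent.Lib.Helper93.CohFin.comp_g_comp_extClass hT _ 0 x₂

end General

end Groth.Agent.Lib.Helper60.Koszul
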