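import Groth.Agent.Lib.Helper60.Rg1

/-!
# Regularity and linear presentations
-/

set_option autoImplicit false
universe u
open CategoryTheory CategoryTheory.Limits AlgebraicGeometry TopologicalSpace Opposite

namespace Groth.Agent.Lib.Helper60.Koszul

open Groth.Agent.Lib.Helper97.TwistExact Groth.Agent.Lib.Helper78.ModStalkExact Abelian

section Pn

variable (k : Type u) [Field k] (n : ℕ)

theorem isCoh_sigma_twist (b : ℕ) (d : ℤ) :
    Coh.IsCoh (∐ fun _ : Fin b => Twist.twistProjSpace n k d) :=
  Groth.Agent.Lib.Helper93.PnFin.isCoh_sigma _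
    (fun _ => Groth.Agent.Lib.Helper93.PnFin.isCoh_twist n k d)

/-- the easy direction: a linear presentation with `(m+1)`-regular kernel forces `m`-regularity -/
theorem regular_of_presentation (F : (CohB1.ProjSpace n k).Modules) (hF : Coh.IsCoh F) (m : ℤ)
    (b : ℕ) (φ : (∐ fun _ : Fin b => Twist.twistProjSpace n k (-m)) ⟶ F) (hφ : Epi φ)
    (hK : Curv2.IsMRegular k n (kernel φ) (m + 1)) : Curv2.IsMRegular k n F m := by
  intro i hi1 hin
  let S : ShortComplex (CohB1.ProjSpace n k).Modules :=
    ShortComplex.mk (kernel.ι φ) φ (kernel.condition φ)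
  have hS : S.ShortExact :=
    { exact := ShortComplex.exact_kernel φ
      mono_f := inferInstanceAs (Mono (kernel.ι φ))
      epi_g := hφ }
  have hS' := shortExact_twist (Twist.twistProjSpace n k (m - i))
    (isFlat_twistProjSpace k n (m - i)) S hS
  refine subsingleton_HH_X₃ hS' i ?_ ?_
  · exact Groth.Agent.Lib.Helper93.SerreVan.subsingleton_HH_sigma_twist n k (fun _ => -m)
      (m - i) i (by omega) (fun _ => by omega)
  · by_cases h : i + 1 ≤ n
    · have h1 := hK (i + 1) (by omega) h
      have e : m + 1 - ((i + 1 : ℕ) : ℤ) = m - i := by push_cast; ring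
      rw [e] at h1
      exact h1
    · haveI := Groth.Agent.Lib.Helper93.PnFin.isLocallyNoetherian_projSpace n k
      have hKcoh : Coh.IsCoh (kernel φ) :=
        Groth.Agent.Lib.Helper21.Devissage.isCoh_kernel φ (isCoh_sigma_twist k n b (-m)) hF
      exact subsingleton_HH_twist_of_lt k n (kernel φ) hKcoh.1 _ _ (by omega)

/-- finitely many global sections generating `Γ(M, ⊤)` over the global functions -/
theorem exists_fin_gens (M : (CohB1.ProjSpace n k).Modules) (hM : Coh.IsCoh M) :
    ∃ (b : ℕ) (σ : Fin b → (Coh.toAb M).obj.obj (op ⊤)),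
      ∀ T : AddSubgroup ((Coh.toAb M).obj.obj (op ⊤)),
        (∀ (r : Coh.Γtop (CohB1.ProjSpace n k)) (x : (Coh.toAb M).obj.obj (op ⊤)), x ∈ T →
          (Coh.smulAb M r).hom.app (op ⊤) x ∈ T) →
        (∀ j, σ j ∈ T) → ∀ x, x ∈ T := by
  haveI : _root_.IsNoetherian k (Coh.HH (CohB1.ProjSpace n k) M 0) :=
    Groth.Agent.Lib.Helper93.PnFin.isNoetherian_HH n k (n + 1) 0 (by omega) M hM
  haveI : Module.Finite k (Coh.HH (CohB1.ProjSpace n k) M 0) := inferInstance
  obtain ⟨b, s, hs⟩ := Module.Finite.exists_fin (R := k) (M := Coh.HH (CohB1.ProjSpace n k) M 0)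
  have hTop : IsTerminal (⊤ : Opens (CohB1.ProjSpace n k)) := isTerminalTop
  let E := Sheaf.H.equiv₀ (Coh.toAb M) hTop
  refine ⟨b, fun j => E (s j), fun T hT hσ x => ?_⟩
  let V' : Submodule k (Coh.HH (CohB1.ProjSpace n k) M 0) :=
    { carrier := {v | E v ∈ T}
      add_mem' := by
        intro a b ha hb
        change E (a + b) ∈ T
        rw [map_add]
        exact T.add_mem ha hb
      zero_mem' := by
        change E 0 ∈ T
        rw [map_zero]
        exact T.zero_mem
      smul_mem' := by
        intro a v hv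
        change E (Sheaf.H.map (Coh.smulAb M (Coh.toGlobal
          ((CohB1.ProjSpace n k) ↘ Spec (CommRingCat.of k)) a)) 0 v) ∈ T
        rw [← Sheaf.H.equiv₀_naturality]
        exact hT _ _ hv }
  have htop : V' = ⊤ := by
    rw [eq_top_iff, ← hs, Submodule.span_le]
    rintro _ ⟨j, rfl⟩
    exact hσ j
  have h1 : E.symm x ∈ V' := htop ▸ Submodule.mem_top
  have h2 : E (E.symm x) ∈ T := h1
  rw [AddEquiv.apply_symm_apply] at h2
  exact h2

end Pn

end Groth.Agent.Lib.Helper60.Koszul
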