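import Groth.Agent.Lib.Helper60.Rg2

/-!
# Regularity and linear presentations: finitely many generating sections
-/

set_option autoImplicit false
universe u
open CategoryTheory CategoryTheory.Limits AlgebraicGeometry TopologicalSpace Opposite

namespace Groth.Agent.Lib.Helper60.Koszul

open Groth.Agent.Lib.Helper97.TwistExact Groth.Agent.Lib.Helper78.ModStalkExact Abelian

section Pn

variable (k : Type u) [Field k] (n : ℕ)

/-- a globally generated coherent module on `P^n_k` is a quotient of a finite free module, by a map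
which is onto on global sections -/
theorem exists_fin_epi (M : (CohB1.ProjSpace n k).Modules) (hM : Coh.IsCoh M)
    (hgg : Curv2.IsGloballyGenerated M) :
    ∃ (b : ℕ) (ψ : (∐ fun _ : Fin b => Coh.structureModule (CohB1.ProjSpace n k)) ⟶ M),
      Epi ψ ∧ Function.Surjective (ψ.val.app (op ⊤)).hom := by
  obtain ⟨b, σ, hσ⟩ := exists_fin_gens k n M hM
  -- the sections as morphisms
  have hsec : ∀ j : Fin b, ∃ t : M.sections, t.1 (op ⊤) = σ j := fun j => exists_section M (σ j)
  choose t ht using hsec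
  let s : Fin b → (Coh.structureModule (CohB1.ProjSpace n k) ⟶ M) :=
    fun j => M.unitHomEquiv.symm (t j)
  let ψ : (∐ fun _ : Fin b => Coh.structureModule (CohB1.ProjSpace n k)) ⟶ M := Sigma.desc s
  have hψ : ∀ j, Sigma.ι (fun _ : Fin b => Coh.structureModule (CohB1.ProjSpace n k)) j ≫ ψ = s j :=
    fun j => Sigma.ι_desc s j
  have hs1 : ∀ j, (s j).val.app (op ⊤) (1 : (CohB1.ProjSpace n k).ringCatSheaf.obj.obj (op ⊤)) =
      σ j := by
    intro j
    have h1 : (M.unitHomEquiv (s j)).val (op ⊤) = (t j).1 (op ⊤) := by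
      simp only [s, Equiv.apply_symm_apply]
    rw [← ht j, ← h1]
    rfl
  -- surjectivity on global sections
  have hsurj : Function.Surjective (ψ.val.app (op ⊤)).hom := by
    let T : AddSubgroup ((Coh.toAb M).obj.obj (op ⊤)) :=
      { carrier := Set.range (ψ.val.app (op ⊤)).hom
        add_mem' := by
          rintro _ _ ⟨a, rfl⟩ ⟨b, rfl⟩
          exact ⟨a + b, map_add _ _ _⟩
        zero_mem' := ⟨0, map_zero _⟩
        neg_mem' := by
          rintro _ ⟨a, rfl⟩
          exact ⟨-a, map_neg _ _⟩ }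
    intro x
    refine hσ T ?_ ?_ x
    · rintro r _ ⟨a, rfl⟩
      refine ⟨Coh.resTop (CohB1.ProjSpace n k) (op ⊤) r • a, ?_⟩
      exact (ψ.val.app (op ⊤)).hom.map_smul _ a
    · intro j
      refine ⟨(Sigma.ι (fun _ : Fin b => Coh.structureModule (CohB1.ProjSpace n k)) j).val.app (op ⊤)
        (1 : (CohB1.ProjSpace n k).ringCatSheaf.obj.obj (op ⊤)), ?_⟩
      rw [← hs1 j, ← hψ j]
      rfl
  refine ⟨b, ψ, ?_, hsurj⟩
  -- epi
  obtain ⟨ι, p, hp⟩ := hgg
  apply Abelian.epi_of_cokernel_π_eq_zero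
  have hkill : ∀ x : Γ(M, ⊤), ((cokernel.π ψ).app ⊤).hom x = 0 := by
    intro x
    obtain ⟨a, rfl⟩ := hsurj x
    change (ψ ≫ cokernel.π ψ).val.app (op ⊤) a = 0
    rw [cokernel.condition]
    rfl
  have h0 : p ≫ cokernel.π ψ = 0 := comp_eq_zero_of_kills p _ hkill
  exact (cancel_epi p).1 (h0.trans comp_zero.symm)

end Pn

end Groth.Agent.Lib.Helper60.Koszul
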