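import Groth.Agent.Lib.Helper60.Rg3
import Groth.Agent.Lib.Lead.Inv6

/-!
# Regularity and linear presentations: the hard direction
-/

set_option autoImplicit false
universe u
open CategoryTheory CategoryTheory.Limits AlgebraicGeometry TopologicalSpace Opposite

namespace Groth.Agent.Lib.Helper60.Koszul

open Groth.Agent.Lib.Helper97.TwistExact Groth.Agent.Lib.Helper78.ModStalkExact Abelian

section Pn

variable (k : Type u) [Field k] (n : ℕ)

/-- `H^1` of a finite free module on `P^n_k` vanishes -/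
theorem subsingleton_H1_sigma_unit (b : ℕ) :
    Subsingleton (Coh.HH (CohB1.ProjSpace n k)
      (∐ fun _ : Fin b => Coh.structureModule (CohB1.ProjSpace n k)) 1) := by
  haveI : HasFiniteBiproducts (CohB1.ProjSpace n k).Modules := Abelian.hasFiniteBiproducts
  let f : Fin b → (CohB1.ProjSpace n k).Modules :=
    fun _ => Coh.structureModule (CohB1.ProjSpace n k)
  have h1 : Subsingleton (Coh.HH (CohB1.ProjSpace n k) (⨁ f) 1) := by
    apply Groth.Agent.Lib.Helper93.SerreVan.subsingleton_HH_biproduct k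
    intro j
    obtain ⟨τ⟩ := Groth.Agent.Lib.Helper60.ConstFin.nonempty_unit_iso_twist_zero k n
    refine subsingleton_HH_of_iso' τ.symm 1 ?_
    exact Groth.Agent.S0844.result k n 0 1 (fun h => by omega) (fun h => by omega)
  exact subsingleton_HH_of_iso' (biproduct.isoCoproduct f) 1 h1

theorem nonempty_twist_sigma_aux {X : Scheme.{u}} (U L : X.Modules)
    (u : (twistF L).obj U ≅ L) (b : ℕ) :
    Nonempty ((twistF L).obj (∐ fun _ : Fin b => U) ≅ ∐ fun _ : Fin b => L) := by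
  haveI : HasFiniteBiproducts X.Modules := Abelian.hasFiniteBiproducts
  let f : Fin b → X.Modules := fun _ => U
  have e1 : (twistF L).obj (∐ f) ≅ (twistF L).obj (⨁ f) :=
    (twistF L).mapIso (biproduct.isoCoproduct f).symm
  have e2 : (twistF L).obj (⨁ f) ≅ ⨁ (twistF L).obj ∘ f := (twistF L).mapBiproduct f
  have e3 : (⨁ (twistF L).obj ∘ f) ≅ ∐ ((twistF L).obj ∘ f) := biproduct.isoCoproduct _
  have e4 : (∐ ((twistF L).obj ∘ f)) ≅ ∐ fun _ : Fin b => L :=
    Sigma.mapIso (fun _ => u)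
  exact ⟨e1 ≪≫ e2 ≪≫ e3 ≪≫ e4⟩

/-- twisting a finite free module -/
theorem nonempty_twist_sigma_unit (b : ℕ) (L : (CohB1.ProjSpace n k).Modules) :
    Nonempty ((twistF L).obj (∐ fun _ : Fin b => Coh.structureModule (CohB1.ProjSpace n k)) ≅
      ∐ fun _ : Fin b => L) := by
  obtain ⟨u⟩ := Groth.Agent.Lib.Helper60.TensorLib.nonempty_tensorMod_unit_left L
  exact nonempty_twist_sigma_aux (Coh.structureModule (CohB1.ProjSpace n k)) L u b

theorem nonempty_tensL_iso_aux {X : Scheme.{u}} (M U L : X.Modules) (τ : U ≅ L)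
    (u : CohB1.tensorMod M U ≅ M) : Nonempty (CohB1.tensorMod M L ≅ M) :=
  ⟨(tensLF M).mapIso τ.symm ≪≫ u⟩

/-- `M ⊗ O(0) ≅ M` -/
theorem nonempty_twist_zero_iso (M : (CohB1.ProjSpace n k).Modules) :
    Nonempty (CohB1.tensorMod M (Twist.twistProjSpace n k 0) ≅ M) := by
  obtain ⟨τ⟩ := Groth.Agent.Lib.Helper60.ConstFin.nonempty_unit_iso_twist_zero k n
  obtain ⟨u⟩ := Groth.Agent.Lib.Lead.Inv.nonempty_unit_right M
  exact nonempty_tensL_iso_aux M _ _ τ u

/-- `(M ⊗ O(a)) ⊗ O(-a) ≅ M` -/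
theorem nonempty_twist_untwist_iso (M : (CohB1.ProjSpace n k).Modules) (a : ℤ) :
    Nonempty (CohB1.tensorMod (CohB1.tensorMod M (Twist.twistProjSpace n k a))
      (Twist.twistProjSpace n k (-a)) ≅ M) := by
  obtain ⟨e⟩ := nonempty_twist_twist_iso k n M a (-a)
  have h0 : a + -a = 0 := by ring
  rw [h0] at e
  obtain ⟨e'⟩ := nonempty_twist_zero_iso k n M
  exact ⟨e ≪≫ e'⟩

end Pn

end Groth.Agent.Lib.Helper60.Koszul
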