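import Groth.Agent.Lib.Helper60.Rg4

/-!
# Regularity and linear presentations: the hard direction
-/

set_option autoImplicit false
universe u
open CategoryTheory CategoryTheory.Limits AlgebraicGeometry TopologicalSpace Opposite

namespace Groth.Agent.Lib.Helper60.Koszul

open Groth.Agent.Lib.Helper97.TwistExact Groth.Agent.Lib.Helper78.ModStalkExact Abelian

section General

variable {X : Scheme.{u}}

theorem exists_twisted_presentation (S : ShortComplex X.Modules) (hS : S.ShortExact)
    (L : X.Modules) (hL : ModSite.IsFlat (O := X.sheaf) L) (E F : X.Modules)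
    (θ : (twistF L).obj S.X₂ ≅ E) (ε : (twistF L).obj S.X₃ ≅ F) :
    ∃ φ : E ⟶ F, Epi φ ∧ Nonempty (kernel φ ≅ (twistF L).obj S.X₁) := by
  have hS' := shortExact_twist L hL S hS
  let φ : E ⟶ F := θ.inv ≫ (twistF L).map S.g ≫ ε.hom
  let S'' : ShortComplex X.Modules :=
    ShortComplex.mk ((twistF L).map S.f ≫ θ.hom) φ (by
      simp only [φ, Category.assoc, Iso.hom_inv_id_assoc]
      rw [← Category.assoc, ← CategoryTheory.Functor.map_comp, S.zero,
        CategoryTheory.Functor.map_zero, zero_comp])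
  have hS'' : S''.ShortExact := by
    let e : S.map (twistF L) ≅ S'' :=
      ShortComplex.isoMk (Iso.refl _) θ ε (Category.id_comp _) (by
        change θ.hom ≫ θ.inv ≫ (twistF L).map S.g ≫ ε.hom = (twistF L).map S.g ≫ ε.hom
        rw [Iso.hom_inv_id_assoc])
    exact ShortComplex.shortExact_of_iso e hS'
  exact ⟨φ, hS''.epi_g, ⟨IsLimit.conePointUniqueUpToIso (kernelIsKernel φ) hS''.fIsKernel⟩⟩

theorem subsingleton_HH_aux (A K' L' L : X.Modules) (κ : A ≅ (twistF L').obj K')
    (ε' : CohB1.tensorMod (CohB1.tensorMod K' L') L ≅ K') (j : ℕ)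
    (h : Subsingleton (Coh.HH X K' j)) : Subsingleton (Coh.HH X (CohB1.tensorMod A L) j) :=
  subsingleton_HH_of_iso' ((twistF L).mapIso κ ≪≫ ε').symm j h

end General

section Pn

variable (k : Type u) [Field k] (n : ℕ)

/-- **the hard direction**: an `m`-regular coherent module with `F(m)` globally generated has a
linear presentation step with `(m+1)`-regular kernel -/
theorem presentation_of_regular (F : (CohB1.ProjSpace n k).Modules) (hF : Coh.IsCoh F) (m : ℤ)
    (h : Curv2.IsMRegular k n F m)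
    (hgg : Curv2.IsGloballyGenerated (CohB1.tensorMod F (Twist.twistProjSpace n k m))) :
    ∃ (b : ℕ) (φ : (∐ fun _ : Fin b => Twist.twistProjSpace n k (-m)) ⟶ F),
      Epi φ ∧ Curv2.IsMRegular k n (kernel φ) (m + 1) := by
  have hG : Coh.IsCoh (CohB1.tensorMod F (Twist.twistProjSpace n k m)) :=
    Groth.Agent.Lib.Lead.Inv.isCoh_tensorMod_right hF
      (Groth.Agent.Lib.Helper60.AutPn.isInvertible_twist k n m)
  obtain ⟨b, ψ, hψ, hsurj⟩ := exists_fin_epi k n _ hG hgg
  -- the untwisted sequence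
  let S : ShortComplex (CohB1.ProjSpace n k).Modules :=
    ShortComplex.mk (kernel.ι ψ) ψ (kernel.condition ψ)
  have hS : S.ShortExact :=
    { exact := ShortComplex.exact_kernel ψ
      mono_f := inferInstanceAs (Mono (kernel.ι ψ))
      epi_g := hψ }
  have hK1 : Subsingleton (Coh.HH (CohB1.ProjSpace n k) (kernel ψ) 1) :=
    subsingleton_H1_X₁_of_surjective hS hsurj (subsingleton_H1_sigma_unit k n b)
  -- twisting by `O(-m)`
  obtain ⟨θ⟩ := nonempty_twist_sigma_unit k n b (Twist.twistProjSpace n k (-m))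
  obtain ⟨ε⟩ := nonempty_twist_untwist_iso k n F m
  obtain ⟨φ, hφ, ⟨κ⟩⟩ := exists_twisted_presentation S hS (Twist.twistProjSpace n k (-m))
    (isFlat_twistProjSpace k n (-m)) _ F θ ε
  refine ⟨b, φ, hφ, ?_⟩
  intro i hi1 hin
  by_cases hi : i = 1
  · subst hi
    have e0 : m + 1 - ((1 : ℕ) : ℤ) = m := by push_cast; ring
    rw [e0]
    obtain ⟨ε'⟩ := nonempty_twist_untwist_iso k n (kernel ψ) (-m)
    have e1 : - -m = m := neg_neg m
    rw [e1] at ε'
    exact subsingleton_HH_aux (kernel φ) (kernel ψ) (Twist.twistProjSpace n k (-m))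
      (Twist.twistProjSpace n k m) κ ε' 1 hK1
  · -- `i ≥ 2`
    let S₀ : ShortComplex (CohB1.ProjSpace n k).Modules :=
      ShortComplex.mk (kernel.ι φ) φ (kernel.condition φ)
    have hS₀ : S₀.ShortExact :=
      { exact := ShortComplex.exact_kernel φ
        mono_f := inferInstanceAs (Mono (kernel.ι φ))
        epi_g := hφ }
    have hS₀' := shortExact_twist (Twist.twistProjSpace n k (m + 1 - i))
      (isFlat_twistProjSpace k n (m + 1 - i)) S₀ hS₀
    obtain ⟨p, rfl⟩ : ∃ p : ℕ, i = p + 1 := ⟨i - 1, by omega⟩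
    refine subsingleton_HH_X₁ hS₀' p ?_ ?_
    · have h1 := h p (by omega) (by omega)
      have e : m + 1 - ((p + 1 : ℕ) : ℤ) = m - (p : ℤ) := by push_cast; ring
      rw [e]
      exact h1
    · exact Groth.Agent.Lib.Helper93.SerreVan.subsingleton_HH_sigma_twist n k (fun _ => -m)
        (m + 1 - ((p + 1 : ℕ) : ℤ)) (p + 1) (by omega) (fun _ => by push_cast; omega)

end Pn

end Groth.Agent.Lib.Helper60.Koszul
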