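import Groth.Agent.Lib.Helper60.ProjUP12
import Groth.Agent.Lib.Helper35.QcohSec
import Groth.Agent.Lib.Helper35.Ample2
import Groth.Agent.Lib.Helper35.PbTensor
import Groth.Agent.Lib.Lead.SheafPts

/-!
# Invertible quotients of a free module on an affine scheme are determined by their relations

On an affine scheme `X`, let `L₁, L₂` be invertible modules with global sections `t₁ i`, `t₂ i`
(finitely many) generating them.  If every global linear relation among the `t₁ i` also holds among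
the `t₂ i`, then there is an isomorphism `L₁ ≅ L₂` carrying `t₁ i` to `t₂ i`.
-/

set_option autoImplicit false
universe u
open CategoryTheory CategoryTheory.Limits AlgebraicGeometry TopologicalSpace Opposite

namespace Groth.Agent.Lib.Helper60.SecKer

open Groth.Agent.Lib.Helper35.Gen Groth.Agent.Lib.Helper35.AbSheaf
open Groth.Agent.Lib.Helper35.QcohSec Groth.Agent.Lib.Helper60.ProjUPLib
open Groth.Agent.Lib.Helper60

variable {X : Scheme.{u}}

theorem isGen_of_smul {L : X.Modules} {U : X.Opens} {e : Γ(L, U)} (c : Γ(X, U))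
    (h : IsGen L U (c • e)) : IsGen L U e := by
  intro W hW
  have hb := h W hW
  have hrs : rs L hW (c • e) = rr X hW c • rs L hW e := rs_smul L hW c e
  rw [hrs] at hb
  constructor
  · intro r r' hrr
    apply hb.1
    change r • rr X hW c • rs L hW e = r' • rr X hW c • rs L hW e
    rw [smul_comm r, smul_comm r']
    exact congrArg (fun m => rr X hW c • m) hrr
  · intro m
    obtain ⟨r, hr⟩ := hb.2 m
    refine ⟨r * rr X hW c, ?_⟩
    change (r * rr X hW c) • rs L hW e = m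
    rw [mul_smul]
    exact hr

theorem isUnit_rr_basicOpen {U : X.Opens} (f : Γ(X, U)) :
    IsUnit (rr X (X.basicOpen_le f) f) :=
  RingedSpace.isUnit_res_basicOpen X.toRingedSpace f

section transfer

variable [IsAffine X] {L₁ L₂ : X.Modules} [L₁.IsQuasicoherent]
  {ι : Type*} [Fintype ι] (t₁ : ι → Γ(L₁, ⊤)) (t₂ : ι → Γ(L₂, ⊤))
  (H : ∀ c : ι → Γ(X, ⊤), ∑ i, c i • t₁ i = 0 → ∑ i, c i • t₂ i = 0)

include H in
theorem transfer_basic (f : Γ(X, ⊤)) (c : ι → Γ(X, ⊤))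
    (h : rs L₁ (X.basicOpen_le f) (∑ i, c i • t₁ i) = 0) :
    rs L₂ (X.basicOpen_le f) (∑ i, c i • t₂ i) = 0 := by
  obtain ⟨n, hn⟩ := exists_pow_smul_eq_zero_of_affine L₁ (isAffineOpen_top X) f _ h
  rw [Finset.smul_sum] at hn
  have h1 : ∑ i, (f ^ n * c i) • t₁ i = 0 := by
    rw [← hn]
    exact Finset.sum_congr rfl (fun i _ => mul_smul _ _ _)
  have h2 := H _ h1
  have h3 : f ^ n • ∑ i, c i • t₂ i = 0 := by
    rw [Finset.smul_sum, ← h2]
    exact Finset.sum_congr rfl (fun i _ => (mul_smul _ _ _).symm)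
  have h4 := congrArg (rs L₂ (X.basicOpen_le f)) h3
  rw [rs_smul, map_zero] at h4
  have hu : IsUnit (rr X (X.basicOpen_le f) (f ^ n)) := by
    rw [map_pow]
    exact (isUnit_rr_basicOpen f).pow n
  exact (hu.smul_eq_zero).mp h4

theorem sum_pair {L : X.Modules} {ι : Type*} [Fintype ι] [DecidableEq ι] (t : ι → Γ(L, ⊤))
    (i j : ι) (a b : Γ(X, ⊤)) :
    ∑ l, ((if l = j then b else 0) - (if l = i then a else 0)) • t l = b • t j - a • t i := by
  simp only [sub_smul, Finset.sum_sub_distrib, ite_smul, zero_smul, Finset.sum_ite_eq',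
    Finset.mem_univ, if_true]

include H in
theorem transfer_pair (i j : ι) (W : X.Opens) (c : Γ(X, W))
    (h : rs L₁ (le_top : W ≤ ⊤) (t₁ j) = c • rs L₁ le_top (t₁ i)) :
    rs L₂ (le_top : W ≤ ⊤) (t₂ j) = c • rs L₂ le_top (t₂ i) := by
  classical
  apply Groth.Agent.Lib.Lead.SheafGlue.eq_of_locally_eq_pts L₂
  intro x hx
  obtain ⟨f, hfW, hxf⟩ := (isAffineOpen_top X).exists_basicOpen_le ⟨x, hx⟩ trivial
  refine ⟨X.basicOpen f, hfW, hxf, ?_⟩
  change rs L₂ hfW (rs L₂ le_top (t₂ j)) = rs L₂ hfW (c • rs L₂ le_top (t₂ i))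
  rw [rs_rs, rs_smul, rs_rs]
  have hloc : IsLocalization.Away f Γ(X, X.basicOpen f) :=
    (isAffineOpen_top X).isLocalization_basicOpen f
  obtain ⟨⟨a, ⟨_, k, rfl⟩⟩, hak⟩ := IsLocalization.surj (Submonoid.powers f) (rr X hfW c)
  have hak' : rr X hfW c * rr X (X.basicOpen_le f) (f ^ k) = rr X (X.basicOpen_le f) a := hak
  have h1 : rs L₁ (X.basicOpen_le f) (t₁ j) = rr X hfW c • rs L₁ (X.basicOpen_le f) (t₁ i) := by
    have := congrArg (rs L₁ hfW) h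
    rwa [rs_rs, rs_smul, rs_rs] at this
  have h2 : rs L₁ (X.basicOpen_le f)
      (∑ l, ((if l = j then f ^ k else 0) - (if l = i then a else 0)) • t₁ l) = 0 := by
    rw [sum_pair, map_sub, rs_smul, rs_smul, h1, ← mul_smul, mul_comm, hak', sub_self]
  have h3 := transfer_basic t₁ t₂ H f _ h2
  rw [sum_pair, map_sub, rs_smul, rs_smul, sub_eq_zero, ← hak', mul_comm, mul_smul] at h3
  have hu : IsUnit (rr X (X.basicOpen_le f) (f ^ k)) := by
    rw [map_pow]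
    exact (isUnit_rr_basicOpen f).pow k
  exact hu.smul_left_cancel.mp h3

end transfer

section main

variable [IsAffine X] {L₁ L₂ : X.Modules} [L₁.IsQuasicoherent]
  {ι : Type*} [Fintype ι] (t₁ : ι → Γ(L₁, ⊤)) (t₂ : ι → Γ(L₂, ⊤))
  (H : ∀ c : ι → Γ(X, ⊤), ∑ i, c i • t₁ i = 0 → ∑ i, c i • t₂ i = 0)
  (hg₁ : ∀ x : X, ∃ i, x ∈ genOpen L₁ (t₁ i)) (hg₂ : ∀ x : X, ∃ i, x ∈ genOpen L₂ (t₂ i))

include H hg₂ in
theorem genOpen_le (i : ι) : genOpen L₁ (t₁ i) ≤ genOpen L₂ (t₂ i) := by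
  intro x hx
  obtain ⟨j, hj⟩ := hg₂ x
  let W : X.Opens := genOpen L₁ (t₁ i) ⊓ genOpen L₂ (t₂ j)
  have hW1 : W ≤ genOpen L₁ (t₁ i) := inf_le_left
  have hW2 : W ≤ genOpen L₂ (t₂ j) := inf_le_right
  let c : Γ(X, W) := HomOfGen.coef (isGen_genOpen L₁ (t₁ i)) W hW1 (rs L₁ le_top (t₁ j))
  have hc : rs L₁ (le_top : W ≤ ⊤) (t₁ j) = c • rs L₁ le_top (t₁ i) := by
    have := HomOfGen.coef_spec (isGen_genOpen L₁ (t₁ i)) W hW1 (rs L₁ le_top (t₁ j))
    rw [rs_rs] at this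
    exact this.symm
  have h2 := transfer_pair t₁ t₂ H i j W c hc
  have h3 : IsGen L₂ W (rs L₂ le_top (t₂ j)) := by
    have := (isGen_genOpen L₂ (t₂ j)).mono hW2
    rwa [rs_rs] at this
  rw [h2] at h3
  exact le_genOpen L₂ (t₂ i) W (isGen_of_smul c h3) ⟨hx, hj⟩

include H in
theorem hp_aux (i j : ι) (c : Γ(X, genOpen L₁ (t₁ i) ⊓ genOpen L₁ (t₁ j)))
    (h : rs L₁ inf_le_right (rs L₁ (le_top : genOpen L₁ (t₁ j) ≤ ⊤) (t₁ j)) =
      c • rs L₁ inf_le_left (rs L₁ (le_top : genOpen L₁ (t₁ i) ≤ ⊤) (t₁ i))) :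
    rs L₂ inf_le_right (rs L₂ (le_top : genOpen L₁ (t₁ j) ≤ ⊤) (t₂ j)) =
      c • rs L₂ inf_le_left (rs L₂ (le_top : genOpen L₁ (t₁ i) ≤ ⊤) (t₂ i)) := by
  rw [rs_rs, rs_rs] at h ⊢
  exact transfer_pair t₁ t₂ H i j _ c h

/-- the comparison morphism -/
noncomputable def beta : L₁ ⟶ L₂ :=
  HomOfGen.hom (D := fun i => genOpen L₁ (t₁ i)) (t := fun i => rs L₁ le_top (t₁ i))
    (fun i => isGen_genOpen L₁ (t₁ i)) (fun i => rs L₂ le_top (t₂ i))
    (hp_aux t₁ t₂ H) hg₁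

theorem beta_gen (i : ι) :
    ((beta t₁ t₂ H hg₁).app (genOpen L₁ (t₁ i))).hom (rs L₁ le_top (t₁ i)) =
      rs L₂ le_top (t₂ i) :=
  HomOfGen.hom_app_gen (D := fun i => genOpen L₁ (t₁ i)) (t := fun i => rs L₁ le_top (t₁ i))
    (fun i => isGen_genOpen L₁ (t₁ i)) (fun i => rs L₂ le_top (t₂ i))
    (hp_aux t₁ t₂ H) hg₁ i

include hg₂ in
theorem isIso_beta : IsIso (beta t₁ t₂ H hg₁) := by
  apply Groth.Agent.Lib.Helper35.PbTensor.isIso_of_isGen_map
  intro x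
  obtain ⟨i, hi⟩ := hg₁ x
  refine ⟨genOpen L₁ (t₁ i), hi, rs L₁ le_top (t₁ i), isGen_genOpen L₁ (t₁ i), ?_⟩
  rw [beta_gen]
  have := (isGen_genOpen L₂ (t₂ i)).mono (genOpen_le t₁ t₂ H hg₂ i)
  rwa [rs_rs] at this

theorem beta_top (j : ι) : ((beta t₁ t₂ H hg₁).app ⊤).hom (t₁ j) = t₂ j := by
  apply Groth.Agent.Lib.Lead.SheafGlue.eq_of_locally_eq_pts L₂
  intro x _
  obtain ⟨i, hi⟩ := hg₁ x
  refine ⟨genOpen L₁ (t₁ i), le_top, hi, ?_⟩
  change rs L₂ le_top (((beta t₁ t₂ H hg₁).app ⊤).hom (t₁ j)) = rs L₂ le_top (t₂ j)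
  rw [← hom_rs]
  let c : Γ(X, genOpen L₁ (t₁ i)) :=
    HomOfGen.coef (isGen_genOpen L₁ (t₁ i)) _ le_rfl (rs L₁ le_top (t₁ j))
  have hc : rs L₁ (le_top : genOpen L₁ (t₁ i) ≤ ⊤) (t₁ j) = c • rs L₁ le_top (t₁ i) := by
    have := HomOfGen.coef_spec (isGen_genOpen L₁ (t₁ i)) _ le_rfl (rs L₁ le_top (t₁ j))
    rw [rs_self] at this
    exact this.symm
  rw [hc, Scheme.Modules.Hom.app_smul, beta_gen]
  exact (transfer_pair t₁ t₂ H i j _ c hc).symm

include H hg₁ hg₂ in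
/-- **Main theorem**: an isomorphism `L₁ ≅ L₂` matching the given sections. -/
theorem exists_iso : ∃ τ : L₁ ≅ L₂, ∀ j, (τ.hom.app ⊤).hom (t₁ j) = t₂ j := by
  have := isIso_beta t₁ t₂ H hg₁ hg₂
  exact ⟨asIso (beta t₁ t₂ H hg₁), fun j => beta_top t₁ t₂ H hg₁ j⟩

end main

end Groth.Agent.Lib.Helper60.SecKer
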