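import Groth.Agent.Lib.Helper60.SecKer1
import Groth.Prelude.Def_ProjUP

/-!
# Sections of projective space over an affine base and their modules of relations
-/

set_option autoImplicit false
universe u
open CategoryTheory CategoryTheory.Limits AlgebraicGeometry TopologicalSpace Opposite

namespace Groth.Agent.Lib.Helper60.SecKer

open Groth.Agent.Lib.Helper35.Gen Groth.Agent.Lib.Helper35.AbSheaf
open Groth.Agent.Lib.Helper60.ProjUPLib

variable {R : Type u} [CommRing R] (n : ℕ)

theorem mem_secKernel_iff (s : Spec (CommRingCat.of R) ⟶ CohB1.ProjSpace n R)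
    (c : Fin (n + 1) → R) :
    c ∈ ProjUP.secKernel n R s ↔
      ∑ i, ((Scheme.ΓSpecIso (CommRingCat.of R)).inv.hom (c i)) •
        ProjUP.pullSec s (Twist.twistProjSpace n R 1) (ProjUP.coord n R i) = 0 := by
  let _ : Module R (ProjUP.Γm ((Scheme.Modules.pullback s).obj (Twist.twistProjSpace n R 1))) :=
    Module.compHom _ (Scheme.ΓSpecIso (CommRingCat.of R)).inv.hom
  change c ∈ LinearMap.ker (Fintype.linearCombination R
    (fun i => ProjUP.pullSec s (Twist.twistProjSpace n R 1) (ProjUP.coord n R i))) ↔ _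
  rw [LinearMap.mem_ker, Fintype.linearCombination_apply]
  rfl

section gen

variable {Z : Scheme.{u}} (r : Z ⟶ CohB1.ProjSpace n R)

/-- the pulled back coordinate sections -/
noncomputable def tsec (i : Fin (n + 1)) :
    Γ((Scheme.Modules.pullback r).obj (Twist.twistProjSpace n R 1), ⊤) :=
  ProjUP.pullSec r (Twist.twistProjSpace n R 1) (ProjUP.coord n R i)

theorem exists_mem_genOpen_tsec (x : Z) :
    ∃ i, x ∈ genOpen ((Scheme.Modules.pullback r).obj (Twist.twistProjSpace n R 1)) (tsec n r i) := by
  have hgen : Algebra.adjoin R (Set.range (fun i : Fin (n + 1) =>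
      (MvPolynomial.X i : MvPolynomial (Fin (n + 1)) R))) = ⊤ := MvPolynomial.adjoin_range_X
  obtain ⟨i, hi⟩ := exists_mem_basicOpen (CohB1.polyGrading n R)
    (fun i : Fin (n + 1) => (MvPolynomial.X i : MvPolynomial (Fin (n + 1)) R)) hgen (r x)
  refine ⟨i, ?_⟩
  have h := isGen_psec (CohB1.polyGrading n R) r
    (⟨MvPolynomial.X i, MvPolynomial.isHomogeneous_X R i⟩ : CohB1.polyGrading n R 1)
  exact le_genOpen _ (tsec n r i) _ h hi

theorem isInvertible_pullback_twist :
    PicF.IsInvertible ((Scheme.Modules.pullback r).obj (Twist.twistProjSpace n R 1)) := by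
  apply isInvertible_of_isGen
  intro x
  obtain ⟨i, hi⟩ := exists_mem_genOpen_tsec n r x
  exact ⟨_, hi, _, isGen_genOpen _ (tsec n r i)⟩

end gen

end Groth.Agent.Lib.Helper60.SecKer
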