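import Groth.Agent.Lib.Helper60.SecKer2
import Groth.Agent.Lib.Helper29.QCohLoc

/-!
# Invertible modules on affine schemes: local generation by global sections versus spanning
-/

set_option autoImplicit false
universe u
open CategoryTheory CategoryTheory.Limits AlgebraicGeometry TopologicalSpace Opposite

namespace Groth.Agent.Lib.Helper60.SecKer

open Groth.Agent.Lib.Helper35.Gen Groth.Agent.Lib.Helper35.AbSheaf
open Groth.Agent.Lib.Helper35.QcohSec Groth.Agent.Lib.Helper60.ProjUPLib
open Groth.Agent.Lib.Helper60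

variable {X : Scheme.{u}} [IsAffine X] {L : X.Modules}

section span

variable [L.IsQuasicoherent] {ι : Type*} (t : ι → Γ(L, ⊤))
  (hg : ∀ x : X, ∃ i, x ∈ genOpen L (t i))

include hg in
/-- sections generating locally span the global sections -/
theorem span_eq_top_of_genOpen : Submodule.span Γ(X, ⊤) (Set.range t) = ⊤ := by
  rw [eq_top_iff]
  rintro m -
  set T := Submodule.span Γ(X, ⊤) (Set.range t) with hT
  let I : Ideal Γ(X, ⊤) := Submodule.comap (LinearMap.toSpanSingleton Γ(X, ⊤) Γ(L, ⊤) m) T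
  have hI : ∀ g : Γ(X, ⊤), g ∈ I ↔ g • m ∈ T := fun g => Iff.rfl
  suffices h1 : (1 : Γ(X, ⊤)) ∈ I by
    have := (hI 1).mp h1
    rwa [one_smul] at this
  rw [← Ideal.eq_top_iff_one]
  by_contra hne
  obtain ⟨𝔪, h𝔪, hI𝔪⟩ := Ideal.exists_le_maximal I hne
  haveI : 𝔪.IsPrime := h𝔪.isPrime
  obtain ⟨x, hx, hx𝔪⟩ := Groth.Agent.Lib.Helper29.QCohLoc.exists_point_of_prime
    (isAffineOpen_top X) 𝔪
  obtain ⟨i, hi⟩ := hg x
  obtain ⟨f, hfW, hxf⟩ := (isAffineOpen_top X).exists_basicOpen_le ⟨x, hi⟩ trivial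
  have hgen : IsGen L (X.basicOpen f) (rs L le_top (t i)) := by
    have := (isGen_genOpen L (t i)).mono hfW
    rwa [rs_rs] at this
  let c : Γ(X, X.basicOpen f) := HomOfGen.coef hgen _ le_rfl (rs L le_top m)
  have hc : c • rs L (le_top : X.basicOpen f ≤ ⊤) (t i) = rs L le_top m := by
    have := HomOfGen.coef_spec hgen _ le_rfl (rs L le_top m)
    rwa [rs_self] at this
  have hloc : IsLocalization.Away f Γ(X, X.basicOpen f) :=
    (isAffineOpen_top X).isLocalization_basicOpen f
  obtain ⟨⟨a, ⟨_, k, rfl⟩⟩, hak⟩ := IsLocalization.surj (Submonoid.powers f) c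
  have hak' : c * rr X (X.basicOpen_le f) (f ^ k) = rr X (X.basicOpen_le f) a := hak
  have h2 : rs L (X.basicOpen_le f) (f ^ k • m - a • t i) = 0 := by
    rw [map_sub, rs_smul, rs_smul]
    change rr X _ (f ^ k) • rs L le_top m - rr X _ a • rs L le_top (t i) = 0
    rw [← hc, ← mul_smul, mul_comm, hak', sub_self]
  obtain ⟨n, hn⟩ := exists_pow_smul_eq_zero_of_affine L (isAffineOpen_top X) f _ h2
  have h3 : f ^ (n + k) ∈ I := by
    rw [hI, pow_add, mul_smul]
    rw [smul_sub, sub_eq_zero] at hn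
    rw [hn, ← mul_smul]
    exact Submodule.smul_mem _ _ (Submodule.subset_span ⟨i, rfl⟩)
  have h4 : f ^ (n + k) ∈ 𝔪 := hI𝔪 h3
  have h5 : f ∈ 𝔪 := Ideal.IsPrime.mem_of_pow_mem inferInstance _ h4
  rw [← hx𝔪, Groth.Agent.Lib.Helper29.QCohLoc.mem_primeIdealOf_iff (isAffineOpen_top X) x hx f] at h5
  exact h5 hxf

end span

section gen

variable {ι : Type*} [Fintype ι] (t : ι → Γ(L, ⊤)) (hL : PicF.IsInvertible L)
  (hspan : Submodule.span Γ(X, ⊤) (Set.range t) = ⊤)

include hL hspan in
/-- sections spanning the global sections of an invertible module generate it locally -/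
theorem exists_mem_genOpen_of_span (x : X) : ∃ i, x ∈ genOpen L (t i) := by
  haveI : L.IsQuasicoherent := Groth.Agent.Lib.Helper35.Ample.isQuasicoherent_of_isInvertible hL
  obtain ⟨U₀, hxU₀, e₀, he₀⟩ := exists_isGen_of_isInvertible hL x
  obtain ⟨f, hfU, hxf⟩ := (isAffineOpen_top X).exists_basicOpen_le ⟨x, hxU₀⟩ trivial
  set D := X.basicOpen f with hD
  have he : IsGen L D (rs L hfU e₀) := he₀.mono hfU
  set e := rs L hfU e₀ with hedef
  obtain ⟨n, m, hm⟩ := exists_extension_of_affine L (isAffineOpen_top X) f e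
  have hmT : m ∈ Submodule.span Γ(X, ⊤) (Set.range t) := by rw [hspan]; trivial
  obtain ⟨a, ha⟩ := (Submodule.mem_span_range_iff_exists_fun Γ(X, ⊤)).mp hmT
  let c : ι → Γ(X, D) := fun i => HomOfGen.coef he D le_rfl (rs L le_top (t i))
  have hc : ∀ i, rs L (le_top : D ≤ ⊤) (t i) = c i • e := by
    intro i
    have := HomOfGen.coef_spec he D le_rfl (rs L le_top (t i))
    rw [rs_self] at this
    exact this.symm
  have hsum : (∑ i, rr X (le_top : D ≤ ⊤) (a i) * c i) = rr X (X.basicOpen_le f) f ^ n := by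
    have h1 : rs L (X.basicOpen_le f) m = (∑ i, rr X (le_top : D ≤ ⊤) (a i) * c i) • e := by
      rw [← ha, map_sum, Finset.sum_smul]
      refine Finset.sum_congr rfl (fun i _ => ?_)
      rw [rs_smul, mul_smul]
      exact congrArg _ (hc i)
    rw [hm] at h1
    have h3 := he D le_rfl
    rw [rs_self] at h3
    exact (h3.1 h1).symm
  by_contra hcon
  push Not at hcon
  have hnu : ∀ i, ¬ IsUnit (X.presheaf.germ D x hxf (c i)) := by
    intro i hu
    have hx : x ∈ X.basicOpen (c i) := (X.mem_basicOpen (c i) x hxf).2 hu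
    apply hcon i
    have hle : X.basicOpen (c i) ≤ D := X.basicOpen_le (c i)
    have h1 : rs L (le_top : X.basicOpen (c i) ≤ ⊤) (t i) = rr X hle (c i) • rs L hle e := by
      have := congrArg (rs L hle) (hc i)
      rwa [rs_rs, rs_smul] at this
    refine le_genOpen L (t i) (X.basicOpen (c i)) ?_ hx
    rw [h1, isGen_smul_iff (he.mono hle)]
    change X.basicOpen (c i) ≤ X.basicOpen (X.presheaf.map (homOfLE hle).op (c i))
    rw [Scheme.basicOpen_res]
    exact le_inf le_rfl le_rfl
  have hmem : X.presheaf.germ D x hxf (∑ i, rr X (le_top : D ≤ ⊤) (a i) * c i) ∈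
      IsLocalRing.maximalIdeal (X.presheaf.stalk x) := by
    rw [map_sum]
    refine Ideal.sum_mem _ (fun i _ => ?_)
    rw [map_mul]
    exact Ideal.mul_mem_left _ _ ((IsLocalRing.mem_maximalIdeal _).mpr (hnu i))
  rw [hsum, IsLocalRing.mem_maximalIdeal, mem_nonunits_iff, map_pow] at hmem
  apply hmem
  have hu : IsUnit (rr X (X.basicOpen_le f) f) := isUnit_rr_basicOpen f
  exact (hu.map (X.presheaf.germ D x hxf).hom).pow n

end gen

end Groth.Agent.Lib.Helper60.SecKer
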