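import Groth.Agent.Lib.Helper60.SecKer4

/-!
# Invertible quotients of `R^{n+1}` come from sections of projective space
-/

set_option autoImplicit false
universe u
open CategoryTheory CategoryTheory.Limits AlgebraicGeometry TopologicalSpace Opposite

namespace Groth.Agent.Lib.Helper60.SecKer

open Groth.Agent.Lib.Helper35.Gen Groth.Agent.Lib.Helper35.AbSheaf
open Groth.Agent.Lib.Helper60.ProjUPLib
open Groth.Agent.Lib.Helper2.FinLocFreeAff Groth.Agent.Lib.Helper2.RankSections
  Groth.Agent.Lib.Helper2.LocFreeAff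

section bwd

variable {R : Type u} [CommRing R] (n : ℕ) (F : Submodule R (Fin (n + 1) → R))

/-- the quotient module as an object -/
noncomputable abbrev QMod : ModuleCat.{u} (CommRingCat.of R) :=
  ModuleCat.of R ((Fin (n + 1) → R) ⧸ F)

/-- the associated sheaf -/
noncomputable abbrev QSheaf : (Spec (CommRingCat.of R)).Modules := tilde (QMod n F)

/-- `Q ≃ Γ(Q~)` -/
noncomputable def qEquiv : ((Fin (n + 1) → R) ⧸ F)
    ≃ₛₗ[(Scheme.ΓSpecIso (CommRingCat.of R)).inv.hom] Γ(QSheaf n F, ⊤) :=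
  tildeΓEquiv (QMod n F)

/-- the coordinate sections -/
noncomputable def qsec (i : Fin (n + 1)) : Γ(QSheaf n F, ⊤) :=
  qEquiv n F (Submodule.Quotient.mk (Pi.single i 1))

theorem qEquiv_mk (c : Fin (n + 1) → R) :
    qEquiv n F (Submodule.Quotient.mk c) =
      ∑ i, (Scheme.ΓSpecIso (CommRingCat.of R)).inv.hom (c i) • qsec n F i := by
  have hc : c = ∑ i, c i • (Pi.single i 1 : Fin (n + 1) → R) := by
    ext j
    simp [Finset.sum_apply, Pi.single_apply]
  have hq : (Submodule.Quotient.mk c : (Fin (n + 1) → R) ⧸ F) =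
      ∑ i, c i • (Submodule.Quotient.mk (Pi.single i 1) : (Fin (n + 1) → R) ⧸ F) := by
    conv_lhs => rw [hc]
    change F.mkQ _ = _
    rw [map_sum]
    exact Finset.sum_congr rfl (fun i _ => map_smul _ _ _)
  rw [hq, map_sum]
  refine Finset.sum_congr rfl (fun i _ => ?_)
  rw [LinearEquiv.map_smulₛₗ]
  rfl

theorem span_qsec : Submodule.span Γ(Spec (CommRingCat.of R), ⊤) (Set.range (qsec n F)) = ⊤ := by
  rw [eq_top_iff]
  rintro m -
  obtain ⟨x, rfl⟩ := (qEquiv n F).surjective m
  induction x using Submodule.Quotient.induction_on with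
  | H c =>
    rw [qEquiv_mk]
    exact Submodule.sum_mem _ (fun i _ => Submodule.smul_mem _ _ (Submodule.subset_span ⟨i, rfl⟩))

variable (hproj : Module.Projective R ((Fin (n + 1) → R) ⧸ F))
  (hrank : ∀ p : PrimeSpectrum R, Module.finrank (Localization.AtPrime p.asIdeal)
    (LocalizedModule p.asIdeal.primeCompl ((Fin (n + 1) → R) ⧸ F)) = 1)

include hproj hrank in
theorem isInvertible_QSheaf : PicF.IsInvertible (QSheaf n F) := by
  have hTop := isAffineOpen_top (Spec (CommRingCat.of R))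
  have hfin : Module.Finite Γ(Spec (CommRingCat.of R), ⊤) Γ(QSheaf n F, ⊤) :=
    (finite_iff_tilde (QMod n F)).1 inferInstance
  have hpr : Module.Projective Γ(Spec (CommRingCat.of R), ⊤) Γ(QSheaf n F, ⊤) :=
    (projective_iff_tilde (QMod n F)).1 hproj
  have hF1 : FlatMod.IsFinLocFreeOfRank 1 (QSheaf n F) := by
    apply isFinLocFreeOfRank_of_projective (QSheaf n F) 1
    intro x
    refine ⟨⊤, hTop, trivial, hfin, hpr, ?_⟩
    have h1 := rankAtStalk_of_semilinearEquiv (qEquiv n F) (hTop.primeIdealOf ⟨x, trivial⟩)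
    exact h1.trans (hrank _)
  intro x
  obtain ⟨U, hxU, ⟨e⟩⟩ := hF1 x
  exact ⟨U, hxU, ⟨e ≪≫ coproductUniqueIso (fun _ : Fin 1 => Coh.structureModule _)⟩⟩

include hproj hrank in
/-- the backward direction -/
theorem exists_section :
    ∃ s : Spec (CommRingCat.of R) ⟶ CohB1.ProjSpace n R,
      s ≫ CohB1.ProjSpace.toSpec n R = 𝟙 _ ∧ ProjUP.secKernel n R s = F := by
  have hL := isInvertible_QSheaf n F hproj hrank
  have hcov := exists_mem_genOpen_of_span (qsec n F) hL (span_qsec n F)
  obtain ⟨r, hr, τ, hτ⟩ := exists_projSpace' n (𝟙 (Spec (CommRingCat.of R))) (QSheaf n F)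
    (qsec n F) hcov
  refine ⟨r, hr, ?_⟩
  ext c
  rw [mem_secKernel_iff_Phi, Phi_apply]
  have hinj : Function.Injective (τ.hom.app ⊤).hom := by
    intro a b hab
    have h := congrArg (τ.inv.app ⊤).hom hab
    have hid : ∀ z, (τ.inv.app ⊤).hom ((τ.hom.app ⊤).hom z) = z := fun z =>
      congrArg (fun φ => (Scheme.Modules.Hom.app φ ⊤).hom z) τ.hom_inv_id
    rwa [hid, hid] at h
  have h1 : (τ.hom.app ⊤).hom
      (∑ i, (Scheme.ΓSpecIso (CommRingCat.of R)).inv.hom (c i) • tsec n r i) =
      qEquiv n F (Submodule.Quotient.mk c) := by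
    rw [qEquiv_mk, map_sum]
    refine Finset.sum_congr rfl (fun i _ => ?_)
    rw [Scheme.Modules.Hom.app_smul, hτ]
  constructor
  · intro h
    rw [h, map_zero] at h1
    have := (qEquiv n F).injective (h1.symm.trans (map_zero _).symm)
    exact (Submodule.Quotient.mk_eq_zero _).mp this
  · intro h
    have h2 : (Submodule.Quotient.mk c : (Fin (n + 1) → R) ⧸ F) = 0 :=
      (Submodule.Quotient.mk_eq_zero _).mpr h
    rw [h2, map_zero] at h1
    exact hinj (h1.trans (map_zero _).symm)

end bwd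

end Groth.Agent.Lib.Helper60.SecKer
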