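import Groth.Agent.Lib.Helper60.Seg1
import Groth.Agent.Lib.Lead.Inv3

/-!
# The Segre embedding over a ring
-/

set_option autoImplicit false
universe u
open CategoryTheory CategoryTheory.Limits AlgebraicGeometry TopologicalSpace Opposite

namespace Groth.Agent.Lib.Helper60.Segre

open Groth.Agent.Lib.Helper35.Gen Groth.Agent.Lib.Helper35.AbSheaf
open Groth.Agent.Lib.Helper60.ProjUPLib Groth.Agent.Lib.Helper60.TwistLib
open Groth.Agent.Lib.Helper60.ProjFrac Groth.Agent.Lib.Helper60.SecKer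
open Groth.Agent.Lib.Helper60.PbComp Groth.Agent.Lib.Helper35.PbInv

section pushout_gen

/-- in a pushout square of commutative rings, the two images generate -/
theorem subring_eq_top_of_isPushout {Z A B P : CommRingCat.{u}} {f : Z ⟶ A} {g : Z ⟶ B}
    {a : A ⟶ P} {b : B ⟶ P} (H : IsPushout f g a b) (S : Subring P)
    (ha : ∀ x, a.hom x ∈ S) (hb : ∀ y, b.hom y ∈ S) : S = ⊤ := by
  let a' : A ⟶ CommRingCat.of S := CommRingCat.ofHom (a.hom.codRestrict S ha)
  let b' : B ⟶ CommRingCat.of S := CommRingCat.ofHom (b.hom.codRestrict S hb)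
  let incl : CommRingCat.of S ⟶ P := CommRingCat.ofHom S.subtype
  have hab : f ≫ a' = g ≫ b' := by
    ext z
    exact congr($(H.w) z)
  have h1 : H.desc a' b' hab ≫ incl = 𝟙 P := by
    apply H.hom_ext
    · rw [← Category.assoc, H.inl_desc, Category.comp_id]
      rfl
    · rw [← Category.assoc, H.inr_desc, Category.comp_id]
      rfl
  rw [eq_top_iff]
  intro x _
  have h2 : x = incl.hom ((H.desc a' b' hab).hom x) := (congr($(h1) x)).symm
  rw [h2]
  exact ((H.desc a' b' hab).hom x).2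

end pushout_gen

section tmul

variable {X : Scheme.{u}} (M N : X.Modules)

/-- tensor product of sections (Lead's `Inv.tmul`) -/
noncomputable def tmul {U : X.Opens} (m : Γ(M, U)) (n : Γ(N, U)) : Γ(CohB1.tensorMod M N, U) :=
  Groth.Agent.Lib.Lead.Inv.tmul M N m n

theorem tmul_res {U V : X.Opens} (h : V ≤ U) (m : Γ(M, U)) (n : Γ(N, U)) :
    rs (CohB1.tensorMod M N) h (tmul M N m n) = tmul M N (rs M h m) (rs N h n) :=
  Groth.Agent.Lib.Lead.Inv.tmul_res M N h m n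

theorem tmul_smul_left {U : X.Opens} (r : Γ(X, U)) (m : Γ(M, U)) (n : Γ(N, U)) :
    tmul M N (r • m) n = r • tmul M N m n :=
  Groth.Agent.Lib.Lead.Inv.tmul_smul_left M N r m n

theorem tmul_smul_right {U : X.Opens} (r : Γ(X, U)) (m : Γ(M, U)) (n : Γ(N, U)) :
    tmul M N m (r • n) = r • tmul M N m n :=
  Groth.Agent.Lib.Lead.Inv.tmul_smul_right M N r m n

variable {M N} in
theorem isGen_tmul {U : X.Opens} {e : Γ(M, U)} {e' : Γ(N, U)} (he : IsGen M U e)
    (he' : IsGen N U e') : IsGen (CohB1.tensorMod M N) U (tmul M N e e') :=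
  Groth.Agent.Lib.Lead.Inv.isGen_tmul he he'

theorem isInvertible_tensorMod {M N : X.Modules} (hM : PicF.IsInvertible M)
    (hN : PicF.IsInvertible N) : PicF.IsInvertible (CohB1.tensorMod M N) :=
  Groth.Agent.Lib.Lead.Inv.isInvertible_tensorMod hM hN

/-- the locus where a tensor product of sections of invertible modules generates -/
theorem genOpen_tmul {M N : X.Modules} (hM : PicF.IsInvertible M)
    (hN : PicF.IsInvertible N) (s : Γ(M, ⊤)) (t : Γ(N, ⊤)) :
    genOpen (CohB1.tensorMod M N) (tmul M N s t) = genOpen M s ⊓ genOpen N t := by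
  apply le_antisymm
  · intro x hx
    obtain ⟨V₁, hx₁, e₁, he₁⟩ := exists_isGen_of_isInvertible hM x
    obtain ⟨V₂, hx₂, e₂, he₂⟩ := exists_isGen_of_isInvertible hN x
    set G := genOpen (CohB1.tensorMod M N) (tmul M N s t) with hG
    set W := G ⊓ V₁ ⊓ V₂ with hW
    have hWG : W ≤ G := inf_le_left.trans inf_le_left
    have hW1 : W ≤ V₁ := inf_le_left.trans inf_le_right
    have hW2 : W ≤ V₂ := inf_le_right
    have hxW : x ∈ W := ⟨⟨hx, hx₁⟩, hx₂⟩
    have hg1 : IsGen M W (rs M hW1 e₁) := he₁.mono hW1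
    have hg2 : IsGen N W (rs N hW2 e₂) := he₂.mono hW2
    obtain ⟨a, ha⟩ := hg1.exists_eq_smul (rs M (le_top : W ≤ ⊤) s)
    obtain ⟨b, hb⟩ := hg2.exists_eq_smul (rs N (le_top : W ≤ ⊤) t)
    have hE : IsGen (CohB1.tensorMod M N) W (tmul M N (rs M hW1 e₁) (rs N hW2 e₂)) :=
      isGen_tmul hg1 hg2
    have h1 : rs (CohB1.tensorMod M N) (le_top : W ≤ ⊤) (tmul M N s t) =
        (a * b) • tmul M N (rs M hW1 e₁) (rs N hW2 e₂) := by
      have h0 : rs (CohB1.tensorMod M N) (le_top : W ≤ ⊤) (tmul M N s t) =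
          tmul M N (rs M le_top s) (rs N le_top t) := tmul_res M N _ s t
      rw [h0, ha, hb, tmul_smul_left, tmul_smul_right, mul_smul]
    have h2 : IsGen (CohB1.tensorMod M N) W
        (rs (CohB1.tensorMod M N) (le_top : W ≤ ⊤) (tmul M N s t)) := by
      have := (isGen_genOpen (CohB1.tensorMod M N) (tmul M N s t)).mono hWG
      rwa [rs_rs] at this
    rw [h1, isGen_smul_iff hE, Scheme.basicOpen_mul] at h2
    constructor
    · refine le_genOpen M s W ?_ hxW
      rw [ha, isGen_smul_iff hg1]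
      exact h2.trans inf_le_left
    · refine le_genOpen N t W ?_ hxW
      rw [hb, isGen_smul_iff hg2]
      exact h2.trans inf_le_right
  · apply le_genOpen
    have h0 : rs (CohB1.tensorMod M N) (le_top : genOpen M s ⊓ genOpen N t ≤ ⊤) (tmul M N s t) =
        tmul M N (rs M le_top s) (rs N le_top t) := tmul_res M N _ s t
    rw [h0]
    have h1 := (isGen_genOpen M s).mono (inf_le_left : genOpen M s ⊓ genOpen N t ≤ genOpen M s)
    have h2 := (isGen_genOpen N t).mono (inf_le_right : genOpen M s ⊓ genOpen N t ≤ genOpen N t)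
    rw [rs_rs] at h1 h2
    exact isGen_tmul h1 h2

end tmul

section chart

variable {X Y S T : Scheme.{u}} {f : T ⟶ S} {g : Y ⟶ X} {iX : X ⟶ S} {iY : Y ⟶ T}
  (H : IsPullback g iY iX f) {US : S.Opens} {UT : T.Opens} {UX : X.Opens}
  (hUST : UT ≤ f ⁻¹ᵁ US) (hUSX : UX ≤ iX ⁻¹ᵁ US) {UY : Y.Opens}
  (hUY : UY = g ⁻¹ᵁ UX ⊓ iY ⁻¹ᵁ UT)
  (hUS : IsAffineOpen US) (hUT : IsAffineOpen UT) (hUX : IsAffineOpen UX)

include H hUST hUSX hUY hUS hUT hUX in
theorem isAffineOpen_chart : IsAffineOpen UY := by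
  have : IsAffine _ := hUS
  have : IsAffine _ := hUT
  have : IsAffine _ := hUX
  exact .of_isIso (Scheme.Hom.isPullback_resLE H hUST hUSX hUY).isoPullback.hom

include H hUST hUSX hUS hUT hUX in
theorem subring_eq_top_chart (S' : Subring Γ(Y, UY))
    (h1 : ∀ a : Γ(X, UX), (g.appLE UX UY (hUY.le.trans inf_le_left)).hom a ∈ S')
    (h2 : ∀ b : Γ(T, UT), (iY.appLE UT UY (hUY.le.trans inf_le_right)).hom b ∈ S') : S' = ⊤ := by
  have hiso := isIso_pushoutSection_of_isAffineOpen H hUST hUSX hUY hUS hUT hUX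
  have hpo := (isIso_pushoutSection_iff H hUST hUSX hUY).mp hiso
  exact subring_eq_top_of_isPushout hpo S' h1 h2

end chart

section factor_gen

variable {R A : Type u} [CommRing R] [CommRing A] [Algebra R A] (𝒜 : ℕ → Submodule R A)
  [GradedAlgebra 𝒜]
variable {ι : Type*} (g : ι → A) (hg : ∀ i, g i ∈ 𝒜 1) (hgen : Algebra.adjoin R (Set.range g) = ⊤)
variable {Z : Scheme.{u}} (r : Z ⟶ Proj 𝒜)

/-- the ratio `g_{i'}/g_i` pulled back to an open inside `r⁻¹ D₊(g_i)` -/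
noncomputable def ratioG (i' i : ι) (W : Z.Opens) (e : W ≤ r ⁻¹ᵁ Proj.basicOpen 𝒜 (g i)) :
    Γ(Z, W) :=
  rr Z e (cfun 𝒜 r ⟨g i', hg i'⟩ ⟨g i, hg i⟩)

theorem rs_psec_eq_ratioG_smul (i' i : ι) (W : Z.Opens)
    (e : W ≤ r ⁻¹ᵁ Proj.basicOpen 𝒜 (g i)) :
    rs ((Scheme.Modules.pullback r).obj (Twist.twist 𝒜 ((1 : ℕ) : ℤ))) (le_top : W ≤ ⊤)
        (psec 𝒜 r ⟨g i', hg i'⟩) =
      ratioG 𝒜 g hg r i' i W e •
        rs ((Scheme.Modules.pullback r).obj (Twist.twist 𝒜 ((1 : ℕ) : ℤ))) (le_top : W ≤ ⊤)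
          (psec 𝒜 r ⟨g i, hg i⟩) := by
  have h := congrArg (rs ((Scheme.Modules.pullback r).obj (Twist.twist 𝒜 ((1 : ℕ) : ℤ))) e)
    (rs_psec_eq_smul 𝒜 r ⟨g i', hg i'⟩ ⟨g i, hg i⟩)
  rw [rs_rs, rs_smul, rs_rs] at h
  exact h

theorem ratioG_self (i : ι) (W : Z.Opens) (e : W ≤ r ⁻¹ᵁ Proj.basicOpen 𝒜 (g i)) :
    ratioG 𝒜 g hg r i i W e = 1 := by
  unfold ratioG cfun
  rw [fr_self, map_one, map_one]

include hgen in
theorem appLE_mem_of_ratioG (i : ι) (W : Z.Opens) (e : W ≤ r ⁻¹ᵁ Proj.basicOpen 𝒜 (g i))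
    (S : Subring Γ(Z, W)) (h1 : ∀ i', ratioG 𝒜 g hg r i' i W e ∈ S)
    (h0 : ∀ c : R, rr Z (le_top : W ≤ ⊤) (ProjUP.toGlobal (r ≫ strMap 𝒜) c) ∈ S)
    (a : Γ(Proj 𝒜, Proj.basicOpen 𝒜 (g i))) :
    (r.appLE (Proj.basicOpen 𝒜 (g i)) W e).hom a ∈ S := by
  have htop := subring_eq_top 𝒜 g hg hgen (hg i)
    (S.comap (r.appLE (Proj.basicOpen 𝒜 (g i)) W e).hom) ?_ ?_
  · exact htop.ge (Subring.mem_top a)
  · intro i'
    change (r.appLE (Proj.basicOpen 𝒜 (g i)) W e).hom _ ∈ S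
    rw [appLE_apply]
    exact h1 i'
  · intro c
    change (r.appLE (Proj.basicOpen 𝒜 (g i)) W e).hom _ ∈ S
    rw [appLE_const]
    exact h0 c

end factor_gen

section factor

variable {R : Type u} [CommRing R] (N : ℕ) {Z : Scheme.{u}} (r : Z ⟶ CohB1.ProjSpace N R)

/-- the ratio `x_{i'}/x_i` pulled back to an open inside `r⁻¹ D₊(x_i)` -/
noncomputable def ratio (i' i : Fin (N + 1)) (W : Z.Opens) (e : W ≤ r ⁻¹ᵁ Dp N i) : Γ(Z, W) :=
  ratioG (CohB1.polyGrading N R)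
    (fun i : Fin (N + 1) => (MvPolynomial.X i : MvPolynomial (Fin (N + 1)) R))
    (fun i => MvPolynomial.isHomogeneous_X R i) r i' i W e

theorem rs_tsec_eq_ratio_smul (i' i : Fin (N + 1)) (W : Z.Opens) (e : W ≤ r ⁻¹ᵁ Dp N i) :
    rs ((Scheme.Modules.pullback r).obj (Twist.twistProjSpace N R 1)) (le_top : W ≤ ⊤)
        (tsec N r i') =
      ratio N r i' i W e •
        rs ((Scheme.Modules.pullback r).obj (Twist.twistProjSpace N R 1)) (le_top : W ≤ ⊤)
          (tsec N r i) :=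
  rs_psec_eq_ratioG_smul (CohB1.polyGrading N R)
    (fun i : Fin (N + 1) => (MvPolynomial.X i : MvPolynomial (Fin (N + 1)) R))
    (fun i => MvPolynomial.isHomogeneous_X R i) r i' i W e

theorem ratio_self (i : Fin (N + 1)) (W : Z.Opens) (e : W ≤ r ⁻¹ᵁ Dp N i) :
    ratio N r i i W e = 1 :=
  ratioG_self (CohB1.polyGrading N R)
    (fun i : Fin (N + 1) => (MvPolynomial.X i : MvPolynomial (Fin (N + 1)) R))
    (fun i => MvPolynomial.isHomogeneous_X R i) r i W e

theorem appLE_mem_of_ratio (i : Fin (N + 1)) (W : Z.Opens) (e : W ≤ r ⁻¹ᵁ Dp N i)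
    (S : Subring Γ(Z, W)) (h1 : ∀ i', ratio N r i' i W e ∈ S)
    (h0 : ∀ c : R, rr Z (le_top : W ≤ ⊤)
      (ProjUP.toGlobal (r ≫ CohB1.ProjSpace.toSpec N R) c) ∈ S)
    (a : Γ(CohB1.ProjSpace N R, Dp N i)) : (r.appLE (Dp N i) W e).hom a ∈ S :=
  appLE_mem_of_ratioG (CohB1.polyGrading N R)
    (fun i : Fin (N + 1) => (MvPolynomial.X i : MvPolynomial (Fin (N + 1)) R))
    (fun i => MvPolynomial.isHomogeneous_X R i) MvPolynomial.adjoin_range_X r i W e S h1 h0 a

end factor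

section segre

variable (R : Type u) [CommRing R] (n m : ℕ)

/-- the product `P^n ×_R P^m` -/
noncomputable abbrev XX : Scheme.{u} :=
  pullback (CohB1.ProjSpace.toSpec n R) (CohB1.ProjSpace.toSpec m R)

noncomputable abbrev p1 : XX R n m ⟶ CohB1.ProjSpace n R := pullback.fst _ _

noncomputable abbrev p2 : XX R n m ⟶ CohB1.ProjSpace m R := pullback.snd _ _

noncomputable abbrev qq : XX R n m ⟶ Spec (CommRingCat.of R) :=
  p1 R n m ≫ CohB1.ProjSpace.toSpec n R

noncomputable abbrev L1 : (XX R n m).Modules :=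
  (Scheme.Modules.pullback (p1 R n m)).obj (Twist.twistProjSpace n R 1)

noncomputable abbrev L2 : (XX R n m).Modules :=
  (Scheme.Modules.pullback (p2 R n m)).obj (Twist.twistProjSpace m R 1)

noncomputable abbrev LL : (XX R n m).Modules := CohB1.tensorMod (L1 R n m) (L2 R n m)

/-- index bijection -/
def idx : Fin (n + 1) × Fin (m + 1) ≃ Fin (n * m + n + m + 1) :=
  finProdFinEquiv.trans (finCongr (by ring))

/-- the Segre sections `x_i ⊗ y_j` -/
noncomputable def usec (i : Fin (n + 1)) (j : Fin (m + 1)) : Γ(LL R n m, ⊤) :=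
  tmul (L1 R n m) (L2 R n m) (tsec n (p1 R n m) i) (tsec m (p2 R n m) j)

noncomputable def vsec (k : Fin (n * m + n + m + 1)) : Γ(LL R n m, ⊤) :=
  usec R n m ((idx n m).symm k).1 ((idx n m).symm k).2

theorem vsec_idx (i : Fin (n + 1)) (j : Fin (m + 1)) :
    vsec R n m (idx n m (i, j)) = usec R n m i j := by
  unfold vsec
  rw [Equiv.symm_apply_apply]

theorem genOpen_tsec (N : ℕ) {Z : Scheme.{u}} (r : Z ⟶ CohB1.ProjSpace N R) (i : Fin (N + 1)) :
    genOpen ((Scheme.Modules.pullback r).obj (Twist.twistProjSpace N R 1)) (tsec N r i) =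
      r ⁻¹ᵁ Dp N i :=
  (preimage_Dp_eq_genOpen N r (Iso.refl _) (tsec N r) (fun _ => rfl) i).symm

theorem genOpen_usec (i : Fin (n + 1)) (j : Fin (m + 1)) :
    genOpen (LL R n m) (usec R n m i j) = p1 R n m ⁻¹ᵁ Dp n i ⊓ p2 R n m ⁻¹ᵁ Dp m j := by
  unfold usec
  rw [genOpen_tmul (isInvertible_pullback_twist n _) (isInvertible_pullback_twist m _),
    genOpen_tsec, genOpen_tsec]

theorem vsec_cov (x : XX R n m) : ∃ k, x ∈ genOpen (LL R n m) (vsec R n m k) := by
  obtain ⟨i, hi⟩ := exists_mem_genOpen_tsec n (p1 R n m) x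
  obtain ⟨j, hj⟩ := exists_mem_genOpen_tsec m (p2 R n m) x
  refine ⟨idx n m (i, j), ?_⟩
  rw [vsec_idx, genOpen_usec]
  rw [genOpen_tsec] at hi hj
  exact ⟨hi, hj⟩

end segre

section segre_main

variable (R : Type u) [CommRing R] (n m : ℕ)

theorem rs_usec_left (i' i : Fin (n + 1)) (j : Fin (m + 1)) (W : (XX R n m).Opens)
    (e : W ≤ p1 R n m ⁻¹ᵁ Dp n i) :
    rs (LL R n m) (le_top : W ≤ ⊤) (usec R n m i' j) =
      ratio n (p1 R n m) i' i W e • rs (LL R n m) (le_top : W ≤ ⊤) (usec R n m i j) := by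
  unfold usec
  rw [tmul_res, tmul_res, rs_tsec_eq_ratio_smul n (p1 R n m) i' i W e, tmul_smul_left]

theorem rs_usec_right (i : Fin (n + 1)) (j' j : Fin (m + 1)) (W : (XX R n m).Opens)
    (e : W ≤ p2 R n m ⁻¹ᵁ Dp m j) :
    rs (LL R n m) (le_top : W ≤ ⊤) (usec R n m i j') =
      ratio m (p2 R n m) j' j W e • rs (LL R n m) (le_top : W ≤ ⊤) (usec R n m i j) := by
  unfold usec
  rw [tmul_res, tmul_res, rs_tsec_eq_ratio_smul m (p2 R n m) j' j W e, tmul_smul_right]

/-- **The Segre embedding over a ring**, with its defining data. -/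
theorem exists_segre' :
    ∃ (σ : XX R n m ⟶ CohB1.ProjSpace (n * m + n + m) R)
      (τ : (Scheme.Modules.pullback σ).obj (Twist.twistProjSpace (n * m + n + m) R 1) ≅ LL R n m),
      IsClosedImmersion σ ∧ σ ≫ CohB1.ProjSpace.toSpec (n * m + n + m) R = qq R n m ∧
        ∀ k, (τ.hom.app ⊤).hom (tsec (n * m + n + m) σ k) = vsec R n m k := by
  obtain ⟨σ, hσ, τ, hτ⟩ := exists_projSpace' (n * m + n + m) (qq R n m) (LL R n m)
    (vsec R n m) (vsec_cov R n m)
  refine ⟨σ, τ, ?_, hσ, hτ⟩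
  have hpre : ∀ i j, σ ⁻¹ᵁ Dp (n * m + n + m) (idx n m (i, j)) =
      p1 R n m ⁻¹ᵁ Dp n i ⊓ p2 R n m ⁻¹ᵁ Dp m j := by
    intro i j
    rw [preimage_Dp_eq_genOpen _ σ τ (vsec R n m) hτ, vsec_idx, genOpen_usec]
  have H := IsPullback.of_hasPullback (CohB1.ProjSpace.toSpec n R) (CohB1.ProjSpace.toSpec m R)
  have hAn : ∀ i, IsAffineOpen (Dp (R := R) n i) := fun i =>
    Proj.isAffineOpen_basicOpen (CohB1.polyGrading n R) _ (MvPolynomial.isHomogeneous_X R i) one_pos
  have hAm : ∀ j, IsAffineOpen (Dp (R := R) m j) := fun j =>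
    Proj.isAffineOpen_basicOpen (CohB1.polyGrading m R) _ (MvPolynomial.isHomogeneous_X R j) one_pos
  apply isClosedImmersion_of_sections (n * m + n + m) σ τ (vsec R n m) hτ
  · intro k
    obtain ⟨⟨i, j⟩, rfl⟩ := (idx n m).surjective k
    exact isAffineOpen_chart H (US := ⊤) le_top le_top (hpre i j)
      (isAffineOpen_top _) (hAm j) (hAn i)
  · intro k S hA hB
    obtain ⟨⟨i, j⟩, rfl⟩ := (idx n m).surjective k
    have e1 : σ ⁻¹ᵁ Dp (n * m + n + m) (idx n m (i, j)) ≤ p1 R n m ⁻¹ᵁ Dp n i :=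
      (hpre i j).le.trans inf_le_left
    have e2 : σ ⁻¹ᵁ Dp (n * m + n + m) (idx n m (i, j)) ≤ p2 R n m ⁻¹ᵁ Dp m j :=
      (hpre i j).le.trans inf_le_right
    apply subring_eq_top_chart H (US := ⊤) le_top le_top (hpre i j)
      (isAffineOpen_top _) (hAm j) (hAn i) S
    · apply appLE_mem_of_ratio n (p1 R n m) i _ e1 S
      · intro i'
        apply hA (idx n m (i', j))
        rw [vsec_idx, vsec_idx]
        exact rs_usec_left R n m i' i j _ e1
      · intro c
        have := hB c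
        rwa [hσ] at this
    · apply appLE_mem_of_ratio m (p2 R n m) j _ e2 S
      · intro j'
        apply hA (idx n m (i, j'))
        rw [vsec_idx, vsec_idx]
        exact rs_usec_right R n m i j' j _ e2
      · intro c
        have := hB c
        rw [hσ] at this
        have hcond : p2 R n m ≫ CohB1.ProjSpace.toSpec m R = qq R n m := pullback.condition.symm
        rwa [hcond]

/-- **The Segre embedding over a ring.** -/
theorem exists_segre :
    ∃ σ : XX R n m ⟶ CohB1.ProjSpace (n * m + n + m) R,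
      IsClosedImmersion σ ∧ σ ≫ CohB1.ProjSpace.toSpec (n * m + n + m) R = qq R n m := by
  obtain ⟨σ, _, h1, h2, _⟩ := exists_segre' R n m
  exact ⟨σ, h1, h2⟩

end segre_main

end Groth.Agent.Lib.Helper60.Segre
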