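import Groth.Agent.Lib.Helper60.ProjUP11

/-!
# Stalks of a module with a local generator

If `e` generates `L` freely on `U ∋ x`, then `a ↦ a • germ e` is a linear equivalence
`O_{X,x} ≃ L_x`; submodules `I • ⊤` of `L_x` correspond to ideals `I`.
-/

set_option autoImplicit false
universe u
open CategoryTheory CategoryTheory.Limits AlgebraicGeometry TopologicalSpace Opposite

namespace Groth.Agent.Lib.Helper60.SepLib

open Groth.Agent.Lib.Helper35.Gen Groth.Agent.Lib.Helper35.PbInv Groth.Agent.Lib.Helper35.AbSheaf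
open Groth.Agent.Lib.Lead.QCohAff

variable {X : Scheme.{u}} {L : X.Modules} {U : X.Opens} {e : Γ(L, U)} (he : IsGen L U e)
  (x : X) (hx : x ∈ U)

/-- germ of a restricted section -/
theorem germ_rs {V W : X.Opens} (h : W ≤ V) (hxW : x ∈ W) (s : Γ(L, V)) :
    L.presheaf.germ W x hxW (rs L h s) = L.presheaf.germ V x (h hxW) s :=
  germ_res L h x hxW s

theorem germ_rr {V W : X.Opens} (h : W ≤ V) (hxW : x ∈ W) (s : Γ(X, V)) :
    X.presheaf.germ W x hxW (rr X h s) = X.presheaf.germ V x (h hxW) s :=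
  germX_res h x hxW s

include he in
theorem exists_smul_germ (t : L.presheaf.stalk x) :
    ∃ a : X.presheaf.stalk x, t = a • L.presheaf.germ U x hx e := by
  obtain ⟨W, hxW, t', rfl⟩ := TopCat.Presheaf.exists_germ_eq L.presheaf t
  have hW : W ⊓ U ≤ U := inf_le_right
  have hxWU : x ∈ W ⊓ U := ⟨hxW, hx⟩
  obtain ⟨r, hr⟩ := (he (W ⊓ U) hW).2 (rs L inf_le_left t')
  refine ⟨X.presheaf.germ (W ⊓ U) x hxWU r, ?_⟩
  have h1 : L.presheaf.germ W x hxW t' = L.presheaf.germ (W ⊓ U) x hxWU (rs L inf_le_left t') :=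
    (germ_rs x inf_le_left hxWU t').symm
  have h2 : L.presheaf.germ U x hx e = L.presheaf.germ (W ⊓ U) x hxWU (rs L hW e) :=
    (germ_rs x hW hxWU e).symm
  change L.presheaf.germ W x hxW t' = _
  rw [h1, h2, ← germ_smul]
  exact congrArg _ hr.symm

include he in
theorem smul_germ_eq_zero (a : X.presheaf.stalk x) (h : a • L.presheaf.germ U x hx e = 0) :
    a = 0 := by
  obtain ⟨W, hxW, r, rfl⟩ := TopCat.Presheaf.exists_germ_eq X.presheaf a
  have hW : W ⊓ U ≤ U := inf_le_right
  have hxWU : x ∈ W ⊓ U := ⟨hxW, hx⟩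
  have h1 : X.presheaf.germ W x hxW r = X.presheaf.germ (W ⊓ U) x hxWU (rr X inf_le_left r) :=
    (germ_rr x inf_le_left hxWU r).symm
  have h2 : L.presheaf.germ U x hx e = L.presheaf.germ (W ⊓ U) x hxWU (rs L hW e) :=
    (germ_rs x hW hxWU e).symm
  change X.presheaf.germ W x hxW r • _ = 0 at h
  change X.presheaf.germ W x hxW r = 0
  rw [h1, h2, ← germ_smul] at h
  have h0 : L.presheaf.germ (W ⊓ U) x hxWU
      (rr X (inf_le_left : W ⊓ U ≤ W) r • rs L hW e) =
      L.presheaf.germ (W ⊓ U) x hxWU 0 := by rw [h, map_zero]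
  obtain ⟨W', hxW', i1, i2, hW'⟩ := TopCat.Presheaf.germ_eq L.presheaf x hxWU hxWU _ 0 h0
  have hle : W' ≤ W ⊓ U := i1.le
  have h3 : rs L hle (rr X (inf_le_left : W ⊓ U ≤ W) r • rs L hW e) = 0 := by
    have : rs L hle (rr X (inf_le_left : W ⊓ U ≤ W) r • rs L hW e) =
        L.presheaf.map i1.op (rr X (inf_le_left : W ⊓ U ≤ W) r • rs L hW e) := rfl
    rw [this, hW']
    exact map_zero _
  rw [rs_smul, rs_rs, rr_rr] at h3
  have h4 : rr X (hle.trans inf_le_left) r = 0 := by
    apply (he W' (hle.trans hW)).1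
    change rr X (hle.trans inf_le_left) r • rs L (hle.trans hW) e = (0 : Γ(X, W')) • rs L _ e
    rw [h3, zero_smul]
  rw [← germ_rr x (hle.trans inf_le_left) hxW' r, h4, map_zero]

/-- the linear equivalence `O_{X,x} ≃ L_x`, `a ↦ a • germ e` -/
noncomputable def stalkEquiv :
    X.presheaf.stalk x ≃ₗ[X.presheaf.stalk x] L.presheaf.stalk x :=
  LinearEquiv.ofBijective (LinearMap.toSpanSingleton _ _ (L.presheaf.germ U x hx e))
    ⟨by
      rw [← LinearMap.ker_eq_bot, LinearMap.ker_eq_bot']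
      intro a ha
      exact smul_germ_eq_zero he x hx a ha,
     fun t => by
      obtain ⟨a, rfl⟩ := exists_smul_germ he x hx t
      exact ⟨a, rfl⟩⟩

theorem stalkEquiv_apply (a : X.presheaf.stalk x) :
    stalkEquiv he x hx a = a • L.presheaf.germ U x hx e := rfl

/-- `I • ⊤ ⊆ L_x` corresponds to `I` -/
theorem map_stalkEquiv (I : Ideal (X.presheaf.stalk x)) :
    Submodule.map (stalkEquiv he x hx).toLinearMap I =
      I • (⊤ : Submodule (X.presheaf.stalk x) (L.presheaf.stalk x)) := by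
  have h1 : (I : Submodule (X.presheaf.stalk x) (X.presheaf.stalk x)) =
      I • (⊤ : Submodule (X.presheaf.stalk x) (X.presheaf.stalk x)) := by
    rw [Ideal.smul_top_eq_map]; simp
  conv_lhs => rw [h1]
  rw [Submodule.map_smul'', Submodule.map_top, LinearEquiv.range]

include he in
theorem smul_germ_mem_iff (I : Ideal (X.presheaf.stalk x)) (a : X.presheaf.stalk x) :
    a • L.presheaf.germ U x hx e ∈
      I • (⊤ : Submodule (X.presheaf.stalk x) (L.presheaf.stalk x)) ↔ a ∈ I := by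
  rw [← map_stalkEquiv he x hx I, ← stalkEquiv_apply he x hx a]
  constructor
  · rintro ⟨b, hb, hba⟩
    have := (stalkEquiv he x hx).injective hba
    rwa [← this]
  · intro ha
    exact ⟨a, ha, rfl⟩

end Groth.Agent.Lib.Helper60.SepLib
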