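import Groth.Agent.Lib.Helper60.Sep1
import Groth.Agent.Lib.Helper60.ProjUP9

/-!
# Values of functions at closed points of schemes locally of finite type over an algebraically
closed field
-/

set_option autoImplicit false
universe u
open CategoryTheory CategoryTheory.Limits AlgebraicGeometry TopologicalSpace Opposite

namespace Groth.Agent.Lib.Helper60.SepLib

open Groth.Agent.Lib.Helper35.Gen Groth.Agent.Lib.Helper35.PbInv Groth.Agent.Lib.Helper35.AbSheaf
open Groth.Agent.Lib.Lead.QCohAff
open Groth.Agent.Lib.Helper60.ProjUPLib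

variable {K : Type u} [Field K] [IsAlgClosed K] {X : Scheme.{u}}
  (q : X ⟶ Spec (CommRingCat.of K)) [LocallyOfFiniteType q] (x : X) (hx : IsClosed ({x} : Set X))

theorem toGlobal_comp_evaluation :
    ((Scheme.ΓSpecIso (CommRingCat.of K)).inv ≫ q.appTop) ≫ X.Γevaluation x =
      (residueFieldIsoBase q x hx).inv := by
  apply Spec.map_injective
  rw [SpecMap_residueFieldIsoBase_inv, Spec.map_comp]
  have h1 : Spec.map (X.Γevaluation x) = X.fromSpecResidueField x ≫ X.toSpecΓ := by
    unfold Scheme.fromSpecResidueField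
    rw [Category.assoc, Scheme.fromSpecStalk_toSpecΓ, ← Spec.map_comp]
    rfl
  rw [h1, Category.assoc]
  congr 1
  exact (eq_toSpecΓ_comp q).symm

/-- the value in `K` of a function at a closed point -/
noncomputable def val (U : X.Opens) (hxU : x ∈ U) : Γ(X, U) →+* K :=
  (residueFieldIsoBase q x hx).hom.hom.comp (X.evaluation U x hxU).hom

theorem val_eq_zero_iff (U : X.Opens) (hxU : x ∈ U) (r : Γ(X, U)) :
    val q x hx U hxU r = 0 ↔
      X.presheaf.germ U x hxU r ∈ IsLocalRing.maximalIdeal (X.presheaf.stalk x) := by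
  have hinj : Function.Injective (residueFieldIsoBase q x hx).hom.hom :=
    ((ConcreteCategory.isIso_iff_bijective (residueFieldIsoBase q x hx).hom).mp inferInstance).1
  change (residueFieldIsoBase q x hx).hom.hom ((X.evaluation U x hxU).hom r) = 0 ↔ _
  rw [← map_zero (residueFieldIsoBase q x hx).hom.hom, hinj.eq_iff]
  change IsLocalRing.residue _ (X.presheaf.germ U x hxU r) = 0 ↔ _
  rw [IsLocalRing.residue_eq_zero_iff]

theorem val_rr {U W : X.Opens} (h : W ≤ U) (hxW : x ∈ W) (r : Γ(X, U)) :
    val q x hx W hxW (rr X h r) = val q x hx U (h hxW) r := by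
  unfold val
  change (residueFieldIsoBase q x hx).hom.hom
    (IsLocalRing.residue _ (X.presheaf.germ W x hxW (rr X h r))) =
    (residueFieldIsoBase q x hx).hom.hom
    (IsLocalRing.residue _ (X.presheaf.germ U x (h hxW) r))
  rw [germ_rr]

theorem val_const (U : X.Opens) (hxU : x ∈ U) (a : K) :
    val q x hx U hxU (rr X le_top (ProjUP.toGlobal q a)) = a := by
  rw [val_rr]
  have h1 := congrArg (fun φ => φ.hom a) (toGlobal_comp_evaluation q x hx)
  have h2 : (X.Γevaluation x).hom (ProjUP.toGlobal q a) = (residueFieldIsoBase q x hx).inv.hom a := h1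
  change (residueFieldIsoBase q x hx).hom.hom ((X.Γevaluation x).hom (ProjUP.toGlobal q a)) = a
  rw [h2]
  have h3 := congrArg (fun φ => φ.hom a) (residueFieldIsoBase q x hx).inv_hom_id
  exact h3

theorem germ_sub_const_mem (U : X.Opens) (hxU : x ∈ U) (r : Γ(X, U)) :
    X.presheaf.germ U x hxU (r - rr X le_top (ProjUP.toGlobal q (val q x hx U hxU r))) ∈
      IsLocalRing.maximalIdeal (X.presheaf.stalk x) := by
  rw [← val_eq_zero_iff q x hx, map_sub, val_const, sub_self]

end Groth.Agent.Lib.Helper60.SepLib
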