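import Groth.Agent.Lib.Helper60.Sep2

/-!
# Values of functions at closed points: functoriality
-/

set_option autoImplicit false
universe u
open CategoryTheory CategoryTheory.Limits AlgebraicGeometry TopologicalSpace Opposite

namespace Groth.Agent.Lib.Helper60.SepLib

open Groth.Agent.Lib.Helper35.Gen Groth.Agent.Lib.Helper35.PbInv Groth.Agent.Lib.Helper35.AbSheaf
open Groth.Agent.Lib.Lead.QCohAff
open Groth.Agent.Lib.Helper60.ProjUPLib

section general

variable {X Y : Scheme.{u}} (f : X ⟶ Y) (P : X)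

theorem germ_app (U : Y.Opens) (hU : f P ∈ U) (r : Γ(Y, U)) :
    X.presheaf.germ (f ⁻¹ᵁ U) P hU ((f.app U).hom r) =
      (f.stalkMap P).hom (Y.presheaf.germ U (f P) hU r) := by
  have := congrArg (fun φ => φ.hom r) (Scheme.Hom.germ_stalkMap f U P hU)
  exact this.symm

theorem stalkMap_mem_iff (a : Y.presheaf.stalk (f P)) :
    (f.stalkMap P).hom a ∈ IsLocalRing.maximalIdeal (X.presheaf.stalk P) ↔
      a ∈ IsLocalRing.maximalIdeal (Y.presheaf.stalk (f P)) := by
  rw [IsLocalRing.mem_maximalIdeal, IsLocalRing.mem_maximalIdeal, mem_nonunits_iff,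
    mem_nonunits_iff, isUnit_map_iff]

theorem germ_app_mem_iff (U : Y.Opens) (hU : f P ∈ U) (r : Γ(Y, U)) :
    X.presheaf.germ (f ⁻¹ᵁ U) P hU ((f.app U).hom r) ∈
        IsLocalRing.maximalIdeal (X.presheaf.stalk P) ↔
      Y.presheaf.germ U (f P) hU r ∈ IsLocalRing.maximalIdeal (Y.presheaf.stalk (f P)) := by
  rw [germ_app, stalkMap_mem_iff]

theorem app_rr_top (U : Y.Opens) (s : Γ(Y, ⊤)) :
    (f.app U).hom (rr Y le_top s) = rr X (le_top : f ⁻¹ᵁ U ≤ ⊤) (f.appTop.hom s) := by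
  have h := f.naturality (homOfLE (le_top : U ≤ ⊤)).op
  exact congrArg (fun φ => φ.hom s) h

end general

variable {K : Type u} [Field K] [IsAlgClosed K] {X Y : Scheme.{u}} (f : X ⟶ Y)
  (qY : Y ⟶ Spec (CommRingCat.of K)) [LocallyOfFiniteType qY] [LocallyOfFiniteType (f ≫ qY)]
  (P : X) (hP : IsClosed ({P} : Set X)) (hy : IsClosed ({f P} : Set Y))

theorem val_app (U : Y.Opens) (hU : f P ∈ U) (r : Γ(Y, U)) :
    val (f ≫ qY) P hP (f ⁻¹ᵁ U) hU ((f.app U).hom r) = val qY (f P) hy U hU r := by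
  set a := val qY (f P) hy U hU r with ha
  have h1 := germ_sub_const_mem qY (f P) hy U hU r
  rw [← germ_app_mem_iff f P U hU, ← val_eq_zero_iff (f ≫ qY) P hP, map_sub, map_sub,
    sub_eq_zero] at h1
  rw [h1, app_rr_top]
  exact val_const (f ≫ qY) P hP (f ⁻¹ᵁ U) hU a

end Groth.Agent.Lib.Helper60.SepLib
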