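import Groth.Agent.Lib.Helper60.Seg1

/-!
# Generation of `Γ(Proj, D₊(f))` by fractions of generators of arbitrary degrees (helper60)
-/

set_option autoImplicit false
universe u
open CategoryTheory CategoryTheory.Limits AlgebraicGeometry TopologicalSpace Opposite

namespace Groth.Agent.Lib.Helper60.Ver

open Groth.Agent.Lib.Helper35.Gen Groth.Agent.Lib.Helper35.AbSheaf
open Groth.Agent.Lib.Helper60.ProjUPLib Groth.Agent.Lib.Helper60.TwistLib
open Groth.Agent.Lib.Helper60.ProjFrac Groth.Agent.Lib.Helper60.SecKer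
open Groth.Agent.Lib.Helper60.PbComp Groth.Agent.Lib.Helper35.PbInv

section finsub

variable {R A : Type*} [CommSemiring R] [Semiring A] [Algebra R A]

/-- an element of `adjoin R T` lies in `adjoin R T'` for a finite `T' ⊆ T` -/
theorem exists_finset_mem_adjoin (T : Set A) (x : A) (hx : x ∈ Algebra.adjoin R T) :
    ∃ T' : Finset A, (T' : Set A) ⊆ T ∧ x ∈ Algebra.adjoin R (T' : Set A) := by
  classical
  induction hx using Algebra.adjoin_induction with
  | mem x hx =>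
    refine ⟨{x}, by simpa using hx, Algebra.subset_adjoin (by simp)⟩
  | algebraMap r => exact ⟨∅, by simp, Subalgebra.algebraMap_mem _ r⟩
  | add x y _ _ hx hy =>
    obtain ⟨T1, h1, hx1⟩ := hx
    obtain ⟨T2, h2, hy2⟩ := hy
    refine ⟨T1 ∪ T2, by rw [Finset.coe_union]; exact Set.union_subset h1 h2, ?_⟩
    exact add_mem (Algebra.adjoin_mono (by rw [Finset.coe_union]; exact Set.subset_union_left) hx1)
      (Algebra.adjoin_mono (by rw [Finset.coe_union]; exact Set.subset_union_right) hy2)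
  | mul x y _ _ hx hy =>
    obtain ⟨T1, h1, hx1⟩ := hx
    obtain ⟨T2, h2, hy2⟩ := hy
    refine ⟨T1 ∪ T2, by rw [Finset.coe_union]; exact Set.union_subset h1 h2, ?_⟩
    exact mul_mem (Algebra.adjoin_mono (by rw [Finset.coe_union]; exact Set.subset_union_left) hx1)
      (Algebra.adjoin_mono (by rw [Finset.coe_union]; exact Set.subset_union_right) hy2)

/-- a generating set of a finite type algebra contains a finite generating set -/
theorem exists_finset_adjoin_eq_top [Algebra.FiniteType R A] (T : Set A)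
    (hT : Algebra.adjoin R T = ⊤) :
    ∃ T' : Finset A, (T' : Set A) ⊆ T ∧ Algebra.adjoin R (T' : Set A) = ⊤ := by
  classical
  obtain ⟨s, hs⟩ := (Algebra.FiniteType.out : (⊤ : Subalgebra R A).FG)
  have h : ∀ x ∈ s, ∃ T' : Finset A, (T' : Set A) ⊆ T ∧ x ∈ Algebra.adjoin R (T' : Set A) :=
    fun x _ => exists_finset_mem_adjoin T x (by rw [hT]; trivial)
  choose! F hF1 hF2 using h
  refine ⟨s.biUnion F, ?_, ?_⟩
  · intro y hy
    rw [Finset.mem_coe, Finset.mem_biUnion] at hy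
    obtain ⟨x, hx, hy⟩ := hy
    exact hF1 x hx hy
  · rw [eq_top_iff, ← hs]
    apply Algebra.adjoin_le
    intro x hx
    refine Algebra.adjoin_mono ?_ (hF2 x hx)
    intro y hy
    rw [Finset.mem_coe, Finset.mem_biUnion]
    exact ⟨x, hx, hy⟩

end finsub

variable {R A : Type u} [CommRing R] [CommRing A] [Algebra R A] (𝒜 : ℕ → Submodule R A)
  [GradedAlgebra 𝒜]

section gen

variable (G : Set A) (hgen : Algebra.adjoin R G = ⊤)
variable {f : A} (hf : f ∈ 𝒜 1) (V : (Proj 𝒜).Opens) (hV : V ≤ Proj.basicOpen 𝒜 f)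
  (S : Subring Γ(Proj 𝒜, V))
  (h1 : ∀ a ∈ G, ∃ (n : ℕ) (han : a ∈ 𝒜 n),
    fr 𝒜 a (f ^ n) han (pow_mem_deg 𝒜 hf n) V (pow_notMem 𝒜 hV n) ∈ S)
  (h0 : ∀ c : R, fr 𝒜 (algebraMap R A c) 1 (SetLike.algebraMap_mem_graded 𝒜 c)
      SetLike.GradedOne.one_mem V (fun y _ => one_notMem 𝒜 y) ∈ S)

include h1 in
theorem gen_aux_closure (a : A) (ha : a ∈ Submonoid.closure G) :
    ∃ (n : ℕ) (han : a ∈ 𝒜 n),
      fr 𝒜 a (f ^ n) han (pow_mem_deg 𝒜 hf n) V (pow_notMem 𝒜 hV n) ∈ S := by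
  induction ha using Submonoid.closure_induction with
  | mem a ha => exact h1 a ha
  | one =>
    refine ⟨0, SetLike.GradedOne.one_mem, ?_⟩
    have e : fr 𝒜 1 (f ^ 0) SetLike.GradedOne.one_mem (pow_mem_deg 𝒜 hf 0) V
        (pow_notMem 𝒜 hV 0) = 1 := by
      rw [← fr_self 𝒜 1 SetLike.GradedOne.one_mem V (fun y _ => one_notMem 𝒜 y)]
      exact fr_congr 𝒜 _ _ _ _ _ _ _ rfl (pow_zero f)
    rw [e]
    exact one_mem S
  | mul a b _ _ iha ihb =>
    obtain ⟨n, han, hn⟩ := iha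
    obtain ⟨m, hbm, hm⟩ := ihb
    refine ⟨n + m, SetLike.GradedMul.mul_mem han hbm, ?_⟩
    have e : fr 𝒜 (a * b) (f ^ (n + m)) (SetLike.GradedMul.mul_mem han hbm)
        (pow_mem_deg 𝒜 hf (n + m)) V (pow_notMem 𝒜 hV (n + m)) =
        fr 𝒜 a (f ^ n) han (pow_mem_deg 𝒜 hf n) V (pow_notMem 𝒜 hV n) *
        fr 𝒜 b (f ^ m) hbm (pow_mem_deg 𝒜 hf m) V (pow_notMem 𝒜 hV m) := by
      rw [fr_mul]
      exact fr_congr 𝒜 _ _ _ _ _ _ _ rfl (pow_add f n m)
    rw [e]
    exact mul_mem hn hm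

include h1 h0 hgen in
theorem gen_aux (a : A) (n : ℕ) :
    fr 𝒜 (DirectSum.decompose 𝒜 a n : A) (f ^ n) (DirectSum.decompose 𝒜 a n).2
        (pow_mem_deg 𝒜 hf n) V (pow_notMem 𝒜 hV n) ∈ S := by
  have ha : a ∈ Submodule.span R (Submonoid.closure G : Set A) := by
    rw [← Algebra.adjoin_eq_span, hgen]; trivial
  induction ha using Submodule.span_induction with
  | mem a ha =>
    obtain ⟨n₀, han, hn⟩ := gen_aux_closure 𝒜 G hf V hV S h1 a ha
    by_cases hnn : n = n₀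
    · subst hnn
      have e : fr 𝒜 (DirectSum.decompose 𝒜 a n : A) (f ^ n) (DirectSum.decompose 𝒜 a n).2
          (pow_mem_deg 𝒜 hf n) V (pow_notMem 𝒜 hV n) =
          fr 𝒜 a (f ^ n) han (pow_mem_deg 𝒜 hf n) V (pow_notMem 𝒜 hV n) :=
        fr_congr 𝒜 _ _ _ _ _ _ _ (DirectSum.decompose_of_mem_same 𝒜 han) rfl
      rw [e]
      exact hn
    · have e : fr 𝒜 (DirectSum.decompose 𝒜 a n : A) (f ^ n) (DirectSum.decompose 𝒜 a n).2
          (pow_mem_deg 𝒜 hf n) V (pow_notMem 𝒜 hV n) = 0 := by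
        rw [← fr_zero 𝒜 (f ^ n) (pow_mem_deg 𝒜 hf n) V (pow_notMem 𝒜 hV n)]
        exact fr_congr 𝒜 _ _ _ _ _ _ _
          (DirectSum.decompose_of_mem_ne 𝒜 han (fun h => hnn h.symm)) rfl
      rw [e]
      exact zero_mem S
  | zero =>
    have e : fr 𝒜 (DirectSum.decompose 𝒜 (0 : A) n : A) (f ^ n) (DirectSum.decompose 𝒜 (0 : A) n).2
        (pow_mem_deg 𝒜 hf n) V (pow_notMem 𝒜 hV n) = 0 := by
      rw [← fr_zero 𝒜 (f ^ n) (pow_mem_deg 𝒜 hf n) V (pow_notMem 𝒜 hV n)]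
      refine fr_congr 𝒜 _ _ _ _ _ _ _ ?_ rfl
      rw [DirectSum.decompose_zero]
      rfl
    rw [e]
    exact zero_mem S
  | add a b _ _ iha ihb =>
    have e : fr 𝒜 (DirectSum.decompose 𝒜 (a + b) n : A) (f ^ n)
        (DirectSum.decompose 𝒜 (a + b) n).2
        (pow_mem_deg 𝒜 hf n) V (pow_notMem 𝒜 hV n) =
        fr 𝒜 (DirectSum.decompose 𝒜 a n : A) (f ^ n) (DirectSum.decompose 𝒜 a n).2
          (pow_mem_deg 𝒜 hf n) V (pow_notMem 𝒜 hV n) +
        fr 𝒜 (DirectSum.decompose 𝒜 b n : A) (f ^ n) (DirectSum.decompose 𝒜 b n).2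
          (pow_mem_deg 𝒜 hf n) V (pow_notMem 𝒜 hV n) := by
      rw [fr_add]
      refine fr_congr 𝒜 _ _ _ _ _ _ _ ?_ rfl
      rw [DirectSum.decompose_add]
      rfl
    rw [e]
    exact add_mem iha ihb
  | smul c a _ iha =>
    have e : fr 𝒜 (DirectSum.decompose 𝒜 (c • a) n : A) (f ^ n)
        (DirectSum.decompose 𝒜 (c • a) n).2
        (pow_mem_deg 𝒜 hf n) V (pow_notMem 𝒜 hV n) =
        fr 𝒜 (algebraMap R A c) 1 (SetLike.algebraMap_mem_graded 𝒜 c)
          SetLike.GradedOne.one_mem V (fun y _ => one_notMem 𝒜 y) *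
        fr 𝒜 (DirectSum.decompose 𝒜 a n : A) (f ^ n) (DirectSum.decompose 𝒜 a n).2
          (pow_mem_deg 𝒜 hf n) V (pow_notMem 𝒜 hV n) := by
      rw [fr_mul]
      apply fr_eq_of_mul_eq
      rw [DirectSum.decompose_smul]
      change (c • (DirectSum.decompose 𝒜 a n : A)) * _ = _
      rw [Algebra.smul_def, one_mul]
    rw [e]
    exact mul_mem (h0 c) iha

include h1 h0 hgen in
/-- a subring of `Γ(Proj, D₊(f))` containing the constants and, for each generator `a` of degree `n`,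
the fraction `a/fⁿ`, is everything (here on an open `V` equal to `D₊(f)`) -/
theorem subring_eq_top_of_gens (hVeq : V = Proj.basicOpen 𝒜 f) : S = ⊤ := by
  subst hVeq
  rw [eq_top_iff]
  intro s _
  have hiso : IsIso (Proj.awayToSection 𝒜 f) := (Proj.basicOpenIsoAway 𝒜 f hf one_pos).isIso_hom
  obtain ⟨z, rfl⟩ := (ConcreteCategory.bijective_of_isIso (Proj.awayToSection 𝒜 f)).2 s
  obtain ⟨n, a, ha, rfl⟩ := HomogeneousLocalization.Away.mk_surjective 𝒜 hf z
  have han : a ∈ 𝒜 n := by simpa using ha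
  change (Proj.awayToSection 𝒜 f).hom _ ∈ S
  rw [awayToSection_mk]
  have e : fr 𝒜 a (f ^ n) ha (SetLike.pow_mem_graded n hf) (Proj.basicOpen 𝒜 f)
      (pow_notMem 𝒜 le_rfl n) =
      fr 𝒜 (DirectSum.decompose 𝒜 a n : A) (f ^ n) (DirectSum.decompose 𝒜 a n).2
        (pow_mem_deg 𝒜 hf n) (Proj.basicOpen 𝒜 f) (pow_notMem 𝒜 le_rfl n) :=
    fr_congr 𝒜 _ _ _ _ _ _ _ (DirectSum.decompose_of_mem_same 𝒜 han).symm rfl
  rw [e]
  exact gen_aux 𝒜 G hgen hf _ le_rfl S h1 h0 a n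

end gen

section zero

variable (G : Set A) (hG : ∀ a ∈ G, ∃ n, 0 < n ∧ a ∈ 𝒜 n) (hgen : Algebra.adjoin R G = ⊤)

include hG in
theorem closure_deg (a : A) (ha : a ∈ Submonoid.closure G) :
    ∃ n, a ∈ 𝒜 n ∧ (n = 0 → a = 1) := by
  induction ha using Submonoid.closure_induction with
  | mem a ha =>
    obtain ⟨n, hn, han⟩ := hG a ha
    exact ⟨n, han, fun h => absurd h hn.ne'⟩
  | one => exact ⟨0, SetLike.GradedOne.one_mem, fun _ => rfl⟩
  | mul a b _ _ iha ihb =>
    obtain ⟨n, han, hn⟩ := iha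
    obtain ⟨m, hbm, hm⟩ := ihb
    refine ⟨n + m, SetLike.GradedMul.mul_mem han hbm, fun h => ?_⟩
    have h1 : n = 0 := by omega
    have h2 : m = 0 := by omega
    rw [hn h1, hm h2, mul_one]

include hG hgen in
/-- if `A` is generated over `R` by homogeneous elements of positive degree, the degree zero part
of any element is a constant -/
theorem decompose_zero_mem_range (a : A) :
    (DirectSum.decompose 𝒜 a 0 : A) ∈ (algebraMap R A).range := by
  have ha : a ∈ Submodule.span R (Submonoid.closure G : Set A) := by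
    rw [← Algebra.adjoin_eq_span, hgen]; trivial
  induction ha using Submodule.span_induction with
  | mem a ha =>
    obtain ⟨n, han, hn⟩ := closure_deg 𝒜 G hG a ha
    by_cases h0 : n = 0
    · subst h0
      rw [DirectSum.decompose_of_mem_same 𝒜 han, hn rfl]
      exact one_mem _
    · rw [DirectSum.decompose_of_mem_ne 𝒜 han h0]
      exact zero_mem _
  | zero =>
    rw [DirectSum.decompose_zero]
    exact zero_mem _
  | add a b _ _ iha ihb =>
    rw [DirectSum.decompose_add]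
    exact add_mem iha ihb
  | smul c a _ iha =>
    rw [DirectSum.decompose_smul]
    change c • (DirectSum.decompose 𝒜 a 0 : A) ∈ _
    rw [Algebra.smul_def]
    exact mul_mem ⟨c, rfl⟩ iha

include hG hgen in
theorem algebraMap_zero_surjective : Function.Surjective (algebraMap R (𝒜 0)) := by
  intro a
  obtain ⟨c, hc⟩ := decompose_zero_mem_range 𝒜 G hG hgen a.1
  refine ⟨c, Subtype.ext ?_⟩
  rw [DirectSum.decompose_of_mem_same 𝒜 a.2] at hc
  exact hc

end zero

end Groth.Agent.Lib.Helper60.Ver
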