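import Groth.Agent.Lib.Helper60.Sep3
import Groth.Agent.Lib.Helper60.Ver1

/-!
# Standard charts of projective space: affine coordinates, linear forms, generation
-/

set_option autoImplicit false
universe u
open CategoryTheory CategoryTheory.Limits AlgebraicGeometry TopologicalSpace Opposite

namespace Groth.Agent.Lib.Helper60.SepLib

open Groth.Agent.Lib.Helper35.Gen Groth.Agent.Lib.Helper35.PbInv Groth.Agent.Lib.Helper35.AbSheaf
open Groth.Agent.Lib.Lead.QCohAff
open Groth.Agent.Lib.Helper60.ProjUPLib Groth.Agent.Lib.Helper60.ProjFrac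
open Groth.Agent.Lib.Helper60.TwistLib

variable (n : ℕ) (K : Type u) [CommRing K]

/-- the coordinate `T_j` as a homogeneous element of degree one -/
noncomputable def T (j : Fin (n + 1)) : CohB1.polyGrading n K 1 :=
  ⟨MvPolynomial.X j, MvPolynomial.isHomogeneous_X K j⟩

/-- the standard chart `D₊(T_j)` -/
noncomputable abbrev DD (j₀ : Fin (n + 1)) : (Proj (CohB1.polyGrading n K)).Opens :=
  Proj.basicOpen (CohB1.polyGrading n K) (T n K j₀).1

/-- the affine coordinate `T_j / T_{j₀}` -/
noncomputable def xx (j₀ j : Fin (n + 1)) : Γ(Proj (CohB1.polyGrading n K), DD n K j₀) :=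
  fr (CohB1.polyGrading n K) (T n K j).1 (T n K j₀).1 (T n K j).2 (T n K j₀).2 (DD n K j₀)
    (notMem_of_mem_basicOpen (CohB1.polyGrading n K) le_rfl)

/-- constants on the chart -/
noncomputable def cst (j₀ : Fin (n + 1)) (c : K) : Γ(Proj (CohB1.polyGrading n K), DD n K j₀) :=
  rr (Proj (CohB1.polyGrading n K)) le_top (ProjUP.toGlobal (strMap (CohB1.polyGrading n K)) c)

theorem cst_eq_fr (j₀ : Fin (n + 1)) (c : K) :
    cst n K j₀ c = fr (CohB1.polyGrading n K) (algebraMap K _ c) 1
      (SetLike.algebraMap_mem_graded (CohB1.polyGrading n K) c) SetLike.GradedOne.one_mem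
      (DD n K j₀) (fun y _ => one_notMem (CohB1.polyGrading n K) y) := by
  unfold cst
  rw [toGlobal_strMap]
  rfl

theorem xx_self (j₀ : Fin (n + 1)) : xx n K j₀ j₀ = 1 :=
  fr_self (CohB1.polyGrading n K) _ _ _ _

/-- the dehomogenized linear form `Σ c_j T_j / T_{j₀}` -/
noncomputable def lam (j₀ : Fin (n + 1)) (c : Fin (n + 1) → K) :
    Γ(Proj (CohB1.polyGrading n K), DD n K j₀) :=
  ∑ j, cst n K j₀ (c j) * xx n K j₀ j

/-- the ring of functions on the chart is generated by the constants and the affine coordinates -/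
theorem subring_eq_top (j₀ : Fin (n + 1)) (S : Subring Γ(Proj (CohB1.polyGrading n K), DD n K j₀))
    (h0 : ∀ c : K, cst n K j₀ c ∈ S) (h1 : ∀ j, xx n K j₀ j ∈ S) : S = ⊤ := by
  refine Groth.Agent.Lib.Helper60.Ver.subring_eq_top_of_gens (CohB1.polyGrading n K)
    (Set.range (MvPolynomial.X : Fin (n + 1) → MvPolynomial (Fin (n + 1)) K))
    (MvPolynomial.adjoin_range_X) (T n K j₀).2 (DD n K j₀) le_rfl S ?_ ?_ rfl
  · rintro a ⟨j, rfl⟩
    refine ⟨1, (T n K j).2, ?_⟩
    have e : fr (CohB1.polyGrading n K) (MvPolynomial.X j) ((T n K j₀).1 ^ 1) (T n K j).2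
        (pow_mem_deg (CohB1.polyGrading n K) (T n K j₀).2 1) (DD n K j₀)
        (pow_notMem (CohB1.polyGrading n K) le_rfl 1) = xx n K j₀ j :=
      fr_congr (CohB1.polyGrading n K) _ _ _ _ _ _ _ rfl (pow_one _)
    rw [e]
    exact h1 j
  · intro c
    rw [← cst_eq_fr]
    exact h0 c

end Groth.Agent.Lib.Helper60.SepLib
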