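import Groth.Agent.Lib.Helper60.Sep4
import Groth.Agent.Lib.Helper7.ProjSpaceProper

/-!
# Closed points of projective space over an algebraically closed field: affine coordinates
-/

set_option autoImplicit false
universe u
open CategoryTheory CategoryTheory.Limits AlgebraicGeometry TopologicalSpace Opposite

namespace Groth.Agent.Lib.Helper60.SepLib

open Groth.Agent.Lib.Helper35.Gen Groth.Agent.Lib.Helper35.PbInv Groth.Agent.Lib.Helper35.AbSheaf
open Groth.Agent.Lib.Lead.QCohAff
open Groth.Agent.Lib.Helper60.ProjUPLib Groth.Agent.Lib.Helper60.ProjFrac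
open Groth.Agent.Lib.Helper60.TwistLib

section affine

variable {X : Scheme.{u}} {U : X.Opens} (hU : IsAffineOpen U)

theorem mem_primeIdealOf_iff (x : U) (r : Γ(X, U)) :
    r ∈ (hU.primeIdealOf x).asIdeal ↔
      X.presheaf.germ U x.1 x.2 r ∈ IsLocalRing.maximalIdeal (X.presheaf.stalk x.1) := by
  rw [hU.primeIdealOf_eq_map_closedPoint]
  rfl

include hU in
theorem eq_of_forall_germ_mem_iff (x y : X) (hx : x ∈ U) (hy : y ∈ U)
    (h : ∀ r : Γ(X, U), X.presheaf.germ U x hx r ∈ IsLocalRing.maximalIdeal (X.presheaf.stalk x) ↔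
      X.presheaf.germ U y hy r ∈ IsLocalRing.maximalIdeal (X.presheaf.stalk y)) : x = y := by
  have h1 : hU.primeIdealOf ⟨x, hx⟩ = hU.primeIdealOf ⟨y, hy⟩ := by
    apply PrimeSpectrum.ext
    ext r
    rw [mem_primeIdealOf_iff, mem_primeIdealOf_iff]
    exact h r
  have h2 := hU.fromSpec_primeIdealOf ⟨x, hx⟩
  have h3 := hU.fromSpec_primeIdealOf ⟨y, hy⟩
  rw [h1] at h2
  exact h2.symm.trans h3

end affine

variable (n : ℕ) (K : Type u) [Field K] [IsAlgClosed K]

instance isProper_strMap : IsProper (strMap (CohB1.polyGrading n K)) :=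
  inferInstanceAs (IsProper (CohB1.ProjSpace.toSpec n K))

theorem isAffineOpen_DD (j₀ : Fin (n + 1)) : IsAffineOpen (DD n K j₀) :=
  Proj.isAffineOpen_basicOpen (CohB1.polyGrading n K) (T n K j₀).1 (T n K j₀).2 one_pos

variable (y : Proj (CohB1.polyGrading n K)) (hy : IsClosed ({y} : Set (Proj (CohB1.polyGrading n K))))
  (j₀ : Fin (n + 1)) (hyD : y ∈ DD n K j₀)

/-- the value at a closed point of a function on the chart -/
noncomputable def valY : Γ(Proj (CohB1.polyGrading n K), DD n K j₀) →+* K :=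
  val (strMap (CohB1.polyGrading n K)) y hy (DD n K j₀) hyD

/-- the affine coordinates of a closed point -/
noncomputable def crd (j : Fin (n + 1)) : K := valY n K y hy j₀ hyD (xx n K j₀ j)

theorem crd_self : crd n K y hy j₀ hyD j₀ = 1 := by
  unfold crd
  rw [xx_self, map_one]

theorem valY_cst (c : K) : valY n K y hy j₀ hyD (cst n K j₀ c) = c :=
  val_const (strMap (CohB1.polyGrading n K)) y hy (DD n K j₀) hyD c

theorem valY_lam (c : Fin (n + 1) → K) :
    valY n K y hy j₀ hyD (lam n K j₀ c) = ∑ j, c j * crd n K y hy j₀ hyD j := by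
  unfold lam
  rw [map_sum]
  refine Finset.sum_congr rfl fun j _ => ?_
  rw [map_mul, valY_cst]
  rfl

theorem valY_eq_zero_iff (r : Γ(Proj (CohB1.polyGrading n K), DD n K j₀)) :
    valY n K y hy j₀ hyD r = 0 ↔
      (Proj (CohB1.polyGrading n K)).presheaf.germ (DD n K j₀) y hyD r ∈
        IsLocalRing.maximalIdeal ((Proj (CohB1.polyGrading n K)).presheaf.stalk y) :=
  val_eq_zero_iff (strMap (CohB1.polyGrading n K)) y hy (DD n K j₀) hyD r

/-- the ring hom of constants -/
noncomputable def cstHom : K →+* Γ(Proj (CohB1.polyGrading n K), DD n K j₀) :=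
  (rr (Proj (CohB1.polyGrading n K)) le_top).comp
    (ProjUP.toGlobal (strMap (CohB1.polyGrading n K)))

theorem cstHom_apply (c : K) : cstHom n K j₀ c = cst n K j₀ c := rfl

/-- the ideal of the chart generated by `x_j - a_j` -/
noncomputable def ptIdeal : Ideal Γ(Proj (CohB1.polyGrading n K), DD n K j₀) :=
  Ideal.span (Set.range fun j => xx n K j₀ j - cst n K j₀ (crd n K y hy j₀ hyD j))

theorem exists_sub_cst_mem (r : Γ(Proj (CohB1.polyGrading n K), DD n K j₀)) :
    ∃ a : K, r - cst n K j₀ a ∈ ptIdeal n K y hy j₀ hyD := by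
  let S : Subring Γ(Proj (CohB1.polyGrading n K), DD n K j₀) :=
    { carrier := {r | ∃ a : K, r - cst n K j₀ a ∈ ptIdeal n K y hy j₀ hyD}
      mul_mem' := by
        rintro r r' ⟨a, ha⟩ ⟨a', ha'⟩
        refine ⟨a * a', ?_⟩
        have e : r * r' - cst n K j₀ (a * a') =
            r * (r' - cst n K j₀ a') + cst n K j₀ a' * (r - cst n K j₀ a) := by
          rw [← cstHom_apply, map_mul, cstHom_apply, cstHom_apply]; ring
        rw [e]
        exact add_mem (Ideal.mul_mem_left _ _ ha') (Ideal.mul_mem_left _ _ ha)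
      one_mem' := ⟨1, by rw [← cstHom_apply, map_one, sub_self]; exact zero_mem _⟩
      add_mem' := by
        rintro r r' ⟨a, ha⟩ ⟨a', ha'⟩
        refine ⟨a + a', ?_⟩
        have e : r + r' - cst n K j₀ (a + a') = (r - cst n K j₀ a) + (r' - cst n K j₀ a') := by
          rw [← cstHom_apply, map_add, cstHom_apply, cstHom_apply]; ring
        rw [e]
        exact add_mem ha ha'
      zero_mem' := ⟨0, by rw [← cstHom_apply, map_zero, sub_self]; exact zero_mem _⟩
      neg_mem' := by
        rintro r ⟨a, ha⟩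
        refine ⟨-a, ?_⟩
        have e : -r - cst n K j₀ (-a) = -(r - cst n K j₀ a) := by
          rw [← cstHom_apply, map_neg, cstHom_apply]; ring
        rw [e]
        exact neg_mem ha }
  have hS : S = ⊤ := by
    apply subring_eq_top n K j₀ S
    · intro c
      exact ⟨c, by rw [sub_self]; exact zero_mem _⟩
    · intro j
      exact ⟨crd n K y hy j₀ hyD j, Ideal.subset_span ⟨j, rfl⟩⟩
  have : r ∈ S := by rw [hS]; trivial
  exact this

theorem valY_eq_zero_of_mem_ptIdeal (r : Γ(Proj (CohB1.polyGrading n K), DD n K j₀))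
    (hr : r ∈ ptIdeal n K y hy j₀ hyD) : valY n K y hy j₀ hyD r = 0 := by
  have hle : ptIdeal n K y hy j₀ hyD ≤ RingHom.ker (valY n K y hy j₀ hyD) := by
    unfold ptIdeal
    rw [Ideal.span_le]
    rintro _ ⟨j, rfl⟩
    change valY n K y hy j₀ hyD _ = 0
    rw [map_sub, valY_cst]
    exact sub_self _
  exact hle hr

/-- a function vanishing at the closed point lies in the ideal generated by the `x_j - a_j` -/
theorem mem_ptIdeal_of_valY_eq_zero (r : Γ(Proj (CohB1.polyGrading n K), DD n K j₀))
    (hr : valY n K y hy j₀ hyD r = 0) : r ∈ ptIdeal n K y hy j₀ hyD := by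
  obtain ⟨a, ha⟩ := exists_sub_cst_mem n K y hy j₀ hyD r
  have h1 := valY_eq_zero_of_mem_ptIdeal n K y hy j₀ hyD _ ha
  rw [map_sub, valY_cst, hr, zero_sub, neg_eq_zero] at h1
  rw [h1, ← cstHom_apply, map_zero, sub_zero] at ha
  exact ha

end Groth.Agent.Lib.Helper60.SepLib
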