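import Groth.Agent.Lib.Helper60.Sep5

/-!
# Closed points of projective space: separation by coordinates
-/

set_option autoImplicit false
universe u
open CategoryTheory CategoryTheory.Limits AlgebraicGeometry TopologicalSpace Opposite

namespace Groth.Agent.Lib.Helper60.SepLib

open Groth.Agent.Lib.Helper35.Gen Groth.Agent.Lib.Helper35.PbInv Groth.Agent.Lib.Helper35.AbSheaf
open Groth.Agent.Lib.Lead.QCohAff
open Groth.Agent.Lib.Helper60.ProjUPLib Groth.Agent.Lib.Helper60.ProjFrac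
open Groth.Agent.Lib.Helper60.TwistLib

variable (n : ℕ) (K : Type u) [Field K] [IsAlgClosed K]

theorem eq_of_crd_eq (y y' : Proj (CohB1.polyGrading n K)) (hy : IsClosed ({y} : Set (Proj (CohB1.polyGrading n K))))
    (hy' : IsClosed ({y'} : Set (Proj (CohB1.polyGrading n K)))) (j₀ : Fin (n + 1))
    (hyD : y ∈ DD n K j₀) (hyD' : y' ∈ DD n K j₀)
    (h : ∀ j, crd n K y hy j₀ hyD j = crd n K y' hy' j₀ hyD' j) : y = y' := by
  have hS : RingHom.eqLocus (valY n K y hy j₀ hyD) (valY n K y' hy' j₀ hyD') = ⊤ := by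
    apply subring_eq_top n K j₀
    · intro c
      change valY n K y hy j₀ hyD _ = valY n K y' hy' j₀ hyD' _
      rw [valY_cst, valY_cst]
    · intro j
      exact h j
  have hval : ∀ r, valY n K y hy j₀ hyD r = valY n K y' hy' j₀ hyD' r := by
    intro r
    have : r ∈ RingHom.eqLocus (valY n K y hy j₀ hyD) (valY n K y' hy' j₀ hyD') := by
      rw [hS]; trivial
    exact this
  apply eq_of_forall_germ_mem_iff (isAffineOpen_DD n K j₀) y y' hyD hyD'
  intro r
  rw [← valY_eq_zero_iff n K y hy j₀ hyD r, ← valY_eq_zero_iff n K y' hy' j₀ hyD' r, hval r]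

theorem crd_eq_zero_of_notMem (y : Proj (CohB1.polyGrading n K))
    (hy : IsClosed ({y} : Set (Proj (CohB1.polyGrading n K)))) (j₁ j₀ : Fin (n + 1))
    (hyD : y ∈ DD n K j₁) (hn : y ∉ DD n K j₀) : crd n K y hy j₁ hyD j₀ = 0 := by
  unfold crd
  rw [valY_eq_zero_iff, IsLocalRing.mem_maximalIdeal, mem_nonunits_iff]
  intro hu
  have h1 : y ∈ (Proj (CohB1.polyGrading n K)).basicOpen (xx n K j₁ j₀) :=
    ((Proj (CohB1.polyGrading n K)).mem_basicOpen (xx n K j₁ j₀) y hyD).2 hu
  have h2 : (Proj (CohB1.polyGrading n K)).basicOpen (xx n K j₁ j₀) =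
      DD n K j₁ ⊓ DD n K j₀ :=
    basicOpen_fr (CohB1.polyGrading n K) _ _ _ _
  rw [h2] at h1
  exact hn h1.2

end Groth.Agent.Lib.Helper60.SepLib
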