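import Groth.Agent.Lib.Helper60.Sep6

/-!
# Pulled back linear forms: `σ(c) = Σ c_j f^* T_j` on a chart and its germs at closed points
-/

set_option autoImplicit false
universe u
open CategoryTheory CategoryTheory.Limits AlgebraicGeometry TopologicalSpace Opposite

namespace Groth.Agent.Lib.Helper60.SepLib

open Groth.Agent.Lib.Helper35.Gen Groth.Agent.Lib.Helper35.PbInv Groth.Agent.Lib.Helper35.AbSheaf
open Groth.Agent.Lib.Lead.QCohAff
open Groth.Agent.Lib.Helper60.ProjUPLib Groth.Agent.Lib.Helper60.ProjFrac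
open Groth.Agent.Lib.Helper60.TwistLib

variable (n : ℕ) (K : Type u) [Field K] {X : Scheme.{u}} (f : X ⟶ Proj (CohB1.polyGrading n K))

/-- the pulled back module `f^* O(1)` -/
noncomputable abbrev LL : X.Modules :=
  (Scheme.Modules.pullback f).obj (Twist.twistProjSpace n K 1)

/-- the section `Σ c_j f^* T_j` of `f^* O(1)` -/
noncomputable def sig (c : Fin (n + 1) → K) : Γ(LL n K f, ⊤) :=
  ∑ j, ProjUP.toGlobal (f ≫ strMap (CohB1.polyGrading n K)) (c j) •
    ProjUP.pullSec f (Twist.twistProjSpace n K 1) (ProjUP.coord n K j)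

/-- the chart `f⁻¹ D₊(T_{j₀})` -/
noncomputable abbrev UU (j₀ : Fin (n + 1)) : X.Opens := f ⁻¹ᵁ DD n K j₀

/-- the generator `f^* T_{j₀}` on the chart -/
noncomputable def egen (j₀ : Fin (n + 1)) : Γ(LL n K f, UU n K f j₀) :=
  rs (LL n K f) le_top (psec (CohB1.polyGrading n K) f (T n K j₀))

theorem isGen_egen (j₀ : Fin (n + 1)) : IsGen (LL n K f) (UU n K f j₀) (egen n K f j₀) :=
  isGen_psec (CohB1.polyGrading n K) f (T n K j₀)

theorem rs_sig (j₀ : Fin (n + 1)) (c : Fin (n + 1) → K) :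
    rs (LL n K f) (le_top : UU n K f j₀ ≤ ⊤) (sig n K f c) =
      (f.app (DD n K j₀)).hom (lam n K j₀ c) • egen n K f j₀ := by
  unfold sig lam
  rw [map_sum, map_sum, Finset.sum_smul]
  refine Finset.sum_congr rfl fun j _ => ?_
  rw [rs_smul, map_mul, mul_smul]
  have h1 : rs (LL n K f) (le_top : UU n K f j₀ ≤ ⊤)
      (ProjUP.pullSec f (Twist.twistProjSpace n K 1) (ProjUP.coord n K j)) =
      (f.app (DD n K j₀)).hom (xx n K j₀ j) • egen n K f j₀ :=
    rs_psec_eq_smul (CohB1.polyGrading n K) f (T n K j) (T n K j₀)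
  have h2 : rr X (le_top : UU n K f j₀ ≤ ⊤)
      (ProjUP.toGlobal (f ≫ strMap (CohB1.polyGrading n K)) (c j)) =
      (f.app (DD n K j₀)).hom (cst n K j₀ (c j)) :=
    (app_rr_top f (DD n K j₀) _).symm
  rw [h1, h2]

theorem germ_sig (j₀ : Fin (n + 1)) (c : Fin (n + 1) → K) (P : X) (hP : P ∈ UU n K f j₀) :
    (LL n K f).presheaf.germ ⊤ P trivial (sig n K f c) =
      X.presheaf.germ (UU n K f j₀) P hP ((f.app (DD n K j₀)).hom (lam n K j₀ c)) •
        (LL n K f).presheaf.germ (UU n K f j₀) P hP (egen n K f j₀) := by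
  rw [← germ_smul, ← rs_sig]
  exact (germ_rs P le_top hP _).symm

variable [IsAlgClosed K]

theorem germ_sig_mem_iff (j₀ : Fin (n + 1)) (c : Fin (n + 1) → K) (P : X)
    (hP : P ∈ UU n K f j₀) (hy : IsClosed ({f P} : Set (Proj (CohB1.polyGrading n K)))) :
    (LL n K f).presheaf.germ ⊤ P trivial (sig n K f c) ∈
        IsLocalRing.maximalIdeal (X.presheaf.stalk P) •
          (⊤ : Submodule (X.presheaf.stalk P) ((LL n K f).presheaf.stalk P)) ↔
      ∑ j, c j * crd n K (f P) hy j₀ hP j = 0 := by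
  rw [germ_sig n K f j₀ c P hP, smul_germ_mem_iff (isGen_egen n K f j₀) P hP,
    germ_app_mem_iff f P (DD n K j₀) hP, ← valY_eq_zero_iff n K (f P) hy j₀ hP, valY_lam]

end Groth.Agent.Lib.Helper60.SepLib
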