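import Groth.Agent.Lib.Helper60.Sep7

/-!
# The maximal ideal of the local ring of projective space at a closed point is generated by
linear forms
-/

set_option autoImplicit false
universe u
open CategoryTheory CategoryTheory.Limits AlgebraicGeometry TopologicalSpace Opposite

namespace Groth.Agent.Lib.Helper60.SepLib

open Groth.Agent.Lib.Helper35.Gen Groth.Agent.Lib.Helper35.PbInv Groth.Agent.Lib.Helper35.AbSheaf
open Groth.Agent.Lib.Lead.QCohAff
open Groth.Agent.Lib.Helper60.ProjUPLib Groth.Agent.Lib.Helper60.ProjFrac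
open Groth.Agent.Lib.Helper60.TwistLib

section affine

variable {X : Scheme.{u}} {U : X.Opens} (hU : IsAffineOpen U)

include hU in
theorem exists_germ_mul_eq (x : X) (hx : x ∈ U) (β : X.presheaf.stalk x) :
    ∃ r s : Γ(X, U), IsUnit (X.presheaf.germ U x hx s) ∧
      β * X.presheaf.germ U x hx s = X.presheaf.germ U x hx r := by
  letI := TopCat.Presheaf.algebra_section_stalk X.presheaf (⟨x, hx⟩ : U)
  have hloc := hU.isLocalization_stalk ⟨x, hx⟩
  obtain ⟨⟨r, s⟩, h⟩ := IsLocalization.surj (hU.primeIdealOf ⟨x, hx⟩).asIdeal.primeCompl β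
  refine ⟨r, s.1, ?_, h⟩
  have hs : s.1 ∉ (hU.primeIdealOf ⟨x, hx⟩).asIdeal := s.2
  rw [mem_primeIdealOf_iff, IsLocalRing.mem_maximalIdeal, mem_nonunits_iff, not_not] at hs
  exact hs

end affine

variable (n : ℕ) (K : Type u) [Field K] [IsAlgClosed K]
  (y : Proj (CohB1.polyGrading n K)) (hy : IsClosed ({y} : Set (Proj (CohB1.polyGrading n K))))
  (j₀ : Fin (n + 1)) (hyD : y ∈ DD n K j₀)

/-- the linear form `T_j - a_j T_{j₀}` vanishing at the point with coordinates `a` -/
noncomputable def cvec (j : Fin (n + 1)) : Fin (n + 1) → K :=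
  Pi.single j 1 - Pi.single j₀ (crd n K y hy j₀ hyD j)

theorem lam_single (j : Fin (n + 1)) (a : K) :
    lam n K j₀ (Pi.single j a) = cst n K j₀ a * xx n K j₀ j := by
  classical
  unfold lam
  rw [Finset.sum_eq_single j]
  · rw [Pi.single_eq_same]
  · intro i _ hij
    rw [Pi.single_eq_of_ne hij, ← cstHom_apply, map_zero, zero_mul]
  · intro h; exact absurd (Finset.mem_univ j) h

theorem lam_sub (c c' : Fin (n + 1) → K) :
    lam n K j₀ (c - c') = lam n K j₀ c - lam n K j₀ c' := by
  unfold lam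
  rw [← Finset.sum_sub_distrib]
  refine Finset.sum_congr rfl fun j _ => ?_
  rw [Pi.sub_apply, ← cstHom_apply, map_sub, sub_mul]
  rfl

theorem lam_cvec (j : Fin (n + 1)) :
    lam n K j₀ (cvec n K y hy j₀ hyD j) =
      xx n K j₀ j - cst n K j₀ (crd n K y hy j₀ hyD j) := by
  unfold cvec
  rw [lam_sub, lam_single, lam_single, xx_self, mul_one, ← cstHom_apply, map_one, one_mul]

theorem sum_cvec (j : Fin (n + 1)) :
    ∑ i, cvec n K y hy j₀ hyD j i * crd n K y hy j₀ hyD i = 0 := by
  rw [← valY_lam, lam_cvec, map_sub, valY_cst]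
  exact sub_self _

/-- the maximal ideal at a closed point is generated by the germs of the `x_j - a_j` -/
theorem maximalIdeal_le_span :
    IsLocalRing.maximalIdeal ((Proj (CohB1.polyGrading n K)).presheaf.stalk y) ≤
      Ideal.span (Set.range fun j => (Proj (CohB1.polyGrading n K)).presheaf.germ (DD n K j₀) y hyD
        (lam n K j₀ (cvec n K y hy j₀ hyD j))) := by
  intro β hβ
  obtain ⟨r, s, hs, hrs⟩ := exists_germ_mul_eq (isAffineOpen_DD n K j₀) y hyD β
  have hr : (Proj (CohB1.polyGrading n K)).presheaf.germ (DD n K j₀) y hyD r ∈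
      IsLocalRing.maximalIdeal ((Proj (CohB1.polyGrading n K)).presheaf.stalk y) := by
    rw [← hrs]
    exact Ideal.mul_mem_right _ _ hβ
  rw [← valY_eq_zero_iff n K y hy j₀ hyD] at hr
  have hr2 := mem_ptIdeal_of_valY_eq_zero n K y hy j₀ hyD r hr
  have hr3 : (Proj (CohB1.polyGrading n K)).presheaf.germ (DD n K j₀) y hyD r ∈
      Ideal.span (Set.range fun j => (Proj (CohB1.polyGrading n K)).presheaf.germ (DD n K j₀) y hyD
        (lam n K j₀ (cvec n K y hy j₀ hyD j))) := by
    have h1 := Ideal.mem_map_of_mem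
      ((Proj (CohB1.polyGrading n K)).presheaf.germ (DD n K j₀) y hyD).hom hr2
    unfold ptIdeal at h1
    rw [Ideal.map_span] at h1
    have e : (fun j => (Proj (CohB1.polyGrading n K)).presheaf.germ (DD n K j₀) y hyD
        (lam n K j₀ (cvec n K y hy j₀ hyD j))) =
        ((Proj (CohB1.polyGrading n K)).presheaf.germ (DD n K j₀) y hyD).hom ∘
          (fun j => xx n K j₀ j - cst n K j₀ (crd n K y hy j₀ hyD j)) := by
      funext j
      simp only [Function.comp, lam_cvec]
    rw [e, Set.range_comp]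
    exact h1
  obtain ⟨u, hu⟩ := hs
  have hβ2 : β = (Proj (CohB1.polyGrading n K)).presheaf.germ (DD n K j₀) y hyD r * ↑u⁻¹ := by
    rw [← hrs, ← hu, mul_assoc, Units.mul_inv, mul_one]
  rw [hβ2]
  exact Ideal.mul_mem_right _ _ hr3

end Groth.Agent.Lib.Helper60.SepLib
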