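import Groth.Agent.Lib.Helper60.Sep8

/-!
# Closed immersions into projective space separate points and tangent vectors
-/

set_option autoImplicit false
universe u
open CategoryTheory CategoryTheory.Limits AlgebraicGeometry TopologicalSpace Opposite

namespace Groth.Agent.Lib.Helper60.SepLib

open Groth.Agent.Lib.Helper35.Gen Groth.Agent.Lib.Helper35.PbInv Groth.Agent.Lib.Helper35.AbSheaf
open Groth.Agent.Lib.Lead.QCohAff
open Groth.Agent.Lib.Helper60.ProjUPLib Groth.Agent.Lib.Helper60.ProjFrac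
open Groth.Agent.Lib.Helper60.TwistLib

variable (n : ℕ) (K : Type u) [Field K]

theorem exists_chart (y : Proj (CohB1.polyGrading n K)) : ∃ j₀, y ∈ DD n K j₀ :=
  exists_mem_basicOpen (CohB1.polyGrading n K)
    (MvPolynomial.X : Fin (n + 1) → MvPolynomial (Fin (n + 1)) K) MvPolynomial.adjoin_range_X y

variable [IsAlgClosed K] {X : Scheme.{u}} (f : X ⟶ Proj (CohB1.polyGrading n K))

theorem sum_single_sub_single (i j₀ : Fin (n + 1)) (a : K) (b : Fin (n + 1) → K) :
    ∑ j, (Pi.single i 1 - Pi.single j₀ a : Fin (n + 1) → K) j * b j = b i - a * b j₀ := by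
  classical
  simp only [Pi.sub_apply, sub_mul, Finset.sum_sub_distrib, Pi.single_apply, ite_mul, one_mul,
    zero_mul, Finset.sum_ite_eq', Finset.mem_univ, if_true]

section closedImm

variable [IsClosedImmersion f]

include f in
theorem isClosed_image_pt (P : X) (hP : IsClosed ({P} : Set X)) :
    IsClosed ({f P} : Set (Proj (CohB1.polyGrading n K))) := by
  have := f.isClosedEmbedding.isClosedMap _ hP
  rwa [Set.image_singleton] at this

theorem sep_points (P Q : X) (hP : IsClosed ({P} : Set X)) (hQ : IsClosed ({Q} : Set X))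
    (hPQ : P ≠ Q) :
    ∃ c : Fin (n + 1) → K,
      (LL n K f).presheaf.germ ⊤ P trivial (sig n K f c) ∈
          IsLocalRing.maximalIdeal (X.presheaf.stalk P) •
            (⊤ : Submodule (X.presheaf.stalk P) ((LL n K f).presheaf.stalk P)) ∧
      (LL n K f).presheaf.germ ⊤ Q trivial (sig n K f c) ∉
          IsLocalRing.maximalIdeal (X.presheaf.stalk Q) •
            (⊤ : Submodule (X.presheaf.stalk Q) ((LL n K f).presheaf.stalk Q)) := by
  have hy := isClosed_image_pt n K f P hP
  have hy' := isClosed_image_pt n K f Q hQ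
  have hne : f P ≠ f Q := fun h => hPQ (f.isClosedEmbedding.injective h)
  obtain ⟨j₀, hj₀⟩ := exists_chart n K (f P)
  by_cases hQ₀ : f Q ∈ DD n K j₀
  · -- same chart
    have hex : ∃ i, crd n K (f P) hy j₀ hj₀ i ≠ crd n K (f Q) hy' j₀ hQ₀ i := by
      by_contra hcon
      push Not at hcon
      exact hne (eq_of_crd_eq n K (f P) (f Q) hy hy' j₀ hj₀ hQ₀ hcon)
    obtain ⟨i, hi⟩ := hex
    refine ⟨Pi.single i 1 - Pi.single j₀ (crd n K (f P) hy j₀ hj₀ i), ?_, ?_⟩
    · rw [germ_sig_mem_iff n K f j₀ _ P hj₀ hy, sum_single_sub_single, crd_self, mul_one, sub_self]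
    · rw [germ_sig_mem_iff n K f j₀ _ Q hQ₀ hy', sum_single_sub_single, crd_self, mul_one,
        sub_eq_zero]
      exact fun h => hi h.symm
  · -- different charts
    obtain ⟨j₁, hj₁⟩ := exists_chart n K (f Q)
    refine ⟨Pi.single j₁ 1 - Pi.single j₀ (crd n K (f P) hy j₀ hj₀ j₁), ?_, ?_⟩
    · rw [germ_sig_mem_iff n K f j₀ _ P hj₀ hy, sum_single_sub_single, crd_self, mul_one, sub_self]
    · rw [germ_sig_mem_iff n K f j₁ _ Q hj₁ hy', sum_single_sub_single, crd_self,
        crd_eq_zero_of_notMem n K (f Q) hy' j₁ j₀ hj₁ hQ₀, mul_zero, sub_zero]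
      exact one_ne_zero

theorem sep_tangent (P : X) (hP : IsClosed ({P} : Set X)) :
    IsLocalRing.maximalIdeal (X.presheaf.stalk P) •
        (⊤ : Submodule (X.presheaf.stalk P) ((LL n K f).presheaf.stalk P)) ≤
      Submodule.span (X.presheaf.stalk P)
        {v | ∃ c : Fin (n + 1) → K,
          v = (LL n K f).presheaf.germ ⊤ P trivial (sig n K f c) ∧
          v ∈ IsLocalRing.maximalIdeal (X.presheaf.stalk P) •
            (⊤ : Submodule (X.presheaf.stalk P) ((LL n K f).presheaf.stalk P))} := by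
  have hy := isClosed_image_pt n K f P hP
  obtain ⟨j₀, hj₀⟩ := exists_chart n K (f P)
  intro t ht
  obtain ⟨α, rfl⟩ := exists_smul_germ (isGen_egen n K f j₀) P hj₀ t
  rw [smul_germ_mem_iff (isGen_egen n K f j₀) P hj₀] at ht
  obtain ⟨β, rfl⟩ := f.stalkMap_surjective P α
  rw [stalkMap_mem_iff] at ht
  have hβ := maximalIdeal_le_span n K (f P) hy j₀ hj₀ ht
  rw [Ideal.mem_span_range_iff_exists_fun] at hβ
  obtain ⟨γ, rfl⟩ := hβ
  rw [map_sum, Finset.sum_smul]
  refine Submodule.sum_mem _ fun j _ => ?_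
  rw [map_mul, mul_smul]
  refine Submodule.smul_mem _ _ (Submodule.subset_span ?_)
  refine ⟨cvec n K (f P) hy j₀ hj₀ j, ?_, ?_⟩
  · rw [germ_sig n K f j₀ _ P hj₀, germ_app]
  · rw [← germ_app, ← germ_sig n K f j₀ _ P hj₀, germ_sig_mem_iff n K f j₀ _ P hj₀ hy]
    exact sum_cvec n K (f P) hy j₀ hj₀ j

end closedImm

end Groth.Agent.Lib.Helper60.SepLib
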