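import Mathlib

/-!
# Two ring-theoretic lemmas for the closed immersion criterion
-/

set_option autoImplicit false

namespace Groth.Agent.Lib.Helper60.SepLib

variable {A B : Type*} [CommRing A] [CommRing B] (φ : A →+* B)

/-- a finite ring map that is surjective modulo every maximal ideal is surjective -/
theorem surjective_of_forall_maximal (hfin : φ.Finite)
    (h : ∀ m : Ideal A, m.IsMaximal → ∀ b : B, ∃ a : A, b - φ a ∈ Ideal.map φ m) :
    Function.Surjective φ := by
  algebraize [φ]
  let N : Submodule A B := LinearMap.range (Algebra.linearMap A B)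
  suffices hN : N = ⊤ by
    intro b
    have : b ∈ N := by rw [hN]; trivial
    obtain ⟨a, ha⟩ := this
    exact ⟨a, ha⟩
  by_contra hne
  have hQ : Nontrivial (B ⧸ N) := Submodule.Quotient.nontrivial_iff.mpr hne
  have hann : Module.annihilator A (B ⧸ N) ≠ ⊤ := by
    intro htop
    have h1 : (1 : A) ∈ Module.annihilator A (B ⧸ N) := by rw [htop]; trivial
    rw [Module.mem_annihilator] at h1
    obtain ⟨q, q', hqq⟩ := hQ
    apply hqq
    rw [← one_smul A q, ← one_smul A q', h1 q, h1 q']
  obtain ⟨m, hm, hle⟩ := Ideal.exists_le_maximal _ hann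
  have htop : (⊤ : Submodule A (B ⧸ N)) ≤ m • (⊤ : Submodule A (B ⧸ N)) := by
    intro q _
    obtain ⟨b, rfl⟩ := Submodule.Quotient.mk_surjective N q
    obtain ⟨a, ha⟩ := h m hm b
    have h1 : b - φ a ∈ (m • (⊤ : Submodule A B)) := by
      have := Ideal.smul_top_eq_map (R := A) (S := B) m
      rw [this]
      exact ha
    have h2 : Submodule.Quotient.mk (p := N) b = Submodule.Quotient.mk (p := N) (b - φ a) := by
      have h0 : Submodule.Quotient.mk (p := N) (φ a) = 0 := by
        rw [Submodule.Quotient.mk_eq_zero]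
        exact ⟨a, rfl⟩
      rw [Submodule.Quotient.mk_sub, h0, sub_zero]
    rw [h2]
    have h3 : Submodule.map N.mkQ (m • (⊤ : Submodule A B)) = m • (⊤ : Submodule A (B ⧸ N)) := by
      rw [Submodule.map_smul'', Submodule.map_top, Submodule.range_mkQ]
    rw [← h3]
    exact ⟨_, h1, rfl⟩
  have hfg : (⊤ : Submodule A (B ⧸ N)).FG := Module.finite_def.mp inferInstance
  obtain ⟨r, hr1, hr2⟩ :=
    Submodule.exists_sub_one_mem_and_smul_eq_zero_of_fg_of_le_smul m ⊤ hfg htop
  have hr3 : r ∈ Module.annihilator A (B ⧸ N) := by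
    rw [Module.mem_annihilator]
    intro q
    exact hr2 q trivial
  have hr4 : r ∈ m := hle hr3
  have h1m : (1 : A) ∈ m := by
    have := m.sub_mem hr4 hr1
    rwa [sub_sub_cancel] at this
  exact hm.ne_top ((Ideal.eq_top_iff_one m).mpr h1m)

/-- surjectivity modulo `m` from information at the unique prime over `m` -/
theorem exists_sub_mem_map (m : Ideal A)
    (huniq : ∀ n n' : Ideal B, n.IsPrime → n'.IsPrime → Ideal.map φ m ≤ n → Ideal.map φ m ≤ n' →
      n = n')
    (ha : ∀ n : Ideal B, n.IsPrime → Ideal.map φ m ≤ n → ∀ b ∈ n, ∃ s, s ∉ n ∧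
      s * b ∈ Ideal.map φ m)
    (hb : ∀ n : Ideal B, n.IsPrime → Ideal.map φ m ≤ n → ∀ b : B, ∃ a : A, b - φ a ∈ n) (b : B) :
    ∃ a : A, b - φ a ∈ Ideal.map φ m := by
  by_cases hJ : Ideal.map φ m = ⊤
  · exact ⟨0, by rw [hJ]; trivial⟩
  obtain ⟨n, hn, hJn⟩ := Ideal.exists_le_maximal _ hJ
  have hnp : n.IsPrime := hn.isPrime
  obtain ⟨a, hab⟩ := hb n hnp hJn b
  refine ⟨a, ?_⟩
  set b' := b - φ a with hb'
  -- the colon ideal
  let C : Ideal B :=
    { carrier := {s | s * b' ∈ Ideal.map φ m}
      add_mem' := by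
        intro s t hs ht
        change (s + t) * b' ∈ Ideal.map φ m
        rw [add_mul]
        exact add_mem hs ht
      zero_mem' := by
        change (0 : B) * b' ∈ Ideal.map φ m
        rw [zero_mul]; exact zero_mem _
      smul_mem' := by
        intro c s hs
        change (c • s) * b' ∈ Ideal.map φ m
        rw [smul_eq_mul, mul_assoc]
        exact Ideal.mul_mem_left _ _ hs }
  have hJC : Ideal.map φ m ≤ C := fun s hs => Ideal.mul_mem_right _ _ hs
  by_cases hC : C = ⊤
  · have : (1 : B) ∈ C := by rw [hC]; trivial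
    have h1 : (1 : B) * b' ∈ Ideal.map φ m := this
    rwa [one_mul] at h1
  · exfalso
    obtain ⟨n', hn', hCn'⟩ := Ideal.exists_le_maximal _ hC
    have hnn' : n = n' := huniq n n' hnp hn'.isPrime hJn (hJC.trans hCn')
    obtain ⟨s, hs, hsb⟩ := ha n hnp hJn b' hab
    apply hs
    rw [hnn']
    exact hCn' hsb

end Groth.Agent.Lib.Helper60.SepLib
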