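import Groth.Agent.Lib.Helper60.Sep9
import Groth.Agent.Lib.Helper60.SepA

/-!
# A finite morphism of schemes of finite type over an algebraically closed field which is injective
on fibres over closed points and unramified at closed points is a closed immersion
-/

set_option autoImplicit false
universe u
open CategoryTheory CategoryTheory.Limits AlgebraicGeometry TopologicalSpace Opposite

namespace Groth.Agent.Lib.Helper60.SepLib

open Groth.Agent.Lib.Helper35.Gen Groth.Agent.Lib.Helper35.PbInv Groth.Agent.Lib.Helper35.AbSheaf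
open Groth.Agent.Lib.Lead.QCohAff
open Groth.Agent.Lib.Helper60.ProjUPLib

section affine

variable {X : Scheme.{u}} {U : X.Opens} (hU : IsAffineOpen U)

theorem exists_point_of_prime (q : PrimeSpectrum Γ(X, U)) :
    ∃ (x : X) (hx : x ∈ U), hU.primeIdealOf ⟨x, hx⟩ = q := by
  let z : U := hU.isoSpec.inv q
  refine ⟨z.1, z.2, ?_⟩
  change hU.isoSpec.hom (hU.isoSpec.inv q) = q
  rw [← Scheme.Hom.comp_apply, Iso.inv_hom_id]
  rfl

theorem isClosed_point_of_maximal [JacobsonSpace X] (x : X) (hx : x ∈ U)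
    (hq : (hU.primeIdealOf ⟨x, hx⟩).asIdeal.IsMaximal) : IsClosed ({x} : Set X) := by
  have h1 : IsClosed ({hU.primeIdealOf ⟨x, hx⟩} : Set (PrimeSpectrum Γ(X, U))) :=
    (PrimeSpectrum.isClosed_singleton_iff_isMaximal _).mpr hq
  have h2 : IsClosed ({(⟨x, hx⟩ : U)} : Set U) := by
    have h3 : ({(⟨x, hx⟩ : U)} : Set U) = hU.isoSpec.hom ⁻¹' {hU.primeIdealOf ⟨x, hx⟩} := by
      ext w
      simp only [Set.mem_preimage]
      constructor
      · rintro rfl; rfl
      · intro h
        have h4 := congrArg (fun p => hU.isoSpec.inv p) h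
        have h5 : ∀ w : U, hU.isoSpec.inv (hU.isoSpec.hom w) = w := by
          intro w
          rw [← Scheme.Hom.comp_apply, Iso.hom_inv_id]
          rfl
        simp only [IsAffineOpen.primeIdealOf] at h4
        rwa [h5, h5] at h4
    rw [h3]
    exact h1.preimage hU.isoSpec.hom.continuous
  have h6 : (⟨x, hx⟩ : U) ∈ closedPoints U := h2
  rw [← U.ι.isOpenEmbedding.preimage_closedPoints] at h6
  exact h6

include hU in
/-- germs of sections of an ideal: the localization argument -/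
theorem exists_mul_mem_of_germ_mem (x : X) (hx : x ∈ U) (J : Ideal Γ(X, U)) (b : Γ(X, U))
    (hb : X.presheaf.germ U x hx b ∈ Ideal.map (X.presheaf.germ U x hx).hom J) :
    ∃ s : Γ(X, U), s ∉ (hU.primeIdealOf ⟨x, hx⟩).asIdeal ∧ s * b ∈ J := by
  letI := TopCat.Presheaf.algebra_section_stalk X.presheaf (⟨x, hx⟩ : U)
  have hloc := hU.isLocalization_stalk ⟨x, hx⟩
  have hb' : algebraMap Γ(X, U) (X.presheaf.stalk x) b ∈
      Ideal.map (algebraMap Γ(X, U) (X.presheaf.stalk x)) J := hb
  rw [IsLocalization.mem_map_algebraMap_iff (hU.primeIdealOf ⟨x, hx⟩).asIdeal.primeCompl] at hb'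
  obtain ⟨⟨j, s⟩, hjs⟩ := hb'
  have h0 : algebraMap Γ(X, U) (X.presheaf.stalk x) (b * s.1 - j.1) = 0 := by
    rw [map_sub, map_mul, hjs, sub_self]
  rw [IsLocalization.map_eq_zero_iff (hU.primeIdealOf ⟨x, hx⟩).asIdeal.primeCompl] at h0
  obtain ⟨s', hs'⟩ := h0
  refine ⟨s'.1 * s.1, ?_, ?_⟩
  · exact fun h => ((hU.primeIdealOf ⟨x, hx⟩).isPrime.mem_or_mem h).elim s'.2 s.2
  · have e : s'.1 * s.1 * b = s'.1 * j.1 := by
      have : s'.1 * (b * s.1 - j.1) = 0 := hs'
      linear_combination this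
    rw [e]
    exact Ideal.mul_mem_left _ _ j.2

include hU in
theorem maximalIdeal_eq_map_germ (x : X) (hx : x ∈ U) :
    IsLocalRing.maximalIdeal (X.presheaf.stalk x) =
      Ideal.map (X.presheaf.germ U x hx).hom (hU.primeIdealOf ⟨x, hx⟩).asIdeal := by
  letI := TopCat.Presheaf.algebra_section_stalk X.presheaf (⟨x, hx⟩ : U)
  have hloc := hU.isLocalization_stalk ⟨x, hx⟩
  exact (IsLocalization.AtPrime.map_eq_maximalIdeal (hU.primeIdealOf ⟨x, hx⟩).asIdeal
    (X.presheaf.stalk x)).symm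

end affine

end Groth.Agent.Lib.Helper60.SepLib
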