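import Groth.Agent.Lib.Helper60.SepB

/-!
# Closed immersion criterion for finite morphisms over an algebraically closed field
-/

set_option autoImplicit false
universe u
open CategoryTheory CategoryTheory.Limits AlgebraicGeometry TopologicalSpace Opposite

namespace Groth.Agent.Lib.Helper60.SepLib

open Groth.Agent.Lib.Helper35.Gen Groth.Agent.Lib.Helper35.PbInv Groth.Agent.Lib.Helper35.AbSheaf
open Groth.Agent.Lib.Lead.QCohAff
open Groth.Agent.Lib.Helper60.ProjUPLib

variable {K : Type u} [Field K] [IsAlgClosed K] {X Y : Scheme.{u}} (f : X ⟶ Y)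
  (qY : Y ⟶ Spec (CommRingCat.of K)) [LocallyOfFiniteType qY] [LocallyOfFiniteType (f ≫ qY)]
  [IsFinite f]
  (hinj : ∀ P Q : X, IsClosed ({f P} : Set Y) → f P = f Q → P = Q)
  (htan : ∀ P : X, IsClosed ({P} : Set X) →
    IsLocalRing.maximalIdeal (X.presheaf.stalk P) ≤
      Ideal.map (f.stalkMap P).hom (IsLocalRing.maximalIdeal (Y.presheaf.stalk (f P))))

include hinj in
theorem isClosed_of_isClosed_image (P : X) (hy : IsClosed ({f P} : Set Y)) :
    IsClosed ({P} : Set X) := by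
  have h1 : ({P} : Set X) = f ⁻¹' {f P} := by
    ext Q
    simp only [Set.mem_singleton_iff, Set.mem_preimage]
    constructor
    · rintro rfl; rfl
    · intro h; exact (hinj P Q hy h.symm).symm
  rw [h1]
  exact hy.preimage f.continuous

include qY hinj htan in
theorem app_surjective_of_finite (U : Y.Opens) (hU : IsAffineOpen U) :
    Function.Surjective (f.app U).hom := by
  have hJY : JacobsonSpace Y := LocallyOfFiniteType.jacobsonSpace qY
  have hV : IsAffineOpen (f ⁻¹ᵁ U) := hU.preimage f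
  apply surjective_of_forall_maximal _ (f.finite_app U hU)
  intro m hm
  -- the closed point of `Y` corresponding to `m`
  obtain ⟨y, hyU, hym⟩ := exists_point_of_prime hU ⟨m, hm.isPrime⟩
  have hycl : IsClosed ({y} : Set Y) :=
    isClosed_point_of_maximal hU y hyU (by rw [hym]; exact hm)
  -- points over primes containing `m B`
  have key : ∀ n : Ideal Γ(X, f ⁻¹ᵁ U), n.IsPrime → Ideal.map (f.app U).hom m ≤ n →
      ∃ (P : X) (hP : P ∈ f ⁻¹ᵁ U), f P = y ∧ (hV.primeIdealOf ⟨P, hP⟩).asIdeal = n := by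
    intro n hn hmn
    obtain ⟨P, hP, hPn⟩ := exists_point_of_prime hV ⟨n, hn⟩
    refine ⟨P, hP, ?_, congrArg PrimeSpectrum.asIdeal hPn⟩
    have h1 := IsAffineOpen.comap_primeIdealOf_appLE U hU (f ⁻¹ᵁ U) hV le_rfl hP
    have h2 : (f.appLE U (f ⁻¹ᵁ U) le_rfl) = f.app U := (Scheme.Hom.app_eq_appLE f).symm
    rw [h2, hPn] at h1
    have h3 : m ≤ (hU.primeIdealOf ⟨f P, hP⟩).asIdeal := by
      rw [← h1]
      exact Ideal.map_le_iff_le_comap.mp hmn
    have h4 : m = (hU.primeIdealOf ⟨f P, hP⟩).asIdeal :=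
      hm.eq_of_le (hU.primeIdealOf ⟨f P, hP⟩).isPrime.ne_top h3
    have h5 : hU.primeIdealOf ⟨f P, hP⟩ = hU.primeIdealOf ⟨y, hyU⟩ := by
      rw [hym]
      exact PrimeSpectrum.ext h4.symm
    have h6 := hU.fromSpec_primeIdealOf ⟨f P, hP⟩
    have h7 := hU.fromSpec_primeIdealOf ⟨y, hyU⟩
    rw [h5] at h6
    exact h6.symm.trans h7
  apply exists_sub_mem_map (f.app U).hom m
  · -- uniqueness
    intro n n' hn hn' hmn hmn'
    obtain ⟨P, hP, hPy, hPn⟩ := key n hn hmn
    obtain ⟨P', hP', hPy', hPn'⟩ := key n' hn' hmn'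
    have : P = P' := hinj P P' (hPy ▸ hycl) (hPy.trans hPy'.symm)
    subst this
    rw [← hPn, ← hPn']
  · -- unramified
    intro n hn hmn b hb
    obtain ⟨P, hP, hPy, hPn⟩ := key n hn hmn
    have hPcl : IsClosed ({P} : Set X) := isClosed_of_isClosed_image f hinj P (hPy ▸ hycl)
    have hb1 : X.presheaf.germ (f ⁻¹ᵁ U) P hP b ∈
        IsLocalRing.maximalIdeal (X.presheaf.stalk P) := by
      rw [← mem_primeIdealOf_iff hV ⟨P, hP⟩, hPn]
      exact hb
    have hb2 := htan P hPcl hb1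
    have hfy : (hU.primeIdealOf ⟨f P, hP⟩).asIdeal = m := by
      have : hU.primeIdealOf ⟨f P, hP⟩ = hU.primeIdealOf ⟨y, hyU⟩ := by
        congr 1
        exact Subtype.ext hPy
      rw [this, hym]
    rw [maximalIdeal_eq_map_germ hU (f P) hP, hfy, Ideal.map_map] at hb2
    have hcomp : (f.stalkMap P).hom.comp (Y.presheaf.germ U (f P) hP).hom =
        (X.presheaf.germ (f ⁻¹ᵁ U) P hP).hom.comp (f.app U).hom := by
      ext r
      exact (germ_app f P U hP r).symm
    rw [hcomp, ← Ideal.map_map] at hb2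
    obtain ⟨s, hs, hsb⟩ := exists_mul_mem_of_germ_mem hV P hP _ b hb2
    rw [hPn] at hs
    exact ⟨s, hs, hsb⟩
  · -- residue field
    intro n hn hmn b
    obtain ⟨P, hP, hPy, hPn⟩ := key n hn hmn
    have hPcl : IsClosed ({P} : Set X) := isClosed_of_isClosed_image f hinj P (hPy ▸ hycl)
    refine ⟨rr Y le_top (ProjUP.toGlobal qY (val (f ≫ qY) P hPcl (f ⁻¹ᵁ U) hP b)), ?_⟩
    rw [← hPn, mem_primeIdealOf_iff, app_rr_top]
    exact germ_sub_const_mem (f ≫ qY) P hPcl (f ⁻¹ᵁ U) hP b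

include qY hinj htan in
theorem isClosedImmersion_of_finite : IsClosedImmersion f := by
  rw [isClosedImmersion_iff_isAffineHom]
  exact ⟨inferInstance, fun U hU => app_surjective_of_finite f qY hinj htan U hU⟩

end Groth.Agent.Lib.Helper60.SepLib
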