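import Groth.Agent.Lib.Helper60.SepC

/-!
# A morphism from a proper scheme to projective space separating points and tangent vectors is a
closed immersion
-/

set_option autoImplicit false
universe u
open CategoryTheory CategoryTheory.Limits AlgebraicGeometry TopologicalSpace Opposite

namespace Groth.Agent.Lib.Helper60.SepLib

open Groth.Agent.Lib.Helper35.Gen Groth.Agent.Lib.Helper35.PbInv Groth.Agent.Lib.Helper35.AbSheaf
open Groth.Agent.Lib.Lead.QCohAff
open Groth.Agent.Lib.Helper60.ProjUPLib Groth.Agent.Lib.Helper60.ProjFrac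
open Groth.Agent.Lib.Helper60.TwistLib

section finite

variable {X Y : Scheme.{u}} (f : X ⟶ Y) [IsProper f] [JacobsonSpace Y]

/-- a proper morphism with finite fibres over closed points of a Jacobson scheme is finite -/
theorem isFinite_of_finite_fibres
    (h : ∀ y : Y, IsClosed ({y} : Set Y) → (f ⁻¹' {y}).Finite) : IsFinite f := by
  have hex : ∀ y : {y : Y // IsClosed ({y} : Set Y)},
      ∃ V : Y.Opens, y.1 ∈ V ∧ IsFinite (f ∣_ V) := fun y =>
    exists_isFinite_morphismRestrict_of_finite_preimage_singleton f y.1 (h y.1 y.2)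
  choose V hV1 hV2 using hex
  have hcov : iSup V = ⊤ := by
    by_contra hne
    have hZne : ((iSup V : Y.Opens) : Set Y)ᶜ.Nonempty := by
      rw [Set.nonempty_compl]
      intro huniv
      apply hne
      ext z
      simp [huniv]
    have hZcl : IsClosed ((iSup V : Y.Opens) : Set Y)ᶜ := (iSup V).2.isClosed_compl
    obtain ⟨y, hy1, hy2⟩ := nonempty_inter_closedPoints hZne hZcl.isLocallyClosed
    apply hy1
    exact Opens.mem_iSup.mpr ⟨⟨y, hy2⟩, hV1 ⟨y, hy2⟩⟩
  exact IsZariskiLocalAtTarget.of_iSup_eq_top (P := @IsFinite) V hcov hV2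

end finite

variable (n : ℕ) (K : Type u) [Field K] [IsAlgClosed K] {X : Scheme.{u}}
  (f : X ⟶ Proj (CohB1.polyGrading n K))

/-- abbreviation: `m_P • L_P` -/
noncomputable abbrev MP (P : X) : Submodule (X.presheaf.stalk P) ((LL n K f).presheaf.stalk P) :=
  IsLocalRing.maximalIdeal (X.presheaf.stalk P) •
    (⊤ : Submodule (X.presheaf.stalk P) ((LL n K f).presheaf.stalk P))

/-- abbreviation: germ of `σ(c)` at `P` -/
noncomputable abbrev gP (P : X) (c : Fin (n + 1) → K) : (LL n K f).presheaf.stalk P :=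
  (LL n K f).presheaf.germ ⊤ P trivial (sig n K f c)

theorem crd_congr {y y' : Proj (CohB1.polyGrading n K)} (h : y = y')
    (hy : IsClosed ({y} : Set (Proj (CohB1.polyGrading n K))))
    (hy' : IsClosed ({y'} : Set (Proj (CohB1.polyGrading n K)))) (j₀ : Fin (n + 1))
    (hD : y ∈ DD n K j₀) (hD' : y' ∈ DD n K j₀) (j : Fin (n + 1)) :
    crd n K y hy j₀ hD j = crd n K y' hy' j₀ hD' j := by
  subst h; rfl

section inj

variable [LocallyOfFiniteType (f ≫ strMap (CohB1.polyGrading n K))]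
  (hsep : ∀ P Q : X, IsClosed ({P} : Set X) → IsClosed ({Q} : Set X) → P ≠ Q →
    ∃ c : Fin (n + 1) → K,
      (gP n K f P c ∈ MP n K f P ∧ gP n K f Q c ∉ MP n K f Q) ∨
      (gP n K f Q c ∈ MP n K f Q ∧ gP n K f P c ∉ MP n K f P))

include hsep in
theorem eq_of_closed_of_image_eq (P Q : X) (hP : IsClosed ({P} : Set X))
    (hQ : IsClosed ({Q} : Set X)) (hy : IsClosed ({f P} : Set (Proj (CohB1.polyGrading n K))))
    (hPQ : f P = f Q) : P = Q := by
  by_contra hne
  obtain ⟨c, hc⟩ := hsep P Q hP hQ hne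
  obtain ⟨j₀, hj₀⟩ := exists_chart n K (f P)
  have hj₀' : f Q ∈ DD n K j₀ := hPQ ▸ hj₀
  have hy' : IsClosed ({f Q} : Set (Proj (CohB1.polyGrading n K))) := hPQ ▸ hy
  have e : ∑ j, c j * crd n K (f P) hy j₀ hj₀ j = ∑ j, c j * crd n K (f Q) hy' j₀ hj₀' j :=
    Finset.sum_congr rfl fun j _ => by rw [crd_congr n K hPQ hy hy' j₀ hj₀ hj₀' j]
  have h1 := germ_sig_mem_iff n K f j₀ c P hj₀ hy
  have h2 := germ_sig_mem_iff n K f j₀ c Q hj₀' hy'
  rw [← e] at h2
  rcases hc with ⟨ha, hb⟩ | ⟨ha, hb⟩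
  · exact hb (h2.mpr (h1.mp ha))
  · exact hb (h1.mpr (h2.mp ha))

include hsep in
theorem hinj_of_sep (P Q : X) (hy : IsClosed ({f P} : Set (Proj (CohB1.polyGrading n K))))
    (hPQ : f P = f Q) : P = Q := by
  have hJX : JacobsonSpace X :=
    LocallyOfFiniteType.jacobsonSpace (f ≫ strMap (CohB1.polyGrading n K))
  set Z : Set X := f ⁻¹' {f P} with hZ
  have hZcl : IsClosed Z := hy.preimage f.continuous
  have hcl := closure_inter_closedPoints (X := X) hZcl
  have hPZ : P ∈ Z := rfl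
  have hQZ : Q ∈ Z := hPQ.symm
  have hsub : ∀ P' ∈ Z ∩ closedPoints X, ∀ Q' ∈ Z ∩ closedPoints X, P' = Q' := by
    rintro P' ⟨hP'Z, hP'c⟩ Q' ⟨hQ'Z, hQ'c⟩
    have h1 : f P' = f P := hP'Z
    have h2 : f Q' = f P := hQ'Z
    exact eq_of_closed_of_image_eq n K f hsep P' Q' hP'c hQ'c (h1 ▸ hy) (h1.trans h2.symm)
  have hne : (Z ∩ closedPoints X).Nonempty := by
    rw [Set.nonempty_iff_ne_empty]
    intro hemp
    rw [hemp, closure_empty] at hcl
    rw [← hcl] at hPZ
    exact hPZ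
  obtain ⟨P₀, hP₀⟩ := hne
  have hsing : Z ∩ closedPoints X = {P₀} := by
    ext R
    constructor
    · intro hR; exact hsub R hR P₀ hP₀
    · rintro rfl; exact hP₀
  rw [hsing, IsClosed.closure_eq hP₀.2] at hcl
  rw [← hcl] at hPZ hQZ
  exact hPZ.trans hQZ.symm

end inj

end Groth.Agent.Lib.Helper60.SepLib
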