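import Groth.Agent.Lib.Helper60.SepD

/-!
# Hartshorne II.7.3: the closed immersion criterion, assembled
-/

set_option autoImplicit false
universe u
open CategoryTheory CategoryTheory.Limits AlgebraicGeometry TopologicalSpace Opposite

namespace Groth.Agent.Lib.Helper60.SepLib

open Groth.Agent.Lib.Helper35.Gen Groth.Agent.Lib.Helper35.PbInv Groth.Agent.Lib.Helper35.AbSheaf
open Groth.Agent.Lib.Lead.QCohAff
open Groth.Agent.Lib.Helper60.ProjUPLib Groth.Agent.Lib.Helper60.ProjFrac
open Groth.Agent.Lib.Helper60.TwistLib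

variable (n : ℕ) (K : Type u) [Field K] [IsAlgClosed K] {X : Scheme.{u}}
  (f : X ⟶ Proj (CohB1.polyGrading n K))

section tan

variable [LocallyOfFiniteType (f ≫ strMap (CohB1.polyGrading n K))]

theorem htan_of_tangent (P : X)
    (hy : IsClosed ({f P} : Set (Proj (CohB1.polyGrading n K))))
    (htanG : MP n K f P ≤
      Submodule.span (X.presheaf.stalk P) {v | ∃ c : Fin (n + 1) → K, v = gP n K f P c ∧
        v ∈ MP n K f P} ⊔
      (IsLocalRing.maximalIdeal (X.presheaf.stalk P) ^ 2 •
        (⊤ : Submodule (X.presheaf.stalk P) ((LL n K f).presheaf.stalk P)))) :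
    IsLocalRing.maximalIdeal (X.presheaf.stalk P) ≤
      Ideal.map (f.stalkMap P).hom
        (IsLocalRing.maximalIdeal ((Proj (CohB1.polyGrading n K)).presheaf.stalk (f P))) := by
  have hN : IsLocallyNoetherian X :=
    LocallyOfFiniteType.isLocallyNoetherian (f ≫ strMap (CohB1.polyGrading n K))
  obtain ⟨j₀, hj₀⟩ := exists_chart n K (f P)
  set I := Ideal.map (f.stalkMap P).hom
    (IsLocalRing.maximalIdeal ((Proj (CohB1.polyGrading n K)).presheaf.stalk (f P))) with hI
  set m := IsLocalRing.maximalIdeal (X.presheaf.stalk P) with hm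
  have hgen := isGen_egen n K f j₀
  -- the spanning set lies in `I • ⊤`
  have hspan : Submodule.span (X.presheaf.stalk P) {v | ∃ c : Fin (n + 1) → K,
      v = gP n K f P c ∧ v ∈ MP n K f P} ≤
      I • (⊤ : Submodule (X.presheaf.stalk P) ((LL n K f).presheaf.stalk P)) := by
    rw [Submodule.span_le]
    rintro v ⟨c, rfl, hv⟩
    change gP n K f P c ∈ I • (⊤ : Submodule (X.presheaf.stalk P) ((LL n K f).presheaf.stalk P))
    have hv' : gP n K f P c ∈ m •
        (⊤ : Submodule (X.presheaf.stalk P) ((LL n K f).presheaf.stalk P)) := hv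
    unfold gP at hv' ⊢
    rw [germ_sig n K f j₀ c P hj₀] at hv' ⊢
    rw [smul_germ_mem_iff hgen P hj₀] at hv' ⊢
    rw [germ_app] at hv' ⊢
    rw [hm, stalkMap_mem_iff] at hv'
    exact Ideal.mem_map_of_mem _ hv'
  -- transfer to ideals
  have hle : m ≤ I ⊔ m • m := by
    intro a ha
    have h1 : a • (LL n K f).presheaf.germ (UU n K f j₀) P hj₀ (egen n K f j₀) ∈ MP n K f P :=
      (smul_germ_mem_iff hgen P hj₀ m a).mpr ha
    have h2 := (sup_le_sup_right hspan _) (htanG h1)
    obtain ⟨u, hu, w, hw, huw⟩ := Submodule.mem_sup.mp h2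
    obtain ⟨a₁, rfl⟩ := exists_smul_germ hgen P hj₀ u
    obtain ⟨a₂, rfl⟩ := exists_smul_germ hgen P hj₀ w
    rw [smul_germ_mem_iff hgen P hj₀] at hu hw
    rw [← add_smul] at huw
    have h3 : a₁ + a₂ - a = 0 := by
      apply smul_germ_eq_zero hgen P hj₀
      rw [sub_smul, huw, sub_self]
    have h4 : a = a₁ + a₂ := (sub_eq_zero.mp h3).symm
    rw [h4]
    refine Submodule.add_mem_sup hu ?_
    rwa [Ideal.smul_eq_mul, ← pow_two]
  have hfg : (m : Submodule (X.presheaf.stalk P) (X.presheaf.stalk P)).FG :=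
    (isNoetherianRing_iff_ideal_fg _).mp inferInstance m
  exact Submodule.le_of_le_smul_of_le_jacobson_bot hfg
    (IsLocalRing.jacobson_eq_maximalIdeal ⊥ bot_ne_top).ge hle

end tan

section main

variable [IsProper (f ≫ strMap (CohB1.polyGrading n K))]
  (hsep : ∀ P Q : X, IsClosed ({P} : Set X) → IsClosed ({Q} : Set X) → P ≠ Q →
    ∃ c : Fin (n + 1) → K,
      (gP n K f P c ∈ MP n K f P ∧ gP n K f Q c ∉ MP n K f Q) ∨
      (gP n K f Q c ∈ MP n K f Q ∧ gP n K f P c ∉ MP n K f P))
  (htanG : ∀ P : X, IsClosed ({P} : Set X) → MP n K f P ≤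
      Submodule.span (X.presheaf.stalk P) {v | ∃ c : Fin (n + 1) → K, v = gP n K f P c ∧
        v ∈ MP n K f P} ⊔
      (IsLocalRing.maximalIdeal (X.presheaf.stalk P) ^ 2 •
        (⊤ : Submodule (X.presheaf.stalk P) ((LL n K f).presheaf.stalk P))))

include hsep htanG in
theorem isClosedImmersion_of_sep : IsClosedImmersion f := by
  have hpf : IsProper f := IsProper.of_comp f (strMap (CohB1.polyGrading n K))
  have hJY : JacobsonSpace (Proj (CohB1.polyGrading n K)) :=
    LocallyOfFiniteType.jacobsonSpace (strMap (CohB1.polyGrading n K))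
  have hinj := hinj_of_sep n K f hsep
  have hfin : IsFinite f := by
    apply isFinite_of_finite_fibres f
    intro y hy
    apply Set.Subsingleton.finite
    intro P hP Q hQ
    have hP' : f P = y := hP
    have hQ' : f Q = y := hQ
    exact hinj P Q (hP' ▸ hy) (hP'.trans hQ'.symm)
  refine isClosedImmersion_of_finite f (strMap (CohB1.polyGrading n K)) hinj ?_
  intro P hP
  have hy : IsClosed ({f P} : Set (Proj (CohB1.polyGrading n K))) := by
    have := hpf.toUniversallyClosed
    have h1 := f.isClosedMap _ hP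
    rwa [Set.image_singleton] at h1
  exact htan_of_tangent n K f P hy (htanG P hP)

end main

end Groth.Agent.Lib.Helper60.SepLib
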