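import Groth.Agent.Lib.Helper60.SerreMod2

set_option autoImplicit false
universe u
open CategoryTheory AlgebraicGeometry TopologicalSpace Opposite DirectSum

namespace Groth.Agent.Lib.Helper60.SerreMod

open Groth.Agent.Lib.Helper60.TildeSec Groth.Agent.Lib.Helper60.ProjFrac
open Groth.Agent.Lib.Lead.QCohAff

section Ext

variable {A σ : Type u} [CommRing A] [SetLike σ A] [AddSubgroupClass σ A] (𝒜 : ℕ → σ) [GradedRing 𝒜]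
variable {ι : Type u} (f : ι → A) (hf : ∀ i, f i ∈ 𝒜 1) (F : (Proj 𝒜).Modules)

/-- restriction of sections of `F` -/
noncomputable abbrev rF {V W : (Proj 𝒜).Opens} (h : W ≤ V) (s : Γ(F, V)) : Γ(F, W) :=
  F.presheaf.map (homOfLE h).op s

/-- restriction of functions -/
noncomputable abbrev rX {V W : (Proj 𝒜).Opens} (h : W ≤ V) (r : Γ(Proj 𝒜, V)) : Γ(Proj 𝒜, W) :=
  (Proj 𝒜).presheaf.map (homOfLE h).op r

theorem rX_ratio (i j : ι) {V W : (Proj 𝒜).Opens} (h : W ≤ V) (hV : V ≤ UU 𝒜 f j) :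
    rX 𝒜 h (ratio 𝒜 f hf i j V hV) = ratio 𝒜 f hf i j W (h.trans hV) := rfl

theorem ratio_mul (i j l : ι) (V : (Proj 𝒜).Opens) (hVj : V ≤ UU 𝒜 f j) (hVl : V ≤ UU 𝒜 f l) :
    ratio 𝒜 f hf i j V hVj * ratio 𝒜 f hf j l V hVl = ratio 𝒜 f hf i l V hVl := by
  unfold ratio
  rw [fr_mul]
  apply fr_eq_of_mul_eq
  ring

theorem ratio_self (i : ι) (V : (Proj 𝒜).Opens) (hV : V ≤ UU 𝒜 f i) :
    ratio 𝒜 f hf i i V hV = 1 := fr_self 𝒜 _ _ V _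

theorem basicOpen_ratio (i j : ι) (V : (Proj 𝒜).Opens) (hV : V ≤ UU 𝒜 f j) :
    (Proj 𝒜).basicOpen (ratio 𝒜 f hf i j V hV) = UU 𝒜 f i ⊓ V := by
  ext y
  change y ∈ (Proj 𝒜).basicOpen _ ↔ y ∈ UU 𝒜 f i ⊓ V
  rw [ratio, mem_basicOpen_fr]
  constructor
  · rintro ⟨h1, h2⟩
    exact ⟨(Proj.mem_basicOpen 𝒜 (f i) y).2 h2, h1⟩
  · rintro ⟨h1, h2⟩
    exact ⟨h2, (Proj.mem_basicOpen 𝒜 (f i) y).1 h1⟩

theorem rF_rF {U V W : (Proj 𝒜).Opens} (h1 : V ≤ U) (h2 : W ≤ V) (s : Γ(F, U)) :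
    rF 𝒜 F h2 (rF 𝒜 F h1 s) = rF 𝒜 F (h2.trans h1) s := res_res F h1 h2 s

theorem rF_smul {V W : (Proj 𝒜).Opens} (h : W ≤ V) (r : Γ(Proj 𝒜, V)) (s : Γ(F, V)) :
    rF 𝒜 F h (r • s) = rX 𝒜 h r • rF 𝒜 F h s := res_smul F h r s

variable [F.IsQuasicoherent]

include hf in
theorem isAffineOpen_UU (i : ι) : IsAffineOpen (UU 𝒜 f i) :=
  Proj.isAffineOpen_basicOpen 𝒜 (f i) (hf i) one_pos

include hf in
theorem isAffineOpen_UU_inf (i j : ι) : IsAffineOpen (UU 𝒜 f i ⊓ UU 𝒜 f j) := by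
  have : UU 𝒜 f i ⊓ UU 𝒜 f j = Proj.basicOpen 𝒜 (f i * f j) := (Proj.basicOpen_mul 𝒜 _ _).symm
  rw [this]
  exact Proj.isAffineOpen_basicOpen 𝒜 _ (SetLike.GradedMul.mul_mem (hf i) (hf j)) (by norm_num)

/-- a section over `V ≤ D₊(f j)` vanishing on `D₊(f i) ⊓ V` (`V` affine) is killed by a power of
`f i / f j`. -/
theorem exists_pow_smul_eq_zero_of_res (i j : ι) (V : (Proj 𝒜).Opens) (hV : V ≤ UU 𝒜 f j)
    (hVaff : IsAffineOpen V) (s : Γ(F, V))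
    (hs : rF 𝒜 F (inf_le_right : UU 𝒜 f i ⊓ V ≤ V) s = 0) :
    ∃ N : ℕ, ratio 𝒜 f hf i j V hV ^ N • s = 0 := by
  have hloc := LocOn.of_isQuasicoherent F hVaff
  refine hloc.1 (ratio 𝒜 f hf i j V hV) s ?_
  have hle : (Proj 𝒜).basicOpen (ratio 𝒜 f hf i j V hV) ≤ UU 𝒜 f i ⊓ V :=
    (basicOpen_ratio 𝒜 f hf i j V hV).le
  have := congrArg (rF 𝒜 F hle) hs
  rw [rF_rF] at this
  rw [show rF 𝒜 F hle (0 : Γ(F, UU 𝒜 f i ⊓ V)) = 0 from map_zero _] at this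
  exact this

end Ext

end Groth.Agent.Lib.Helper60.SerreMod
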