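import Groth.Agent.Lib.Helper60.SerreExt1

set_option autoImplicit false
universe u
open CategoryTheory AlgebraicGeometry TopologicalSpace Opposite DirectSum

namespace Groth.Agent.Lib.Helper60.SerreMod

open Groth.Agent.Lib.Helper60.TildeSec Groth.Agent.Lib.Helper60.ProjFrac
open Groth.Agent.Lib.Lead.QCohAff

section Ext2

variable {A σ : Type u} [CommRing A] [SetLike σ A] [AddSubgroupClass σ A] (𝒜 : ℕ → σ) [GradedRing 𝒜]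
variable {ι : Type u} (f : ι → A) (hf : ∀ i, f i ∈ 𝒜 1) (F : (Proj 𝒜).Modules)

theorem rF_zero {V W : (Proj 𝒜).Opens} (h : W ≤ V) : rF 𝒜 F h (0 : Γ(F, V)) = 0 := map_zero _

theorem rF_add {V W : (Proj 𝒜).Opens} (h : W ≤ V) (s t : Γ(F, V)) :
    rF 𝒜 F h (s + t) = rF 𝒜 F h s + rF 𝒜 F h t := map_add _ _ _

theorem rF_sub {V W : (Proj 𝒜).Opens} (h : W ≤ V) (s t : Γ(F, V)) :
    rF 𝒜 F h (s - t) = rF 𝒜 F h s - rF 𝒜 F h t := map_sub _ _ _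

theorem rX_pow {V W : (Proj 𝒜).Opens} (h : W ≤ V) (r : Γ(Proj 𝒜, V)) (n : ℕ) :
    rX 𝒜 h (r ^ n) = rX 𝒜 h r ^ n := map_pow _ _ _

theorem rX_mul {V W : (Proj 𝒜).Opens} (h : W ≤ V) (r r' : Γ(Proj 𝒜, V)) :
    rX 𝒜 h (r * r') = rX 𝒜 h r * rX 𝒜 h r' := map_mul _ _ _

theorem rF_self {V : (Proj 𝒜).Opens} (h : V ≤ V) (s : Γ(F, V)) : rF 𝒜 F h s = s := res_self F h s

variable [F.IsQuasicoherent]

/-- extension of a section over `D₊(f i) ⊓ V` to `V` after multiplication by a power of `f i / f j` -/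
theorem exists_res_eq_pow_smul_of (i j : ι) (V : (Proj 𝒜).Opens) (hV : V ≤ UU 𝒜 f j)
    (hVaff : IsAffineOpen V) (t : Γ(F, UU 𝒜 f i ⊓ V)) :
    ∃ (n : ℕ) (s : Γ(F, V)), rF 𝒜 F (inf_le_right : UU 𝒜 f i ⊓ V ≤ V) s =
      ratio 𝒜 f hf i j (UU 𝒜 f i ⊓ V) (inf_le_right.trans hV) ^ n • t := by
  have hloc := LocOn.of_isQuasicoherent F hVaff
  have hE : (Proj 𝒜).basicOpen (ratio 𝒜 f hf i j V hV) = UU 𝒜 f i ⊓ V := basicOpen_ratio 𝒜 f hf i j V hV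
  obtain ⟨n, s, hs⟩ := hloc.2 (ratio 𝒜 f hf i j V hV) (rF 𝒜 F hE.le t)
  refine ⟨n, s, ?_⟩
  apply res_injective_of_eq F hE
  change rF 𝒜 F hE.le _ = rF 𝒜 F hE.le _
  rw [rF_rF, rF_smul, rX_pow]
  exact hs

variable [Finite ι]

/-- **Injectivity**: a twisted family vanishing on `D₊(f i₀)` is killed by a power of `f i₀`. -/
theorem exists_pow_smul_eq_zero (n : ℕ) (m : ∀ i, Γ(F, UU 𝒜 f i)) (hm : IsTw 𝒜 f hf F n m) (i₀ : ι)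
    (h0 : m i₀ = 0) : ∃ N : ℕ, ∀ j, ratio 𝒜 f hf i₀ j (UU 𝒜 f j) le_rfl ^ N • m j = 0 := by
  have h1 : ∀ j, ∃ N : ℕ, ratio 𝒜 f hf i₀ j (UU 𝒜 f j) le_rfl ^ N • m j = 0 := by
    intro j
    refine exists_pow_smul_eq_zero_of_res 𝒜 f hf F i₀ j (UU 𝒜 f j) le_rfl
      (isAffineOpen_UU 𝒜 f hf j) (m j) ?_
    have := hm i₀ j
    rw [h0] at this
    change rF 𝒜 F _ (m j) = _ • rF 𝒜 F _ 0 at this
    rw [this, rF_zero, smul_zero]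
  choose N hN using h1
  cases nonempty_fintype ι
  refine ⟨Finset.univ.sup N, fun j => ?_⟩
  have hle : N j ≤ Finset.univ.sup N := Finset.le_sup (Finset.mem_univ j)
  rw [← Nat.sub_add_cancel hle, pow_add, mul_smul, hN j, smul_zero]

/-- **Surjectivity**: every section over `D₊(f i₀)` is the `i₀`-component of a twisted family. -/
theorem exists_extension (i₀ : ι) (t : Γ(F, UU 𝒜 f i₀)) :
    ∃ (K : ℕ) (m : ∀ i, Γ(F, UU 𝒜 f i)), IsTw 𝒜 f hf F K m ∧ m i₀ = t := by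
  cases nonempty_fintype ι
  have h1 : ∀ j, ∃ (n : ℕ) (s : Γ(F, UU 𝒜 f j)),
      rF 𝒜 F (inf_le_right : UU 𝒜 f i₀ ⊓ UU 𝒜 f j ≤ UU 𝒜 f j) s =
        ratio 𝒜 f hf i₀ j (UU 𝒜 f i₀ ⊓ UU 𝒜 f j) inf_le_right ^ n •
          rF 𝒜 F (inf_le_left : UU 𝒜 f i₀ ⊓ UU 𝒜 f j ≤ UU 𝒜 f i₀) t := fun j =>
    exists_res_eq_pow_smul_of 𝒜 f hf F i₀ j (UU 𝒜 f j) le_rfl (isAffineOpen_UU 𝒜 f hf j) _
  choose n s hs using h1
  obtain ⟨N, hN⟩ : ∃ N, N = Finset.univ.sup n := ⟨_, rfl⟩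
  obtain ⟨s', hs'def⟩ : ∃ s' : ∀ j, Γ(F, UU 𝒜 f j),
      ∀ j, s' j = ratio 𝒜 f hf i₀ j (UU 𝒜 f j) le_rfl ^ (N - n j) • s j := ⟨_, fun _ => rfl⟩
  have hs' : ∀ j, rF 𝒜 F (inf_le_right : UU 𝒜 f i₀ ⊓ UU 𝒜 f j ≤ UU 𝒜 f j) (s' j) =
      ratio 𝒜 f hf i₀ j (UU 𝒜 f i₀ ⊓ UU 𝒜 f j) inf_le_right ^ N •
        rF 𝒜 F (inf_le_left : UU 𝒜 f i₀ ⊓ UU 𝒜 f j ≤ UU 𝒜 f i₀) t := by
    intro j
    have hle : n j ≤ N := hN ▸ Finset.le_sup (Finset.mem_univ j)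
    rw [hs'def, rF_smul, hs j, rX_pow, rX_ratio, smul_smul, ← pow_add, Nat.sub_add_cancel hle]
  have h2 : ∀ j l, ∃ L : ℕ, ratio 𝒜 f hf i₀ l (UU 𝒜 f j ⊓ UU 𝒜 f l) inf_le_right ^ L •
      (rF 𝒜 F (inf_le_right : UU 𝒜 f j ⊓ UU 𝒜 f l ≤ UU 𝒜 f l) (s' l) -
        ratio 𝒜 f hf j l (UU 𝒜 f j ⊓ UU 𝒜 f l) inf_le_right ^ N •
          rF 𝒜 F (inf_le_left : UU 𝒜 f j ⊓ UU 𝒜 f l ≤ UU 𝒜 f j) (s' j)) = 0 := by
    intro j l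
    refine exists_pow_smul_eq_zero_of_res 𝒜 f hf F i₀ l (UU 𝒜 f j ⊓ UU 𝒜 f l) inf_le_right
      (isAffineOpen_UU_inf 𝒜 f hf j l) _ ?_
    rw [rF_sub, rF_smul, rF_rF, rF_rF, rX_pow, rX_ratio, sub_eq_zero]
    have hTl : UU 𝒜 f i₀ ⊓ (UU 𝒜 f j ⊓ UU 𝒜 f l) ≤ UU 𝒜 f i₀ ⊓ UU 𝒜 f l :=
      inf_le_inf_left _ inf_le_right
    have hTj : UU 𝒜 f i₀ ⊓ (UU 𝒜 f j ⊓ UU 𝒜 f l) ≤ UU 𝒜 f i₀ ⊓ UU 𝒜 f j :=
      inf_le_inf_left _ inf_le_left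
    have e1 := congrArg (rF 𝒜 F hTl) (hs' l)
    rw [rF_rF, rF_smul, rX_pow, rX_ratio, rF_rF] at e1
    have e2 := congrArg (rF 𝒜 F hTj) (hs' j)
    rw [rF_rF, rF_smul, rX_pow, rX_ratio, rF_rF] at e2
    rw [e1, e2, smul_smul, ← mul_pow, mul_comm, ratio_mul]
  choose L hL using h2
  obtain ⟨L₀, hL₀⟩ : ∃ L₀, L₀ = Finset.univ.sup (fun p : ι × ι => L p.1 p.2) := ⟨_, rfl⟩
  refine ⟨N + L₀, fun j => ratio 𝒜 f hf i₀ j (UU 𝒜 f j) le_rfl ^ L₀ • s' j, ?_, ?_⟩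
  · intro j l
    change rF 𝒜 F _ _ = _ • rF 𝒜 F _ _
    rw [rF_smul, rF_smul, rX_pow, rX_pow, rX_ratio, rX_ratio, smul_smul]
    have hle : L j l ≤ L₀ :=
      hL₀ ▸ Finset.le_sup (f := fun p : ι × ι => L p.1 p.2) (Finset.mem_univ (j, l))
    have key2 : ratio 𝒜 f hf i₀ l (UU 𝒜 f j ⊓ UU 𝒜 f l) inf_le_right ^ L₀ •
      (rF 𝒜 F (inf_le_right : UU 𝒜 f j ⊓ UU 𝒜 f l ≤ UU 𝒜 f l) (s' l) -
        ratio 𝒜 f hf j l (UU 𝒜 f j ⊓ UU 𝒜 f l) inf_le_right ^ N •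
          rF 𝒜 F (inf_le_left : UU 𝒜 f j ⊓ UU 𝒜 f l ≤ UU 𝒜 f j) (s' j)) = 0 := by
      rw [← Nat.sub_add_cancel hle, pow_add, mul_smul, hL j l, smul_zero]
    rw [smul_sub, sub_eq_zero] at key2
    rw [key2, smul_smul]
    congr 1
    rw [pow_add, ← ratio_mul 𝒜 f hf i₀ j l _ inf_le_left inf_le_right, mul_pow]
    ring
  · change _ • s' i₀ = t
    rw [ratio_self, one_pow, one_smul]
    apply res_injective_of_eq F (inf_idem (UU 𝒜 f i₀))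
    have := hs' i₀
    rw [ratio_self, one_pow, one_smul] at this
    exact this

end Ext2

end Groth.Agent.Lib.Helper60.SerreMod
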