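import Groth.Agent.Lib.Helper60.SerreIso
import Groth.Agent.Lib.Helper60.GradedSub
import Groth.Agent.Lib.Lead.CohAff3

set_option autoImplicit false
universe u
open CategoryTheory AlgebraicGeometry TopologicalSpace Opposite DirectSum

namespace Groth.Agent.Lib.Helper60.SerreMod

open Groth.Agent.Lib.Helper60.TildeSec Groth.Agent.Lib.Helper60.ProjFrac
open Groth.Agent.Lib.Lead.QCohAff

section Fin

variable {R A : Type u} [CommRing R] [CommRing A] [Algebra R A] (𝒜 : ℕ → Submodule R A)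
  [GradedAlgebra 𝒜]
variable {ι : Type u} (f : ι → A) (hf : ∀ i, f i ∈ 𝒜 1) (F : (Proj 𝒜).Modules)

/-- evaluation of the `i`-th component (summed over all degrees) -/
noncomputable def evalAt (i : ι) : MM 𝒜 f hf F →+ Γ(F, UU 𝒜 f i) :=
  DirectSum.toAddMonoid (fun n =>
    (Pi.evalAddMonoidHom (fun i => Γ(F, UU 𝒜 f i)) i).comp (Mn 𝒜 f hf F n).subtype)

theorem evalAt_of (i : ι) (k : ℕ) (m : MnT 𝒜 f hf F k) :
    evalAt 𝒜 f hf F i (DirectSum.of (fun n => MnT 𝒜 f hf F n) k m) = m.1 i := by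
  unfold evalAt
  rw [DirectSum.toAddMonoid_of]
  rfl

theorem evalAt_smul {d : ℕ} (a : A) (ha : a ∈ 𝒜 d) (i : ι) (x : MM 𝒜 f hf F) :
    evalAt 𝒜 f hf F i (a • x) = coef 𝒜 f hf a ha i (UU 𝒜 f i) le_rfl • evalAt 𝒜 f hf F i x := by
  induction x using DirectSum.induction_on with
  | zero => rw [smul_zero, map_zero, smul_zero]
  | of n m =>
    rw [smul_of 𝒜 f hf F a ha m, evalAt_of, evalAt_of]
    rfl
  | add x y hx hy => rw [smul_add, map_add, map_add, hx, hy, smul_add]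

theorem smul_mem_pieces {d n : ℕ} {a : A} (ha : a ∈ 𝒜 d) {x : MM 𝒜 f hf F}
    (hx : x ∈ pieces 𝒜 f hf F n) : a • x ∈ pieces 𝒜 f hf F (d + n) :=
  (gradedSMul 𝒜 f hf F).smul_mem ha hx

variable [F.IsQuasicoherent] [Finite ι]

/-- injectivity, in the graded module -/
theorem exists_pow_smul_eq_zero_of_evalAt (D : ℕ) (x : MM 𝒜 f hf F) (hx : x ∈ pieces 𝒜 f hf F D)
    (i : ι) (h0 : evalAt 𝒜 f hf F i x = 0) : ∃ L : ℕ, f i ^ L • x = 0 := by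
  obtain ⟨m, rfl⟩ := hx
  rw [evalAt_of] at h0
  obtain ⟨L, hL⟩ := exists_pow_smul_eq_zero 𝒜 f hf F D m.1 m.2 i h0
  refine ⟨L, ?_⟩
  rw [smul_of 𝒜 f hf F (f i ^ L) (pow_mem_deg 𝒜 f hf i L) m]
  have h1 : GradedMonoid.GSMul.smul (A := fun i => ↥(𝒜 i)) (M := fun n => MnT 𝒜 f hf F n)
      (⟨f i ^ L, pow_mem_deg 𝒜 f hf i L⟩ : 𝒜 L) m = 0 := by
    apply Subtype.ext
    funext j
    rw [gsmul_coe]
    change coef 𝒜 f hf (f i ^ L) _ j _ _ • m.1 j = 0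
    rw [coef_pow_self]
    exact hL j
  rw [h1, map_zero]

/-- finitely many homogeneous elements whose components generate all `Γ(F, D₊(f i))` -/
theorem exists_generators (hFT : SheafOfModules.IsFiniteType (R := (Proj 𝒜).ringCatSheaf) F) :
    ∃ G : Set (MM 𝒜 f hf F), G.Finite ∧ (∀ g ∈ G, ∃ k, g ∈ pieces 𝒜 f hf F k) ∧
      ∀ (i : ι) (s : Γ(F, UU 𝒜 f i)), ∃ D₀ : ℕ, ∀ D, D₀ ≤ D →
        ∃ x ∈ Submodule.span A G, x ∈ pieces 𝒜 f hf F D ∧ evalAt 𝒜 f hf F i x = s := by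
  classical
  have hfin : ∀ i, ∃ S : Finset Γ(F, UU 𝒜 f i),
      Submodule.span Γ(Proj 𝒜, UU 𝒜 f i) (S : Set Γ(F, UU 𝒜 f i)) = ⊤ := by
    intro i
    have := Groth.Agent.Lib.Lead.CohAff.finite_sections_of_isFiniteType F hFT
      (isAffineOpen_UU 𝒜 f hf i)
    exact Module.Finite.fg_top
  choose S hS using hfin
  have hext : ∀ j : (Σ i, ↥(S i)), ∃ (K : ℕ) (m : ∀ i, Γ(F, UU 𝒜 f i)),
      IsTw 𝒜 f hf F K m ∧ m j.1 = j.2.1 := fun j => exists_extension 𝒜 f hf F j.1 j.2.1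
  choose K m hm hmj using hext
  refine ⟨Set.range (fun j : (Σ i, ↥(S i)) => ofM 𝒜 f hf F (K j) (m j) (hm j)),
    Set.finite_range _, ?_, ?_⟩
  · rintro _ ⟨j, rfl⟩
    exact ⟨K j, ofM_mem 𝒜 f hf F _ _ _⟩
  · intro i s
    have hs : s ∈ Submodule.span Γ(Proj 𝒜, UU 𝒜 f i) (S i : Set Γ(F, UU 𝒜 f i)) := by
      rw [hS i]
      trivial
    induction hs using Submodule.span_induction with
    | mem t ht =>
      refine ⟨K ⟨i, ⟨t, ht⟩⟩, fun D hD => ?_⟩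
      refine ⟨f i ^ (D - K ⟨i, ⟨t, ht⟩⟩) • ofM 𝒜 f hf F _ _ (hm ⟨i, ⟨t, ht⟩⟩),
        Submodule.smul_mem _ _ (Submodule.subset_span ⟨⟨i, ⟨t, ht⟩⟩, rfl⟩), ?_, ?_⟩
      · have := smul_mem_pieces 𝒜 f hf F
          (pow_mem_deg 𝒜 f hf i (D - K ⟨i, ⟨t, ht⟩⟩))
          (ofM_mem 𝒜 f hf F _ _ (hm ⟨i, ⟨t, ht⟩⟩))
        rw [Nat.sub_add_cancel hD] at this
        exact this
      · rw [evalAt_smul 𝒜 f hf F _ (pow_mem_deg 𝒜 f hf i _), coef_self, one_smul, evalAt_of]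
        exact hmj ⟨i, ⟨t, ht⟩⟩
    | zero => exact ⟨0, fun D _ => ⟨0, zero_mem _, zero_mem _, map_zero _⟩⟩
    | add s s' _ _ h h' =>
      obtain ⟨D₀, h⟩ := h
      obtain ⟨D₀', h'⟩ := h'
      refine ⟨max D₀ D₀', fun D hD => ?_⟩
      obtain ⟨x, hx1, hx2, hx3⟩ := h D ((le_max_left _ _).trans hD)
      obtain ⟨x', hx1', hx2', hx3'⟩ := h' D ((le_max_right _ _).trans hD)
      exact ⟨x + x', add_mem hx1 hx1', add_mem hx2 hx2', by rw [map_add, hx3, hx3']⟩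
    | smul r s _ h =>
      obtain ⟨D₀, h⟩ := h
      obtain ⟨e, c, hc, rfl⟩ := exists_eq_coef 𝒜 f hf i r
      refine ⟨e + D₀, fun D hD => ?_⟩
      obtain ⟨x, hx1, hx2, hx3⟩ := h (D - e) (by omega)
      refine ⟨c • x, Submodule.smul_mem _ _ hx1, ?_, ?_⟩
      · have := smul_mem_pieces 𝒜 f hf F hc hx2
        rw [Nat.add_sub_cancel' (by omega : e ≤ D)] at this
        exact this
      · rw [evalAt_smul 𝒜 f hf F c hc, hx3]

/-- some power of `f i` moves a homogeneous element into the span of the generators -/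
theorem exists_pow_smul_mem (G : Set (MM 𝒜 f hf F))
    (hG : ∀ (i : ι) (s : Γ(F, UU 𝒜 f i)), ∃ D₀ : ℕ, ∀ D, D₀ ≤ D →
        ∃ x ∈ Submodule.span A G, x ∈ pieces 𝒜 f hf F D ∧ evalAt 𝒜 f hf F i x = s)
    (e : ℕ) (m : ∀ i, Γ(F, UU 𝒜 f i)) (hm : IsTw 𝒜 f hf F e m) (i : ι) :
    ∃ L : ℕ, f i ^ L • ofM 𝒜 f hf F e m hm ∈ Submodule.span A G := by
  obtain ⟨D₀, h⟩ := hG i (m i)
  obtain ⟨x, hx1, hx2, hx3⟩ := h (max D₀ e) (le_max_left _ _)
  have hy2 : f i ^ (max D₀ e - e) • ofM 𝒜 f hf F e m hm ∈ pieces 𝒜 f hf F (max D₀ e) := by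
    have := smul_mem_pieces 𝒜 f hf F
      (pow_mem_deg 𝒜 f hf i (max D₀ e - e)) (ofM_mem 𝒜 f hf F e m hm)
    rw [Nat.sub_add_cancel (le_max_right _ _)] at this
    exact this
  have hy3 : evalAt 𝒜 f hf F i (f i ^ (max D₀ e - e) • ofM 𝒜 f hf F e m hm) = m i := by
    rw [evalAt_smul 𝒜 f hf F _ (pow_mem_deg 𝒜 f hf i _), coef_self, one_smul, evalAt_of]
  obtain ⟨L, hL⟩ := exists_pow_smul_eq_zero_of_evalAt 𝒜 f hf F (max D₀ e)
    (f i ^ (max D₀ e - e) • ofM 𝒜 f hf F e m hm - x) (sub_mem hy2 hx2) i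
    (by rw [map_sub, hy3, hx3, sub_self])
  refine ⟨L + (max D₀ e - e), ?_⟩
  rw [smul_sub, sub_eq_zero, smul_smul, ← pow_add] at hL
  rw [hL]
  exact Submodule.smul_mem _ _ hx1

end Fin

end Groth.Agent.Lib.Helper60.SerreMod
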