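import Groth.Agent.Lib.Helper60.SerreRep
import Groth.Agent.Lib.Lead.SheafPts
import Groth.Agent.Lib.Helper60.TensorMod

set_option autoImplicit false
universe u
open CategoryTheory AlgebraicGeometry TopologicalSpace Opposite DirectSum

namespace Groth.Agent.Lib.Helper60.SerreMod

open Groth.Agent.Lib.Helper60.TildeSec Groth.Agent.Lib.Helper60.ProjFrac
open Groth.Agent.Lib.Lead.QCohAff

section Mor

variable {R A : Type u} [CommRing R] [CommRing A] [Algebra R A] {𝒜 : ℕ → Submodule R A}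
  [GradedAlgebra 𝒜]
variable {ι : Type u} {f : ι → A} (hf : ∀ i, f i ∈ 𝒜 1) {F : (Proj 𝒜).Modules}
variable [F.IsQuasicoherent] [Finite ι] (hcov : ∀ y : Proj 𝒜, ∃ i, y ∈ UU 𝒜 f i)

theorem psiVal_add {V : (Proj 𝒜).Opens} (t t' : Γ(F, V)) (y : V) :
    psiVal hf hcov (t + t') y = psiVal hf hcov t y + psiVal hf hcov t' y := by
  obtain ⟨i, D, hD⟩ := psiVal_spec hf hcov t y
  obtain ⟨i', D', hD'⟩ := psiVal_spec hf hcov t' y
  rw [← hD, ← hD', ← D'.changeIndex_val i (D.hWi D.hyW), ← RepData.add_val]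
  exact psiVal_eq hf hcov _

theorem psiVal_smul {V : (Proj 𝒜).Opens} (r : Γ(Proj 𝒜, V)) (t : Γ(F, V)) (y : V) :
    psiVal hf hcov (r • t) y = oval 𝒜 r y • psiVal hf hcov t y := by
  obtain ⟨i, D, hD⟩ := psiVal_spec hf hcov t y
  obtain ⟨D', hD'⟩ := D.exists_smul r y.2
  rw [← hD, ← hD']
  exact psiVal_eq hf hcov _

theorem psiVal_res {V V' : (Proj 𝒜).Opens} (h : V' ≤ V) (t : Γ(F, V)) (y : V') :
    psiVal hf hcov (rF 𝒜 F h t) y = psiVal hf hcov t ⟨y.1, h y.2⟩ := by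
  obtain ⟨i, D, hD⟩ := psiVal_spec hf hcov t ⟨y.1, h y.2⟩
  rw [← hD, ← D.res_val h y.2]
  exact psiVal_eq hf hcov _

/-- additive map on sections -/
noncomputable def psiHom (V : (Proj 𝒜).Opens) :
    Γ(F, V) →+ GrMod.sect 𝒜 (pieces 𝒜 f hf F) 0 (op V) :=
  AddMonoidHom.mk' (psiSec hf hcov) (fun t t' => by
    refine Subtype.ext (funext fun y => Subtype.ext ?_)
    exact psiVal_add hf hcov t t' y)

/-- the comparison morphism `F ⟶ M~` -/
noncomputable def psi : F ⟶ GrMod.tilde 𝒜 (pieces 𝒜 f hf F) 0 :=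
  ⟨PresheafOfModules.homMk
    { app := fun U => AddCommGrpCat.ofHom (psiHom hf hcov U.unop)
      naturality := fun U U' i => by
        ext t
        refine Subtype.ext (funext fun y => Subtype.ext ?_)
        exact psiVal_res hf hcov i.unop.le t y }
    (fun U r t => by
      refine Subtype.ext (funext fun y => Subtype.ext ?_)
      refine (psiVal_smul hf hcov r t y).trans ?_
      rfl)⟩

theorem psiHom_val (V : (Proj 𝒜).Opens) (t : Γ(F, V)) (y : V) :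
    (((psiHom hf hcov V t).1 y : GrMod.tildeAt 𝒜 (pieces 𝒜 f hf F) 0 y.1) :
      GrMod.LocMod 𝒜 (M := MM 𝒜 f hf F) y.1) = psiVal hf hcov t y := rfl

theorem psi_app_val (V : (Proj 𝒜).Opens) (t : Γ(F, V)) (y : V) :
    GrMod.val ((psi hf hcov).app V t) y = psiVal hf hcov t y := rfl

omit [F.IsQuasicoherent] [Finite ι] in
/-- a homogeneous fraction which vanishes in the localization is killed by a homogeneous element -/
theorem exists_homog_smulFam_eq_zero (y : Proj 𝒜) (k : ℕ) (m : ∀ i, Γ(F, UU 𝒜 f i))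
    (hm : IsTw 𝒜 f hf F k m) (s : y.asHomogeneousIdeal.toIdeal.primeCompl)
    (h : (LocalizedModule.mk (ofM 𝒜 f hf F k m hm) s : GrMod.LocMod 𝒜 (M := MM 𝒜 f hf F) y) = 0) :
    ∃ (e : ℕ) (c : A) (hc : c ∈ 𝒜 e), c ∉ y.asHomogeneousIdeal ∧ smulFam 𝒜 f hf F c hc m = 0 := by
  rw [← LocalizedModule.zero_mk (1 : y.asHomogeneousIdeal.toIdeal.primeCompl),
    LocalizedModule.mk_eq] at h
  obtain ⟨⟨c, hc⟩, h⟩ := h
  rw [smul_zero, smul_zero, one_smul] at h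
  replace h : c • ofM 𝒜 f hf F k m hm = 0 := h
  obtain ⟨e, he⟩ := Groth.Agent.Lib.Helper33.GrModLib.exists_component_not_mem 𝒜 y c hc
  have hck := Groth.Agent.Lib.Helper33.GrModLib.homog_annihilator 𝒜 (pieces 𝒜 f hf F)
    (ofM 𝒜 f hf F k m hm) (ofM_mem 𝒜 f hf F k m hm) c h e
  refine ⟨e, _, (DirectSum.decompose 𝒜 c e).2, he, ?_⟩
  rw [smul_ofM 𝒜 f hf F _ (DirectSum.decompose 𝒜 c e).2] at hck
  have h0 := DirectSum.of_injective (β := fun n => MnT 𝒜 f hf F n) (e + k)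
    (hck.trans (map_zero _).symm)
  exact congrArg Subtype.val h0

/-- **Injectivity on sections** -/
theorem eq_zero_of_psiVal_eq_zero {V : (Proj 𝒜).Opens} (t : Γ(F, V))
    (h0 : ∀ y : V, psiVal hf hcov t y = 0) : t = 0 := by
  apply Groth.Agent.Lib.Lead.SheafGlue.eq_of_locally_eq_pts F t 0
  intro y hy
  obtain ⟨i, D, hD⟩ := psiVal_spec hf hcov t ⟨y, hy⟩
  rw [h0] at hD
  obtain ⟨e, c, hc, hcy, hzero⟩ := exists_homog_smulFam_eq_zero hf y D.k D.m D.hm _ hD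
  have hWi : D.W ⊓ Proj.basicOpen 𝒜 c ≤ UU 𝒜 f i := inf_le_left.trans D.hWi
  have hWc : ∀ z ∈ D.W ⊓ Proj.basicOpen 𝒜 c, c ∉ z.asHomogeneousIdeal :=
    fun z hz => (Proj.mem_basicOpen 𝒜 c z).1 hz.2
  have hWf : ∀ z ∈ D.W ⊓ Proj.basicOpen 𝒜 c, f i ^ e ∉ z.asHomogeneousIdeal :=
    fun z hz => pow_notMem_of_le 𝒜 f hWi e z hz
  refine ⟨D.W ⊓ Proj.basicOpen 𝒜 c, inf_le_left.trans D.hWV,
    ⟨D.hyW, (Proj.mem_basicOpen 𝒜 c y).2 hcy⟩, ?_⟩
  change rF 𝒜 F _ t = rF 𝒜 F _ 0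
  rw [rF_zero]
  have h1 : rF 𝒜 F hWi (D.m i) = 0 := by
    have h2 : coef 𝒜 f hf c hc i (UU 𝒜 f i) le_rfl • D.m i = 0 := congrFun hzero i
    have h3 := congrArg (rF 𝒜 F hWi) h2
    rw [rF_smul, rF_zero, rX_coef] at h3
    have h4 := congrArg (fun x => fr 𝒜 (f i ^ e) c (pow_mem_deg 𝒜 f hf i e) hc _ hWc • x) h3
    simp only [smul_smul, smul_zero] at h4
    rw [show coef 𝒜 f hf c hc i (D.W ⊓ Proj.basicOpen 𝒜 c) hWi =
      fr 𝒜 c (f i ^ e) hc (pow_mem_deg 𝒜 f hf i e) _ hWf from rfl, fr_mul_inv, one_smul] at h4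
    exact h4
  have h5 := congrArg (rF 𝒜 F (inf_le_left : D.W ⊓ Proj.basicOpen 𝒜 c ≤ D.W)) D.eq
  rw [rF_rF, rF_smul, rF_rF, h1, smul_zero] at h5
  exact h5

theorem psiHom_injective (V : (Proj 𝒜).Opens) :
    Function.Injective (psiHom (F := F) hf hcov V) := by
  rw [injective_iff_map_eq_zero]
  intro t ht
  apply eq_zero_of_psiVal_eq_zero hf hcov
  intro y
  rw [← psiHom_val, ht]
  rfl

theorem eq_of_psiVal_eq {V : (Proj 𝒜).Opens} (t t' : Γ(F, V))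
    (h : ∀ y : V, psiVal hf hcov t y = psiVal hf hcov t' y) : t = t' := by
  apply psiHom_injective hf hcov V
  refine Subtype.ext (funext fun y => Subtype.ext ?_)
  exact h y

/-- local preimages -/
theorem exists_local_preimage {V : (Proj 𝒜).Opens}
    (σ : Γ(GrMod.tilde 𝒜 (pieces 𝒜 f hf F) 0, V)) (y : V) :
    ∃ (W : (Proj 𝒜).Opens) (hWV : W ≤ V) (_ : y.1 ∈ W) (t : Γ(F, W)),
      ∀ z : W, psiVal hf hcov t z = GrMod.val σ ⟨z.1, hWV z.2⟩ := by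
  obtain ⟨i, hyi⟩ := hcov y.1
  have hU : ∀ z ∈ V ⊓ UU 𝒜 f i, f i ∉ z.asHomogeneousIdeal :=
    fun z hz => notMem_of_le 𝒜 f inf_le_right z hz
  obtain ⟨dh, e, h, m, hh, hdh, hm, he, hhy, -, hval⟩ :=
    exists_local_frac 𝒜 (pieces 𝒜 f hf F) one_pos (hf i) (V ⊓ UU 𝒜 f i) hU
      (GrMod.res 𝒜 (pieces 𝒜 f hf F) 0 (homOfLE (inf_le_left : V ⊓ UU 𝒜 f i ≤ V)).op
        (show GrMod.sect 𝒜 (pieces 𝒜 f hf F) 0 (op V) from σ)) ⟨y.1, y.2, hyi⟩
  have hed : e = dh := by omega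
  subst hed
  obtain ⟨m₀, rfl⟩ := hm
  have hWi : (V ⊓ UU 𝒜 f i) ⊓ Proj.basicOpen 𝒜 h ≤ UU 𝒜 f i := inf_le_left.trans inf_le_right
  have hWh : ∀ z ∈ (V ⊓ UU 𝒜 f i) ⊓ Proj.basicOpen 𝒜 h, h ∉ z.asHomogeneousIdeal :=
    fun z hz => (Proj.mem_basicOpen 𝒜 h z).1 hz.2
  refine ⟨(V ⊓ UU 𝒜 f i) ⊓ Proj.basicOpen 𝒜 h, inf_le_left.trans inf_le_left,
    ⟨⟨y.2, hyi⟩, (Proj.mem_basicOpen 𝒜 h y.1).2 hhy⟩,
    fr 𝒜 (f i ^ e) h (pow_mem_deg 𝒜 f hf i e) hh _ hWh • rF 𝒜 F hWi (m₀.1 i), ?_⟩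
  intro z
  let D : RepData 𝒜 f hf F (fr 𝒜 (f i ^ e) h (pow_mem_deg 𝒜 f hf i e) hh _ hWh •
      rF 𝒜 F hWi (m₀.1 i)) z.1 i :=
    ⟨e, m₀.1, m₀.2, h, hh, _, le_rfl, hWi, hWh, z.2, by rw [rF_self]⟩
  rw [psiVal_eq hf hcov D]
  exact (hval ⟨z.1, z.2.1⟩ (hWh z.1 z.2)).symm

/-- **Surjectivity on sections** -/
theorem psi_app_surjective (V : (Proj 𝒜).Opens) :
    Function.Surjective ((psi (F := F) hf hcov).app V) := by
  intro σ
  choose W hWV hyW t ht using exists_local_preimage hf hcov σ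
  obtain ⟨r, hr⟩ := Groth.Agent.Lib.Lead.SheafGlue.exists_glue_pts F W hWV hyW t (by
    intro y y'
    apply eq_of_psiVal_eq hf hcov
    intro z
    change psiVal hf hcov (rF 𝒜 F _ (t y)) z = psiVal hf hcov (rF 𝒜 F _ (t y')) z
    rw [psiVal_res, psiVal_res, ht, ht])
  refine ⟨r, ?_⟩
  apply sec_ext
  intro y
  rw [psi_app_val]
  have h1 := psiVal_res hf hcov (hWV y) r ⟨y.1, hyW y⟩
  have h2 : rF 𝒜 F (hWV y) r = t y := hr y
  rw [h2] at h1
  rw [← h1]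
  exact ht y ⟨y.1, hyW y⟩

theorem psi_app_injective (V : (Proj 𝒜).Opens) :
    Function.Injective ((psi (F := F) hf hcov).app V) := by
  intro t t' h
  apply eq_of_psiVal_eq hf hcov
  intro y
  rw [← psi_app_val, ← psi_app_val, h]

instance isIso_psi : IsIso (psi (F := F) hf hcov) :=
  Groth.Agent.Lib.Helper60.TensorLib.isIso_of_app_bijective _
    (fun V => ⟨psi_app_injective hf hcov V, psi_app_surjective hf hcov V⟩)

/-- **Serre's theorem**: a quasi-coherent module on `Proj` is the module associated with the graded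
module of its twisted families. -/
noncomputable def serreIso : GrMod.tilde 𝒜 (pieces 𝒜 f hf F) 0 ≅ F :=
  (asIso (psi (F := F) hf hcov)).symm

end Mor

end Groth.Agent.Lib.Helper60.SerreMod
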