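import Groth.Prelude.Def_GrMod2
import Groth.Prelude.Def_Coh
import Groth.Agent.Lib.Helper60.SerreIso

set_option autoImplicit false
universe u
open CategoryTheory CategoryTheory.Limits AlgebraicGeometry


namespace Groth.Agent.Lib.Helper60.SerreMod

theorem grTilde_eq {R A : Type u} [CommRing R] [CommRing A] [Algebra R A] (𝒜 : ℕ → Submodule R A)
    [GradedAlgebra 𝒜] (M : Type u) [AddCommGroup M] [Module R M] [Module A M] [IsScalarTower R A M]
    (ℳ : ℕ → Submodule R M) [DirectSum.Decomposition ℳ] [SetLike.GradedSMul 𝒜 ℳ] :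
    GrTilde.tilde 𝒜 ℳ 0 = GrMod.tilde 𝒜 ℳ 0 := rfl

/-- the degree one generators of the irrelevant ideal give a cover of `Proj` -/
theorem cover_of_span {R A : Type u} [CommRing R] [CommRing A] [Algebra R A] (𝒜 : ℕ → Submodule R A)
    [GradedAlgebra 𝒜] (s : Finset A)
    (hs : (HomogeneousIdeal.irrelevant 𝒜).toIdeal = Ideal.span (s : Set A)) (y : Proj 𝒜) :
    ∃ i : (↥s : Type u), y ∈ UU 𝒜 (fun i : (↥s : Type u) => (i : A)) i := by
  by_contra hcon
  push Not at hcon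
  apply y.not_irrelevant_le
  intro a ha
  have ha' : a ∈ (HomogeneousIdeal.irrelevant 𝒜).toIdeal := ha
  rw [hs] at ha'
  refine (Ideal.span_le (I := y.asHomogeneousIdeal.toIdeal)).2 ?_ ha'
  intro g hg
  by_contra hgy
  exact hcon ⟨g, hg⟩ ((Proj.mem_basicOpen 𝒜 g y).2 hgy)

theorem serre_final {R A : Type u} [CommRing R] [CommRing A] [Algebra R A] (𝒜 : ℕ → Submodule R A) [GradedAlgebra 𝒜]
    {ι : Type u} [Finite ι] (f : ι → A) (hf : ∀ i, f i ∈ 𝒜 1) (hcov : ∀ y : Proj 𝒜, ∃ i, y ∈ UU 𝒜 f i)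
    (F : (Proj 𝒜).Modules) [F.IsQuasicoherent] :
    ∃ (M : Type u) (_ : AddCommGroup M) (_ : Module R M) (_ : Module A M) (_ : IsScalarTower R A M)
      (ℳ : ℕ → Submodule R M) (_ : DirectSum.Decomposition ℳ) (_ : SetLike.GradedSMul 𝒜 ℳ),
      Nonempty (GrTilde.tilde 𝒜 ℳ 0 ≅ F) := by
  refine ⟨MM 𝒜 f hf F, inferInstance, moduleR 𝒜 f hf F, moduleA 𝒜 f hf F, ?_, pieces 𝒜 f hf F, ?_, ?_, ?_⟩
  · infer_instance
  · exact decomposition 𝒜 f hf F
  · exact gradedSMul 𝒜 f hf F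
  · exact ⟨eqToIso (grTilde_eq 𝒜 _ _) ≪≫ serreIso hf hcov⟩

end Groth.Agent.Lib.Helper60.SerreMod
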