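import Groth.Agent.Lib.Helper60.SerreFin1
import Groth.Agent.Lib.Helper60.SerreFinal

set_option autoImplicit false
universe u
open CategoryTheory AlgebraicGeometry TopologicalSpace Opposite DirectSum

namespace Groth.Agent.Lib.Helper60.SerreMod

open Groth.Agent.Lib.Helper60.TildeSec Groth.Agent.Lib.Helper60.ProjFrac
open Groth.Agent.Lib.Lead.QCohAff

section Sur

variable {A σ : Type u} [CommRing A] [SetLike σ A] [AddSubgroupClass σ A] (𝒜 : ℕ → σ) [GradedRing 𝒜]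
variable {M τ : Type u} [AddCommGroup M] [Module A M] [SetLike τ M] [AddSubgroupClass τ M]
  (ℳ : ℕ → τ) [SetLike.GradedSMul 𝒜 ℳ]
variable {N τ' : Type u} [AddCommGroup N] [Module A N] [SetLike τ' N] [AddSubgroupClass τ' N]
  (𝒩 : ℕ → τ') [SetLike.GradedSMul 𝒜 𝒩] [DirectSum.Decomposition 𝒩]

/-- an injective map of graded modules which is locally surjective on fractions induces a
surjection on sections -/
theorem map_app_surjective_of_local (u : M →ₗ[A] N)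
    (hu : ∀ (i : ℕ) (m : M), m ∈ ℳ i → u m ∈ 𝒩 i)
    (hinj : ∀ k, 0 ≤ k → ∀ m ∈ ℳ k, u m = 0 → m = 0) (V : (Proj 𝒜).Opens)
    (s : Γ(GrMod.tilde 𝒜 𝒩 0, V))
    (hloc : ∀ y : V, ∃ (W : (Proj 𝒜).Opens) (hWV : W ≤ V) (_ : y.1 ∈ W)
      (t : Γ(GrMod.tilde 𝒜 ℳ 0, W)),
      ∀ z : W, GrMod.locMap u z.1 (GrMod.val t z) = GrMod.val s ⟨z.1, hWV z.2⟩) :
    ∃ t, (GrMod.map 𝒜 (ℳ := ℳ) (𝒩 := 𝒩) u hu 0).app V t = s := by
  choose W hWV hyW t ht using hloc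
  obtain ⟨r, hr⟩ := Groth.Agent.Lib.Lead.SheafGlue.exists_glue_pts (GrMod.tilde 𝒜 ℳ 0) W hWV hyW t
    (by
      intro y y'
      apply Groth.Agent.Lib.Helper33.GrModLib.map_app_injective 𝒜 ℳ 𝒩 u hu 0 hinj 0 _
      apply sec_ext
      intro z
      rw [GrMod.map_app_val, GrMod.map_app_val]
      exact (ht y ⟨z.1, z.2.1⟩).trans (ht y' ⟨z.1, z.2.2⟩).symm)
  refine ⟨r, ?_⟩
  apply sec_ext
  intro y
  rw [GrMod.map_app_val]
  have h1 := congrArg (fun q => GrMod.val q ⟨y.1, hyW y⟩) (hr y)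
  change GrMod.val r y = GrMod.val (t y) ⟨y.1, hyW y⟩ at h1
  exact (congrArg (GrMod.locMap u y.1) h1).trans (ht y ⟨y.1, hyW y⟩)

end Sur

section FinIso

variable {R A : Type u} [CommRing R] [CommRing A] [Algebra R A] {𝒜 : ℕ → Submodule R A}
  [GradedAlgebra 𝒜]
variable {ι : Type u} {f : ι → A} (hf : ∀ i, f i ∈ 𝒜 1) {F : (Proj 𝒜).Modules}
variable [F.IsQuasicoherent] [Finite ι] (hcov : ∀ y : Proj 𝒜, ∃ i, y ∈ UU 𝒜 f i)
variable (G : Set (MM 𝒜 f hf F))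
  (hG : ∀ (i : ι) (s : Γ(F, UU 𝒜 f i)), ∃ D₀ : ℕ, ∀ D, D₀ ≤ D →
        ∃ x ∈ Submodule.span A G, x ∈ pieces 𝒜 f hf F D ∧ evalAt 𝒜 f hf F i x = s)

/-- the grading of the span of the generators -/
noncomputable abbrev subPieces : ℕ → Submodule R ↥(Submodule.span A G) :=
  Groth.Agent.Lib.Helper60.GradedSub.sub (pieces 𝒜 f hf F) (Submodule.span A G)

omit [F.IsQuasicoherent] [Finite ι] in
theorem hu_sub (i : ℕ) (m : ↥(Submodule.span A G)) (hm : m ∈ subPieces hf G i) :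
    (Submodule.span A G).subtype m ∈ pieces 𝒜 f hf F i := hm

include hcov hG in
theorem subMap_surjective (V : (Proj 𝒜).Opens)
    (s : Γ(GrMod.tilde 𝒜 (pieces 𝒜 f hf F) 0, V)) :
    ∃ t, (GrMod.map 𝒜 (ℳ := subPieces hf G) (𝒩 := pieces 𝒜 f hf F) (Submodule.span A G).subtype
      (hu_sub hf G) 0).app V t = s := by
  apply map_app_surjective_of_local
  · intro k _ m _ hm0
    exact Subtype.ext hm0
  · intro y
    obtain ⟨i, hyi⟩ := hcov y.1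
    have hU : ∀ z ∈ V ⊓ UU 𝒜 f i, f i ∉ z.asHomogeneousIdeal :=
      fun z hz => notMem_of_le 𝒜 f inf_le_right z hz
    obtain ⟨dh, e, h, m, hh, hdh, hm, he, hhy, -, hval⟩ :=
      exists_local_frac 𝒜 (pieces 𝒜 f hf F) one_pos (hf i) (V ⊓ UU 𝒜 f i) hU
        (GrMod.res 𝒜 (pieces 𝒜 f hf F) 0 (homOfLE (inf_le_left : V ⊓ UU 𝒜 f i ≤ V)).op
          (show GrMod.sect 𝒜 (pieces 𝒜 f hf F) 0 (op V) from s)) ⟨y.1, y.2, hyi⟩
    have hed : e = dh := by omega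
    subst hed
    obtain ⟨m₀, rfl⟩ := hm
    obtain ⟨L, hL⟩ := exists_pow_smul_mem 𝒜 f hf F G hG e m₀.1 m₀.2 i
    have hWf : ∀ z ∈ (V ⊓ UU 𝒜 f i) ⊓ Proj.basicOpen 𝒜 h, f i ^ L ∉ z.asHomogeneousIdeal :=
      fun z hz => pow_notMem_of_le 𝒜 f (inf_le_left.trans inf_le_right) L z hz
    have hWh : ∀ z ∈ (V ⊓ UU 𝒜 f i) ⊓ Proj.basicOpen 𝒜 h, h ∉ z.asHomogeneousIdeal :=
      fun z hz => (Proj.mem_basicOpen 𝒜 h z).1 hz.2
    have hW : ∀ z ∈ (V ⊓ UU 𝒜 f i) ⊓ Proj.basicOpen 𝒜 h, f i ^ L * h ∉ z.asHomogeneousIdeal :=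
      fun z hz hmem => (z.isPrime.mem_or_mem hmem).elim (hWf z hz) (hWh z hz)
    have hmem : (⟨f i ^ L • ofM 𝒜 f hf F e m₀.1 m₀.2, hL⟩ : ↥(Submodule.span A G)) ∈
        subPieces hf G (L + e) :=
      smul_mem_pieces 𝒜 f hf F (pow_mem_deg 𝒜 f hf i L) (ofM_mem 𝒜 f hf F e m₀.1 m₀.2)
    refine ⟨(V ⊓ UU 𝒜 f i) ⊓ Proj.basicOpen 𝒜 h, inf_le_left.trans inf_le_left,
      ⟨⟨y.2, hyi⟩, (Proj.mem_basicOpen 𝒜 h y.1).2 hhy⟩,
      fracSec 𝒜 (subPieces hf G) _ hmem (f i ^ L * h)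
        (SetLike.GradedMul.mul_mem (pow_mem_deg 𝒜 f hf i L) hh) (by simp) _ hW, ?_⟩
    intro z
    rw [fracSec_val, GrMod.locMap_mk]
    refine Eq.trans ?_ (hval ⟨z.1, z.2.1⟩ (hWh z.1 z.2)).symm
    exact LocalizedModule.mk_cancel_common_left
      (⟨f i ^ L, hWf z.1 z.2⟩ : z.1.asHomogeneousIdeal.toIdeal.primeCompl) ⟨h, hWh z.1 z.2⟩ _

include hcov hG in
theorem isIso_subMap :
    IsIso (GrMod.map 𝒜 (ℳ := subPieces hf G) (𝒩 := pieces 𝒜 f hf F) (Submodule.span A G).subtype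
      (hu_sub hf G) 0) :=
  Groth.Agent.Lib.Helper60.TensorLib.isIso_of_app_bijective _ (fun V =>
    ⟨Groth.Agent.Lib.Helper33.GrModLib.map_app_injective 𝒜 (subPieces hf G) (pieces 𝒜 f hf F) _
      (hu_sub hf G) 0 (fun _ _ _ _ hm0 => Subtype.ext hm0) 0 V,
     fun s => subMap_surjective hf hcov G hG V s⟩)

end FinIso

section FinFinal

theorem serre_final_fin {R A : Type u} [CommRing R] [CommRing A] [Algebra R A]
    (𝒜 : ℕ → Submodule R A) [GradedAlgebra 𝒜]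
    {ι : Type u} [Finite ι] (f : ι → A) (hf : ∀ i, f i ∈ 𝒜 1)
    (hcov : ∀ y : Proj 𝒜, ∃ i, y ∈ UU 𝒜 f i)
    (F : (Proj 𝒜).Modules) [F.IsQuasicoherent]
    (hFT : SheafOfModules.IsFiniteType (R := (Proj 𝒜).ringCatSheaf) F) :
    ∃ (N : Type u) (_ : AddCommGroup N) (_ : Module R N) (_ : Module A N) (_ : IsScalarTower R A N)
      (𝒩 : ℕ → Submodule R N) (_ : DirectSum.Decomposition 𝒩) (_ : SetLike.GradedSMul 𝒜 𝒩),
      Module.Finite A N ∧ Nonempty (GrTilde.tilde 𝒜 𝒩 0 ≅ F) := by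
  obtain ⟨G, hGfin, hGh, hG⟩ := exists_generators 𝒜 f hf F hFT
  have := isIso_subMap hf hcov G hG
  letI dec : DirectSum.Decomposition (subPieces hf G) :=
    Groth.Agent.Lib.Helper60.GradedSub.decomposition (pieces 𝒜 f hf F) (Submodule.span A G)
      (Groth.Agent.Lib.Helper60.GradedSub.isHomogeneous_span 𝒜 (pieces 𝒜 f hf F) G hGh)
  refine ⟨↥(Submodule.span A G), inferInstance, inferInstance, inferInstance, inferInstance,
    subPieces hf G, dec,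
    Groth.Agent.Lib.Helper60.GradedSub.gradedSMul_sub 𝒜 (pieces 𝒜 f hf F) (Submodule.span A G),
    Module.Finite.span_of_finite A hGfin, ?_⟩
  exact ⟨eqToIso (grTilde_eq 𝒜 _ _) ≪≫
    asIso (GrMod.map 𝒜 (ℳ := subPieces hf G) (𝒩 := pieces 𝒜 f hf F) (Submodule.span A G).subtype
      (hu_sub hf G) 0) ≪≫ serreIso hf hcov⟩

end FinFinal

end Groth.Agent.Lib.Helper60.SerreMod
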