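import Groth.Agent.Lib.Helper60.SerreFin2
import Groth.Agent.Lib.Helper60.TildeTwist
import Groth.Agent.Lib.Helper35.GlobGen

set_option autoImplicit false
set_option linter.unusedSectionVars false
universe u
open CategoryTheory CategoryTheory.Limits AlgebraicGeometry TopologicalSpace Opposite DirectSum

namespace Groth.Agent.Lib.Helper60.SerreGen

open Groth.Agent.Lib.Helper60.TildeSec Groth.Agent.Lib.Helper60.ProjFrac
open Groth.Agent.Lib.Helper60.SerreMod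
open Groth.Agent.Lib.Lead.QCohAff Groth.Agent.Lib.Helper35.GlobGen

section General

variable {X : Scheme.{u}}

/-- finitely many global sections which locally span give an epimorphism from a free module -/
theorem epi_desc_of_locally_span (F : X.Modules) {k : ℕ} (s : Fin k → Γ(F, ⊤))
    (h : ∀ (U : X.Opens) (t : Γ(F, U)) (x : X), x ∈ U → ∃ (W : X.Opens) (hW : W ≤ U), x ∈ W ∧
      (F.presheaf.map (homOfLE hW).op).hom t ∈ Submodule.span Γ(X, W)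
        (Set.range fun i => (F.presheaf.map (homOfLE (le_top : W ≤ ⊤)).op).hom (s i))) :
    Epi (Sigma.desc (fun i => secHom F (s i)) : FlatMod.freeMod X k ⟶ F) := by
  set p : FlatMod.freeMod X k ⟶ F := Sigma.desc (fun i => secHom F (s i)) with hp
  have h1 : Epi ((SheafOfModules.toSheaf _).map p) := by
    refine (CategoryTheory.Sheaf.isLocallySurjective_iff_epi'
      (J := Opens.grothendieckTopology X) AddCommGrpCat _).mp ?_
    refine (TopCat.Presheaf.isLocallySurjective_iff (X := X.toTopCat) _).mpr ?_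
    intro U t x hx
    obtain ⟨W, hW, hxW, hmem⟩ := h U t x hx
    refine ⟨W, hW, ?_, hxW⟩
    obtain ⟨c, hc⟩ := (Submodule.mem_span_range_iff_exists_fun _).1 hmem
    refine ⟨∑ i, ((Sigma.ι (fun _ : Fin k => Coh.structureModule X) i).app W).hom (c i), ?_⟩
    have e1 : ∀ i, Sigma.ι (fun _ : Fin k => Coh.structureModule X) i ≫ p = secHom F (s i) := by
      intro i
      rw [hp, Sigma.ι_desc]
    have e2 : ∀ i, (Scheme.Modules.Hom.app p W).hom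
        (((Sigma.ι (fun _ : Fin k => Coh.structureModule X) i).app W).hom (c i)) =
        c i • (F.presheaf.map (homOfLE (le_top : W ≤ ⊤)).op).hom (s i) := by
      intro i
      have e3 := congrArg (fun φ : Coh.structureModule X ⟶ F =>
        (Scheme.Modules.Hom.app φ W).hom (show Γ(Coh.structureModule X, W) from c i)) (e1 i)
      exact e3.trans (secHom_app F (s i) W (c i))
    refine Eq.trans (map_sum (Scheme.Modules.Hom.app p W).hom _ _) ?_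
    exact (Finset.sum_congr rfl (fun i _ => e2 i)).trans hc
  exact Functor.epi_of_epi_map (SheafOfModules.toSheaf _) h1

end General

section Loc

variable {R : Type*} [CommSemiring R] (S : Submonoid R) {M : Type*} [AddCommGroup M] [Module R M]

theorem mk_add_same (m m' : M) (s : S) :
    (LocalizedModule.mk (m + m') s : LocalizedModule S M) =
      LocalizedModule.mk m s + LocalizedModule.mk m' s := by
  rw [LocalizedModule.mk_add_mk, ← smul_add, LocalizedModule.mk_cancel_common_left]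

theorem mk_sum_same {α : Type*} (T : Finset α) (g : α → M) (s : S) :
    (LocalizedModule.mk (∑ x ∈ T, g x) s : LocalizedModule S M) =
      ∑ x ∈ T, LocalizedModule.mk (g x) s := by
  classical
  induction T using Finset.induction_on with
  | empty => simp
  | insert a T ha ih => rw [Finset.sum_insert ha, Finset.sum_insert ha, mk_add_same, ih]

end Loc

section Graded

variable {R A : Type u} [CommRing R] [CommRing A] [Algebra R A] (𝒜 : ℕ → Submodule R A)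
  [GradedAlgebra 𝒜]
variable {N : Type u} [AddCommGroup N] [Module R N] [Module A N] [IsScalarTower R A N]
  (𝒩 : ℕ → Submodule R N) [DirectSum.Decomposition 𝒩] [SetLike.GradedSMul 𝒜 𝒩]

include 𝒜 in
theorem exists_homogeneous_generators [Module.Finite A N] :
    ∃ T : Finset N, (∀ x ∈ T, ∃ d, x ∈ 𝒩 d) ∧ Submodule.span A (T : Set N) = ⊤ := by
  classical
  obtain ⟨S, hS⟩ := (Module.Finite.fg_top : (⊤ : Submodule A N).FG)
  refine ⟨S.biUnion (fun g => (decompose 𝒩 g).support.image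
    (fun n => ((decompose 𝒩 g n : 𝒩 n) : N))), ?_, ?_⟩
  · intro x hx
    rw [Finset.mem_biUnion] at hx
    obtain ⟨g, hg, hx⟩ := hx
    rw [Finset.mem_image] at hx
    obtain ⟨n, hn, rfl⟩ := hx
    exact ⟨n, (decompose 𝒩 g n).2⟩
  · rw [eq_top_iff, ← hS, Submodule.span_le]
    intro g hg
    rw [SetLike.mem_coe, ← DirectSum.sum_support_decompose 𝒩 g]
    refine Submodule.sum_mem _ (fun n hn => Submodule.subset_span ?_)
    rw [Finset.mem_coe, Finset.mem_biUnion]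
    exact ⟨g, hg, Finset.mem_image.2 ⟨n, hn, rfl⟩⟩

variable {ι : Type u} (f : ι → A) (hf : ∀ i, f i ∈ 𝒜 1)

include hf in
theorem pow_smul_mem {d n : ℕ} (hdn : d ≤ n) (i : ι) {x : N} (hx : x ∈ 𝒩 d) :
    f i ^ (n - d) • x ∈ 𝒩 n := by
  have := SetLike.GradedSMul.smul_mem (pow_mem_deg 𝒜 f hf i (n - d)) hx
  rwa [vadd_eq_add, Nat.sub_add_cancel hdn] at this

/-- the global section `f i ^ (n - d) • x / 1` of `N(n)~` -/
noncomputable def genSec (n d : ℕ) (hdn : d ≤ n) (i : ι) (x : N) (hx : x ∈ 𝒩 d) :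
    Γ(GrMod.tilde 𝒜 𝒩 (n : ℤ), ⊤) :=
  fracSec 𝒜 𝒩 (f i ^ (n - d) • x) (pow_smul_mem 𝒜 𝒩 f hf hdn i hx) 1 SetLike.GradedOne.one_mem
    (by simp) ⊤ (fun y _ => Groth.Agent.Lib.Helper60.TwistLib.one_notMem 𝒜 y)

/-- evaluation at a point, as an additive map -/
noncomputable def valHom (n : ℤ) {W : (Proj 𝒜).Opens} (z : W) :
    Γ(GrMod.tilde 𝒜 𝒩 n, W) →+ GrMod.LocMod 𝒜 (M := N) z.1 :=
  AddMonoidHom.mk' (fun s => GrMod.val s z) (fun _ _ => rfl)

end Graded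

section Span

variable {R A : Type u} [CommRing R] [CommRing A] [Algebra R A] (𝒜 : ℕ → Submodule R A)
  [GradedAlgebra 𝒜]
variable {N : Type u} [AddCommGroup N] [Module R N] [Module A N] [IsScalarTower R A N]
  (𝒩 : ℕ → Submodule R N) [DirectSum.Decomposition 𝒩] [SetLike.GradedSMul 𝒜 𝒩]
variable {ι : Type u} (f : ι → A) (hf : ∀ i, f i ∈ 𝒜 1)
  (hcov : ∀ y : Proj 𝒜, ∃ i, y ∈ UU 𝒜 f i)
variable (T : Finset N) (deg : N → ℕ) (hdeg : ∀ x ∈ T, x ∈ 𝒩 (deg x))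
  (hT : Submodule.span A (T : Set N) = ⊤) (n : ℕ) (hn : ∀ x ∈ T, deg x ≤ n)

include hcov hT in
/-- the sections `f i ^ (n - deg x) • x` locally span `N(n)~` -/
theorem local_span (U : (Proj 𝒜).Opens) (t : Γ(GrMod.tilde 𝒜 𝒩 (n : ℤ), U)) (y : Proj 𝒜)
    (hy : y ∈ U) :
    ∃ (W : (Proj 𝒜).Opens) (hW : W ≤ U), y ∈ W ∧
      ((GrMod.tilde 𝒜 𝒩 (n : ℤ)).presheaf.map (homOfLE hW).op).hom t ∈
        Submodule.span Γ(Proj 𝒜, W) (Set.range fun j : ι × ↥T =>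
          ((GrMod.tilde 𝒜 𝒩 (n : ℤ)).presheaf.map (homOfLE (le_top : W ≤ ⊤)).op).hom
            (genSec 𝒜 𝒩 f hf n (deg j.2.1) (hn j.2.1 j.2.2) j.1 j.2.1 (hdeg j.2.1 j.2.2))) := by
  classical
  obtain ⟨i, hyi⟩ := hcov y
  have hU' : ∀ z ∈ U ⊓ UU 𝒜 f i, f i ∉ z.asHomogeneousIdeal :=
    fun z hz => notMem_of_le 𝒜 f inf_le_right z hz
  obtain ⟨dh, e, h, m, hh, hdh, hm, he, hhy, -, hval⟩ :=
    exists_local_frac 𝒜 𝒩 one_pos (hf i) (U ⊓ UU 𝒜 f i) hU'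
      (GrMod.res 𝒜 𝒩 (n : ℤ) (homOfLE (inf_le_left : U ⊓ UU 𝒜 f i ≤ U)).op
        (show GrMod.sect 𝒜 𝒩 (n : ℤ) (op U) from t)) ⟨y, hy, hyi⟩
  have he' : e = dh + n := by exact_mod_cast he
  have hmT : m ∈ Submodule.span A (T : Set N) := by rw [hT]; trivial
  obtain ⟨a, -, ha⟩ := Submodule.mem_span_finset.1 hmT
  have hb : ∑ x ∈ T, ((decompose 𝒜 (a x) (e - deg x) : 𝒜 (e - deg x)) : A) • x = m := by
    have h1 := congrArg (fun v => ((decompose 𝒩 v e : 𝒩 e) : N)) ha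
    simp only at h1
    rw [DirectSum.decompose_of_mem_same 𝒩 hm] at h1
    rw [← h1, DirectSum.decompose_sum, DFinsupp.finsetSum_apply, AddSubmonoidClass.coe_finsetSum]
    refine Finset.sum_congr rfl (fun x hx => ?_)
    rw [Groth.Agent.Lib.Helper60.VeroneseFG.coe_decompose_smul_of_mem 𝒜 𝒩 (hdeg x hx) (a x),
      if_pos (by have := hn x hx; omega)]
  have hWi : (U ⊓ UU 𝒜 f i) ⊓ Proj.basicOpen 𝒜 h ≤ UU 𝒜 f i := inf_le_left.trans inf_le_right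
  have hWh : ∀ z ∈ (U ⊓ UU 𝒜 f i) ⊓ Proj.basicOpen 𝒜 h, h ∉ z.asHomogeneousIdeal :=
    fun z hz => (Proj.mem_basicOpen 𝒜 h z).1 hz.2
  have hWhf : ∀ (k : ℕ), ∀ z ∈ (U ⊓ UU 𝒜 f i) ⊓ Proj.basicOpen 𝒜 h,
      h * f i ^ k ∉ z.asHomogeneousIdeal := fun k z hz hmem =>
    (z.isPrime.mem_or_mem hmem).elim (hWh z hz) (pow_notMem_of_le 𝒜 f hWi k z hz)
  refine ⟨(U ⊓ UU 𝒜 f i) ⊓ Proj.basicOpen 𝒜 h, inf_le_left.trans inf_le_left,
    ⟨⟨hy, hyi⟩, (Proj.mem_basicOpen 𝒜 h y).2 hhy⟩, ?_⟩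
  have hdegmem : ∀ x : ↥T, h * f i ^ (n - deg x.1) ∈ 𝒜 (e - deg x.1) := by
    intro x
    have h1 := SetLike.GradedMul.mul_mem hh (pow_mem_deg 𝒜 f hf i (n - deg x.1))
    have h2 : dh + (n - deg x.1) = e - deg x.1 := by have := hn x.1 x.2; omega
    rwa [h2] at h1
  have key : ((GrMod.tilde 𝒜 𝒩 (n : ℤ)).presheaf.map (homOfLE (inf_le_left.trans inf_le_left :
      (U ⊓ UU 𝒜 f i) ⊓ Proj.basicOpen 𝒜 h ≤ U)).op).hom t =
      ∑ x : ↥T, fr 𝒜 ((decompose 𝒜 (a x.1) (e - deg x.1) : 𝒜 (e - deg x.1)) : A)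
        (h * f i ^ (n - deg x.1)) (decompose 𝒜 (a x.1) (e - deg x.1)).2 (hdegmem x) _
        (hWhf (n - deg x.1)) •
        ((GrMod.tilde 𝒜 𝒩 (n : ℤ)).presheaf.map (homOfLE (le_top :
          (U ⊓ UU 𝒜 f i) ⊓ Proj.basicOpen 𝒜 h ≤ ⊤)).op).hom
          (genSec 𝒜 𝒩 f hf n (deg x.1) (hn x.1 x.2) i x.1 (hdeg x.1 x.2)) := by
    apply sec_ext
    intro z
    have h1 : GrMod.val (((GrMod.tilde 𝒜 𝒩 (n : ℤ)).presheaf.map (homOfLE
        (inf_le_left.trans inf_le_left :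
          (U ⊓ UU 𝒜 f i) ⊓ Proj.basicOpen 𝒜 h ≤ U)).op).hom t) z =
        LocalizedModule.mk m ⟨h, hWh z.1 z.2⟩ := hval ⟨z.1, z.2.1⟩ (hWh z.1 z.2)
    rw [h1]
    change _ = valHom 𝒜 𝒩 (n : ℤ) z _
    rw [map_sum, ← hb, mk_sum_same, ← Finset.sum_coe_sort T]
    refine Finset.sum_congr rfl (fun x _ => ?_)
    change _ = GrMod.val (_ • _) z
    rw [smul_val]
    change _ = oval 𝒜 (fr 𝒜 _ _ _ _ _ _) z • LocalizedModule.mk (f i ^ (n - deg x.1) • x.1) _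
    rw [oval_fr, LocalizedModule.mk_smul_mk, LocalizedModule.mk_eq]
    refine ⟨1, ?_⟩
    simp only [one_smul, Submonoid.smul_def, Submonoid.coe_mul, smul_smul]
    congr 1
    ring
  rw [key]
  exact Submodule.sum_mem _ (fun x _ => Submodule.smul_mem _ _ (Submodule.subset_span ⟨(i, x), rfl⟩))

end Span

section Final

theorem grTilde_eq' {R A : Type u} [CommRing R] [CommRing A] [Algebra R A] (𝒜 : ℕ → Submodule R A)
    [GradedAlgebra 𝒜] (M : Type u) [AddCommGroup M] [Module R M] [Module A M] [IsScalarTower R A M]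
    (ℳ : ℕ → Submodule R M) [DirectSum.Decomposition ℳ] [SetLike.GradedSMul 𝒜 ℳ] (n : ℤ) :
    GrTilde.tilde 𝒜 ℳ n = GrMod.tilde 𝒜 ℳ n := rfl

/-- **Serre**: `F(n)` is a quotient of a finite free module for `n ≫ 0`. -/
theorem exists_epi_twist {R A : Type u} [CommRing R] [CommRing A] [Algebra R A]
    (𝒜 : ℕ → Submodule R A) [GradedAlgebra 𝒜]
    {ι : Type u} [Finite ι] (f : ι → A) (hf : ∀ i, f i ∈ 𝒜 1)
    (hcov : ∀ y : Proj 𝒜, ∃ i, y ∈ UU 𝒜 f i)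
    (F : (Proj 𝒜).Modules) [F.IsQuasicoherent]
    (hFT : SheafOfModules.IsFiniteType (R := (Proj 𝒜).ringCatSheaf) F) :
    ∃ n₀ : ℕ, ∀ n : ℕ, n₀ ≤ n →
      ∃ (k : ℕ) (p : FlatMod.freeMod (Proj 𝒜) k ⟶ Twist.twistBy 𝒜 F (n : ℤ)), Epi p := by
  classical
  obtain ⟨N, _, _, _, _, 𝒩, _, _, hfin, ⟨e⟩⟩ := serre_final_fin 𝒜 f hf hcov F hFT
  obtain ⟨T, hTh, hT⟩ := exists_homogeneous_generators 𝒜 𝒩
  choose! deg hdeg using hTh
  refine ⟨T.sup deg, fun n hn => ?_⟩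
  have hn' : ∀ x ∈ T, deg x ≤ n := fun x hx => (Finset.le_sup hx).trans hn
  cases nonempty_fintype ι
  obtain ⟨eqv⟩ : Nonempty ((ι × ↥T) ≃ Fin (Fintype.card (ι × ↥T))) := ⟨Fintype.equivFin _⟩
  have hepi := epi_desc_of_locally_span (GrMod.tilde 𝒜 𝒩 (n : ℤ))
    (fun j : Fin (Fintype.card (ι × ↥T)) =>
      genSec 𝒜 𝒩 f hf n (deg (eqv.symm j).2.1) (hn' _ (eqv.symm j).2.2) (eqv.symm j).1
        (eqv.symm j).2.1 (hdeg _ (eqv.symm j).2.2)) (by
    intro U t x hx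
    obtain ⟨W, hW, hxW, hmem⟩ := local_span 𝒜 𝒩 f hf hcov T deg hdeg hT n hn' U t x hx
    refine ⟨W, hW, hxW, ?_⟩
    have hr : (Set.range fun j : ι × ↥T =>
          ((GrMod.tilde 𝒜 𝒩 (n : ℤ)).presheaf.map (homOfLE (le_top : W ≤ ⊤)).op).hom
            (genSec 𝒜 𝒩 f hf n (deg j.2.1) (hn' j.2.1 j.2.2) j.1 j.2.1 (hdeg j.2.1 j.2.2))) =
        Set.range fun j : Fin (Fintype.card (ι × ↥T)) =>
          ((GrMod.tilde 𝒜 𝒩 (n : ℤ)).presheaf.map (homOfLE (le_top : W ≤ ⊤)).op).hom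
            (genSec 𝒜 𝒩 f hf n (deg (eqv.symm j).2.1) (hn' _ (eqv.symm j).2.2) (eqv.symm j).1
              (eqv.symm j).2.1 (hdeg _ (eqv.symm j).2.2)) :=
      (eqv.symm.surjective.range_comp (fun j : ι × ↥T =>
          ((GrMod.tilde 𝒜 𝒩 (n : ℤ)).presheaf.map (homOfLE (le_top : W ≤ ⊤)).op).hom
            (genSec 𝒜 𝒩 f hf n (deg j.2.1) (hn' j.2.1 j.2.2) j.1 j.2.1
              (hdeg j.2.1 j.2.2)))).symm
    rw [← hr]
    exact hmem)
  obtain ⟨τ⟩ := Groth.Agent.Lib.Helper60.TwistLib.tilde_tensor_iso 𝒜 𝒩 0 (n : ℤ) (n : ℤ) (by simp)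
    (by
      intro x
      obtain ⟨i, hi⟩ := hcov x
      refine ⟨UU 𝒜 f i, hi, n, 0, ⟨f i ^ n, pow_mem_deg 𝒜 f hf i n⟩,
        ⟨1, SetLike.GradedOne.one_mem⟩, by simp, fun y hy => ⟨?_, ?_⟩⟩
      · exact pow_notMem_of_le 𝒜 f le_rfl n y hy
      · exact Groth.Agent.Lib.Helper60.TwistLib.one_notMem 𝒜 y)
  obtain ⟨p, hp⟩ : ∃ p : FlatMod.freeMod (Proj 𝒜) (Fintype.card (ι × ↥T)) ⟶
      GrMod.tilde 𝒜 𝒩 (n : ℤ), Epi p := ⟨_, hepi⟩
  refine ⟨Fintype.card (ι × ↥T), p ≫ (eqToIso (grTilde_eq' 𝒜 N 𝒩 (n : ℤ)).symm ≪≫ τ.symm ≪≫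
    Groth.Agent.Lib.Helper60.TensorLib.tensorModCongrLeft e (Twist.twist 𝒜 (n : ℤ))).hom, ?_⟩
  exact epi_comp _ _

end Final

end Groth.Agent.Lib.Helper60.SerreGen
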