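import Groth.Agent.Lib.Helper60.SerreGen

set_option autoImplicit false
set_option linter.unusedSectionVars false
universe u
open CategoryTheory CategoryTheory.Limits AlgebraicGeometry TopologicalSpace Opposite DirectSum

namespace Groth.Agent.Lib.Helper60.SerreGen

open Groth.Agent.Lib.Helper60.TildeSec Groth.Agent.Lib.Helper60.ProjFrac
open Groth.Agent.Lib.Helper60.SerreMod Groth.Agent.Lib.Helper60.TwistLib
open Groth.Agent.Lib.Lead.QCohAff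

section General

variable {X : Scheme.{u}}

/-- finitely many morphisms whose images locally generate give an epimorphism from the coproduct -/
theorem epi_desc_of_locally_mem_closure (F : X.Modules) {k : ℕ} (G : Fin k → X.Modules)
    (φ : ∀ i, G i ⟶ F)
    (h : ∀ (U : X.Opens) (t : Γ(F, U)) (x : X), x ∈ U → ∃ (W : X.Opens) (hW : W ≤ U), x ∈ W ∧
      (F.presheaf.map (homOfLE hW).op).hom t ∈
        AddSubgroup.closure (⋃ i, Set.range ((φ i).app W).hom)) :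
    Epi (Sigma.desc φ : (∐ G) ⟶ F) := by
  set p : (∐ G) ⟶ F := Sigma.desc φ with hp
  have h1 : Epi ((SheafOfModules.toSheaf _).map p) := by
    refine (CategoryTheory.Sheaf.isLocallySurjective_iff_epi'
      (J := Opens.grothendieckTopology X) AddCommGrpCat _).mp ?_
    refine (TopCat.Presheaf.isLocallySurjective_iff (X := X.toTopCat) _).mpr ?_
    intro U t x hx
    obtain ⟨W, hW, hxW, hmem⟩ := h U t x hx
    refine ⟨W, hW, ?_, hxW⟩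
    have e1 : ∀ i, Sigma.ι G i ≫ p = φ i := by
      intro i
      rw [hp, Sigma.ι_desc]
    have hle : AddSubgroup.closure (⋃ i, Set.range ((φ i).app W).hom) ≤
        AddMonoidHom.range (Scheme.Modules.Hom.app p W).hom := by
      rw [AddSubgroup.closure_le]
      intro v hv
      obtain ⟨i, c, rfl⟩ := Set.mem_iUnion.1 hv
      refine ⟨((Sigma.ι G i).app W).hom c, ?_⟩
      exact congrArg (fun ψ : G i ⟶ F => (Scheme.Modules.Hom.app ψ W).hom c) (e1 i)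
    exact hle hmem
  exact Functor.epi_of_epi_map (SheafOfModules.toSheaf _) h1

end General


section Mul

variable {R A : Type u} [CommRing R] [CommRing A] [Algebra R A] (𝒜 : ℕ → Submodule R A)
  [GradedAlgebra 𝒜]
variable {N : Type u} [AddCommGroup N] [Module R N] [Module A N] [IsScalarTower R A N]
  (𝒩 : ℕ → Submodule R N) [DirectSum.Decomposition 𝒩] [SetLike.GradedSMul 𝒜 𝒩]

/-- the section `x / 1` of `N(n)~` over any open -/
noncomputable def numSec (n : ℕ) (x : N) (hx : x ∈ 𝒩 n) (W : (Proj 𝒜).Opens) :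
    Γ(GrTilde.tilde 𝒜 𝒩 (n : ℤ), W) :=
  fracSec 𝒜 𝒩 x hx 1 SetLike.GradedOne.one_mem (by simp) W (fun y _ => one_notMem 𝒜 y)

/-- multiplication by a homogeneous element of degree `n`, as a morphism `O(-n) ⟶ N~` -/
noncomputable def mulHom (n : ℕ) (x : N) (hx : x ∈ 𝒩 n) :
    Twist.twist 𝒜 (-(n : ℤ)) ⟶ GrTilde.tilde 𝒜 𝒩 0 :=
  ⟨PresheafOfModules.homMk
    { app := fun U => AddCommGrpCat.ofHom
        ((actΓ 𝒜 𝒩 (n : ℤ) (-(n : ℤ)) 0 (by simp) U.unop (numSec 𝒜 𝒩 n x hx U.unop)).toAddMonoidHom)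
      naturality := fun U V i => by
        ext t
        exact (actΓ_natural 𝒜 𝒩 (n : ℤ) (-(n : ℤ)) 0 (by simp) i.unop
          (numSec 𝒜 𝒩 n x hx U.unop) t).symm }
    (fun U r t => (actΓ 𝒜 𝒩 (n : ℤ) (-(n : ℤ)) 0 (by simp) U.unop
      (numSec 𝒜 𝒩 n x hx U.unop)).map_smul r t)⟩

theorem mulHom_app (n : ℕ) (x : N) (hx : x ∈ 𝒩 n) (W : (Proj 𝒜).Opens)
    (t : Γ(Twist.twist 𝒜 (-(n : ℤ)), W)) :
    ((mulHom 𝒜 𝒩 n x hx).app W).hom t =
      actΓ 𝒜 𝒩 (n : ℤ) (-(n : ℤ)) 0 (by simp) W (numSec 𝒜 𝒩 n x hx W) t := rfl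

end Mul

section Span2

variable {R A : Type u} [CommRing R] [CommRing A] [Algebra R A] (𝒜 : ℕ → Submodule R A)
  [GradedAlgebra 𝒜]
variable {N : Type u} [AddCommGroup N] [Module R N] [Module A N] [IsScalarTower R A N]
  (𝒩 : ℕ → Submodule R N) [DirectSum.Decomposition 𝒩] [SetLike.GradedSMul 𝒜 𝒩]
variable {ι : Type u} (f : ι → A) (hf : ∀ i, f i ∈ 𝒜 1)
  (hcov : ∀ y : Proj 𝒜, ∃ i, y ∈ UU 𝒜 f i)
variable (T : Finset N) (deg : N → ℕ) (hdeg : ∀ x ∈ T, x ∈ 𝒩 (deg x))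
  (hT : Submodule.span A (T : Set N) = ⊤) (n : ℕ) (hn : ∀ x ∈ T, deg x ≤ n)

/-- evaluation at a point, as an additive map (frozen family) -/
noncomputable def valHom' (k : ℤ) {W : (Proj 𝒜).Opens} (z : W) :
    Γ(GrTilde.tilde 𝒜 𝒩 k, W) →+ GrMod.LocMod 𝒜 (M := N) z.1 :=
  AddMonoidHom.mk' (fun s => GrMod.val (show Γ(GrMod.tilde 𝒜 𝒩 k, W) from s) z) (fun _ _ => rfl)

include hcov hT in
/-- the morphisms `O(-n) ⟶ N~`, `s ↦ s • f i ^ (n - deg x) • x`, are locally jointly surjective -/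
theorem local_mem_closure (U : (Proj 𝒜).Opens) (t : Γ(GrTilde.tilde 𝒜 𝒩 0, U)) (y : Proj 𝒜)
    (hy : y ∈ U) :
    ∃ (W : (Proj 𝒜).Opens) (hW : W ≤ U), y ∈ W ∧
      ((GrTilde.tilde 𝒜 𝒩 0).presheaf.map (homOfLE hW).op).hom t ∈
        AddSubgroup.closure (⋃ j : ι × ↥T, Set.range
          ((mulHom 𝒜 𝒩 n (f j.1 ^ (n - deg j.2.1) • j.2.1)
            (pow_smul_mem 𝒜 𝒩 f hf (hn j.2.1 j.2.2) j.1 (hdeg j.2.1 j.2.2))).app W).hom) := by
  classical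
  obtain ⟨i, hyi⟩ := hcov y
  have hU' : ∀ z ∈ U ⊓ UU 𝒜 f i, f i ∉ z.asHomogeneousIdeal :=
    fun z hz => notMem_of_le 𝒜 f inf_le_right z hz
  obtain ⟨dh, e, h, m, hh, hdh, hm, he, hhy, -, hval⟩ :=
    exists_local_frac 𝒜 𝒩 one_pos (hf i) (U ⊓ UU 𝒜 f i) hU'
      (GrMod.res 𝒜 𝒩 0 (homOfLE (inf_le_left : U ⊓ UU 𝒜 f i ≤ U)).op
        (show GrMod.sect 𝒜 𝒩 0 (op U) from t)) ⟨y, hy, hyi⟩
  have he' : e = dh := by omega
  subst he'
  have hm' : f i ^ n • m ∈ 𝒩 (n + e) :=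
    SetLike.GradedSMul.smul_mem (pow_mem_deg 𝒜 f hf i n) hm
  have hmT : f i ^ n • m ∈ Submodule.span A (T : Set N) := by rw [hT]; trivial
  obtain ⟨a, -, ha⟩ := Submodule.mem_span_finset.1 hmT
  have hb : ∑ x ∈ T, ((decompose 𝒜 (a x) (n + e - deg x) : 𝒜 (n + e - deg x)) : A) • x =
      f i ^ n • m := by
    have h1 := congrArg (fun v => ((decompose 𝒩 v (n + e) : 𝒩 (n + e)) : N)) ha
    simp only at h1
    rw [DirectSum.decompose_of_mem_same 𝒩 hm'] at h1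
    rw [← h1, DirectSum.decompose_sum, DFinsupp.finsetSum_apply, AddSubmonoidClass.coe_finsetSum]
    refine Finset.sum_congr rfl (fun x hx => ?_)
    rw [Groth.Agent.Lib.Helper60.VeroneseFG.coe_decompose_smul_of_mem 𝒜 𝒩 (hdeg x hx) (a x),
      if_pos (by have := hn x hx; omega)]
  have hWi : (U ⊓ UU 𝒜 f i) ⊓ Proj.basicOpen 𝒜 h ≤ UU 𝒜 f i := inf_le_left.trans inf_le_right
  have hWh : ∀ z ∈ (U ⊓ UU 𝒜 f i) ⊓ Proj.basicOpen 𝒜 h, h ∉ z.asHomogeneousIdeal :=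
    fun z hz => (Proj.mem_basicOpen 𝒜 h z).1 hz.2
  have hWhf : ∀ (k : ℕ), ∀ z ∈ (U ⊓ UU 𝒜 f i) ⊓ Proj.basicOpen 𝒜 h,
      f i ^ n * h * f i ^ k ∉ z.asHomogeneousIdeal := fun k z hz hmem => by
    rcases z.isPrime.mem_or_mem hmem with h1 | h1
    · rcases z.isPrime.mem_or_mem h1 with h2 | h2
      · exact pow_notMem_of_le 𝒜 f hWi n z hz h2
      · exact hWh z hz h2
    · exact pow_notMem_of_le 𝒜 f hWi k z hz h1
  refine ⟨(U ⊓ UU 𝒜 f i) ⊓ Proj.basicOpen 𝒜 h, inf_le_left.trans inf_le_left,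
    ⟨⟨hy, hyi⟩, (Proj.mem_basicOpen 𝒜 h y).2 hhy⟩, ?_⟩
  have hdenmem : ∀ x : ↥T, f i ^ n * h * f i ^ (n - deg x.1) ∈ 𝒜 (n + e + (n - deg x.1)) :=
    fun x => SetLike.GradedMul.mul_mem (SetLike.GradedMul.mul_mem (pow_mem_deg 𝒜 f hf i n) hh)
      (pow_mem_deg 𝒜 f hf i (n - deg x.1))
  have key : ((GrTilde.tilde 𝒜 𝒩 0).presheaf.map (homOfLE (inf_le_left.trans inf_le_left :
      (U ⊓ UU 𝒜 f i) ⊓ Proj.basicOpen 𝒜 h ≤ U)).op).hom t =
      ∑ x : ↥T, ((mulHom 𝒜 𝒩 n (f i ^ (n - deg x.1) • x.1)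
        (pow_smul_mem 𝒜 𝒩 f hf (hn x.1 x.2) i (hdeg x.1 x.2))).app _).hom
        (Groth.Agent.Lib.Helper60.TwistLib.genSec (-(n : ℤ))
          (decompose 𝒜 (a x.1) (n + e - deg x.1))
          (⟨f i ^ n * h * f i ^ (n - deg x.1), hdenmem x⟩ : 𝒜 (n + e + (n - deg x.1)))
          (by have := hn x.1 x.2; omega) ((U ⊓ UU 𝒜 f i) ⊓ Proj.basicOpen 𝒜 h)
          (hWhf (n - deg x.1))) := by
    apply sec_ext (ℳ := 𝒩) 𝒜
    intro z
    have h1 : GrMod.val (show Γ(GrMod.tilde 𝒜 𝒩 0, _) from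
        ((GrTilde.tilde 𝒜 𝒩 0).presheaf.map (homOfLE (inf_le_left.trans inf_le_left :
          (U ⊓ UU 𝒜 f i) ⊓ Proj.basicOpen 𝒜 h ≤ U)).op).hom t) z =
        LocalizedModule.mk m ⟨h, hWh z.1 z.2⟩ := hval ⟨z.1, z.2.1⟩ (hWh z.1 z.2)
    refine h1.trans ?_
    change _ = valHom' 𝒜 𝒩 0 z _
    refine Eq.trans ?_ (map_sum (valHom' 𝒜 𝒩 0 z) _ _).symm
    have h2 : (LocalizedModule.mk m ⟨h, hWh z.1 z.2⟩ : GrMod.LocMod 𝒜 (M := N) z.1) =
        LocalizedModule.mk (f i ^ n • m) ((⟨f i ^ n, pow_notMem_of_le 𝒜 f hWi n z.1 z.2⟩ :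
          z.1.asHomogeneousIdeal.toIdeal.primeCompl) * ⟨h, hWh z.1 z.2⟩) :=
      (LocalizedModule.mk_cancel_common_left
        (⟨f i ^ n, pow_notMem_of_le 𝒜 f hWi n z.1 z.2⟩ :
          z.1.asHomogeneousIdeal.toIdeal.primeCompl) ⟨h, hWh z.1 z.2⟩ m).symm
    rw [h2, ← hb, mk_sum_same, ← Finset.sum_coe_sort T]
    refine Finset.sum_congr rfl (fun x _ => ?_)
    change _ = (Localization.mk _ _ : Localization.AtPrime z.1.asHomogeneousIdeal.toIdeal) •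
      (LocalizedModule.mk (f i ^ (n - deg x.1) • x.1) _ : GrMod.LocMod 𝒜 (M := N) z.1)
    rw [LocalizedModule.mk_smul_mk, LocalizedModule.mk_eq]
    refine ⟨1, ?_⟩
    simp only [one_smul, Submonoid.smul_def, Submonoid.coe_mul, smul_smul]
    congr 1
    ring
  rw [key]
  refine AddSubgroup.sum_mem _ (fun x _ => AddSubgroup.subset_closure ?_)
  exact Set.mem_iUnion.2 ⟨(i, x), ⟨_, rfl⟩⟩

end Span2

section Final2

/-- **Serre**: `F` is a quotient of a finite sum of copies of `O(-n)` for `n ≫ 0`. -/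
theorem exists_epi_negTwist {R A : Type u} [CommRing R] [CommRing A] [Algebra R A]
    (𝒜 : ℕ → Submodule R A) [GradedAlgebra 𝒜]
    {ι : Type u} [Finite ι] (f : ι → A) (hf : ∀ i, f i ∈ 𝒜 1)
    (hcov : ∀ y : Proj 𝒜, ∃ i, y ∈ UU 𝒜 f i)
    (F : (Proj 𝒜).Modules) [F.IsQuasicoherent]
    (hFT : SheafOfModules.IsFiniteType (R := (Proj 𝒜).ringCatSheaf) F) :
    ∃ n₀ : ℕ, ∀ n : ℕ, n₀ ≤ n →
      ∃ (k : ℕ) (p : (∐ fun _ : Fin k => Twist.twist 𝒜 (-(n : ℤ))) ⟶ F), Epi p := by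
  classical
  obtain ⟨N, _, _, _, _, 𝒩, _, _, hfin, ⟨e⟩⟩ := serre_final_fin 𝒜 f hf hcov F hFT
  obtain ⟨T, hTh, hT⟩ := exists_homogeneous_generators 𝒜 𝒩
  choose! deg hdeg using hTh
  refine ⟨T.sup deg, fun n hn => ?_⟩
  have hn' : ∀ x ∈ T, deg x ≤ n := fun x hx => (Finset.le_sup hx).trans hn
  cases nonempty_fintype ι
  obtain ⟨eqv⟩ : Nonempty ((ι × ↥T) ≃ Fin (Fintype.card (ι × ↥T))) := ⟨Fintype.equivFin _⟩
  have hepi := epi_desc_of_locally_mem_closure (GrTilde.tilde 𝒜 𝒩 0)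
    (fun _ : Fin (Fintype.card (ι × ↥T)) => Twist.twist 𝒜 (-(n : ℤ)))
    (fun j => mulHom 𝒜 𝒩 n (f (eqv.symm j).1 ^ (n - deg (eqv.symm j).2.1) • (eqv.symm j).2.1)
      (pow_smul_mem 𝒜 𝒩 f hf (hn' _ (eqv.symm j).2.2) (eqv.symm j).1 (hdeg _ (eqv.symm j).2.2)))
    (by
      intro U t x hx
      obtain ⟨W, hW, hxW, hmem⟩ := local_mem_closure 𝒜 𝒩 f hf hcov T deg hdeg hT n hn' U t x hx
      refine ⟨W, hW, hxW, ?_⟩
      refine (AddSubgroup.closure_mono ?_) hmem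
      intro v hv
      obtain ⟨j, hj⟩ := Set.mem_iUnion.1 hv
      refine Set.mem_iUnion.2 ⟨eqv j, ?_⟩
      rw [Equiv.symm_apply_apply]
      exact hj)
  obtain ⟨p, hp⟩ : ∃ p : (∐ fun _ : Fin (Fintype.card (ι × ↥T)) => Twist.twist 𝒜 (-(n : ℤ))) ⟶
      GrTilde.tilde 𝒜 𝒩 0, Epi p := ⟨_, hepi⟩
  exact ⟨Fintype.card (ι × ↥T), p ≫ e.hom, epi_comp _ _⟩

end Final2

end Groth.Agent.Lib.Helper60.SerreGen
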