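import Groth.Agent.Lib.Helper60.SerreExt2

set_option autoImplicit false
universe u
open CategoryTheory AlgebraicGeometry TopologicalSpace Opposite DirectSum

namespace Groth.Agent.Lib.Helper60.SerreMod

open Groth.Agent.Lib.Helper60.TildeSec Groth.Agent.Lib.Helper60.ProjFrac
open Groth.Agent.Lib.Lead.QCohAff

section Loc

variable {A σ : Type u} [CommRing A] [SetLike σ A] [AddSubgroupClass σ A] (𝒜 : ℕ → σ) [GradedRing 𝒜]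
variable {ι : Type u} (f : ι → A) (hf : ∀ i, f i ∈ 𝒜 1) (F : (Proj 𝒜).Modules)

/-- every function on `D₊(f i)` is `a / (f i) ^ e` -/
theorem exists_eq_coef (i : ι) (g : Γ(Proj 𝒜, UU 𝒜 f i)) :
    ∃ (e : ℕ) (a : A) (ha : a ∈ 𝒜 e), g = coef 𝒜 f hf a ha i (UU 𝒜 f i) le_rfl := by
  obtain ⟨k, a, ha, hval⟩ := exists_eq_away 𝒜 one_pos (hf i) g
  rw [mul_one] at ha
  refine ⟨k, a, ha, ?_⟩
  apply oext
  intro y
  exact hval y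

/-- every function is locally a fraction -/
theorem exists_eq_fr (V : (Proj 𝒜).Opens) (r : Γ(Proj 𝒜, V)) (y : Proj 𝒜) (hy : y ∈ V) :
    ∃ (W : (Proj 𝒜).Opens) (hWV : W ≤ V) (e : ℕ) (a b : A) (ha : a ∈ 𝒜 e) (hb : b ∈ 𝒜 e)
      (hW : ∀ z ∈ W, b ∉ z.asHomogeneousIdeal), y ∈ W ∧ rX 𝒜 hWV r = fr 𝒜 a b ha hb W hW := by
  obtain ⟨W, hyW, iW, e, ⟨a, ha⟩, ⟨b, hb⟩, hnin, hval⟩ := (show OSec 𝒜 V from r).2 ⟨y, hy⟩
  refine ⟨W, iW.le, e, a, b, ha, hb, fun z hz => hnin ⟨z, hz⟩, hyW, ?_⟩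
  apply oext
  intro z
  rw [oval_fr]
  exact congrArg HomogeneousLocalization.val (hval z)

theorem coef_pow {d : ℕ} (a : A) (ha : a ∈ 𝒜 d) (i : ι) (V : (Proj 𝒜).Opens)
    (hV : V ≤ UU 𝒜 f i) (p : ℕ) :
    coef 𝒜 f hf a ha i V hV ^ p =
      coef 𝒜 f hf (a ^ p) (SetLike.pow_mem_graded p ha) i V hV := by
  unfold coef
  rw [fr_pow]
  apply fr_eq_of_mul_eq
  rw [smul_eq_mul, ← pow_mul, mul_comm p d]

theorem coef_pow_self (i j : ι) (V : (Proj 𝒜).Opens) (hV : V ≤ UU 𝒜 f j) (N : ℕ) :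
    coef 𝒜 f hf (f i ^ N) (pow_mem_deg 𝒜 f hf i N) j V hV = ratio 𝒜 f hf i j V hV ^ N := by
  unfold coef ratio
  rw [fr_pow]
  apply fr_eq_of_mul_eq
  ring

theorem coef_self (i : ι) (V : (Proj 𝒜).Opens) (hV : V ≤ UU 𝒜 f i) (N : ℕ) :
    coef 𝒜 f hf (f i ^ N) (pow_mem_deg 𝒜 f hf i N) i V hV = 1 := by
  rw [coef_pow_self, ratio_self, one_pow]

theorem rX_coef {d : ℕ} (a : A) (ha : a ∈ 𝒜 d) (i : ι) {V W : (Proj 𝒜).Opens} (h : W ≤ V)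
    (hV : V ≤ UU 𝒜 f i) :
    rX 𝒜 h (coef 𝒜 f hf a ha i V hV) = coef 𝒜 f hf a ha i W (h.trans hV) := rfl

theorem rep_key {e : ℕ} (a : A) (ha : a ∈ 𝒜 e) (i : ι) (W : (Proj 𝒜).Opens) (hWi : W ≤ UU 𝒜 f i)
    (hWa : ∀ z ∈ W, a ∉ z.asHomogeneousIdeal) (p K : ℕ) :
    fr 𝒜 (f i ^ (p • e + K)) (a ^ p * f i ^ K) (pow_mem_deg 𝒜 f hf i _)
      (SetLike.GradedMul.mul_mem (SetLike.pow_mem_graded p ha) (pow_mem_deg 𝒜 f hf i K)) W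
      (fun z hz hmem => by
        rcases z.isPrime.mem_or_mem hmem with h | h
        · exact hWa z hz (z.isPrime.mem_of_pow_mem _ h)
        · exact notMem_of_le 𝒜 f hWi z hz (z.isPrime.mem_of_pow_mem _ h)) *
      coef 𝒜 f hf (a ^ p) (SetLike.pow_mem_graded p ha) i W hWi = 1 := by
  unfold coef
  rw [fr_mul]
  rw [← fr_self 𝒜 (f i ^ (p • e + K) * a ^ p) (SetLike.GradedMul.mul_mem (pow_mem_deg 𝒜 f hf i _)
    (SetLike.pow_mem_graded p ha)) _ (fun z hz hmem => by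
      rcases z.isPrime.mem_or_mem hmem with h | h
      · exact notMem_of_le 𝒜 f hWi z hz (z.isPrime.mem_of_pow_mem _ h)
      · exact hWa z hz (z.isPrime.mem_of_pow_mem _ h))]
  apply fr_eq_of_mul_eq
  rw [pow_add]
  ring

variable [F.IsQuasicoherent] [Finite ι]

/-- **Local injectivity**: a twisted family whose `i`-component vanishes near `y` is killed by a
homogeneous element not in `y`. -/
theorem exists_smulFam_eq_zero (K : ℕ) (n : ∀ i, Γ(F, UU 𝒜 f i)) (hn : IsTw 𝒜 f hf F K n) (i : ι)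
    (W : (Proj 𝒜).Opens) (hW : W ≤ UU 𝒜 f i) (y : Proj 𝒜) (hy : y ∈ W)
    (h0 : rF 𝒜 F hW (n i) = 0) :
    ∃ (e : ℕ) (c : A) (hc : c ∈ 𝒜 e), c ∉ y.asHomogeneousIdeal ∧ smulFam 𝒜 f hf F c hc n = 0 := by
  obtain ⟨g, hgW, hyg⟩ := (isAffineOpen_UU 𝒜 f hf i).exists_basicOpen_le (V := W) ⟨y, hy⟩ (hW hy)
  obtain ⟨e, a, ha, rfl⟩ := exists_eq_coef 𝒜 f hf i g
  have h1 : rF 𝒜 F ((Proj 𝒜).basicOpen_le (coef 𝒜 f hf a ha i (UU 𝒜 f i) le_rfl)) (n i) = 0 := by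
    have := congrArg (rF 𝒜 F hgW) h0
    rw [rF_rF, rF_zero] at this
    exact this
  obtain ⟨p, hp⟩ := (LocOn.of_isQuasicoherent F (isAffineOpen_UU 𝒜 f hf i)).1 _ (n i) h1
  rw [coef_pow] at hp
  have hn' := smulFam_isTw 𝒜 f hf F (a ^ p) (SetLike.pow_mem_graded p ha) n hn
  obtain ⟨N, hN⟩ := exists_pow_smul_eq_zero 𝒜 f hf F _ _ hn' i hp
  have hay : a ∉ y.asHomogeneousIdeal := ((mem_basicOpen_fr 𝒜 _ _ _ _ _ _ y).1 hyg).2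
  have hfy : f i ∉ y.asHomogeneousIdeal := notMem_of_le 𝒜 f hW y hy
  refine ⟨_, f i ^ N * a ^ p, SetLike.GradedMul.mul_mem (pow_mem_deg 𝒜 f hf i N)
    (SetLike.pow_mem_graded p ha), ?_, ?_⟩
  · intro hmem
    rcases y.isPrime.mem_or_mem hmem with h | h
    · exact hfy (y.isPrime.mem_of_pow_mem _ h)
    · exact hay (y.isPrime.mem_of_pow_mem _ h)
  · funext j
    change coef 𝒜 f hf _ _ j _ _ • n j = 0
    rw [coef_mul 𝒜 f hf (f i ^ N) (a ^ p) (pow_mem_deg 𝒜 f hf i N) (SetLike.pow_mem_graded p ha),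
      coef_pow_self, mul_smul]
    exact hN j

/-- **Local representation**: every section of `F` is locally `(f i ^ k / h) • m i` for a twisted
family `m` of degree `k` and `h` homogeneous of degree `k`. -/
theorem exists_rep (hcov : ∀ y : Proj 𝒜, ∃ i, y ∈ UU 𝒜 f i) (V : (Proj 𝒜).Opens) (t : Γ(F, V))
    (y : Proj 𝒜) (hy : y ∈ V) :
    ∃ (i : ι) (k : ℕ) (m : ∀ i, Γ(F, UU 𝒜 f i)) (_ : IsTw 𝒜 f hf F k m) (h : A) (hh : h ∈ 𝒜 k)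
      (W : (Proj 𝒜).Opens) (hWV : W ≤ V) (hWi : W ≤ UU 𝒜 f i)
      (hWh : ∀ z ∈ W, h ∉ z.asHomogeneousIdeal), y ∈ W ∧
        rF 𝒜 F hWV t = fr 𝒜 (f i ^ k) h (pow_mem_deg 𝒜 f hf i k) hh W hWh • rF 𝒜 F hWi (m i) := by
  obtain ⟨i, hyi⟩ := hcov y
  obtain ⟨g, hgW, hyg⟩ := (isAffineOpen_UU 𝒜 f hf i).exists_basicOpen_le (V := V ⊓ UU 𝒜 f i)
    ⟨y, hy, hyi⟩ hyi
  obtain ⟨e, a, ha, rfl⟩ := exists_eq_coef 𝒜 f hf i g
  obtain ⟨p, s, hs⟩ := (LocOn.of_isQuasicoherent F (isAffineOpen_UU 𝒜 f hf i)).2 _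
    (rF 𝒜 F (hgW.trans inf_le_left) t)
  obtain ⟨K, m, hm, hmi⟩ := exists_extension 𝒜 f hf F i s
  have hWi : (Proj 𝒜).basicOpen (coef 𝒜 f hf a ha i (UU 𝒜 f i) le_rfl) ≤ UU 𝒜 f i :=
    (Proj 𝒜).basicOpen_le _
  have hWa : ∀ z ∈ (Proj 𝒜).basicOpen (coef 𝒜 f hf a ha i (UU 𝒜 f i) le_rfl),
      a ∉ z.asHomogeneousIdeal := fun z hz => ((mem_basicOpen_fr 𝒜 _ _ _ _ _ _ z).1 hz).2
  have hWf : ∀ z ∈ (Proj 𝒜).basicOpen (coef 𝒜 f hf a ha i (UU 𝒜 f i) le_rfl),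
      f i ∉ z.asHomogeneousIdeal := fun z hz => notMem_of_le 𝒜 f hWi z hz
  have hWh : ∀ z ∈ (Proj 𝒜).basicOpen (coef 𝒜 f hf a ha i (UU 𝒜 f i) le_rfl),
      a ^ p * f i ^ K ∉ z.asHomogeneousIdeal := by
    intro z hz hmem
    rcases z.isPrime.mem_or_mem hmem with h | h
    · exact hWa z hz (z.isPrime.mem_of_pow_mem _ h)
    · exact hWf z hz (z.isPrime.mem_of_pow_mem _ h)
  refine ⟨i, p • e + K, smulFam 𝒜 f hf F (f i ^ (p • e)) (pow_mem_deg 𝒜 f hf i _) m,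
    smulFam_isTw 𝒜 f hf F _ _ m hm, a ^ p * f i ^ K,
    SetLike.GradedMul.mul_mem (SetLike.pow_mem_graded p ha) (pow_mem_deg 𝒜 f hf i K), _,
    hgW.trans inf_le_left, hWi, hWh, hyg, ?_⟩
  change _ = _ • rF 𝒜 F hWi (coef 𝒜 f hf _ _ i _ _ • m i)
  rw [coef_self, one_smul, hmi]
  have hs' : rF 𝒜 F hWi s = (rX 𝒜 hWi (coef 𝒜 f hf a ha i (UU 𝒜 f i) le_rfl)) ^ p •
      rF 𝒜 F (hgW.trans inf_le_left) t := hs
  rw [hs', smul_smul, rX_coef, coef_pow, rep_key 𝒜 f hf a ha i _ hWi hWa p K, one_smul]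

end Loc

end Groth.Agent.Lib.Helper60.SerreMod
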