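import Groth.Agent.Lib.Helper60.ProjFrac

set_option autoImplicit false
universe u
open CategoryTheory AlgebraicGeometry TopologicalSpace Opposite

namespace Groth.Agent.Lib.Helper60.SerreMod

open Groth.Agent.Lib.Helper60.TildeSec Groth.Agent.Lib.Helper60.ProjFrac
open Groth.Agent.Lib.Lead.QCohAff

variable {A σ : Type u} [CommRing A] [SetLike σ A] [AddSubgroupClass σ A] (𝒜 : ℕ → σ) [GradedRing 𝒜]
variable {ι : Type u} (f : ι → A) (hf : ∀ i, f i ∈ 𝒜 1) (F : (Proj 𝒜).Modules)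

/-- the standard opens `D₊(f i)` -/
abbrev UU (i : ι) : (Proj 𝒜).Opens := Proj.basicOpen 𝒜 (f i)

theorem notMem_of_le {i : ι} {V : (Proj 𝒜).Opens} (hV : V ≤ UU 𝒜 f i) (y : Proj 𝒜) (hy : y ∈ V) :
    f i ∉ y.asHomogeneousIdeal := (Proj.mem_basicOpen 𝒜 (f i) y).1 (hV hy)

include hf in
theorem pow_mem_deg (i : ι) (d : ℕ) : f i ^ d ∈ 𝒜 d := by
  have := SetLike.pow_mem_graded d (hf i)
  rwa [smul_eq_mul, mul_one] at this

theorem pow_notMem_of_le {i : ι} {V : (Proj 𝒜).Opens} (hV : V ≤ UU 𝒜 f i) (d : ℕ) (y : Proj 𝒜)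
    (hy : y ∈ V) : f i ^ d ∉ y.asHomogeneousIdeal := fun h =>
  notMem_of_le 𝒜 f hV y hy (y.isPrime.mem_of_pow_mem d h)

/-- `f i / f j` on an open inside `D₊(f j)` -/
noncomputable def ratio (i j : ι) (V : (Proj 𝒜).Opens) (hV : V ≤ UU 𝒜 f j) : Γ(Proj 𝒜, V) :=
  fr 𝒜 (f i) (f j) (hf i) (hf j) V (notMem_of_le 𝒜 f hV)

/-- `a / (f i) ^ d` on an open inside `D₊(f i)` -/
noncomputable def coef {d : ℕ} (a : A) (ha : a ∈ 𝒜 d) (i : ι) (V : (Proj 𝒜).Opens)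
    (hV : V ≤ UU 𝒜 f i) : Γ(Proj 𝒜, V) :=
  fr 𝒜 a (f i ^ d) ha (pow_mem_deg 𝒜 f hf i d) V (pow_notMem_of_le 𝒜 f hV d)

theorem coef_eq_ratio_pow_mul {d : ℕ} (a : A) (ha : a ∈ 𝒜 d) (i j : ι) (V : (Proj 𝒜).Opens)
    (hVi : V ≤ UU 𝒜 f i) (hVj : V ≤ UU 𝒜 f j) :
    coef 𝒜 f hf a ha j V hVj = ratio 𝒜 f hf i j V hVj ^ d * coef 𝒜 f hf a ha i V hVi := by
  unfold coef ratio
  rw [fr_pow, fr_mul]
  apply fr_eq_of_mul_eq
  ring

/-- twisted families of degree `n` -/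
def IsTw (n : ℕ) (m : ∀ i, Γ(F, UU 𝒜 f i)) : Prop :=
  ∀ i j, F.presheaf.map (homOfLE (inf_le_right : UU 𝒜 f i ⊓ UU 𝒜 f j ≤ UU 𝒜 f j)).op (m j) =
    ratio 𝒜 f hf i j (UU 𝒜 f i ⊓ UU 𝒜 f j) inf_le_right ^ n •
      F.presheaf.map (homOfLE (inf_le_left : UU 𝒜 f i ⊓ UU 𝒜 f j ≤ UU 𝒜 f i)).op (m i)

/-- the group of twisted families -/
def Mn (n : ℕ) : AddSubgroup (∀ i, Γ(F, UU 𝒜 f i)) where
  carrier := {m | IsTw 𝒜 f hf F n m}
  add_mem' := by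
    intro m m' hm hm' i j
    simp only [Pi.add_apply, map_add, smul_add]
    rw [hm i j, hm' i j]
  zero_mem' := by
    intro i j
    simp
  neg_mem' := by
    intro m hm i j
    simp only [Pi.neg_apply, map_neg, smul_neg]
    rw [hm i j]

/-- the action of a homogeneous element on families -/
noncomputable def smulFam {d : ℕ} (a : A) (ha : a ∈ 𝒜 d) (m : ∀ i, Γ(F, UU 𝒜 f i)) :
    ∀ i, Γ(F, UU 𝒜 f i) :=
  fun i => coef 𝒜 f hf a ha i (UU 𝒜 f i) le_rfl • m i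

theorem smulFam_isTw {d n : ℕ} (a : A) (ha : a ∈ 𝒜 d) (m : ∀ i, Γ(F, UU 𝒜 f i))
    (hm : IsTw 𝒜 f hf F n m) : IsTw 𝒜 f hf F (d + n) (smulFam 𝒜 f hf F a ha m) := by
  intro i j
  unfold smulFam
  rw [res_smul, res_smul, hm i j, smul_smul, smul_smul]
  congr 1
  change coef 𝒜 f hf a ha j _ inf_le_right * _ = _ * coef 𝒜 f hf a ha i _ inf_le_left
  rw [coef_eq_ratio_pow_mul 𝒜 f hf a ha i j _ inf_le_left inf_le_right, pow_add]
  ring

section Graded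

open DirectSum

/-- graded pieces as types -/
abbrev MnT (n : ℕ) : Type u := ↥(Mn 𝒜 f hf F n)

theorem coef_one (i : ι) (V : (Proj 𝒜).Opens) (hV : V ≤ UU 𝒜 f i) :
    coef 𝒜 f hf (1 : A) SetLike.GradedOne.one_mem i V hV = 1 := by
  unfold coef
  rw [← fr_self 𝒜 (1 : A) SetLike.GradedOne.one_mem V (fun y _ h =>
    y.isPrime.ne_top ((Ideal.eq_top_iff_one _).2 h))]
  apply fr_eq_of_mul_eq
  simp

theorem coef_mul {d d' : ℕ} (a a' : A) (ha : a ∈ 𝒜 d) (ha' : a' ∈ 𝒜 d') (i : ι)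
    (V : (Proj 𝒜).Opens) (hV : V ≤ UU 𝒜 f i) :
    coef 𝒜 f hf (a * a') (SetLike.GradedMul.mul_mem ha ha') i V hV =
      coef 𝒜 f hf a ha i V hV * coef 𝒜 f hf a' ha' i V hV := by
  unfold coef
  rw [fr_mul]
  apply fr_eq_of_mul_eq
  ring

theorem coef_add {d : ℕ} (a a' : A) (ha : a ∈ 𝒜 d) (ha' : a' ∈ 𝒜 d) (i : ι)
    (V : (Proj 𝒜).Opens) (hV : V ≤ UU 𝒜 f i) :
    coef 𝒜 f hf (a + a') (add_mem ha ha') i V hV =
      coef 𝒜 f hf a ha i V hV + coef 𝒜 f hf a' ha' i V hV := by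
  unfold coef
  rw [fr_add]

theorem coef_zero {d : ℕ} (i : ι) (V : (Proj 𝒜).Opens) (hV : V ≤ UU 𝒜 f i) :
    coef 𝒜 f hf (0 : A) (zero_mem (𝒜 d)) i V hV = 0 := by
  unfold coef
  rw [fr_zero]

noncomputable instance gsmul : GradedMonoid.GSMul (fun i => ↥(𝒜 i)) (fun n => MnT 𝒜 f hf F n) where
  smul a m := ⟨smulFam 𝒜 f hf F a.1 a.2 m.1, smulFam_isTw 𝒜 f hf F a.1 a.2 m.1 m.2⟩

theorem gsmul_coe {d n : ℕ} (a : 𝒜 d) (m : MnT 𝒜 f hf F n) (i : ι) :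
    (GradedMonoid.GSMul.smul (A := fun i => ↥(𝒜 i)) (M := fun n => MnT 𝒜 f hf F n) a m).1 i =
      coef 𝒜 f hf a.1 a.2 i (UU 𝒜 f i) le_rfl • m.1 i := rfl

noncomputable instance gmodule : DirectSum.Gmodule (fun i => ↥(𝒜 i)) (fun n => MnT 𝒜 f hf F n) where
  one_smul := by
    rintro ⟨n, m⟩
    refine Sigma.subtype_ext (zero_add n) ?_
    funext i
    change coef 𝒜 f hf (1 : A) _ i _ _ • m.1 i = m.1 i
    rw [coef_one, one_smul]
  mul_smul := by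
    rintro ⟨d, a⟩ ⟨d', a'⟩ ⟨n, m⟩
    refine Sigma.subtype_ext (add_assoc d d' n) ?_
    funext i
    change coef 𝒜 f hf (a.1 * a'.1) _ i _ _ • m.1 i =
      coef 𝒜 f hf a.1 a.2 i _ _ • (coef 𝒜 f hf a'.1 a'.2 i _ _ • m.1 i)
    rw [coef_mul 𝒜 f hf a.1 a'.1 a.2 a'.2, mul_smul]
  smul_add := by
    intro d n a m m'
    apply Subtype.ext
    funext i
    rw [AddSubgroup.coe_add, Pi.add_apply, gsmul_coe, gsmul_coe, gsmul_coe, AddSubgroup.coe_add,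
      Pi.add_apply, smul_add]
  smul_zero := by
    intro d n a
    apply Subtype.ext
    funext i
    rw [gsmul_coe, AddSubgroup.coe_zero, Pi.zero_apply, smul_zero]
    rfl
  add_smul := by
    intro d n a a' m
    apply Subtype.ext
    funext i
    rw [AddSubgroup.coe_add, Pi.add_apply, gsmul_coe, gsmul_coe, gsmul_coe]
    change coef 𝒜 f hf (a.1 + a'.1) _ i _ _ • m.1 i = _
    rw [coef_add 𝒜 f hf a.1 a'.1 a.2 a'.2, add_smul]
  zero_smul := by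
    intro d n m
    apply Subtype.ext
    funext i
    rw [gsmul_coe, AddSubgroup.coe_zero, Pi.zero_apply]
    change coef 𝒜 f hf (0 : A) _ i _ _ • m.1 i = 0
    rw [coef_zero, zero_smul]

/-- the graded module of twisted families -/
abbrev MM : Type u := ⨁ n, MnT 𝒜 f hf F n

noncomputable instance moduleDS : Module (⨁ i, 𝒜 i) (MM 𝒜 f hf F) :=
  DirectSum.Gmodule.module _ _

noncomputable instance moduleA : Module A (MM 𝒜 f hf F) :=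
  Module.compHom _ (DirectSum.decomposeRingEquiv 𝒜 : A ≃+* ⨁ i, 𝒜 i).toRingHom

theorem smul_of {d n : ℕ} (a : A) (ha : a ∈ 𝒜 d) (m : MnT 𝒜 f hf F n) :
    a • (DirectSum.of (fun n => MnT 𝒜 f hf F n) n m : MM 𝒜 f hf F) =
      DirectSum.of (fun n => MnT 𝒜 f hf F n) (d + n)
        (GradedMonoid.GSMul.smul (A := fun i => ↥(𝒜 i)) (M := fun n => MnT 𝒜 f hf F n)
          (⟨a, ha⟩ : 𝒜 d) m) := by
  change (DirectSum.decompose 𝒜 a) • (DirectSum.of (fun n => MnT 𝒜 f hf F n) n m : MM 𝒜 f hf F) = _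
  rw [DirectSum.decompose_of_mem 𝒜 ha, DirectSum.Gmodule.of_smul_of]
  rfl

end Graded

end Groth.Agent.Lib.Helper60.SerreMod
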