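import Groth.Agent.Lib.Helper60.SerreMod

set_option autoImplicit false
universe u
open CategoryTheory AlgebraicGeometry TopologicalSpace Opposite DirectSum

namespace Groth.Agent.Lib.Helper60.SerreMod

open Groth.Agent.Lib.Helper60.TildeSec Groth.Agent.Lib.Helper60.ProjFrac
open Groth.Agent.Lib.Lead.QCohAff

section Final

variable {R A : Type u} [CommRing R] [CommRing A] [Algebra R A] (𝒜 : ℕ → Submodule R A)
  [GradedAlgebra 𝒜]
variable {ι : Type u} (f : ι → A) (hf : ∀ i, f i ∈ 𝒜 1) (F : (Proj 𝒜).Modules)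

noncomputable instance moduleR : Module R (MM 𝒜 f hf F) := Module.compHom _ (algebraMap R A)

instance : IsScalarTower R A (MM 𝒜 f hf F) := ⟨fun r a m => by
  change (r • a) • m = algebraMap R A r • (a • m)
  rw [Algebra.smul_def, mul_smul]⟩

theorem of_mem_range_of_eq {k n : ℕ} (h : k = n) (y : MnT 𝒜 f hf F k) :
    (DirectSum.of (fun n => MnT 𝒜 f hf F n) k y : MM 𝒜 f hf F) ∈
      Set.range (DirectSum.of (fun n => MnT 𝒜 f hf F n) n) := by
  subst h
  exact ⟨y, rfl⟩

/-- the graded pieces inside the direct sum -/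
def pieces (n : ℕ) : Submodule R (MM 𝒜 f hf F) where
  carrier := Set.range (DirectSum.of (fun n => MnT 𝒜 f hf F n) n)
  add_mem' := by
    rintro _ _ ⟨x, rfl⟩ ⟨y, rfl⟩
    exact ⟨x + y, map_add _ _ _⟩
  zero_mem' := ⟨0, map_zero _⟩
  smul_mem' := by
    rintro r _ ⟨x, rfl⟩
    change algebraMap R A r • (DirectSum.of (fun n => MnT 𝒜 f hf F n) n x : MM 𝒜 f hf F) ∈ _
    rw [smul_of 𝒜 f hf F _ (SetLike.algebraMap_mem_graded 𝒜 r) x]
    exact of_mem_range_of_eq 𝒜 f hf F (zero_add n) _

theorem mem_pieces (n : ℕ) (x : MM 𝒜 f hf F) :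
    x ∈ pieces 𝒜 f hf F n ↔ ∃ y, DirectSum.of (fun n => MnT 𝒜 f hf F n) n y = x := Iff.rfl

instance gradedSMul : SetLike.GradedSMul 𝒜 (pieces 𝒜 f hf F) where
  smul_mem := by
    rintro d n a _ ha ⟨x, rfl⟩
    rw [smul_of 𝒜 f hf F a ha x]
    exact ⟨_, rfl⟩

/-- the map of a graded piece to the corresponding submodule -/
noncomputable def toPiece (n : ℕ) : MnT 𝒜 f hf F n →+ ↥(pieces 𝒜 f hf F n) where
  toFun x := ⟨DirectSum.of (fun n => MnT 𝒜 f hf F n) n x, ⟨x, rfl⟩⟩
  map_zero' := Subtype.ext (map_zero _)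
  map_add' x y := Subtype.ext (map_add _ x y)

noncomputable instance decomposition : DirectSum.Decomposition (pieces 𝒜 f hf F) where
  decompose' := DirectSum.toAddMonoid (fun n =>
    (DirectSum.of (fun n => ↥(pieces 𝒜 f hf F n)) n).comp (toPiece 𝒜 f hf F n))
  left_inv := by
    intro x
    induction x using DirectSum.induction_on with
    | zero => simp
    | of n y =>
      rw [DirectSum.toAddMonoid_of, AddMonoidHom.comp_apply, DirectSum.coeAddMonoidHom_of]
      rfl
    | add x y hx hy => rw [map_add, map_add, hx, hy]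
  right_inv := by
    intro z
    induction z using DirectSum.induction_on with
    | zero => simp
    | of n w =>
      obtain ⟨w, ⟨y, rfl⟩⟩ := w
      rw [DirectSum.coeAddMonoidHom_of]
      change DirectSum.toAddMonoid _ (DirectSum.of (fun n => MnT 𝒜 f hf F n) n y) = _
      rw [DirectSum.toAddMonoid_of, AddMonoidHom.comp_apply]
      rfl
    | add x y hx hy => rw [map_add, map_add, hx, hy]

end Final

end Groth.Agent.Lib.Helper60.SerreMod
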