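import Groth.Agent.Lib.Helper60.SerreLoc

set_option autoImplicit false
universe u
open CategoryTheory AlgebraicGeometry TopologicalSpace Opposite DirectSum

namespace Groth.Agent.Lib.Helper60.SerreMod

open Groth.Agent.Lib.Helper60.TildeSec Groth.Agent.Lib.Helper60.ProjFrac
open Groth.Agent.Lib.Lead.QCohAff

section Rep

variable {R A : Type u} [CommRing R] [CommRing A] [Algebra R A] (𝒜 : ℕ → Submodule R A)
  [GradedAlgebra 𝒜]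
variable {ι : Type u} (f : ι → A) (hf : ∀ i, f i ∈ 𝒜 1) (F : (Proj 𝒜).Modules)

/-- homogeneous elements of the graded module -/
noncomputable abbrev ofM (k : ℕ) (m : ∀ i, Γ(F, UU 𝒜 f i)) (hm : IsTw 𝒜 f hf F k m) : MM 𝒜 f hf F :=
  DirectSum.of (fun n => MnT 𝒜 f hf F n) k ⟨m, hm⟩

theorem ofM_mem (k : ℕ) (m : ∀ i, Γ(F, UU 𝒜 f i)) (hm : IsTw 𝒜 f hf F k m) :
    ofM 𝒜 f hf F k m hm ∈ pieces 𝒜 f hf F k := ⟨_, rfl⟩

theorem smul_ofM {d k : ℕ} (a : A) (ha : a ∈ 𝒜 d) (m : ∀ i, Γ(F, UU 𝒜 f i))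
    (hm : IsTw 𝒜 f hf F k m) :
    a • ofM 𝒜 f hf F k m hm =
      ofM 𝒜 f hf F (d + k) (smulFam 𝒜 f hf F a ha m) (smulFam_isTw 𝒜 f hf F a ha m hm) :=
  smul_of 𝒜 f hf F a ha ⟨m, hm⟩

theorem ofM_congr {k k' : ℕ} (h : k = k') (m m' : ∀ i, Γ(F, UU 𝒜 f i)) (hm : IsTw 𝒜 f hf F k m)
    (hm' : IsTw 𝒜 f hf F k' m') (hmm : m = m') : ofM 𝒜 f hf F k m hm = ofM 𝒜 f hf F k' m' hm' := by
  subst h
  subst hmm
  rfl

theorem ofM_add {k : ℕ} (m m' : ∀ i, Γ(F, UU 𝒜 f i)) (hm : IsTw 𝒜 f hf F k m)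
    (hm' : IsTw 𝒜 f hf F k m') :
    ofM 𝒜 f hf F k (m + m') ((Mn 𝒜 f hf F k).add_mem hm hm') =
      ofM 𝒜 f hf F k m hm + ofM 𝒜 f hf F k m' hm' :=
  map_add (DirectSum.of (fun n => MnT 𝒜 f hf F n) k) ⟨m, hm⟩ ⟨m', hm'⟩

theorem isTw_cast {k k' : ℕ} (h : k = k') (m : ∀ i, Γ(F, UU 𝒜 f i)) (hm : IsTw 𝒜 f hf F k m) :
    IsTw 𝒜 f hf F k' m := h ▸ hm

theorem smulFam_add {d : ℕ} (a : A) (ha : a ∈ 𝒜 d) (m m' : ∀ i, Γ(F, UU 𝒜 f i)) :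
    smulFam 𝒜 f hf F a ha (m + m') = smulFam 𝒜 f hf F a ha m + smulFam 𝒜 f hf F a ha m' := by
  funext i
  exact smul_add _ _ _

theorem smulFam_sub {d : ℕ} (a : A) (ha : a ∈ 𝒜 d) (m m' : ∀ i, Γ(F, UU 𝒜 f i)) :
    smulFam 𝒜 f hf F a ha (m - m') = smulFam 𝒜 f hf F a ha m - smulFam 𝒜 f hf F a ha m' := by
  funext i
  exact smul_sub _ _ _

/-- restriction of the twisting relation to a smaller open -/
theorem isTw_res {k : ℕ} (m : ∀ i, Γ(F, UU 𝒜 f i)) (hm : IsTw 𝒜 f hf F k m) (i j : ι)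
    (W : (Proj 𝒜).Opens) (hWi : W ≤ UU 𝒜 f i) (hWj : W ≤ UU 𝒜 f j) :
    rF 𝒜 F hWj (m j) = ratio 𝒜 f hf i j W hWj ^ k • rF 𝒜 F hWi (m i) := by
  have h := congrArg (rF 𝒜 F (le_inf hWi hWj)) (hm i j)
  change rF 𝒜 F _ (rF 𝒜 F _ (m j)) = rF 𝒜 F _ (_ • rF 𝒜 F _ (m i)) at h
  rw [rF_rF, rF_smul, rF_rF, rX_pow, rX_ratio] at h
  exact h

/-- change of index in a local representation -/
theorem rep_change_index {k : ℕ} (m : ∀ i, Γ(F, UU 𝒜 f i)) (hm : IsTw 𝒜 f hf F k m) (i j : ι)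
    (W : (Proj 𝒜).Opens) (hWi : W ≤ UU 𝒜 f i) (hWj : W ≤ UU 𝒜 f j) (h : A) (hh : h ∈ 𝒜 k)
    (hWh : ∀ z ∈ W, h ∉ z.asHomogeneousIdeal) :
    fr 𝒜 (f j ^ k) h (pow_mem_deg 𝒜 f hf j k) hh W hWh • rF 𝒜 F hWj (m j) =
      fr 𝒜 (f i ^ k) h (pow_mem_deg 𝒜 f hf i k) hh W hWh • rF 𝒜 F hWi (m i) := by
  rw [isTw_res 𝒜 f hf F m hm i j W hWi hWj, smul_smul]
  congr 1
  unfold ratio
  rw [fr_pow, fr_mul]
  apply fr_eq_of_mul_eq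
  ring

/-- local representation data of a section `t` at `y` with respect to the chart `i` -/
structure RepData {V : (Proj 𝒜).Opens} (t : Γ(F, V)) (y : Proj 𝒜) (i : ι) where
  k : ℕ
  m : ∀ i, Γ(F, UU 𝒜 f i)
  hm : IsTw 𝒜 f hf F k m
  h : A
  hh : h ∈ 𝒜 k
  W : (Proj 𝒜).Opens
  hWV : W ≤ V
  hWi : W ≤ UU 𝒜 f i
  hWh : ∀ z ∈ W, h ∉ z.asHomogeneousIdeal
  hyW : y ∈ W
  eq : rF 𝒜 F hWV t = fr 𝒜 (f i ^ k) h (pow_mem_deg 𝒜 f hf i k) hh W hWh • rF 𝒜 F hWi (m i)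

variable {𝒜 f hf F}

/-- the value at `y` determined by representation data -/
noncomputable def RepData.val {V : (Proj 𝒜).Opens} {t : Γ(F, V)} {y : Proj 𝒜} {i : ι}
    (D : RepData 𝒜 f hf F t y i) : GrMod.LocMod 𝒜 (M := MM 𝒜 f hf F) y :=
  LocalizedModule.mk (ofM 𝒜 f hf F D.k D.m D.hm) ⟨D.h, D.hWh y D.hyW⟩

/-- change of chart -/
noncomputable def RepData.changeIndex {V : (Proj 𝒜).Opens} {t : Γ(F, V)} {y : Proj 𝒜} {i : ι}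
    (D : RepData 𝒜 f hf F t y i) (j : ι) (hyj : y ∈ UU 𝒜 f j) : RepData 𝒜 f hf F t y j where
  k := D.k
  m := D.m
  hm := D.hm
  h := D.h
  hh := D.hh
  W := D.W ⊓ UU 𝒜 f j
  hWV := inf_le_left.trans D.hWV
  hWi := inf_le_right
  hWh := fun z hz => D.hWh z hz.1
  hyW := ⟨D.hyW, hyj⟩
  eq := by
    rw [rep_change_index 𝒜 f hf F D.m D.hm i j _ (inf_le_left.trans D.hWi) inf_le_right]
    have := congrArg (rF 𝒜 F (inf_le_left : D.W ⊓ UU 𝒜 f j ≤ D.W)) D.eq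
    rw [rF_rF, rF_smul, rF_rF] at this
    exact this

theorem RepData.changeIndex_val {V : (Proj 𝒜).Opens} {t : Γ(F, V)} {y : Proj 𝒜} {i : ι}
    (D : RepData 𝒜 f hf F t y i) (j : ι) (hyj : y ∈ UU 𝒜 f j) :
    (D.changeIndex j hyj).val = D.val := rfl

/-- the same data at another point of `W` -/
noncomputable def RepData.move {V : (Proj 𝒜).Opens} {t : Γ(F, V)} {y : Proj 𝒜} {i : ι}
    (D : RepData 𝒜 f hf F t y i) (z : Proj 𝒜) (hz : z ∈ D.W) : RepData 𝒜 f hf F t z i :=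
  { D with hyW := hz }

theorem RepData.move_val {V : (Proj 𝒜).Opens} {t : Γ(F, V)} {y : Proj 𝒜} {i : ι}
    (D : RepData 𝒜 f hf F t y i) (z : Proj 𝒜) (hz : z ∈ D.W) :
    (D.move z hz).val = LocalizedModule.mk (ofM 𝒜 f hf F D.k D.m D.hm) ⟨D.h, D.hWh z hz⟩ := rfl

/-- restriction of the data to a smaller open -/
noncomputable def RepData.res {V V' : (Proj 𝒜).Opens} {t : Γ(F, V)} {y : Proj 𝒜} {i : ι}
    (D : RepData 𝒜 f hf F t y i) (hV : V' ≤ V) (hy : y ∈ V') :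
    RepData 𝒜 f hf F (rF 𝒜 F hV t) y i where
  k := D.k
  m := D.m
  hm := D.hm
  h := D.h
  hh := D.hh
  W := D.W ⊓ V'
  hWV := inf_le_right
  hWi := inf_le_left.trans D.hWi
  hWh := fun z hz => D.hWh z hz.1
  hyW := ⟨D.hyW, hy⟩
  eq := by
    have := congrArg (rF 𝒜 F (inf_le_left : D.W ⊓ V' ≤ D.W)) D.eq
    rw [rF_rF, rF_smul, rF_rF] at this
    rw [rF_rF]
    exact this

theorem RepData.res_val {V V' : (Proj 𝒜).Opens} {t : Γ(F, V)} {y : Proj 𝒜} {i : ι}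
    (D : RepData 𝒜 f hf F t y i) (hV : V' ≤ V) (hy : y ∈ V') :
    (D.res hV hy).val = D.val := rfl

/-- the key vanishing: two representations at the same chart give a twisted family whose
`i`-component vanishes near `y` -/
theorem RepData.diff_res_eq_zero {V : (Proj 𝒜).Opens} {t : Γ(F, V)} {y : Proj 𝒜} {i : ι}
    (D D' : RepData 𝒜 f hf F t y i) :
    rF 𝒜 F (inf_le_left.trans D.hWi : D.W ⊓ D'.W ≤ UU 𝒜 f i)
      ((smulFam 𝒜 f hf F D'.h D'.hh D.m - smulFam 𝒜 f hf F D.h D.hh D'.m) i) = 0 := by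
  have e1 := congrArg (rF 𝒜 F (inf_le_left : D.W ⊓ D'.W ≤ D.W)) D.eq
  have e2 := congrArg (rF 𝒜 F (inf_le_right : D.W ⊓ D'.W ≤ D'.W)) D'.eq
  rw [rF_rF, rF_smul, rF_rF] at e1 e2
  rw [e1] at e2
  have hWh : ∀ z ∈ D.W ⊓ D'.W, D.h ∉ z.asHomogeneousIdeal := fun z hz => D.hWh z hz.1
  have hWh' : ∀ z ∈ D.W ⊓ D'.W, D'.h ∉ z.asHomogeneousIdeal := fun z hz => D'.hWh z hz.2
  have hWi : D.W ⊓ D'.W ≤ UU 𝒜 f i := inf_le_left.trans D.hWi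
  change rX 𝒜 _ (fr 𝒜 (f i ^ D.k) D.h _ D.hh D.W D.hWh) • rF 𝒜 F hWi (D.m i) =
    rX 𝒜 _ (fr 𝒜 (f i ^ D'.k) D'.h _ D'.hh D'.W D'.hWh) • rF 𝒜 F hWi (D'.m i) at e2
  change rF 𝒜 F hWi (coef 𝒜 f hf D'.h D'.hh i (UU 𝒜 f i) le_rfl • D.m i -
    coef 𝒜 f hf D.h D.hh i (UU 𝒜 f i) le_rfl • D'.m i) = 0
  rw [rF_sub, rF_smul, rF_smul, rX_coef, rX_coef, sub_eq_zero]
  have e3 := congrArg (fun x => (coef 𝒜 f hf D.h D.hh i (D.W ⊓ D'.W) hWi *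
    coef 𝒜 f hf D'.h D'.hh i (D.W ⊓ D'.W) hWi) • x) e2
  simp only [smul_smul] at e3
  have k1 : coef 𝒜 f hf D.h D.hh i (D.W ⊓ D'.W) hWi * coef 𝒜 f hf D'.h D'.hh i (D.W ⊓ D'.W) hWi *
      rX 𝒜 inf_le_left (fr 𝒜 (f i ^ D.k) D.h (pow_mem_deg 𝒜 f hf i D.k) D.hh D.W D.hWh) =
      coef 𝒜 f hf D'.h D'.hh i (D.W ⊓ D'.W) hWi := by
    change _ * fr 𝒜 (f i ^ D.k) D.h (pow_mem_deg 𝒜 f hf i D.k) D.hh (D.W ⊓ D'.W) hWh = _
    unfold coef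
    rw [fr_mul, fr_mul]
    apply fr_eq_of_mul_eq
    ring
  have k2 : coef 𝒜 f hf D.h D.hh i (D.W ⊓ D'.W) hWi * coef 𝒜 f hf D'.h D'.hh i (D.W ⊓ D'.W) hWi *
      rX 𝒜 inf_le_right (fr 𝒜 (f i ^ D'.k) D'.h (pow_mem_deg 𝒜 f hf i D'.k) D'.hh D'.W D'.hWh) =
      coef 𝒜 f hf D.h D.hh i (D.W ⊓ D'.W) hWi := by
    change _ * fr 𝒜 (f i ^ D'.k) D'.h (pow_mem_deg 𝒜 f hf i D'.k) D'.hh (D.W ⊓ D'.W) hWh' = _
    unfold coef
    rw [fr_mul, fr_mul]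
    apply fr_eq_of_mul_eq
    ring
  rw [k1, k2] at e3
  exact e3

/-- sum of representations at the same chart -/
noncomputable def RepData.add {V : (Proj 𝒜).Opens} {t t' : Γ(F, V)} {y : Proj 𝒜} {i : ι}
    (D : RepData 𝒜 f hf F t y i) (D' : RepData 𝒜 f hf F t' y i) :
    RepData 𝒜 f hf F (t + t') y i where
  k := D'.k + D.k
  m := smulFam 𝒜 f hf F D'.h D'.hh D.m + smulFam 𝒜 f hf F D.h D.hh D'.m
  hm := (Mn 𝒜 f hf F (D'.k + D.k)).add_mem (smulFam_isTw 𝒜 f hf F _ _ _ D.hm)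
      (isTw_cast 𝒜 f hf F (Nat.add_comm _ _) _ (smulFam_isTw 𝒜 f hf F _ _ _ D'.hm))
  h := D'.h * D.h
  hh := SetLike.GradedMul.mul_mem D'.hh D.hh
  W := D.W ⊓ D'.W
  hWV := inf_le_left.trans D.hWV
  hWi := inf_le_left.trans D.hWi
  hWh := fun z hz hmem => (z.isPrime.mem_or_mem hmem).elim (D'.hWh z hz.2) (D.hWh z hz.1)
  hyW := ⟨D.hyW, D'.hyW⟩
  eq := by
    have hWi : D.W ⊓ D'.W ≤ UU 𝒜 f i := inf_le_left.trans D.hWi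
    have hWh : ∀ z ∈ D.W ⊓ D'.W, D.h ∉ z.asHomogeneousIdeal := fun z hz => D.hWh z hz.1
    have hWh' : ∀ z ∈ D.W ⊓ D'.W, D'.h ∉ z.asHomogeneousIdeal := fun z hz => D'.hWh z hz.2
    have e1 := congrArg (rF 𝒜 F (inf_le_left : D.W ⊓ D'.W ≤ D.W)) D.eq
    have e2 := congrArg (rF 𝒜 F (inf_le_right : D.W ⊓ D'.W ≤ D'.W)) D'.eq
    rw [rF_rF, rF_smul, rF_rF] at e1 e2
    change _ = rX 𝒜 _ (fr 𝒜 (f i ^ D.k) D.h _ D.hh D.W D.hWh) • rF 𝒜 F hWi (D.m i) at e1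
    change _ = rX 𝒜 _ (fr 𝒜 (f i ^ D'.k) D'.h _ D'.hh D'.W D'.hWh) • rF 𝒜 F hWi (D'.m i) at e2
    rw [rF_add, e1, e2]
    change _ = _ • rF 𝒜 F hWi (coef 𝒜 f hf D'.h D'.hh i (UU 𝒜 f i) le_rfl • D.m i +
      coef 𝒜 f hf D.h D.hh i (UU 𝒜 f i) le_rfl • D'.m i)
    rw [rF_add, rF_smul, rF_smul, rX_coef, rX_coef, smul_add, smul_smul, smul_smul]
    congr 2
    · change fr 𝒜 (f i ^ D.k) D.h (pow_mem_deg 𝒜 f hf i D.k) D.hh (D.W ⊓ D'.W) hWh = _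
      unfold coef
      rw [fr_mul]
      apply fr_eq_of_mul_eq
      rw [pow_add]
      ring
    · change fr 𝒜 (f i ^ D'.k) D'.h (pow_mem_deg 𝒜 f hf i D'.k) D'.hh (D.W ⊓ D'.W) hWh' = _
      unfold coef
      rw [fr_mul]
      apply fr_eq_of_mul_eq
      rw [pow_add]
      ring

theorem RepData.add_val {V : (Proj 𝒜).Opens} {t t' : Γ(F, V)} {y : Proj 𝒜} {i : ι}
    (D : RepData 𝒜 f hf F t y i) (D' : RepData 𝒜 f hf F t' y i) :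
    (D.add D').val = D.val + D'.val := by
  unfold RepData.val
  rw [LocalizedModule.mk_add_mk]
  have h1 : ofM 𝒜 f hf F (D.add D').k (D.add D').m (D.add D').hm =
      D'.h • ofM 𝒜 f hf F D.k D.m D.hm + D.h • ofM 𝒜 f hf F D'.k D'.m D'.hm := by
    rw [smul_ofM 𝒜 f hf F D'.h D'.hh, smul_ofM 𝒜 f hf F D.h D.hh]
    rw [ofM_congr 𝒜 f hf F (Nat.add_comm D.k D'.k) (smulFam 𝒜 f hf F D.h D.hh D'.m)
      (smulFam 𝒜 f hf F D.h D.hh D'.m) _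
      (isTw_cast 𝒜 f hf F (Nat.add_comm _ _) _ (smulFam_isTw 𝒜 f hf F _ _ _ D'.hm)) rfl]
    exact ofM_add 𝒜 f hf F _ _ _ _
  rw [h1]
  rw [LocalizedModule.mk_eq]
  refine ⟨1, ?_⟩
  rw [one_smul, one_smul]
  congr 1
  apply Subtype.ext
  change D.h * D'.h = D'.h * D.h
  ring

theorem rX_rX {U V W : (Proj 𝒜).Opens} (h1 : V ≤ U) (h2 : W ≤ V) (r : Γ(Proj 𝒜, U)) :
    rX 𝒜 h2 (rX 𝒜 h1 r) = rX 𝒜 (h2.trans h1) r := res_resX h1 h2 r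

/-- scalar multiple of a representation -/
theorem RepData.exists_smul {V : (Proj 𝒜).Opens} {t : Γ(F, V)} {y : Proj 𝒜} {i : ι}
    (r : Γ(Proj 𝒜, V)) (D : RepData 𝒜 f hf F t y i) (hy : y ∈ V) :
    ∃ D' : RepData 𝒜 f hf F (r • t) y i, D'.val = oval 𝒜 r ⟨y, hy⟩ • D.val := by
  obtain ⟨W₁, hW₁V, e, a, b, ha, hb, hW₁b, hyW₁, hr⟩ := exists_eq_fr 𝒜 V r y hy
  have hWi : W₁ ⊓ D.W ≤ UU 𝒜 f i := inf_le_right.trans D.hWi
  have hWh : ∀ z ∈ W₁ ⊓ D.W, D.h ∉ z.asHomogeneousIdeal := fun z hz => D.hWh z hz.2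
  have hWb : ∀ z ∈ W₁ ⊓ D.W, b ∉ z.asHomogeneousIdeal := fun z hz => hW₁b z hz.1
  refine ⟨{ k := e + D.k
            m := smulFam 𝒜 f hf F a ha D.m
            hm := smulFam_isTw 𝒜 f hf F a ha D.m D.hm
            h := b * D.h
            hh := SetLike.GradedMul.mul_mem hb D.hh
            W := W₁ ⊓ D.W
            hWV := inf_le_left.trans hW₁V
            hWi := hWi
            hWh := fun z hz hmem => (z.isPrime.mem_or_mem hmem).elim (hWb z hz) (hWh z hz)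
            hyW := ⟨hyW₁, D.hyW⟩
            eq := ?_ }, ?_⟩
  · have e1 := congrArg (rF 𝒜 F (inf_le_right : W₁ ⊓ D.W ≤ D.W)) D.eq
    rw [rF_rF, rF_smul, rF_rF] at e1
    have e2 := congrArg (rX 𝒜 (inf_le_left : W₁ ⊓ D.W ≤ W₁)) hr
    rw [rX_rX] at e2
    rw [rF_smul, e1, e2, smul_smul]
    change _ = _ • rF 𝒜 F hWi (coef 𝒜 f hf a ha i (UU 𝒜 f i) le_rfl • D.m i)
    rw [rF_smul, rX_coef, smul_smul]
    congr 1
    change fr 𝒜 a b ha hb (W₁ ⊓ D.W) hWb *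
      fr 𝒜 (f i ^ D.k) D.h (pow_mem_deg 𝒜 f hf i D.k) D.hh (W₁ ⊓ D.W) hWh = _
    unfold coef
    rw [fr_mul, fr_mul]
    apply fr_eq_of_mul_eq
    rw [pow_add]
    ring
  · have hval : oval 𝒜 r ⟨y, hy⟩ = Localization.mk a ⟨b, hW₁b y hyW₁⟩ := by
      have := congrArg (fun q => oval 𝒜 q ⟨y, hyW₁⟩) hr
      exact this
    rw [hval]
    unfold RepData.val
    change LocalizedModule.mk (ofM 𝒜 f hf F (e + D.k) (smulFam 𝒜 f hf F a ha D.m) _) _ = _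
    rw [LocalizedModule.mk_smul_mk, smul_ofM 𝒜 f hf F a ha]
    rfl

section QC

variable [F.IsQuasicoherent] [Finite ι]

/-- **Uniqueness of the value** -/
theorem RepData.val_eq {V : (Proj 𝒜).Opens} {t : Γ(F, V)} {y : Proj 𝒜} {i : ι}
    (D D' : RepData 𝒜 f hf F t y i) : D.val = D'.val := by
  have hTw : IsTw 𝒜 f hf F (D'.k + D.k)
      (smulFam 𝒜 f hf F D'.h D'.hh D.m - smulFam 𝒜 f hf F D.h D.hh D'.m) :=
    (Mn 𝒜 f hf F (D'.k + D.k)).sub_mem (smulFam_isTw 𝒜 f hf F _ _ _ D.hm)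
      (isTw_cast 𝒜 f hf F (Nat.add_comm _ _) _ (smulFam_isTw 𝒜 f hf F _ _ _ D'.hm))
  obtain ⟨e, c, hc, hcy, hzero⟩ := exists_smulFam_eq_zero 𝒜 f hf F _ _ hTw i (D.W ⊓ D'.W)
    (inf_le_left.trans D.hWi) y ⟨D.hyW, D'.hyW⟩ (D.diff_res_eq_zero D')
  rw [smulFam_sub, sub_eq_zero] at hzero
  unfold RepData.val
  rw [LocalizedModule.mk_eq]
  refine ⟨⟨c, hcy⟩, ?_⟩
  change c • D'.h • ofM 𝒜 f hf F D.k D.m D.hm = c • D.h • ofM 𝒜 f hf F D'.k D'.m D'.hm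
  rw [smul_ofM 𝒜 f hf F D'.h D'.hh, smul_ofM 𝒜 f hf F D.h D.hh, smul_ofM 𝒜 f hf F c hc,
    smul_ofM 𝒜 f hf F c hc]
  exact ofM_congr 𝒜 f hf F (by rw [Nat.add_comm D'.k]) _ _ _ _ hzero

section Map

variable (hf) (hcov : ∀ y : Proj 𝒜, ∃ i, y ∈ UU 𝒜 f i)

include hcov in
theorem exists_repData {V : (Proj 𝒜).Opens} (t : Γ(F, V)) (y : Proj 𝒜) (hy : y ∈ V) :
    ∃ i, Nonempty (RepData 𝒜 f hf F t y i) := by
  obtain ⟨i, k, m, hm, h, hh, W, hWV, hWi, hWh, hyW, e⟩ := exists_rep 𝒜 f hf F hcov V t y hy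
  exact ⟨i, ⟨⟨k, m, hm, h, hh, W, hWV, hWi, hWh, hyW, e⟩⟩⟩

/-- `v` is the value at `y` of the image of `t` -/
def IsRep {V : (Proj 𝒜).Opens} (t : Γ(F, V)) (y : Proj 𝒜)
    (v : GrMod.LocMod 𝒜 (M := MM 𝒜 f hf F) y) : Prop :=
  ∃ (i : ι) (D : RepData 𝒜 f hf F t y i), D.val = v

theorem IsRep.unique {V : (Proj 𝒜).Opens} {t : Γ(F, V)} {y : Proj 𝒜}
    {v v' : GrMod.LocMod 𝒜 (M := MM 𝒜 f hf F) y} (h : IsRep hf t y v) (h' : IsRep hf t y v') :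
    v = v' := by
  obtain ⟨i, D, rfl⟩ := h
  obtain ⟨i', D', rfl⟩ := h'
  rw [← D'.changeIndex_val i (D.hWi D.hyW)]
  exact D.val_eq _

include hcov in
theorem exists_isRep {V : (Proj 𝒜).Opens} (t : Γ(F, V)) (y : Proj 𝒜) (hy : y ∈ V) :
    ∃ v : GrMod.LocMod 𝒜 (M := MM 𝒜 f hf F) y, IsRep hf t y v := by
  obtain ⟨i, ⟨D⟩⟩ := exists_repData hf hcov t y hy
  exact ⟨D.val, i, D, rfl⟩

/-- the value of the image section -/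
noncomputable def psiVal {V : (Proj 𝒜).Opens} (t : Γ(F, V)) (y : V) :
    GrMod.LocMod 𝒜 (M := MM 𝒜 f hf F) y.1 :=
  Classical.choose (exists_isRep hf hcov t y.1 y.2)

theorem psiVal_spec {V : (Proj 𝒜).Opens} (t : Γ(F, V)) (y : V) : IsRep hf t y.1 (psiVal hf hcov t y) :=
  Classical.choose_spec (exists_isRep hf hcov t y.1 y.2)

theorem psiVal_eq {V : (Proj 𝒜).Opens} {t : Γ(F, V)} {y : V} {i : ι}
    (D : RepData 𝒜 f hf F t y.1 i) : psiVal hf hcov t y = D.val :=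
  IsRep.unique hf (psiVal_spec hf hcov t y) ⟨i, D, rfl⟩

omit [F.IsQuasicoherent] [Finite ι] in
theorem RepData.val_mem {V : (Proj 𝒜).Opens} {t : Γ(F, V)} {y : Proj 𝒜} {i : ι}
    (D : RepData 𝒜 f hf F t y i) : D.val ∈ GrMod.tildeAt 𝒜 (pieces 𝒜 f hf F) 0 y :=
  Submodule.subset_span ⟨D.k, D.k, ⟨_, ofM_mem 𝒜 f hf F D.k D.m D.hm⟩, ⟨D.h, D.hh⟩, D.hWh y D.hyW,
    by simp, rfl⟩

theorem psiVal_mem {V : (Proj 𝒜).Opens} (t : Γ(F, V)) (y : V) :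
    psiVal hf hcov t y ∈ GrMod.tildeAt 𝒜 (pieces 𝒜 f hf F) 0 y.1 := by
  obtain ⟨i, D, hD⟩ := psiVal_spec hf hcov t y
  rw [← hD]
  exact D.val_mem

/-- the image section -/
noncomputable def psiSec {V : (Proj 𝒜).Opens} (t : Γ(F, V)) :
    GrMod.sect 𝒜 (pieces 𝒜 f hf F) 0 (op V) :=
  ⟨fun y => ⟨psiVal hf hcov t y, psiVal_mem hf hcov t y⟩, fun y => by
    obtain ⟨i, D, hD⟩ := psiVal_spec hf hcov t y
    exact ⟨D.W, D.hyW, homOfLE D.hWV, D.k, D.k, ⟨_, ofM_mem 𝒜 f hf F D.k D.m D.hm⟩, ⟨D.h, D.hh⟩,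
      fun z => D.hWh z.1 z.2, Or.inl (by simp), fun z =>
        psiVal_eq hf hcov (t := t) (y := ⟨z.1, D.hWV z.2⟩) (D.move z.1 z.2)⟩⟩

theorem psiSec_val {V : (Proj 𝒜).Opens} (t : Γ(F, V)) (y : V) :
    (((psiSec hf hcov t).1 y : GrMod.tildeAt 𝒜 (pieces 𝒜 f hf F) 0 y.1) :
      GrMod.LocMod 𝒜 (M := MM 𝒜 f hf F) y.1) = psiVal hf hcov t y := rfl

end Map

end QC

end Rep

end Groth.Agent.Lib.Helper60.SerreMod
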