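import Mathlib

set_option autoImplicit false
universe u
open TensorProduct

namespace Groth.Agent.Lib.Helper60.TensorRestrict

/-- Tensor products over two rings related by a surjective ring map, of modules related by
semilinear additive equivalences, agree. -/
theorem exists_tensor_compare {S R : Type*} [CommRing S] [CommRing R] (σ : S →+* R)
    (hσ : Function.Surjective σ)
    {M₁ N₁ M₂ N₂ : Type*} [AddCommGroup M₁] [AddCommGroup N₁] [AddCommGroup M₂] [AddCommGroup N₂]
    [Module S M₁] [Module S N₁] [Module R M₂] [Module R N₂]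
    (eM : M₁ ≃+ M₂) (eN : N₁ ≃+ N₂)
    (hM : ∀ (s : S) (m : M₁), eM (s • m) = σ s • eM m)
    (hN : ∀ (s : S) (n : N₁), eN (s • n) = σ s • eN n) :
    ∃ c : M₁ ⊗[S] N₁ →+ M₂ ⊗[R] N₂, Function.Bijective c ∧
      ∀ m n, c (m ⊗ₜ[S] n) = eM m ⊗ₜ[R] eN n := by
  let f : M₁ →+ N₁ →+ M₂ ⊗[R] N₂ :=
    { toFun := fun m =>
        { toFun := fun n => eM m ⊗ₜ[R] eN n
          map_zero' := by rw [map_zero, tmul_zero]
          map_add' := fun _ _ => by rw [map_add, tmul_add] }
      map_zero' := by ext n; change eM 0 ⊗ₜ[R] eN n = 0; rw [map_zero, zero_tmul]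
      map_add' := fun a b => by
        ext n
        change eM (a + b) ⊗ₜ[R] eN n = eM a ⊗ₜ[R] eN n + eM b ⊗ₜ[R] eN n
        rw [map_add, add_tmul] }
  let g : M₂ →+ N₂ →+ M₁ ⊗[S] N₁ :=
    { toFun := fun m =>
        { toFun := fun n => eM.symm m ⊗ₜ[S] eN.symm n
          map_zero' := by rw [map_zero, tmul_zero]
          map_add' := fun _ _ => by rw [map_add, tmul_add] }
      map_zero' := by ext n; change eM.symm 0 ⊗ₜ[S] eN.symm n = 0; rw [map_zero, zero_tmul]
      map_add' := fun a b => by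
        ext n
        change eM.symm (a + b) ⊗ₜ[S] eN.symm n = eM.symm a ⊗ₜ[S] eN.symm n + eM.symm b ⊗ₜ[S] eN.symm n
        rw [map_add, add_tmul] }
  have hMs : ∀ (s : S) (m : M₂), eM.symm (σ s • m) = s • eM.symm m := by
    intro s m
    apply eM.injective
    rw [hM, AddEquiv.apply_symm_apply, AddEquiv.apply_symm_apply]
  have hNs : ∀ (s : S) (n : N₂), eN.symm (σ s • n) = s • eN.symm n := by
    intro s n
    apply eN.injective
    rw [hN, AddEquiv.apply_symm_apply, AddEquiv.apply_symm_apply]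
  let c : M₁ ⊗[S] N₁ →+ M₂ ⊗[R] N₂ := liftAddHom f (fun s m n => by
    change eM (s • m) ⊗ₜ[R] eN n = eM m ⊗ₜ[R] eN (s • n)
    rw [hM, hN, smul_tmul])
  let d : M₂ ⊗[R] N₂ →+ M₁ ⊗[S] N₁ := liftAddHom g (fun r m n => by
    obtain ⟨s, rfl⟩ := hσ r
    change eM.symm (σ s • m) ⊗ₜ[S] eN.symm n = eM.symm m ⊗ₜ[S] eN.symm (σ s • n)
    rw [hMs, hNs, smul_tmul])
  have hc : ∀ m n, c (m ⊗ₜ[S] n) = eM m ⊗ₜ[R] eN n := fun m n => liftAddHom_tmul _ _ m n
  have hd : ∀ m n, d (m ⊗ₜ[R] n) = eM.symm m ⊗ₜ[S] eN.symm n := fun m n => liftAddHom_tmul _ _ m n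
  refine ⟨c, ⟨?_, ?_⟩, hc⟩
  · apply Function.LeftInverse.injective (g := d)
    intro z
    induction z using TensorProduct.induction_on with
    | zero => simp
    | tmul m n => rw [hc, hd, AddEquiv.symm_apply_apply, AddEquiv.symm_apply_apply]
    | add a b ha hb => rw [map_add, map_add, ha, hb]
  · apply Function.RightInverse.surjective (g := d)
    intro z
    induction z using TensorProduct.induction_on with
    | zero => simp
    | tmul m n => rw [hd, hc, AddEquiv.apply_symm_apply, AddEquiv.apply_symm_apply]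
    | add a b ha hb => rw [map_add, map_add, ha, hb]

theorem addHom_ext' {R M N P : Type*} [CommSemiring R] [AddCommMonoid M] [AddCommMonoid N]
    [AddCommMonoid P] [Module R M] [Module R N] (f g : M ⊗[R] N →+ P)
    (h : ∀ m n, f (m ⊗ₜ[R] n) = g (m ⊗ₜ[R] n)) : f = g := by
  ext z
  induction z using TensorProduct.induction_on with
  | zero => rw [map_zero, map_zero]
  | tmul m n => exact h m n
  | add a b ha hb => rw [map_add, map_add, ha, hb]

end Groth.Agent.Lib.Helper60.TensorRestrict
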