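import Groth.Agent.Lib.Helper35.Gen
import Groth.Agent.Lib.Helper60.TensorMod
import Groth.Agent.Lib.Helper60.TensorRestrictAlg

set_option autoImplicit false
universe u
open CategoryTheory AlgebraicGeometry TopologicalSpace Opposite TensorProduct

namespace Groth.Agent.Lib.Helper60.TensorRestrict

open Groth.Agent.Lib.Helper35.Gen Groth.Agent.Lib.Helper60.TensorLib

variable {X Y : Scheme.{u}} (j : Y ⟶ X) [IsOpenImmersion j] (M N : X.Modules)

/-- cast -/
def toX (F : X.Modules) {V : Y.Opens} (m : Γ(F.restrict j, V)) : Γ(F, j ''ᵁ V) := m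
/-- cast -/
def ofX (F : X.Modules) {V : Y.Opens} (m : Γ(F, j ''ᵁ V)) : Γ(F.restrict j, V) := m

theorem toX_add (F : X.Modules) {V : Y.Opens} (m m' : Γ(F.restrict j, V)) :
    toX j F (m + m') = toX j F m + toX j F m' := rfl

theorem ofX_add (F : X.Modules) {V : Y.Opens} (m m' : Γ(F, j ''ᵁ V)) :
    ofX j F (m + m') = ofX j F m + ofX j F m' := rfl

theorem toX_smul (F : X.Modules) {V : Y.Opens} (r : Γ(Y, V)) (m : Γ(F.restrict j, V)) :
    toX j F (r • m) = ((j.appIso V).inv r : Γ(X, j ''ᵁ V)) • toX j F m := rfl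

theorem ofX_smul (F : X.Modules) {V : Y.Opens} (r : Γ(Y, V)) (m : Γ(F, j ''ᵁ V)) :
    ofX j F (((j.appIso V).inv r : Γ(X, j ''ᵁ V)) • m) = r • ofX j F m := rfl

/-- The pairing `M(jV) × N(jV) → (M ⊗ N)(jV)`, bilinear over `Γ(Y, V)`. -/
noncomputable def bR (V : Y.Opens) : Γ(M.restrict j, V) →ₗ[Γ(Y, V)] Γ(N.restrict j, V) →ₗ[Γ(Y, V)]
    Γ((CohB1.tensorMod M N).restrict j, V) :=
  LinearMap.mk₂ Γ(Y, V)
    (fun m n => ofX j (CohB1.tensorMod M N) (tm M N (toX j M m) (toX j N n)))
    (fun m m' n => by rw [toX_add, tm_add_left, ofX_add])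
    (fun r m n => by rw [toX_smul, tm_smul_left, ofX_smul])
    (fun m n n' => by rw [toX_add, tm_add_right, ofX_add])
    (fun r m n => by rw [toX_smul, tm_smul_right, ofX_smul])

theorem bR_apply (V : Y.Opens) (m : Γ(M.restrict j, V)) (n : Γ(N.restrict j, V)) :
    bR j M N V m n = ofX j (CohB1.tensorMod M N) (tm M N (toX j M m) (toX j N n)) :=
  rfl

theorem bR_natural {U V : Y.Opens} (i : V ⟶ U) (m : Γ(M.restrict j, U)) (n : Γ(N.restrict j, U)) :
    ((CohB1.tensorMod M N).restrict j).presheaf.map i.op (bR j M N U m n) =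
      bR j M N V ((M.restrict j).presheaf.map i.op m) ((N.restrict j).presheaf.map i.op n) :=
  SecTwist.map_tmul M N (j.opensFunctor.map i) _ _

/-- The comparison morphism from the sectionwise tensor product of the restrictions to the
restriction of the tensor product. -/
noncomputable def β : (show Y.PresheafOfModules from CohB1.tensorPre (M.restrict j) (N.restrict j)) ⟶
    ((CohB1.tensorMod M N).restrict j).val :=
  tensorPreHom (M.restrict j) (N.restrict j) ((CohB1.tensorMod M N).restrict j) (bR j M N)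
    (fun i m n => bR_natural j M N i m n)

end Groth.Agent.Lib.Helper60.TensorRestrict
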