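import Groth.Agent.Lib.Helper60.VeroneseFG
import Groth.Agent.Lib.Helper60.TildeQCoh
import Groth.Agent.Lib.Lead.CohAff3

set_option autoImplicit false
universe u
open CategoryTheory AlgebraicGeometry TopologicalSpace Opposite

namespace Groth.Agent.Lib.Helper60.TildeFT

open Groth.Agent.Lib.Helper60.TildeSec Groth.Agent.Lib.Helper60.VeroneseFG

variable {A σ : Type u} [CommRing A] [SetLike σ A] [AddSubgroupClass σ A] (𝒜 : ℕ → σ) [GradedRing 𝒜]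
variable {M τ : Type u} [AddCommGroup M] [Module A M] [SetLike τ M] [AddSubgroupClass τ M]
  (ℳ : ℕ → τ) [SetLike.GradedSMul 𝒜 ℳ]

section

variable {δ : ℕ} (hδ : 0 < δ) {f : A} (hf : f ∈ 𝒜 δ)

include hf in
theorem pow_mem' (K : ℕ) : f ^ K ∈ 𝒜 (K * δ) := by
  have := SetLike.pow_mem_graded K hf
  rwa [smul_eq_mul] at this

theorem pow_notMem (K : ℕ) (y : Proj 𝒜) (hy : y ∈ Proj.basicOpen 𝒜 f) :
    f ^ K ∉ y.asHomogeneousIdeal := fun h =>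
  (Proj.mem_basicOpen 𝒜 f y).1 hy (y.isPrime.mem_of_pow_mem K h)

/-- `m / f ^ K` as a section over `D₊(f)`. -/
noncomputable def frac (K : ℕ) (m : M) (hm : m ∈ ℳ (K * δ)) :
    Γ(GrMod.tilde 𝒜 ℳ 0, Proj.basicOpen 𝒜 f) :=
  fracSec 𝒜 ℳ m hm (f ^ K) (pow_mem' 𝒜 hf K) (by simp) (Proj.basicOpen 𝒜 f)
    (fun y hy => pow_notMem 𝒜 K y hy)

theorem frac_val (K : ℕ) (m : M) (hm : m ∈ ℳ (K * δ)) (y : Proj.basicOpen 𝒜 f) :
    GrMod.val (frac 𝒜 ℳ hf K m hm) y =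
      LocalizedModule.mk m ⟨f ^ K, pow_notMem 𝒜 K y.1 y.2⟩ := rfl

/-- `a / f ^ k` as a section of the structure sheaf over `D₊(f)`. -/
noncomputable def awaySec (k : ℕ) (a : A) (ha : a ∈ 𝒜 (k * δ)) : Γ(Proj 𝒜, Proj.basicOpen 𝒜 f) :=
  (Proj.basicOpenIsoAway 𝒜 f hf hδ).hom
    (HomogeneousLocalization.Away.mk 𝒜 hf k a (by rwa [smul_eq_mul]))

theorem awaySec_val (k : ℕ) (a : A) (ha : a ∈ 𝒜 (k * δ)) (y : Proj.basicOpen 𝒜 f) :
    ((show OSec 𝒜 (Proj.basicOpen 𝒜 f) from awaySec 𝒜 hδ hf k a ha).1 y).val =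
      Localization.mk a (⟨f ^ k, pow_notMem 𝒜 k y.1 y.2⟩ :
        y.1.asHomogeneousIdeal.toIdeal.primeCompl) := by
  rw [awaySec, Proj.basicOpenIsoAway_hom]
  rfl

theorem smul_frac (k K : ℕ) (a : A) (ha : a ∈ 𝒜 (k * δ)) (m : M) (hm : m ∈ ℳ (K * δ))
    (hm' : a • m ∈ ℳ ((k + K) * δ)) :
    awaySec 𝒜 hδ hf k a ha • frac 𝒜 ℳ hf K m hm = frac 𝒜 ℳ hf (k + K) (a • m) hm' := by
  apply sec_ext
  intro y
  rw [smul_val, awaySec_val, frac_val, frac_val, LocalizedModule.mk_smul_mk]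
  congr 1
  apply Subtype.ext
  simp [pow_add]

theorem frac_add (K : ℕ) (m m' : M) (hm : m ∈ ℳ (K * δ)) (hm' : m' ∈ ℳ (K * δ)) :
    frac 𝒜 ℳ hf K (m + m') (add_mem hm hm') = frac 𝒜 ℳ hf K m hm + frac 𝒜 ℳ hf K m' hm' := by
  apply sec_ext
  intro y
  change _ = GrMod.val (frac 𝒜 ℳ hf K m hm) y + GrMod.val (frac 𝒜 ℳ hf K m' hm') y
  rw [frac_val, frac_val, frac_val, LocalizedModule.mk_add_mk, LocalizedModule.mk_eq]
  refine ⟨1, ?_⟩
  simp only [one_smul, smul_add, Submonoid.smul_def, mul_smul]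

theorem frac_neg (K : ℕ) (m : M) (hm : m ∈ ℳ (K * δ)) :
    frac 𝒜 ℳ hf K (-m) (neg_mem hm) = - frac 𝒜 ℳ hf K m hm := by
  apply sec_ext
  intro y
  change _ = - GrMod.val (frac 𝒜 ℳ hf K m hm) y
  rw [frac_val, frac_val, LocalizedModule.mk_neg]

theorem frac_zero (K : ℕ) :
    frac 𝒜 ℳ hf K (0 : M) (zero_mem _) = 0 := by
  apply sec_ext
  intro y
  rw [frac_val, zero_val, LocalizedModule.zero_mk]

end

section Main

variable [DirectSum.Decomposition ℳ]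
variable {ι κ : Type u} [Fintype ι] [DecidableEq ι] [Fintype κ] (g : ι → A) (dg : ι → ℕ)
  (z : κ → M) (e : κ → ℕ)

theorem finite_sections (hg : ∀ j, g j ∈ 𝒜 (dg j)) (hpos : ∀ j, 0 < dg j)
    (hspan : (HomogeneousIdeal.irrelevant 𝒜).toIdeal = Ideal.span (Set.range g))
    (hz : ∀ l, z l ∈ ℳ (e l)) (n : ℕ)
    (hzspan : ∀ k, n ≤ k → ∀ m ∈ ℳ k, m ∈ Submodule.span A (Set.range z))
    {δ : ℕ} (hδ : 0 < δ) {f : A} (hf : f ∈ 𝒜 δ) :
    Module.Finite Γ(Proj 𝒜, Proj.basicOpen 𝒜 f)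
      Γ(GrMod.tilde 𝒜 ℳ 0, Proj.basicOpen 𝒜 f) := by
  classical
  let J := {q : κ × (ι → Fin δ) × ℕ // mdeg dg (fun j => (q.2.1 j : ℕ)) + e q.1 = q.2.2 * δ}
  have hJfin : Finite J := by
    refine Finite.of_injective (fun q : J => (q.1.1, q.1.2.1)) ?_
    rintro ⟨⟨l, ρ, K⟩, h⟩ ⟨⟨l', ρ', K'⟩, h'⟩ heq
    simp only [Prod.mk.injEq] at heq
    obtain ⟨rfl, rfl⟩ := heq
    have : K * δ = K' * δ := h.symm.trans h'
    have hK : K = K' := Nat.eq_of_mul_eq_mul_right hδ this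
    subst hK
    rfl
  have hmemw : ∀ (l : κ) (ρ : ι → ℕ) (K : ℕ), mdeg dg ρ + e l = K * δ →
      mono g ρ • z l ∈ ℳ (K * δ) := by
    intro l ρ K h
    rw [← h]
    exact SetLike.GradedSMul.smul_mem (mono_mem 𝒜 g dg hg ρ) (hz l)
  let σ' : J → Γ(GrMod.tilde 𝒜 ℳ 0, Proj.basicOpen 𝒜 f) := fun q =>
    frac 𝒜 ℳ hf q.1.2.2 (mono g (fun j => (q.1.2.1 j : ℕ)) • z q.1.1) (hmemw _ _ _ q.2)
  let N : Submodule Γ(Proj 𝒜, Proj.basicOpen 𝒜 f) Γ(GrMod.tilde 𝒜 ℳ 0, Proj.basicOpen 𝒜 f) :=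
    Submodule.span _ (Set.range σ')
  have hNfg : N.FG := Submodule.fg_span (Set.finite_range σ')
  have key : ∀ (K : ℕ) (m : M), m ∈ H 𝒜 g dg z e δ K →
      ∃ hm : m ∈ ℳ (K * δ), frac 𝒜 ℳ hf K m hm ∈ N := by
    intro K m hm
    unfold H at hm
    induction hm using AddSubgroup.closure_induction with
    | mem x hx =>
      obtain ⟨l, ρ, k, a, hρ, ha, hdeg, rfl⟩ := hx
      have hkK : k ≤ K := by
        by_contra hcon
        push Not at hcon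
        have := Nat.mul_lt_mul_of_pos_right hcon hδ
        omega
      obtain ⟨K₀, rfl⟩ := Nat.exists_eq_add_of_le hkK
      have hdeg₀ : mdeg dg ρ + e l = K₀ * δ := by
        rw [Nat.add_mul] at hdeg; omega
      have hw := hmemw l ρ K₀ hdeg₀
      have hm' : a • (mono g ρ • z l) ∈ ℳ ((k + K₀) * δ) := by
        rw [Nat.add_mul]
        exact SetLike.GradedSMul.smul_mem ha hw
      refine ⟨hm', ?_⟩
      rw [← smul_frac 𝒜 ℳ hδ hf k K₀ a ha _ hw hm']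
      apply N.smul_mem
      apply Submodule.subset_span
      exact ⟨⟨(l, fun j => ⟨ρ j, hρ j⟩, K₀), hdeg₀⟩, rfl⟩
    | zero => exact ⟨zero_mem _, by rw [frac_zero]; exact N.zero_mem⟩
    | add x y _ _ hx hy =>
      obtain ⟨hx1, hx2⟩ := hx
      obtain ⟨hy1, hy2⟩ := hy
      exact ⟨add_mem hx1 hy1, by rw [frac_add 𝒜 ℳ hf K x y hx1 hy1]; exact N.add_mem hx2 hy2⟩
    | neg x _ hx =>
      obtain ⟨hx1, hx2⟩ := hx
      exact ⟨neg_mem hx1, by rw [frac_neg 𝒜 ℳ hf K x hx1]; exact N.neg_mem hx2⟩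
  have htop : N = ⊤ := by
    rw [eq_top_iff]
    intro t _
    obtain ⟨K, e', m, hm, he', hval⟩ := exists_eq_frac 𝒜 ℳ hδ hf (Proj.basicOpen 𝒜 f)
      (fun y => Proj.mem_basicOpen 𝒜 f y)
      (show GrMod.sect 𝒜 ℳ 0 (op (Proj.basicOpen 𝒜 f)) from t)
    have he'' : e' = K * δ := by
      have : (e' : ℤ) = ((K * δ : ℕ) : ℤ) := by rw [he']; push_cast; ring
      exact_mod_cast this
    subst he''
    have hm' : f ^ n • m ∈ ℳ ((n + K) * δ) := by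
      rw [Nat.add_mul]
      exact SetLike.GradedSMul.smul_mem (pow_mem' 𝒜 hf n) hm
    have hspan' : f ^ n • m ∈ Submodule.span A (Set.range z) := by
      refine hzspan ((n + K) * δ) ?_ _ hm'
      calc n ≤ n * δ := Nat.le_mul_of_pos_right n hδ
        _ ≤ (n + K) * δ := Nat.mul_le_mul_right δ (Nat.le_add_right n K)
    obtain ⟨hm'', hN⟩ := key (n + K) _
      (mem_H_of_mem_span 𝒜 ℳ g dg z e δ hδ hg hpos hspan hz hm' hspan')
    have hteq : t = frac 𝒜 ℳ hf (n + K) (f ^ n • m) hm'' := by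
      apply sec_ext
      intro y
      rw [frac_val]
      refine (hval y).trans ?_
      rw [LocalizedModule.mk_eq]
      refine ⟨1, ?_⟩
      simp only [one_smul, Submonoid.smul_def, pow_add, mul_smul]
      rw [smul_comm]
    rw [hteq]
    exact hN
  exact ⟨by rw [← htop]; exact hNfg⟩

end Main

end Groth.Agent.Lib.Helper60.TildeFT
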