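import Groth.Agent.Lib.Helper60.TildeSecAlg

set_option autoImplicit false
universe u
open CategoryTheory AlgebraicGeometry TopologicalSpace Opposite

namespace Groth.Agent.Lib.Helper60.TildeSec

section Sections

variable {A σ : Type u} [CommRing A] [SetLike σ A] [AddSubgroupClass σ A] (𝒜 : ℕ → σ) [GradedRing 𝒜]
variable {M τ : Type u} [AddCommGroup M] [Module A M] [SetLike τ M] [AddSubgroupClass τ M]
  (ℳ : ℕ → τ) [SetLike.GradedSMul 𝒜 ℳ]

/-- Homogeneous basic opens form a basis of `Proj`. -/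
theorem exists_homogeneous_basicOpen_le (x : ProjectiveSpectrum 𝒜)
    (V : Opens (ProjectiveSpectrum.top 𝒜)) (hx : x ∈ V) :
    ∃ (l : ℕ) (g : A), g ∈ 𝒜 l ∧ g ∉ x.asHomogeneousIdeal ∧
      ∀ y : ProjectiveSpectrum 𝒜, g ∉ y.asHomogeneousIdeal → y ∈ V := by
  classical
  obtain ⟨_, ⟨r, rfl⟩, hxr, hrV⟩ :=
    (ProjectiveSpectrum.isTopologicalBasis_basic_opens 𝒜).exists_subset_of_mem_open hx V.2
  have hr : r ∉ x.asHomogeneousIdeal := hxr
  obtain ⟨k, hk⟩ := Groth.Agent.Lib.Helper33.GrModLib.exists_component_not_mem 𝒜 x r hr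
  refine ⟨k, _, SetLike.coe_mem _, hk, fun y hy => hrV ?_⟩
  intro hry
  exact hy (y.asHomogeneousIdeal.isHomogeneous k hry)

/-- Local normal form of a section of `M(n)~` over `U ⊆ D₊(f)`: near each point it is a fraction
`m / h` with `h` homogeneous of positive degree, `D₊(h) ⊆ D₊(f)`, and `deg m = deg h + n` exactly. -/
theorem exists_local_frac {n : ℤ} {d : ℕ} (hd : 0 < d) {f : A} (hf : f ∈ 𝒜 d)
    (U : Opens (ProjectiveSpectrum.top 𝒜)) (hU : ∀ y ∈ U, f ∉ y.asHomogeneousIdeal)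
    (t : GrMod.sect 𝒜 ℳ n (op U)) (x : U) :
    ∃ (dh e : ℕ) (h : A) (m : M), h ∈ 𝒜 dh ∧ 0 < dh ∧ m ∈ ℳ e ∧ (e : ℤ) = dh + n ∧
      h ∉ x.1.asHomogeneousIdeal ∧
      (∀ y : ProjectiveSpectrum 𝒜, h ∉ y.asHomogeneousIdeal → f ∉ y.asHomogeneousIdeal) ∧
      ∀ (y : U) (hy : h ∉ y.1.asHomogeneousIdeal),
        ((t.1 y : GrMod.tildeAt 𝒜 ℳ n y.1) : GrMod.LocMod 𝒜 (M := M) y.1) =
          LocalizedModule.mk m ⟨h, hy⟩ := by
  obtain ⟨V, hxV, iV, i, j, ⟨m, hm⟩, ⟨s, hs⟩, s_nin, c, w⟩ := t.2 x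
  replace c : (i : ℤ) = j + n ∨ m = 0 := c
  obtain ⟨l, g, hg, hgx, hgV⟩ := exists_homogeneous_basicOpen_le 𝒜 x.1 V hxV
  have hfx : f ∉ x.1.asHomogeneousIdeal := hU x.1 x.2
  have hfg : f * g ∈ 𝒜 (d + l) := SetLike.mul_mem_graded hf hg
  rcases c with c | c
  · -- honest fraction
    refine ⟨d + l + j, d + l + i, f * g * s, (f * g) • m, SetLike.mul_mem_graded hfg hs, by omega,
      SetLike.GradedSMul.smul_mem hfg hm, by push_cast; omega, ?_, ?_, ?_⟩
    · intro hmem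
      rcases x.1.isPrime.mem_or_mem hmem with h1 | h1
      · rcases x.1.isPrime.mem_or_mem h1 with h2 | h2
        · exact hfx h2
        · exact hgx h2
      · exact s_nin ⟨x.1, hxV⟩ h1
    · intro y hy hfy
      apply hy
      rw [mul_assoc]
      exact Ideal.mul_mem_right _ _ hfy
    · intro y hy
      have hgy : g ∉ y.1.asHomogeneousIdeal := fun hgy => hy (by
        rw [mul_comm f g, mul_assoc]
        exact Ideal.mul_mem_right _ _ hgy)
      have hyV : y.1 ∈ V := hgV y.1 hgy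
      have hfgy : f * g ∉ y.1.asHomogeneousIdeal := fun h' => hy (Ideal.mul_mem_right _ _ h')
      have e1 : ((t.1 y : GrMod.tildeAt 𝒜 ℳ n y.1) : GrMod.LocMod 𝒜 (M := M) y.1) =
          LocalizedModule.mk m ⟨s, s_nin ⟨y.1, hyV⟩⟩ := w ⟨y.1, hyV⟩
      refine e1.trans ?_
      exact (LocalizedModule.mk_cancel_common_left
        (⟨f * g, hfgy⟩ : y.1.asHomogeneousIdeal.toIdeal.primeCompl) ⟨s, s_nin ⟨y.1, hyV⟩⟩ m).symm
  · -- zero numerator
    subst c
    have hr : ∃ r : ℕ, 0 < r ∧ 0 ≤ ((r * (d + l) : ℕ) : ℤ) + n := by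
      refine ⟨n.natAbs + 1, by omega, ?_⟩
      have h1 : (n.natAbs + 1) * 1 ≤ (n.natAbs + 1) * (d + l) :=
        Nat.mul_le_mul_left _ (by omega)
      have h2 : ((n.natAbs + 1 : ℕ) : ℤ) ≤ (((n.natAbs + 1) * (d + l) : ℕ) : ℤ) := by
        exact_mod_cast (by omega : n.natAbs + 1 ≤ (n.natAbs + 1) * (d + l))
      omega
    obtain ⟨r, hr0, hr1⟩ := hr
    have hpow : (f * g) ^ r ∈ 𝒜 (r * (d + l)) := by
      have := SetLike.pow_mem_graded r hfg
      rwa [smul_eq_mul] at this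
    refine ⟨r * (d + l), (((r * (d + l) : ℕ) : ℤ) + n).toNat, (f * g) ^ r, 0, hpow,
      Nat.mul_pos hr0 (by omega), zero_mem _, by rw [Int.toNat_of_nonneg hr1], ?_, ?_, ?_⟩
    · intro hmem
      rcases x.1.isPrime.mem_or_mem (x.1.isPrime.mem_of_pow_mem r hmem) with h2 | h2
      · exact hfx h2
      · exact hgx h2
    · intro y hy hfy
      apply hy
      exact Ideal.pow_mem_of_mem _ (Ideal.mul_mem_right _ _ hfy) r hr0
    · intro y hy
      have hgy : g ∉ y.1.asHomogeneousIdeal := fun hgy => hy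
        (Ideal.pow_mem_of_mem _ (Ideal.mul_mem_left _ _ hgy) r hr0)
      have hyV : y.1 ∈ V := hgV y.1 hgy
      have e1 : ((t.1 y : GrMod.tildeAt 𝒜 ℳ n y.1) : GrMod.LocMod 𝒜 (M := M) y.1) =
          LocalizedModule.mk 0 ⟨s, s_nin ⟨y.1, hyV⟩⟩ := w ⟨y.1, hyV⟩
      refine e1.trans ?_
      rw [LocalizedModule.zero_mk, LocalizedModule.zero_mk]

variable [DirectSum.Decomposition ℳ]

/-- **Sections over `D₊(f)` are global fractions**: every section of `M(n)~` over `D₊(f)`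
(`f` homogeneous of positive degree `d`) is of the form `m / f ^ K` with `m` homogeneous of degree
`K * d + n`. -/
theorem exists_eq_frac {n : ℤ} {d : ℕ} (hd : 0 < d) {f : A} (hf : f ∈ 𝒜 d)
    (U : Opens (ProjectiveSpectrum.top 𝒜)) (hU' : ∀ y, y ∈ U ↔ f ∉ y.asHomogeneousIdeal)
    (t : GrMod.sect 𝒜 ℳ n (op U)) :
    ∃ (K e : ℕ) (m : M), m ∈ ℳ e ∧ (e : ℤ) = K * d + n ∧
      ∀ (y : U),
        ((t.1 y : GrMod.tildeAt 𝒜 ℳ n y.1) : GrMod.LocMod 𝒜 (M := M) y.1) =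
          (LocalizedModule.mk m (⟨f ^ K, fun h => (hU' y.1).1 y.2 (y.1.isPrime.mem_of_pow_mem K h)⟩ :
            y.1.asHomogeneousIdeal.toIdeal.primeCompl) : GrMod.LocMod 𝒜 (M := M) y.1) := by
  classical
  have hU : ∀ y ∈ U, f ∉ y.asHomogeneousIdeal := fun y hy => (hU' y).1 hy
  choose dh e h m hh hdh hm he hhx hhf hval using exists_local_frac 𝒜 ℳ hd hf U hU t
  -- a finite subfamily already covers
  obtain ⟨K₁, s₀, b₁, -, -, -, hK₁⟩ := exists_pow_eq_sum 𝒜 h dh hh hd hf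
    (fun y hy => ⟨⟨y, (hU' y).2 hy⟩,
      hhx ⟨y, (hU' y).2 hy⟩⟩) 0
  have hcov : ∀ y : ProjectiveSpectrum 𝒜, f ∉ y.asHomogeneousIdeal →
      ∃ i ∈ s₀, h i ∉ y.asHomogeneousIdeal := by
    intro y hy
    by_contra hcon
    push Not at hcon
    apply hy
    apply y.isPrime.mem_of_pow_mem K₁
    rw [hK₁]
    exact Ideal.sum_mem _ (fun i hi => Ideal.mul_mem_left _ _ (hcon i hi))
  -- pairwise compatibility up to a power
  have hpair : ∀ i i' : U, ∃ N : ℕ, (h i * h i') ^ N • (h i' • m i - h i • m i') = 0 := by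
    intro i i'
    have hz : h i' • m i - h i • m i' ∈ ℳ (dh i' + e i) := by
      have h1 : h i' • m i ∈ ℳ (dh i' + e i) := SetLike.GradedSMul.smul_mem (hh i') (hm i)
      have h2 : h i • m i' ∈ ℳ (dh i + e i') := SetLike.GradedSMul.smul_mem (hh i) (hm i')
      have e1 : dh i + e i' = dh i' + e i := by
        have := he i
        have := he i'
        omega
      rw [e1] at h2
      exact sub_mem h1 h2
    apply exists_pow_smul_eq_zero 𝒜 ℳ hz (d := dh i + dh i') (by have := hdh i; omega)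
      (SetLike.mul_mem_graded (hh i) (hh i'))
    intro y hy
    have hy1 : h i ∉ y.asHomogeneousIdeal := fun h' => hy (Ideal.mul_mem_right _ _ h')
    have hy2 : h i' ∉ y.asHomogeneousIdeal := fun h' => hy (Ideal.mul_mem_left _ _ h')
    have hyU : y ∈ U := (hU' y).2 (hhf i y hy1)
    have e1 := hval i ⟨y, hyU⟩ hy1
    have e2 := hval i' ⟨y, hyU⟩ hy2
    rw [e1, LocalizedModule.mk_eq] at e2
    obtain ⟨u, hu⟩ := e2
    refine ⟨u.1, u.2, ?_⟩
    rw [smul_sub, sub_eq_zero]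
    exact hu
  choose N hN using hpair
  set Nmax := s₀.sup (fun i => s₀.sup (fun i' => N i i')) with hNmax
  have hNle : ∀ i ∈ s₀, ∀ i' ∈ s₀, N i i' ≤ Nmax := fun i hi i' hi' =>
    le_trans (Finset.le_sup (f := fun i' => N i i') hi')
      (Finset.le_sup (f := fun i => s₀.sup (fun i' => N i i')) hi)
  have hcross : ∀ i ∈ s₀, ∀ i' ∈ s₀,
      h i' ^ (Nmax + 1) • (h i ^ Nmax • m i) = h i ^ (Nmax + 1) • (h i' ^ Nmax • m i') := by
    intro i hi i' hi'
    obtain ⟨r, hr⟩ := Nat.exists_eq_add_of_le (hNle i hi i' hi')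
    have key : (h i * h i') ^ Nmax • (h i' • m i - h i • m i') = 0 := by
      rw [hr, pow_add, mul_comm, mul_smul, hN, smul_zero]
    rw [smul_sub, sub_eq_zero] at key
    calc h i' ^ (Nmax + 1) • (h i ^ Nmax • m i)
        = (h i * h i') ^ Nmax • h i' • m i := by
          simp only [smul_smul]; congr 1; ring
      _ = (h i * h i') ^ Nmax • h i • m i' := key
      _ = h i ^ (Nmax + 1) • (h i' ^ Nmax • m i') := by
          simp only [smul_smul]; congr 1; ring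
  -- homogeneous partition of unity for the modified denominators
  obtain ⟨K, s₁, b, hK0, hb, hb0, hK⟩ := exists_pow_eq_sum 𝒜
    (fun i : s₀ => h i.1 ^ (Nmax + 1)) (fun i : s₀ => (Nmax + 1) * dh i.1)
    (fun i => by
      have := SetLike.pow_mem_graded (Nmax + 1) (hh i.1)
      rwa [smul_eq_mul] at this) hd hf
    (fun y hy => by
      obtain ⟨i, hi, hiy⟩ := hcov y hy
      exact ⟨⟨i, hi⟩, fun h' => hiy (y.isPrime.mem_of_pow_mem _ h')⟩) n.natAbs
  have hKn : (0 : ℤ) ≤ (K : ℤ) * d + n := by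
    have h1 : K * 1 ≤ K * d := Nat.mul_le_mul_left _ hd
    have h2 : ((K : ℕ) : ℤ) ≤ ((K * d : ℕ) : ℤ) := by exact_mod_cast (by omega : K ≤ K * d)
    push_cast at h2
    omega
  set E := ((K : ℤ) * d + n).toNat with hE
  have hEz : (E : ℤ) = (K : ℤ) * d + n := Int.toNat_of_nonneg hKn
  have hterm : ∀ i : s₀, b i • (h i.1 ^ Nmax • m i.1) ∈ ℳ E := by
    intro i
    by_cases hle : (Nmax + 1) * dh i.1 ≤ K * d
    · have h1 : h i.1 ^ Nmax ∈ 𝒜 (Nmax * dh i.1) := by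
        have := SetLike.pow_mem_graded Nmax (hh i.1)
        rwa [smul_eq_mul] at this
      have h2 : h i.1 ^ Nmax • m i.1 ∈ ℳ (Nmax * dh i.1 + e i.1) :=
        SetLike.GradedSMul.smul_mem h1 (hm i.1)
      have h3 : b i • (h i.1 ^ Nmax • m i.1) ∈
          ℳ ((K * d - (Nmax + 1) * dh i.1) + (Nmax * dh i.1 + e i.1)) :=
        SetLike.GradedSMul.smul_mem (hb i) h2
      have e1 : (K * d - (Nmax + 1) * dh i.1) + (Nmax * dh i.1 + e i.1) = E := by
        have := he i.1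
        have h4 : (((K * d - (Nmax + 1) * dh i.1 : ℕ)) : ℤ) = (K : ℤ) * d - ((Nmax : ℤ) + 1) * dh i.1 := by
          rw [Nat.cast_sub hle]; push_cast; ring
        have h5 : ((((K * d - (Nmax + 1) * dh i.1) + (Nmax * dh i.1 + e i.1) : ℕ)) : ℤ) = (E : ℤ) := by
          rw [hEz]; push_cast [h4]; rw [this]; ring
        exact_mod_cast h5
      rwa [e1] at h3
    · rw [hb0 i (by omega), zero_smul]
      exact zero_mem _
  refine ⟨K, E, ∑ i ∈ s₁, b i • (h i.1 ^ Nmax • m i.1), sum_mem (fun i _ => hterm i), hEz, ?_⟩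
  intro y
  obtain ⟨i, hi, hiy⟩ := hcov y.1 (hU y.1 y.2)
  rw [hval i y hiy, LocalizedModule.mk_eq]
  refine ⟨⟨h i ^ Nmax, fun h' => hiy (y.1.isPrime.mem_of_pow_mem _ h')⟩, ?_⟩
  rw [Submonoid.smul_def, Submonoid.smul_def]
  change h i ^ Nmax • f ^ K • m i = h i ^ Nmax • h i • ∑ i ∈ s₁, b i • (h i.1 ^ Nmax • m i.1)
  have hsum : h i ^ (Nmax + 1) • ∑ i' ∈ s₁, b i' • (h i'.1 ^ Nmax • m i'.1) =
      f ^ K • (h i ^ Nmax • m i) := by
    rw [hK, Finset.smul_sum, Finset.sum_smul]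
    apply Finset.sum_congr rfl
    intro i' _
    rw [smul_comm, hcross i' i'.2 i hi, mul_smul]
  rw [smul_comm (h i ^ Nmax) (f ^ K), ← hsum, pow_succ, mul_smul]

end Sections

end Groth.Agent.Lib.Helper60.TildeSec
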