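import Mathlib
import Groth.Prelude.Def_GrMod3
import Groth.Agent.Lib.Helper33.GrModLib

set_option autoImplicit false
universe u
open CategoryTheory AlgebraicGeometry TopologicalSpace Opposite

namespace Groth.Agent.Lib.Helper60.TildeSec

section Algebra

variable {A σ : Type u} [CommRing A] [SetLike σ A] [AddSubgroupClass σ A] (𝒜 : ℕ → σ) [GradedRing 𝒜]

/-- Projective Nullstellensatz-type lemma: a homogeneous element of positive degree lying in every
point of `Proj` that contains the homogeneous ideal `I` lies in the radical of `I`. -/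
theorem mem_radical_of_forall_proj {I : Ideal A} (hI : I.IsHomogeneous 𝒜) {d : ℕ} (hd : 0 < d)
    {f : A} (hf : f ∈ 𝒜 d)
    (h : ∀ x : ProjectiveSpectrum 𝒜, I ≤ x.asHomogeneousIdeal.toIdeal → f ∈ x.asHomogeneousIdeal) :
    f ∈ I.radical := by
  rw [hI.radical_eq, Ideal.mem_sInf]
  rintro J ⟨hJhom, hJle, hJprime⟩
  by_cases hirr : HomogeneousIdeal.irrelevant 𝒜 ≤ (⟨J, hJhom⟩ : HomogeneousIdeal 𝒜)
  · apply hirr
    rw [HomogeneousIdeal.mem_irrelevant_iff, GradedRing.proj_apply,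
      DirectSum.decompose_of_mem_ne 𝒜 hf (by omega)]
  · exact h ⟨⟨J, hJhom⟩, hJprime, hirr⟩ hJle

/-- A finite homogeneous partition of unity (up to a power of `f`) on `D₊(f)`. -/
theorem exists_pow_eq_sum {ι : Type*} (h : ι → A) (dh : ι → ℕ) (hh : ∀ i, h i ∈ 𝒜 (dh i))
    {d : ℕ} (hd : 0 < d) {f : A} (hf : f ∈ 𝒜 d)
    (hcov : ∀ x : ProjectiveSpectrum 𝒜, f ∉ x.asHomogeneousIdeal →
      ∃ i, h i ∉ x.asHomogeneousIdeal) (K₀ : ℕ) :
    ∃ (K : ℕ) (s : Finset ι) (b : ι → A), K₀ ≤ K ∧ (∀ i, b i ∈ 𝒜 (K * d - dh i)) ∧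
      (∀ i, K * d < dh i → b i = 0) ∧ f ^ K = ∑ i ∈ s, b i * h i := by
  classical
  have hI : (Ideal.span (Set.range h)).IsHomogeneous 𝒜 := by
    apply Ideal.homogeneous_span
    rintro _ ⟨i, rfl⟩
    exact ⟨dh i, hh i⟩
  have hrad : f ∈ (Ideal.span (Set.range h)).radical := by
    apply mem_radical_of_forall_proj 𝒜 hI hd hf
    intro x hx
    by_contra hfx
    obtain ⟨i, hi⟩ := hcov x hfx
    exact hi (hx (Ideal.subset_span ⟨i, rfl⟩))
  obtain ⟨K₁, hK₁⟩ := hrad
  have hK : f ^ (K₁ + K₀) ∈ Ideal.span (Set.range h) := by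
    rw [pow_add]
    exact Ideal.mul_mem_right _ _ hK₁
  set K := K₁ + K₀ with hKdef
  rw [Ideal.span, Finsupp.mem_span_range_iff_exists_finsupp] at hK
  obtain ⟨c, hc⟩ := hK
  refine ⟨K, c.support, fun i => if dh i ≤ K * d then
    ((DirectSum.decompose 𝒜 (c i) (K * d - dh i) : 𝒜 (K * d - dh i)) : A) else 0, by omega, ?_, ?_, ?_⟩
  · intro i
    dsimp only
    split_ifs
    · exact SetLike.coe_mem _
    · exact zero_mem _
  · intro i hi
    dsimp only
    rw [if_neg (by omega)]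
  · have hfK : f ^ K ∈ 𝒜 (K * d) := by
      have := SetLike.pow_mem_graded K hf
      rwa [smul_eq_mul] at this
    have h1 : f ^ K = ((DirectSum.decompose 𝒜 (f ^ K) (K * d) : 𝒜 (K * d)) : A) :=
      (DirectSum.decompose_of_mem_same 𝒜 hfK).symm
    rw [h1, ← hc, Finsupp.sum, DirectSum.decompose_sum, DFinsupp.finsetSum_apply,
      AddSubmonoidClass.coe_finsetSum]
    apply Finset.sum_congr rfl
    intro i _
    rw [smul_eq_mul, DirectSum.coe_decompose_mul_of_right_mem 𝒜 (K * d) (hh i)]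
    dsimp only
    by_cases hle : dh i ≤ K * d
    · rw [if_pos hle, if_pos hle]
    · rw [if_neg hle, if_neg hle, zero_mul]

variable {M τ : Type u} [AddCommGroup M] [Module A M] [SetLike τ M] [AddSubgroupClass τ M]
  (ℳ : ℕ → τ) [SetLike.GradedSMul 𝒜 ℳ] [DirectSum.Decomposition ℳ]

/-- The annihilator of an element, as an ideal. -/
def annIdeal (z : M) : Ideal A := LinearMap.ker (LinearMap.toSpanSingleton A M z)

omit [SetLike τ M] [AddSubgroupClass τ M] in
theorem mem_annIdeal (z : M) (a : A) : a ∈ annIdeal (A := A) z ↔ a • z = 0 := by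
  rw [annIdeal, LinearMap.mem_ker, LinearMap.toSpanSingleton_apply]

/-- The annihilator of a homogeneous element is a homogeneous ideal. -/
theorem ann_isHomogeneous {z : M} {e : ℕ} (hz : z ∈ ℳ e) :
    (annIdeal (A := A) z).IsHomogeneous 𝒜 := by
  intro k c hc
  rw [mem_annIdeal] at hc ⊢
  exact Groth.Agent.Lib.Helper33.GrModLib.homog_annihilator 𝒜 ℳ z hz c hc k

/-- A homogeneous element which dies at every point of `D₊(f)` is killed by a power of `f`. -/
theorem exists_pow_smul_eq_zero {z : M} {e : ℕ} (hz : z ∈ ℳ e) {d : ℕ} (hd : 0 < d) {f : A}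
    (hf : f ∈ 𝒜 d)
    (h : ∀ x : ProjectiveSpectrum 𝒜, f ∉ x.asHomogeneousIdeal →
      ∃ c : A, c ∉ x.asHomogeneousIdeal ∧ c • z = 0) :
    ∃ N : ℕ, f ^ N • z = 0 := by
  have hrad : f ∈ (annIdeal (A := A) z).radical := by
    apply mem_radical_of_forall_proj 𝒜 (ann_isHomogeneous 𝒜 ℳ hz) hd hf
    intro x hx
    by_contra hfx
    obtain ⟨c, hcx, hcz⟩ := h x hfx
    exact hcx (hx ((mem_annIdeal z c).2 hcz))
  obtain ⟨N, hN⟩ := hrad
  exact ⟨N, (mem_annIdeal z _).1 hN⟩

end Algebra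

end Groth.Agent.Lib.Helper60.TildeSec
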