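import Groth.Agent.Lib.Helper60.Ver1

/-!
# Non-vanishing loci of sections of `O(n)` on `Proj` and a closed immersion criterion (helper60)
-/

set_option autoImplicit false
universe u
open CategoryTheory CategoryTheory.Limits AlgebraicGeometry TopologicalSpace Opposite

namespace Groth.Agent.Lib.Helper60.Ver

open Groth.Agent.Lib.Helper35.Gen Groth.Agent.Lib.Helper35.AbSheaf
open Groth.Agent.Lib.Helper60.ProjUPLib Groth.Agent.Lib.Helper60.TwistLib
open Groth.Agent.Lib.Helper60.ProjFrac Groth.Agent.Lib.Helper60.SecKer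
open Groth.Agent.Lib.Helper60.PbComp Groth.Agent.Lib.Helper35.PbInv

variable {R A : Type u} [CommRing R] [CommRing A] [Algebra R A] (𝒜 : ℕ → Submodule R A)
  [GradedAlgebra 𝒜]

section genopen

variable {n : ℕ} (b b' : 𝒜 n)

theorem basicOpen_le_genOpen :
    Proj.basicOpen 𝒜 b.1 ≤ genOpen (Twist.twist 𝒜 (n : ℤ)) (gsec 𝒜 b) :=
  le_genOpen _ _ _ (isGen_gsec 𝒜 b)

/-- where `b/1` generates `O(n)` and `b'` does not vanish, `b` does not vanish -/
theorem genOpen_inf_le :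
    genOpen (Twist.twist 𝒜 (n : ℤ)) (gsec 𝒜 b) ⊓ Proj.basicOpen 𝒜 b'.1 ≤ Proj.basicOpen 𝒜 b.1 := by
  set L := Twist.twist 𝒜 (n : ℤ) with hL
  set W : (Proj 𝒜).Opens := genOpen L (gsec 𝒜 b) ⊓ Proj.basicOpen 𝒜 b'.1 with hW
  have hW1 : W ≤ genOpen L (gsec 𝒜 b) := inf_le_left
  have hW2 : W ≤ Proj.basicOpen 𝒜 b'.1 := inf_le_right
  have he : IsGen L W (rs L (le_top : W ≤ ⊤) (gsec 𝒜 b)) := by
    have := (isGen_genOpen L (gsec 𝒜 b)).mono hW1
    rwa [rs_rs] at this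
  have he' : IsGen L W (rs L (le_top : W ≤ ⊤) (gsec 𝒜 b')) := by
    have := (isGen_gsec 𝒜 b').mono hW2
    rwa [rs_rs] at this
  have h1 := rs_gsec_eq_fr_smul 𝒜 b b' W hW2
  obtain ⟨c, hc⟩ := he.exists_eq_smul (rs L (le_top : W ≤ ⊤) (gsec 𝒜 b'))
  have h2 : (c * fr 𝒜 b.1 b'.1 b.2 b'.2 W (notMem_of_mem_basicOpen 𝒜 hW2)) •
      rs L (le_top : W ≤ ⊤) (gsec 𝒜 b') = (1 : Γ(Proj 𝒜, W)) • rs L (le_top : W ≤ ⊤) (gsec 𝒜 b') := by
    rw [mul_smul, ← h1, ← hc, one_smul]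
  have h3 := he'.smul_injective h2
  have hu : IsUnit (fr 𝒜 b.1 b'.1 b.2 b'.2 W (notMem_of_mem_basicOpen 𝒜 hW2)) :=
    IsUnit.of_mul_eq_one_right c h3
  intro y hy
  have hy' : y ∈ (Proj 𝒜).basicOpen (fr 𝒜 b.1 b'.1 b.2 b'.2 W (notMem_of_mem_basicOpen 𝒜 hW2)) := by
    rw [Scheme.basicOpen_of_isUnit _ hu]
    exact hy
  exact (Proj.mem_basicOpen 𝒜 b.1 y).2 ((mem_basicOpen_fr 𝒜 b.1 b'.1 b.2 b'.2 W _ y).1 hy').2

/-- if the `D₊(b')`, `b'` of degree `n`, cover, then the locus where `b/1` generates `O(n)` is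
`D₊(b)` -/
theorem genOpen_gsec_eq (hcov : ∀ y : Proj 𝒜, ∃ b' : 𝒜 n, y ∈ Proj.basicOpen 𝒜 b'.1) :
    genOpen (Twist.twist 𝒜 (n : ℤ)) (gsec 𝒜 b) = Proj.basicOpen 𝒜 b.1 := by
  apply le_antisymm
  · intro y hy
    obtain ⟨b', hb'⟩ := hcov y
    exact genOpen_inf_le 𝒜 b b' ⟨hy, hb'⟩
  · exact basicOpen_le_genOpen 𝒜 b

end genopen

section crit

/-- closed immersion criterion: affine opens of the target covering the (closed) image, with
affine preimages and surjective maps on sections -/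
theorem isClosedImmersion_of_cover {X Y : Scheme.{u}} (f : X ⟶ Y) {κ : Type*} (V : κ → Y.Opens)
    (hV : ∀ k, IsAffineOpen (V k)) (haff : ∀ k, IsAffineOpen (f ⁻¹ᵁ V k))
    (hsurj : ∀ k, Function.Surjective (f.app (V k)))
    (hrange : ∀ x : X, ∃ k, f x ∈ V k) (hcl : IsClosed (Set.range f)) :
    IsClosedImmersion f := by
  let V' : Option κ → Y.Opens := fun o => o.elim ⟨(Set.range f)ᶜ, hcl.isOpen_compl⟩ V
  have hsup : (⨆ o, V' o) = ⊤ := by
    rw [eq_top_iff]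
    intro y _
    by_cases hy : y ∈ Set.range f
    · obtain ⟨x, rfl⟩ := hy
      obtain ⟨k, hk⟩ := hrange x
      exact Opens.mem_iSup.mpr ⟨some k, hk⟩
    · exact Opens.mem_iSup.mpr ⟨none, hy⟩
  rw [IsZariskiLocalAtTarget.iff_of_iSup_eq_top (P := @IsClosedImmersion) _ hsup]
  intro o
  cases o with
  | none =>
    have : IsEmpty ↥((f ⁻¹ᵁ V' none : X.Opens) : Scheme.{u}) := by
      constructor
      rintro ⟨x, hx⟩
      exact hx ⟨x, rfl⟩
    infer_instance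
  | some k =>
    change IsClosedImmersion (f ∣_ V k)
    have : IsAffine ↑(f ⁻¹ᵁ V k) := haff k
    have : IsAffine ↑(V k) := hV k
    apply IsClosedImmersion.of_surjective_of_isAffine
    rw [morphismRestrict_appTop]
    have h2 := Groth.Agent.Lib.Helper60.Segre.app_surjective_of_eq f
      (Scheme.Opens.ι_image_top (V k)).symm (hsurj k)
    change Function.Surjective ((X.presheaf.map (eqToHom _).op).hom ∘
      (f.app ((V k).ι ''ᵁ ⊤)).hom)
    refine Function.Surjective.comp ?_ h2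
    exact (ConcreteCategory.bijective_of_isIso (X.presheaf.map (eqToHom _).op)).2

end crit

end Groth.Agent.Lib.Helper60.Ver
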