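import Groth.Agent.Lib.Helper60.Ver2

/-!
# Closed immersions of `Proj` into projective space defined by sections of `O(n)` (helper60)
-/

set_option autoImplicit false
universe u
open CategoryTheory CategoryTheory.Limits AlgebraicGeometry TopologicalSpace Opposite

namespace Groth.Agent.Lib.Helper60.Ver

open Groth.Agent.Lib.Helper35.Gen Groth.Agent.Lib.Helper35.AbSheaf
open Groth.Agent.Lib.Helper60.ProjUPLib Groth.Agent.Lib.Helper60.TwistLib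
open Groth.Agent.Lib.Helper60.ProjFrac Groth.Agent.Lib.Helper60.SecKer
open Groth.Agent.Lib.Helper60.PbComp Groth.Agent.Lib.Helper35.PbInv
open Groth.Agent.Lib.Helper60.Segre

variable {R A : Type u} [CommRing R] [CommRing A] [Algebra R A] (𝒜 : ℕ → Submodule R A)
  [GradedAlgebra 𝒜]

section data

variable {R' : Type u} [CommRing R'] {n N : ℕ} (b : Fin (N + 1) → 𝒜 n)
  (j : Proj 𝒜 ⟶ CohB1.ProjSpace N R')
  (τ : (Scheme.Modules.pullback j).obj (Twist.twistProjSpace N R' 1) ≅ Twist.twist 𝒜 (n : ℤ))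
  (hτ : ∀ k, (τ.hom.app ⊤).hom (tsec N j k) = gsec 𝒜 (b k))

include hτ in
theorem preimage_Dp_eq (hcov : ∀ y : Proj 𝒜, ∃ b' : 𝒜 n, y ∈ Proj.basicOpen 𝒜 b'.1) (k : Fin (N + 1)) :
    j ⁻¹ᵁ Dp N k = Proj.basicOpen 𝒜 (b k).1 := by
  rw [preimage_Dp_eq_genOpen N j τ (fun k => gsec 𝒜 (b k)) hτ k]
  exact genOpen_gsec_eq 𝒜 (b k) hcov

include hτ in
theorem cfun_eq_fr (k k' : Fin (N + 1)) (hW : j ⁻¹ᵁ Dp N k ≤ Proj.basicOpen 𝒜 (b k).1) :
    cfun (CohB1.polyGrading N R') j ⟨MvPolynomial.X k', MvPolynomial.isHomogeneous_X R' k'⟩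
      ⟨MvPolynomial.X k, MvPolynomial.isHomogeneous_X R' k⟩ =
      fr 𝒜 (b k').1 (b k).1 (b k').2 (b k).2 (j ⁻¹ᵁ Dp N k) (notMem_of_mem_basicOpen 𝒜 hW) := by
  have h3 : (τ.hom.app ⊤).hom (psec (CohB1.polyGrading N R') j
      ⟨MvPolynomial.X k', MvPolynomial.isHomogeneous_X R' k'⟩) = gsec 𝒜 (b k') := hτ k'
  have h4 : (τ.hom.app ⊤).hom (psec (CohB1.polyGrading N R') j
      ⟨MvPolynomial.X k, MvPolynomial.isHomogeneous_X R' k⟩) = gsec 𝒜 (b k) := hτ k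
  have e1 := rs_psec_eq_smul (CohB1.polyGrading N R') j
      ⟨MvPolynomial.X k', MvPolynomial.isHomogeneous_X R' k'⟩
      ⟨MvPolynomial.X k, MvPolynomial.isHomogeneous_X R' k⟩
  obtain ⟨c0, hc0⟩ : ∃ c0 : Γ(Proj 𝒜, j ⁻¹ᵁ Dp N k), c0 = cfun (CohB1.polyGrading N R') j
        ⟨MvPolynomial.X k', MvPolynomial.isHomogeneous_X R' k'⟩
        ⟨MvPolynomial.X k, MvPolynomial.isHomogeneous_X R' k⟩ := ⟨_, rfl⟩
  rw [← hc0]
  have h2 : rs (Twist.twist 𝒜 (n : ℤ)) (le_top : j ⁻¹ᵁ Dp N k ≤ ⊤) (gsec 𝒜 (b k')) =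
      c0 • rs (Twist.twist 𝒜 (n : ℤ)) (le_top : j ⁻¹ᵁ Dp N k ≤ ⊤) (gsec 𝒜 (b k)) := by
    rw [← h3, ← h4, ← hom_rs, ← hom_rs, hc0]
    refine (congrArg (τ.hom.app (j ⁻¹ᵁ Dp N k)).hom e1).trans ?_
    exact Scheme.Modules.Hom.app_smul τ.hom _ _
  have e3 := rs_gsec_eq_fr_smul 𝒜 (b k') (b k) (j ⁻¹ᵁ Dp N k) hW
  have hgen : IsGen (Twist.twist 𝒜 (n : ℤ)) (j ⁻¹ᵁ Dp N k)
      (rs (Twist.twist 𝒜 (n : ℤ)) (le_top : j ⁻¹ᵁ Dp N k ≤ ⊤) (gsec 𝒜 (b k))) := by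
    have := (isGen_gsec 𝒜 (b k)).mono hW
    rwa [rs_rs] at this
  exact hgen.smul_injective (h2.symm.trans e3)

end data

omit [Algebra R A] [GradedAlgebra 𝒜] in
theorem app_rr {X Y : Scheme.{u}} (f : X ⟶ Y) (U : Y.Opens) (t : Γ(Y, ⊤)) :
    (f.app U).hom (rr Y (le_top : U ≤ ⊤) t) = rr X (le_top : f ⁻¹ᵁ U ≤ ⊤) (f.appTop.hom t) := by
  have h := f.naturality (homOfLE (le_top : U ≤ ⊤)).op
  exact congr($h t)

section core

/-- the projection `P^N_S → P^N_ℤ` -/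
noncomputable abbrev fstP (N : ℕ) (S : Scheme.{u}) :
    CohB1.ProjSpaceOver N S ⟶ CohB1.ProjSpace N (ULift.{u} ℤ) :=
  pullback.fst (CohB1.ProjSpace.toSpec N (ULift.{u} ℤ)) (specULiftZIsTerminal.from S)

variable {n N : ℕ} (hn : 0 < n) (b : Fin (N + 1) → 𝒜 n)
  (G : Set A) (hgen : Algebra.adjoin R G = ⊤)
  (hsp : ∀ x : Proj 𝒜, ∃ (k : Fin (N + 1)) (γ : 𝒜 1), (b k : A) = (γ : A) ^ n ∧
      x ∈ Proj.basicOpen 𝒜 (γ : A) ∧
      ∀ a ∈ G, ∃ (e : ℕ) (_ : a ∈ 𝒜 e) (_ : e ≤ n) (k' : Fin (N + 1)),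
        (b k' : A) = a * (γ : A) ^ (n - e))
  (i : Proj 𝒜 ⟶ CohB1.ProjSpaceOver N (Spec (CommRingCat.of R)))
  (hi : i ≫ CohB1.ProjSpaceOver.toBase N (Spec (CommRingCat.of R)) = strMap 𝒜)
  (τ : (Scheme.Modules.pullback (i ≫ fstP N (Spec (CommRingCat.of R)))).obj
      (Twist.twistProjSpace N (ULift.{u} ℤ) 1) ≅ Twist.twist 𝒜 (n : ℤ))
  (hτ : ∀ k, (τ.hom.app ⊤).hom (tsec N (i ≫ fstP N (Spec (CommRingCat.of R))) k) = gsec 𝒜 (b k))
  (hcl : IsClosed (Set.range i))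

include hn hgen hsp hi hτ hcl in
/-- **Closed immersion criterion**: the morphism `Proj 𝒜 → P^N_ℤ × Spec R` defined by sections
`b k ∈ 𝒜 n` of `O(n)` is a closed immersion if every point has a chart `D₊(γ)`, `γ ∈ 𝒜 1`, with
`γⁿ` among the `b k` and such that for generators `a` (degree `e ≤ n`) of `A` the elements
`a γ^{n-e}` are among the `b k`. -/
theorem isClosedImmersion_of_data : IsClosedImmersion i := by
  have hcov : ∀ y : Proj 𝒜, ∃ b' : 𝒜 n, y ∈ Proj.basicOpen 𝒜 b'.1 := by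
    intro y
    obtain ⟨k, γ, hk, hy, -⟩ := hsp y
    refine ⟨b k, ?_⟩
    rw [hk, Proj.basicOpen_pow 𝒜 _ n hn]
    exact hy
  have hpre : ∀ k, (i ≫ fstP N (Spec (CommRingCat.of R))) ⁻¹ᵁ Dp N k =
      Proj.basicOpen 𝒜 (b k).1 :=
    preimage_Dp_eq 𝒜 b (i ≫ fstP N (Spec (CommRingCat.of R))) τ hτ hcov
  let κ := {p : Fin (N + 1) × 𝒜 1 // (b p.1 : A) = (p.2 : A) ^ n ∧
    ∀ a ∈ G, ∃ (e : ℕ) (_ : a ∈ 𝒜 e) (_ : e ≤ n) (k' : Fin (N + 1)),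
      (b k' : A) = a * (p.2 : A) ^ (n - e)}
  let V : κ → (CohB1.ProjSpaceOver N (Spec (CommRingCat.of R))).Opens :=
    fun p => fstP N (Spec (CommRingCat.of R)) ⁻¹ᵁ Dp N p.1.1
  have hWeq : ∀ p : κ, i ⁻¹ᵁ V p = Proj.basicOpen 𝒜 (p.1.2 : A) := by
    intro p
    change (i ≫ fstP N (Spec (CommRingCat.of R))) ⁻¹ᵁ Dp N p.1.1 = _
    rw [hpre, p.2.1, Proj.basicOpen_pow 𝒜 _ n hn]
  have haffP : @IsAffineHom (CohB1.ProjSpaceOver N (Spec (CommRingCat.of R)))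
      (Proj (CohB1.polyGrading N (ULift.{u} ℤ))) (fstP N (Spec (CommRingCat.of R))) :=
    MorphismProperty.pullback_fst (P := @IsAffineHom) _ _ inferInstance
  apply isClosedImmersion_of_cover i V
  · intro p
    exact (Proj.isAffineOpen_basicOpen (CohB1.polyGrading N (ULift.{u} ℤ)) _
      (MvPolynomial.isHomogeneous_X _ p.1.1) one_pos).preimage (fstP N (Spec (CommRingCat.of R)))
  · intro p
    rw [hWeq p]
    exact Proj.isAffineOpen_basicOpen 𝒜 _ p.1.2.2 one_pos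
  · intro p
    let S : Subring Γ(Proj 𝒜, i ⁻¹ᵁ V p) := (i.app (V p)).hom.range
    have hS : S = ⊤ := by
      refine subring_eq_top_of_gens 𝒜 G hgen p.1.2.2 (i ⁻¹ᵁ V p) (hWeq p).le S ?_ ?_ (hWeq p)
      · intro a ha
        obtain ⟨e, hae, he, k', hk'⟩ := p.2.2 a ha
        refine ⟨e, hae, ?_⟩
        have hWk : (i ≫ fstP N (Spec (CommRingCat.of R))) ⁻¹ᵁ Dp N p.1.1 ≤
            Proj.basicOpen 𝒜 (b p.1.1).1 := (hpre p.1.1).le
        have hc := cfun_eq_fr 𝒜 b (i ≫ fstP N (Spec (CommRingCat.of R))) τ hτ p.1.1 k' hWk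
        have hfr : fr 𝒜 a ((p.1.2 : A) ^ e) hae (pow_mem_deg 𝒜 p.1.2.2 e) (i ⁻¹ᵁ V p)
            (pow_notMem 𝒜 (hWeq p).le e) =
            fr 𝒜 (b k').1 (b p.1.1).1 (b k').2 (b p.1.1).2
              ((i ≫ fstP N (Spec (CommRingCat.of R))) ⁻¹ᵁ Dp N p.1.1)
              (notMem_of_mem_basicOpen 𝒜 hWk) := by
          apply fr_eq_of_mul_eq
          rw [hk', p.2.1, mul_assoc, ← pow_add, Nat.sub_add_cancel he]
        rw [hfr, ← hc]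
        exact ⟨((fstP N (Spec (CommRingCat.of R))).app (Dp N p.1.1)).hom _, rfl⟩
      · intro c
        have h1 := toGlobal_strMap 𝒜 c
        have h2 : fr 𝒜 (algebraMap R A c) 1 (SetLike.algebraMap_mem_graded 𝒜 c)
            SetLike.GradedOne.one_mem (i ⁻¹ᵁ V p) (fun y _ => one_notMem 𝒜 y) =
            rr (Proj 𝒜) (le_top : i ⁻¹ᵁ V p ≤ ⊤) (ProjUP.toGlobal (strMap 𝒜) c) := by
          rw [h1]
          rfl
        rw [h2, ← hi]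
        have h3 : ProjUP.toGlobal (i ≫ CohB1.ProjSpaceOver.toBase N (Spec (CommRingCat.of R))) c =
            i.appTop.hom (ProjUP.toGlobal (CohB1.ProjSpaceOver.toBase N (Spec (CommRingCat.of R))) c) :=
          rfl
        rw [h3, ← app_rr]
        exact ⟨_, rfl⟩
    intro s
    have : s ∈ S := by rw [hS]; trivial
    exact this
  · intro x
    obtain ⟨k, γ, hk, hx, hG⟩ := hsp x
    refine ⟨⟨(k, γ), hk, hG⟩, ?_⟩
    change x ∈ i ⁻¹ᵁ V ⟨(k, γ), hk, hG⟩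
    rw [hWeq]
    exact hx
  · exact hcl

end core

end Groth.Agent.Lib.Helper60.Ver
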