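import Groth.Agent.Lib.Helper60.Ver3
import Groth.Agent.Lib.Helper7.ProjSpaceProper

/-!
# `O_X(n)` is very ample on `Proj` of a finite type graded algebra (helper60)
-/

set_option autoImplicit false
universe u
open CategoryTheory CategoryTheory.Limits AlgebraicGeometry TopologicalSpace Opposite

namespace Groth.Agent.Lib.Helper60.Ver

open Groth.Agent.Lib.Helper35.Gen Groth.Agent.Lib.Helper35.AbSheaf
open Groth.Agent.Lib.Helper60.ProjUPLib Groth.Agent.Lib.Helper60.TwistLib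
open Groth.Agent.Lib.Helper60.ProjFrac Groth.Agent.Lib.Helper60.SecKer
open Groth.Agent.Lib.Helper60.PbComp Groth.Agent.Lib.Helper35.PbInv
open Groth.Agent.Lib.Helper60.Segre

variable {R A : Type u} [CommRing R] [CommRing A] [Algebra R A] (𝒜 : ℕ → Submodule R A)
  [GradedAlgebra 𝒜]

section proper

variable (G : Set A) (hG : ∀ a ∈ G, ∃ n, 0 < n ∧ a ∈ 𝒜 n) (hgen : Algebra.adjoin R G = ⊤)

include hG hgen in
theorem isProper_strMap [Algebra.FiniteType R A] : IsProper (strMap 𝒜) := by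
  have : IsScalarTower R (𝒜 0) A :=
    IsScalarTower.of_algebraMap_eq (R := R) (S := ↥(𝒜 0)) (A := A) (fun _ => rfl)
  have : Algebra.FiniteType (𝒜 0) A := Algebra.FiniteType.of_restrictScalars_finiteType R (𝒜 0) A
  have h1 : IsClosedImmersion (Spec.map (CommRingCat.ofHom (algebraMap R (𝒜 0)))) :=
    IsClosedImmersion.spec_of_surjective _ (algebraMap_zero_surjective 𝒜 G hG hgen)
  unfold strMap
  infer_instance

end proper

section general

variable {n : ℕ} (hn1 : 0 < n) [Algebra.FiniteType R A]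
  (G : Finset A) (hgen : Algebra.adjoin R (G : Set A) = ⊤)
  (hG : ∀ a ∈ G, ∃ e, 0 < e ∧ e ≤ n ∧ a ∈ 𝒜 e)
  (hcov : (⨆ g : 𝒜 1, Proj.basicOpen 𝒜 (g : A)) = ⊤)

include hn1 hgen hG hcov in
/-- If `A` is generated by finitely many homogeneous elements of degrees in `[1, n]` and `Proj 𝒜`
is covered by the `D₊(g)`, `g` of degree one, then `O(n)` is very ample. -/
theorem exists_closedImmersion_of_finset :
    ∃ (N : ℕ) (i : Proj 𝒜 ⟶ CohB1.ProjSpaceOver N (Spec (CommRingCat.of R))), IsClosedImmersion i ∧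
      i ≫ CohB1.ProjSpaceOver.toBase N (Spec (CommRingCat.of R)) = strMap 𝒜 ∧
      Nonempty (Twist.twist 𝒜 (n : ℤ) ≅
        (Scheme.Modules.pullback i).obj (Twist.twistOver N (Spec (CommRingCat.of R)) 1)) := by
  classical
  have hGpos : ∀ a ∈ (G : Set A), ∃ e, 0 < e ∧ a ∈ 𝒜 e := fun a ha => by
    obtain ⟨e, h1, -, h3⟩ := hG a ha
    exact ⟨e, h1, h3⟩
  have hproper : IsProper (strMap 𝒜) := isProper_strMap 𝒜 (G : Set A) hGpos hgen
  have hcomp : CompactSpace (Proj 𝒜) := QuasiCompact.compactSpace_of_compactSpace (strMap 𝒜)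
  -- finite subcover
  obtain ⟨Γ', hΓ'⟩ : ∃ Γ' : Finset (𝒜 1), ∀ x : Proj 𝒜, ∃ γ ∈ Γ', x ∈ Proj.basicOpen 𝒜 (γ : A) := by
    have hU : (Set.univ : Set (Proj 𝒜)) ⊆ ⋃ g : 𝒜 1, (Proj.basicOpen 𝒜 (g : A) : Set (Proj 𝒜)) := by
      intro x _
      have hx : x ∈ (⨆ g : 𝒜 1, Proj.basicOpen 𝒜 (g : A)) := by rw [hcov]; trivial
      obtain ⟨g, hg⟩ := Opens.mem_iSup.mp hx
      exact Set.mem_iUnion.mpr ⟨g, hg⟩
    obtain ⟨Γ', hΓ'⟩ := isCompact_univ.elim_finite_subcover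
      (fun g : 𝒜 1 => (Proj.basicOpen 𝒜 (g : A) : Set (Proj 𝒜)))
      (fun g => (Proj.basicOpen 𝒜 (g : A)).2) hU
    refine ⟨Γ', fun x => ?_⟩
    have := hΓ' (Set.mem_univ x)
    simp only [Set.mem_iUnion] at this
    obtain ⟨γ, hγ, hx⟩ := this
    exact ⟨γ, hγ, hx⟩
  -- degrees of the generators
  have hdeg : ∀ a : ↥G, ∃ e, 0 < e ∧ e ≤ n ∧ (a : A) ∈ 𝒜 e := fun a => hG a.1 a.2
  choose dg hdg1 hdg2 hdg3 using hdeg
  -- the sections
  let K := Option (Option ↥G × ↥Γ')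
  let b₀ : K → 𝒜 n := fun o => match o with
    | none => 0
    | some (none, γ) => ⟨(γ.1 : A) ^ n, pow_mem_deg 𝒜 γ.1.2 n⟩
    | some (some a, γ) => ⟨(a : A) * (γ.1 : A) ^ (n - dg a), by
        have h := SetLike.GradedMul.mul_mem (hdg3 a) (pow_mem_deg 𝒜 γ.1.2 (n - dg a))
        rwa [Nat.add_sub_cancel' (hdg2 a)] at h⟩
  let N := Fintype.card (Option ↥G × ↥Γ')
  have hcard : Fintype.card K = N + 1 := Fintype.card_option
  let e : Fin (N + 1) ≃ K := (Fintype.equivFinOfCardEq hcard).symm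
  let b : Fin (N + 1) → 𝒜 n := fun k => b₀ (e k)
  have hsp : ∀ x : Proj 𝒜, ∃ (k : Fin (N + 1)) (γ : 𝒜 1), (b k : A) = (γ : A) ^ n ∧
      x ∈ Proj.basicOpen 𝒜 (γ : A) ∧
      ∀ a ∈ (G : Set A), ∃ (e : ℕ) (_ : a ∈ 𝒜 e) (_ : e ≤ n) (k' : Fin (N + 1)),
        (b k' : A) = a * (γ : A) ^ (n - e) := by
    intro x
    obtain ⟨γ, hγ, hx⟩ := hΓ' x
    refine ⟨e.symm (some (none, ⟨γ, hγ⟩)), γ, ?_, hx, ?_⟩
    · show (b₀ (e (e.symm (some (none, ⟨γ, hγ⟩))))).1 = _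
      rw [Equiv.apply_symm_apply]
    · intro a ha
      refine ⟨dg ⟨a, ha⟩, hdg3 ⟨a, ha⟩, hdg2 ⟨a, ha⟩, e.symm (some (some ⟨a, ha⟩, ⟨γ, hγ⟩)), ?_⟩
      show (b₀ (e (e.symm (some (some ⟨a, ha⟩, ⟨γ, hγ⟩))))).1 = _
      rw [Equiv.apply_symm_apply]
  let L := Twist.twist 𝒜 (n : ℤ)
  let v : Fin (N + 1) → ProjUP.Γm L := fun k => gsec 𝒜 (b k)
  have hcov' : ∀ x : Proj 𝒜, ∃ k, x ∈ genOpen L (v k) := by
    intro x
    obtain ⟨k, γ, hk, hx, -⟩ := hsp x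
    refine ⟨k, basicOpen_le_genOpen 𝒜 (b k) ?_⟩
    rw [hk, Proj.basicOpen_pow 𝒜 _ n hn1]
    exact hx
  obtain ⟨j, hj, τ, hτ⟩ := exists_projSpace' N
    (strMap 𝒜 ≫ specULiftZIsTerminal.from (Spec (CommRingCat.of R))) L v hcov'
  let i : Proj 𝒜 ⟶ CohB1.ProjSpaceOver N (Spec (CommRingCat.of R)) :=
    pullback.lift j (strMap 𝒜) hj
  have hi : i ≫ CohB1.ProjSpaceOver.toBase N (Spec (CommRingCat.of R)) = strMap 𝒜 :=
    pullback.lift_snd _ _ _
  have hij : i ≫ fstP N (Spec (CommRingCat.of R)) = j := pullback.lift_fst _ _ _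
  obtain ⟨τ', hτ'⟩ : ∃ τ' : (Scheme.Modules.pullback (i ≫ fstP N (Spec (CommRingCat.of R)))).obj
      (Twist.twistProjSpace N (ULift.{u} ℤ) 1) ≅ L,
      ∀ k, (τ'.hom.app ⊤).hom (tsec N (i ≫ fstP N (Spec (CommRingCat.of R))) k) = v k := by
    rw [hij]
    exact ⟨τ, hτ⟩
  have hpi : IsProper (i ≫ CohB1.ProjSpaceOver.toBase N (Spec (CommRingCat.of R))) := by
    rw [hi]; exact hproper
  have hpi' : IsProper i := IsProper.of_comp i (CohB1.ProjSpaceOver.toBase N (Spec (CommRingCat.of R)))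
  have hcl : IsClosed (Set.range i) := i.isClosedMap.isClosed_range
  refine ⟨N, i, isClosedImmersion_of_data 𝒜 hn1 b (G : Set A) hgen hsp i hi τ' hτ' hcl, hi, ⟨?_⟩⟩
  exact τ'.symm ≪≫ compIso i (fstP N (Spec (CommRingCat.of R))) (Twist.twistProjSpace N (ULift.{u} ℤ) 1)

end general

end Groth.Agent.Lib.Helper60.Ver
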