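import Groth.Agent.Lib.Helper60.Ver4

/-!
# Veronese generation: `A_{en} = (A_n)^e` for `n` a large multiple of the lcm of the degrees (helper60)
-/

set_option autoImplicit false
universe u
open CategoryTheory CategoryTheory.Limits AlgebraicGeometry TopologicalSpace Opposite

namespace Groth.Agent.Lib.Helper60.Ver

variable {R A : Type u} [CommRing R] [CommRing A] [Algebra R A] (𝒜 : ℕ → Submodule R A)
  [GradedAlgebra 𝒜]

section mono

variable {ι : Type*} [Fintype ι] (f : ι → A) (deg : ι → ℕ)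

/-- monomials in the `f i` -/
def mono (α : ι → ℕ) : A := ∏ i, f i ^ α i

/-- formal degree of a monomial -/
def mdeg (α : ι → ℕ) : ℕ := ∑ i, α i * deg i

variable {f deg}

theorem mono_mem (hf : ∀ i, f i ∈ 𝒜 (deg i)) (α : ι → ℕ) : mono f α ∈ 𝒜 (mdeg deg α) := by
  have := SetLike.prod_pow_mem_graded 𝒜 deg f (F := Finset.univ) α (fun k _ => hf k)
  simpa [mono, mdeg] using this

omit [Algebra R A] in
theorem mono_add (α β : ι → ℕ) : mono f (α + β) = mono f α * mono f β := by
  unfold mono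
  rw [← Finset.prod_mul_distrib]
  exact Finset.prod_congr rfl (fun i _ => pow_add _ _ _)

theorem mdeg_add (α β : ι → ℕ) : mdeg deg (α + β) = mdeg deg α + mdeg deg β := by
  unfold mdeg
  rw [← Finset.sum_add_distrib]
  exact Finset.sum_congr rfl (fun i _ => by simp [add_mul])

omit [Algebra R A] in
theorem mono_zero : mono f (0 : ι → ℕ) = 1 := by simp [mono]

theorem mdeg_zero : mdeg deg (0 : ι → ℕ) = 0 := by simp [mdeg]

omit [Algebra R A] in
theorem mono_single [DecidableEq ι] (i : ι) (k : ℕ) : mono f (Pi.single i k) = f i ^ k := by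
  unfold mono
  rw [Finset.prod_eq_single i]
  · simp
  · intro j _ hj
    simp [Pi.single_eq_of_ne hj]
  · intro h; exact absurd (Finset.mem_univ i) h

theorem mdeg_single [DecidableEq ι] (i : ι) (k : ℕ) : mdeg deg (Pi.single i k) = k * deg i := by
  unfold mdeg
  rw [Finset.sum_eq_single i]
  · simp
  · intro j _ hj
    simp [Pi.single_eq_of_ne hj]
  · intro h; exact absurd (Finset.mem_univ i) h

omit [Algebra R A] in
theorem exists_mono_of_mem_closure (a : A) (ha : a ∈ Submonoid.closure (Set.range f)) :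
    ∃ α : ι → ℕ, a = mono f α := by
  classical
  induction ha using Submonoid.closure_induction with
  | mem a ha =>
    obtain ⟨i, rfl⟩ := ha
    exact ⟨Pi.single i 1, by rw [mono_single, pow_one]⟩
  | one => exact ⟨0, mono_zero.symm⟩
  | mul a b _ _ iha ihb =>
    obtain ⟨α, rfl⟩ := iha
    obtain ⟨β, rfl⟩ := ihb
    exact ⟨α + β, (mono_add α β).symm⟩

/-- the degree `m` part is spanned by the monomials of formal degree `m` -/
theorem decompose_mem_span (hf : ∀ i, f i ∈ 𝒜 (deg i))
    (hgen : Algebra.adjoin R (Set.range f) = ⊤) (a : A) (m : ℕ) :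
    (DirectSum.decompose 𝒜 a m : A) ∈
      Submodule.span R {x : A | ∃ α : ι → ℕ, mdeg deg α = m ∧ x = mono f α} := by
  have ha : a ∈ Submodule.span R (Submonoid.closure (Set.range f) : Set A) := by
    rw [← Algebra.adjoin_eq_span, hgen]; trivial
  induction ha using Submodule.span_induction with
  | mem a ha =>
    obtain ⟨α, rfl⟩ := exists_mono_of_mem_closure a ha
    by_cases h : m = mdeg deg α
    · subst h
      rw [DirectSum.decompose_of_mem_same 𝒜 (mono_mem 𝒜 hf α)]
      exact Submodule.subset_span ⟨α, rfl, rfl⟩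
    · rw [DirectSum.decompose_of_mem_ne 𝒜 (mono_mem 𝒜 hf α) (fun h' => h h'.symm)]
      exact zero_mem _
  | zero =>
    rw [DirectSum.decompose_zero]
    exact zero_mem _
  | add a b _ _ iha ihb =>
    rw [DirectSum.decompose_add]
    exact add_mem iha ihb
  | smul c a _ iha =>
    rw [DirectSum.decompose_smul]
    exact Submodule.smul_mem _ c iha

theorem le_span_mono (hf : ∀ i, f i ∈ 𝒜 (deg i))
    (hgen : Algebra.adjoin R (Set.range f) = ⊤) (m : ℕ) :
    𝒜 m ≤ Submodule.span R {x : A | ∃ α : ι → ℕ, mdeg deg α = m ∧ x = mono f α} := by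
  intro c hc
  have := decompose_mem_span 𝒜 hf hgen c m
  rwa [DirectSum.decompose_of_mem_same 𝒜 hc] at this

end mono

section gradedpow

theorem graded_mul_le (i j : ℕ) : 𝒜 i * 𝒜 j ≤ 𝒜 (i + j) :=
  Submodule.mul_le.mpr (fun _ ha _ hb => SetLike.mul_mem_graded ha hb)

theorem graded_pow_le (l k : ℕ) : 𝒜 l ^ k ≤ 𝒜 (k * l) := by
  induction k with
  | zero =>
    rw [pow_zero, Nat.zero_mul, Submodule.one_le]
    exact SetLike.GradedOne.one_mem
  | succ k ih =>
    rw [pow_succ]
    refine (mul_le_mul' ih le_rfl).trans ?_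
    refine (graded_mul_le 𝒜 (k * l) l).trans (le_of_eq ?_)
    congr 1
    ring

theorem prod_mem_pow {ι : Type*} (M : Submodule R A) (F : Finset ι) (x : ι → A) (q : ι → ℕ)
    (hx : ∀ i ∈ F, x i ∈ M ^ q i) : ∏ i ∈ F, x i ∈ M ^ (∑ i ∈ F, q i) := by
  classical
  induction F using Finset.induction_on with
  | empty =>
    rw [Finset.prod_empty, Finset.sum_empty, pow_zero]
    exact Submodule.one_le.mp le_rfl
  | insert a F ha ih =>
    rw [Finset.prod_insert ha, Finset.sum_insert ha, pow_add]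
    exact Submodule.mul_mem_mul (hx a (Finset.mem_insert_self a F))
      (ih (fun i hi => hx i (Finset.mem_insert_of_mem hi)))

end gradedpow

section comb

variable {s : ℕ} (f : Fin s → A) (deg : Fin s → ℕ) (hdeg : ∀ i, 0 < deg i)
  (hf : ∀ i, f i ∈ 𝒜 (deg i)) (a : ℕ) (ha : 0 < a) (has : s - 1 ≤ a)

include hdeg hf ha has in
/-- every monomial of degree `e n`, `n = a · lcm`, `a ≥ max(1, s-1)`, `e ≥ 1`, is a product of `e`
elements of degree `n` -/
theorem mono_mem_pow (e : ℕ) (he : 0 < e) (α : Fin s → ℕ)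
    (hα : mdeg deg α = e * (a * Finset.univ.lcm deg)) :
    mono f α ∈ (𝒜 (a * Finset.univ.lcm deg)) ^ e := by
  set l := Finset.univ.lcm deg with hl
  have hdvd : ∀ i, deg i ∣ l := fun i => Finset.dvd_lcm (Finset.mem_univ i)
  have hl0 : 0 < l := by
    rw [Nat.pos_iff_ne_zero]
    intro h0
    rw [hl, Finset.lcm_eq_zero_iff] at h0
    obtain ⟨i, -, hi⟩ := h0
    exact (hdeg i).ne' hi
  let u : Fin s → ℕ := fun i => l / deg i
  have hu : ∀ i, u i * deg i = l := fun i => Nat.div_mul_cancel (hdvd i)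
  have hupos : ∀ i, 0 < u i := fun i => by
    rcases Nat.eq_zero_or_pos (u i) with h | h
    · have := hu i
      rw [h, zero_mul] at this
      omega
    · exact h
  let q : Fin s → ℕ := fun i => α i / u i
  let r : Fin s → ℕ := fun i => α i % u i
  have hqr : ∀ i, α i = u i * q i + r i := fun i => (Nat.div_add_mod (α i) (u i)).symm
  have hr : ∀ i, r i < u i := fun i => Nat.mod_lt _ (hupos i)
  set X : A := ∏ i, (f i ^ u i) ^ q i with hX
  have hmono : mono f α = X * mono f r := by
    unfold mono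
    rw [hX, ← Finset.prod_mul_distrib]
    refine Finset.prod_congr rfl (fun i _ => ?_)
    rw [← pow_mul, ← pow_add, ← hqr i]
  set Q := ∑ i, q i with hQ
  have hmdeg : mdeg deg α = Q * l + mdeg deg r := by
    unfold mdeg
    rw [hQ, Finset.sum_mul, ← Finset.sum_add_distrib]
    refine Finset.sum_congr rfl (fun i _ => ?_)
    rw [hqr i, add_mul, mul_comm (u i) (q i), mul_assoc, hu i]
  have hs : 0 < s := by
    rcases Nat.eq_zero_or_pos s with h | h
    · subst h
      have h1 : mdeg deg α = 0 := by simp [mdeg]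
      rw [h1] at hα
      have : 0 < e * (a * l) := Nat.mul_pos he (Nat.mul_pos ha hl0)
      omega
    · exact h
  have hbound : mdeg deg r + s ≤ s * l := by
    unfold mdeg
    have h1 : ∀ i ∈ (Finset.univ : Finset (Fin s)), r i * deg i + 1 ≤ l := by
      intro i _
      have h2 : r i + 1 ≤ u i := hr i
      have h3 : (r i + 1) * deg i ≤ u i * deg i := Nat.mul_le_mul_right _ h2
      rw [hu i, add_mul, one_mul] at h3
      have := hdeg i
      omega
    have h2 := Finset.sum_le_sum h1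
    rw [Finset.sum_add_distrib] at h2
    simpa using h2
  -- `mdeg r = ρ l`
  have hdvdr : l ∣ mdeg deg r := by
    have h1 : l ∣ mdeg deg α := ⟨e * a, by rw [hα]; ring⟩
    rw [hmdeg] at h1
    exact (Nat.dvd_add_right (Dvd.intro_left Q rfl)).mp h1
  obtain ⟨ρ, hρ⟩ := hdvdr
  have hρs : ρ + 1 ≤ s := by
    by_contra hcon
    push Not at hcon
    have h1 : s * l ≤ ρ * l := Nat.mul_le_mul_right l (by omega)
    rw [hρ, mul_comm l ρ] at hbound
    omega
  have hρa : ρ ≤ a := by omega
  have hQρ : Q + ρ = e * a := by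
    have h1 : (Q + ρ) * l = (e * a) * l := by
      rw [add_mul, mul_comm ρ l, ← hρ, ← hmdeg, hα]
      ring
    exact Nat.eq_of_mul_eq_mul_right hl0 h1
  have hQeq : Q = (a - ρ) + a * (e - 1) := by
    obtain ⟨e', rfl⟩ : ∃ e', e = e' + 1 := ⟨e - 1, by omega⟩
    have : (e' + 1) * a = e' * a + a := by ring
    rw [Nat.add_sub_cancel, mul_comm a e']
    omega
  -- memberships
  have hfu : ∀ i, f i ^ u i ∈ 𝒜 l := fun i => by
    have := SetLike.pow_mem_graded (u i) (hf i)
    rwa [smul_eq_mul, hu i] at this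
  have hXmem : X ∈ 𝒜 l ^ Q :=
    prod_mem_pow (𝒜 l) Finset.univ (fun i => (f i ^ u i) ^ q i) q
      (fun i _ => Submodule.pow_mem_pow _ (hfu i) (q i))
  have hrmem : mono f r ∈ 𝒜 (ρ * l) := by
    have := mono_mem 𝒜 hf r
    rwa [hρ, mul_comm l ρ] at this
  rw [hmono]
  have h1 : X * mono f r ∈ 𝒜 l ^ Q * 𝒜 (ρ * l) := Submodule.mul_mem_mul hXmem hrmem
  have h2 : 𝒜 l ^ Q * 𝒜 (ρ * l) ≤ 𝒜 (a * l) ^ e := by
    rw [hQeq, pow_add, pow_mul, mul_right_comm]
    have h3 : 𝒜 l ^ (a - ρ) * 𝒜 (ρ * l) ≤ 𝒜 (a * l) := by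
      refine (mul_le_mul' (graded_pow_le 𝒜 l (a - ρ)) le_rfl).trans ?_
      refine (graded_mul_le 𝒜 _ _).trans (le_of_eq ?_)
      congr 1
      rw [← add_mul, Nat.sub_add_cancel hρa]
    have h4 : (𝒜 l ^ a) ^ (e - 1) ≤ 𝒜 (a * l) ^ (e - 1) :=
      pow_le_pow_left' (graded_pow_le 𝒜 l a) _
    refine (mul_le_mul' h3 h4).trans (le_of_eq ?_)
    rw [← pow_succ']
    congr 1
    omega
  exact h2 h1

include hdeg hf ha has in
/-- **Veronese generation**: `A_{en} = (A_n)^e` for `n = a · lcm(deg)`, `a ≥ max(1, s-1)`. -/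
theorem veronese_le (hgen : Algebra.adjoin R (Set.range f) = ⊤) (e : ℕ) :
    𝒜 (e * (a * Finset.univ.lcm deg)) ≤ (𝒜 (a * Finset.univ.lcm deg)) ^ e := by
  rcases Nat.eq_zero_or_pos e with h | he
  · subst h
    rw [Nat.zero_mul, pow_zero]
    intro c hc
    have h1 : c ∈ (algebraMap R A).range := by
      have hG : ∀ x ∈ Set.range f, ∃ n, 0 < n ∧ x ∈ 𝒜 n := by
        rintro _ ⟨i, rfl⟩
        exact ⟨deg i, hdeg i, hf i⟩
      have := decompose_zero_mem_range 𝒜 (Set.range f) hG hgen c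
      rwa [DirectSum.decompose_of_mem_same 𝒜 hc] at this
    obtain ⟨r, rfl⟩ := h1
    exact Submodule.algebraMap_mem r
  · refine (le_span_mono 𝒜 hf hgen _).trans ?_
    rw [Submodule.span_le]
    rintro _ ⟨α, hα, rfl⟩
    exact mono_mem_pow 𝒜 f deg hdeg hf a ha has e he α hα

end comb

end Groth.Agent.Lib.Helper60.Ver
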