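import Groth.Agent.Lib.Helper60.Ver5

/-!
# Charts `D₊(f)`, `f` of degree `n`, when the Veronese ring is generated in degree one (helper60)
-/

set_option autoImplicit false
universe u
open CategoryTheory CategoryTheory.Limits AlgebraicGeometry TopologicalSpace Opposite

namespace Groth.Agent.Lib.Helper60.Ver

open Groth.Agent.Lib.Helper35.Gen Groth.Agent.Lib.Helper35.AbSheaf
open Groth.Agent.Lib.Helper60.ProjUPLib Groth.Agent.Lib.Helper60.TwistLib
open Groth.Agent.Lib.Helper60.ProjFrac Groth.Agent.Lib.Helper60.SecKer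
open Groth.Agent.Lib.Helper60.PbComp Groth.Agent.Lib.Helper35.PbInv
open Groth.Agent.Lib.Helper60.Segre

variable {R A : Type u} [CommRing R] [CommRing A] [Algebra R A] (𝒜 : ℕ → Submodule R A)
  [GradedAlgebra 𝒜]

section chart

variable {n : ℕ} {f : A} (hf : f ∈ 𝒜 n)

include hf in
theorem pow_mem_deg' (e : ℕ) : f ^ e ∈ 𝒜 (e * n) := by
  have := SetLike.pow_mem_graded e hf
  simpa using this

variable (V : (Proj 𝒜).Opens) (hV : V ≤ Proj.basicOpen 𝒜 f) (S : Subring Γ(Proj 𝒜, V))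
  (h1 : ∀ (b : A) (hb : b ∈ 𝒜 n), fr 𝒜 b f hb hf V (notMem_of_mem_basicOpen 𝒜 hV) ∈ S)
  (h0 : ∀ c : R, fr 𝒜 (algebraMap R A c) 1 (SetLike.algebraMap_mem_graded 𝒜 c)
      SetLike.GradedOne.one_mem V (fun y _ => one_notMem 𝒜 y) ∈ S)

include h1 h0 in
theorem ver_aux (e : ℕ) : ∀ c ∈ (𝒜 n) ^ e,
    fr 𝒜 (DirectSum.decompose 𝒜 c (e * n) : A) (f ^ e) (DirectSum.decompose 𝒜 c (e * n)).2
      (pow_mem_deg' 𝒜 hf e) V (pow_notMem 𝒜 hV e) ∈ S := by
  induction e with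
  | zero =>
    intro c hc
    rw [pow_zero] at hc
    obtain ⟨r, rfl⟩ := Submodule.mem_one.mp hc
    have e1 : fr 𝒜 (DirectSum.decompose 𝒜 (algebraMap R A r) (0 * n) : A) (f ^ 0)
        (DirectSum.decompose 𝒜 (algebraMap R A r) (0 * n)).2
        (pow_mem_deg' 𝒜 hf 0) V (pow_notMem 𝒜 hV 0) =
        fr 𝒜 (algebraMap R A r) 1 (SetLike.algebraMap_mem_graded 𝒜 r)
          SetLike.GradedOne.one_mem V (fun y _ => one_notMem 𝒜 y) := by
      apply fr_congr
      · have h : algebraMap R A r ∈ 𝒜 (0 * n) := by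
          rw [Nat.zero_mul]; exact SetLike.algebraMap_mem_graded 𝒜 r
        exact DirectSum.decompose_of_mem_same 𝒜 h
      · exact pow_zero f
    rw [e1]
    exact h0 r
  | succ e ih =>
    intro c hc
    rw [pow_succ] at hc
    induction hc using Submodule.mul_induction_on' with
    | mem_mul_mem m hm x hx =>
      have hdec : (DirectSum.decompose 𝒜 (m * x) ((e + 1) * n) : A) =
          (DirectSum.decompose 𝒜 m (e * n) : A) * x := by
        have h := DirectSum.coe_decompose_mul_add_of_right_mem 𝒜 (a := m) (i := e * n) hx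
        rw [← h]
        have hidx : ∀ k k' : ℕ, k = k' → (DirectSum.decompose 𝒜 (m * x) k : A) =
            (DirectSum.decompose 𝒜 (m * x) k' : A) := by
          intro k k' hk
          subst hk
          rfl
        exact hidx _ _ (Nat.succ_mul e n)
      have e1 : fr 𝒜 (DirectSum.decompose 𝒜 (m * x) ((e + 1) * n) : A) (f ^ (e + 1))
          (DirectSum.decompose 𝒜 (m * x) ((e + 1) * n)).2
          (pow_mem_deg' 𝒜 hf (e + 1)) V (pow_notMem 𝒜 hV (e + 1)) =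
          fr 𝒜 (DirectSum.decompose 𝒜 m (e * n) : A) (f ^ e) (DirectSum.decompose 𝒜 m (e * n)).2
            (pow_mem_deg' 𝒜 hf e) V (pow_notMem 𝒜 hV e) *
          fr 𝒜 x f hx hf V (notMem_of_mem_basicOpen 𝒜 hV) := by
        rw [fr_mul]
        apply fr_congr
        · exact hdec
        · exact pow_succ f e
      rw [e1]
      exact mul_mem (ih m hm) (h1 x hx)
    | add x _ y _ hx hy =>
      have e1 : fr 𝒜 (DirectSum.decompose 𝒜 (x + y) ((e + 1) * n) : A) (f ^ (e + 1))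
          (DirectSum.decompose 𝒜 (x + y) ((e + 1) * n)).2
          (pow_mem_deg' 𝒜 hf (e + 1)) V (pow_notMem 𝒜 hV (e + 1)) =
          fr 𝒜 (DirectSum.decompose 𝒜 x ((e + 1) * n) : A) (f ^ (e + 1))
            (DirectSum.decompose 𝒜 x ((e + 1) * n)).2
            (pow_mem_deg' 𝒜 hf (e + 1)) V (pow_notMem 𝒜 hV (e + 1)) +
          fr 𝒜 (DirectSum.decompose 𝒜 y ((e + 1) * n) : A) (f ^ (e + 1))
            (DirectSum.decompose 𝒜 y ((e + 1) * n)).2
            (pow_mem_deg' 𝒜 hf (e + 1)) V (pow_notMem 𝒜 hV (e + 1)) := by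
        rw [fr_add]
        refine fr_congr 𝒜 _ _ _ _ _ _ _ ?_ rfl
        rw [DirectSum.decompose_add]
        rfl
      rw [e1]
      exact add_mem hx hy

include h1 h0 in
/-- if `A_{en} = (A_n)^e` for all `e`, a subring of `Γ(D₊(f))`, `f ∈ A_n`, `n > 0`, containing the
constants and the `b/f`, `b ∈ A_n`, is everything -/
theorem subring_eq_top_of_veronese (hn : 0 < n) (hver : ∀ e, 𝒜 (e * n) ≤ (𝒜 n) ^ e)
    (hVeq : V = Proj.basicOpen 𝒜 f) : S = ⊤ := by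
  subst hVeq
  rw [eq_top_iff]
  intro s _
  have hiso : IsIso (Proj.awayToSection 𝒜 f) := (Proj.basicOpenIsoAway 𝒜 f hf hn).isIso_hom
  obtain ⟨z, rfl⟩ := (ConcreteCategory.bijective_of_isIso (Proj.awayToSection 𝒜 f)).2 s
  obtain ⟨e, c, hc, rfl⟩ := HomogeneousLocalization.Away.mk_surjective 𝒜 hf z
  have hce : c ∈ 𝒜 (e * n) := by simpa using hc
  change (Proj.awayToSection 𝒜 f).hom _ ∈ S
  rw [awayToSection_mk]
  have e1 : fr 𝒜 c (f ^ e) hc (SetLike.pow_mem_graded e hf) (Proj.basicOpen 𝒜 f)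
      (pow_notMem 𝒜 le_rfl e) =
      fr 𝒜 (DirectSum.decompose 𝒜 c (e * n) : A) (f ^ e) (DirectSum.decompose 𝒜 c (e * n)).2
        (pow_mem_deg' 𝒜 hf e) (Proj.basicOpen 𝒜 f) (pow_notMem 𝒜 le_rfl e) :=
    fr_congr 𝒜 _ _ _ _ _ _ _ (DirectSum.decompose_of_mem_same 𝒜 hce).symm rfl
  rw [e1]
  exact ver_aux 𝒜 hf _ le_rfl S h1 h0 e c (hver e hce)

end chart

section core'

variable {n N : ℕ} (hn : 0 < n) (b : Fin (N + 1) → 𝒜 n)
  (hsp : ∀ x : Proj 𝒜, ∃ k : Fin (N + 1), x ∈ Proj.basicOpen 𝒜 (b k : A) ∧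
    ∀ (W : (Proj 𝒜).Opens) (hW : W = Proj.basicOpen 𝒜 (b k : A)) (S : Subring Γ(Proj 𝒜, W)),
      (∀ k', fr 𝒜 (b k').1 (b k).1 (b k').2 (b k).2 W (notMem_of_mem_basicOpen 𝒜 hW.le) ∈ S) →
      (∀ c : R, fr 𝒜 (algebraMap R A c) 1 (SetLike.algebraMap_mem_graded 𝒜 c)
        SetLike.GradedOne.one_mem W (fun y _ => one_notMem 𝒜 y) ∈ S) → S = ⊤)
  (i : Proj 𝒜 ⟶ CohB1.ProjSpaceOver N (Spec (CommRingCat.of R)))
  (hi : i ≫ CohB1.ProjSpaceOver.toBase N (Spec (CommRingCat.of R)) = strMap 𝒜)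
  (τ : (Scheme.Modules.pullback (i ≫ fstP N (Spec (CommRingCat.of R)))).obj
      (Twist.twistProjSpace N (ULift.{u} ℤ) 1) ≅ Twist.twist 𝒜 (n : ℤ))
  (hτ : ∀ k, (τ.hom.app ⊤).hom (tsec N (i ≫ fstP N (Spec (CommRingCat.of R))) k) = gsec 𝒜 (b k))
  (hcl : IsClosed (Set.range i))

include hn hsp hi hτ hcl in
/-- **Closed immersion criterion**: the morphism `Proj 𝒜 → P^N_ℤ × Spec R` defined by sections
`b k ∈ 𝒜 n` of `O(n)` with closed image is a closed immersion if every point lies in a chart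
`D₊(b k)` whose ring of sections is generated by the constants and the ratios `b k'/b k`. -/
theorem isClosedImmersion_of_data' : IsClosedImmersion i := by
  have hcov : ∀ y : Proj 𝒜, ∃ b' : 𝒜 n, y ∈ Proj.basicOpen 𝒜 b'.1 := by
    intro y
    obtain ⟨k, hy, -⟩ := hsp y
    exact ⟨b k, hy⟩
  have hpre : ∀ k, (i ≫ fstP N (Spec (CommRingCat.of R))) ⁻¹ᵁ Dp N k =
      Proj.basicOpen 𝒜 (b k).1 :=
    preimage_Dp_eq 𝒜 b (i ≫ fstP N (Spec (CommRingCat.of R))) τ hτ hcov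
  let κ := {k : Fin (N + 1) //
    ∀ (W : (Proj 𝒜).Opens) (hW : W = Proj.basicOpen 𝒜 (b k : A)) (S : Subring Γ(Proj 𝒜, W)),
      (∀ k', fr 𝒜 (b k').1 (b k).1 (b k').2 (b k).2 W (notMem_of_mem_basicOpen 𝒜 hW.le) ∈ S) →
      (∀ c : R, fr 𝒜 (algebraMap R A c) 1 (SetLike.algebraMap_mem_graded 𝒜 c)
        SetLike.GradedOne.one_mem W (fun y _ => one_notMem 𝒜 y) ∈ S) → S = ⊤}
  let V : κ → (CohB1.ProjSpaceOver N (Spec (CommRingCat.of R))).Opens :=
    fun p => fstP N (Spec (CommRingCat.of R)) ⁻¹ᵁ Dp N p.1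
  have hWeq : ∀ p : κ, i ⁻¹ᵁ V p = Proj.basicOpen 𝒜 (b p.1 : A) := by
    intro p
    change (i ≫ fstP N (Spec (CommRingCat.of R))) ⁻¹ᵁ Dp N p.1 = _
    rw [hpre]
  have haffP : @IsAffineHom (CohB1.ProjSpaceOver N (Spec (CommRingCat.of R)))
      (Proj (CohB1.polyGrading N (ULift.{u} ℤ))) (fstP N (Spec (CommRingCat.of R))) :=
    MorphismProperty.pullback_fst (P := @IsAffineHom) _ _ inferInstance
  apply isClosedImmersion_of_cover i V
  · intro p
    exact (Proj.isAffineOpen_basicOpen (CohB1.polyGrading N (ULift.{u} ℤ)) _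
      (MvPolynomial.isHomogeneous_X _ p.1) one_pos).preimage (fstP N (Spec (CommRingCat.of R)))
  · intro p
    rw [hWeq p]
    exact Proj.isAffineOpen_basicOpen 𝒜 _ (b p.1).2 hn
  · intro p
    let S : Subring Γ(Proj 𝒜, i ⁻¹ᵁ V p) := (i.app (V p)).hom.range
    have hS : S = ⊤ := by
      refine p.2 (i ⁻¹ᵁ V p) (hWeq p) S ?_ ?_
      · intro k'
        have hWk : (i ≫ fstP N (Spec (CommRingCat.of R))) ⁻¹ᵁ Dp N p.1 ≤
            Proj.basicOpen 𝒜 (b p.1).1 := (hpre p.1).le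
        have hc := cfun_eq_fr 𝒜 b (i ≫ fstP N (Spec (CommRingCat.of R))) τ hτ p.1 k' hWk
        have hfr : fr 𝒜 (b k').1 (b p.1).1 (b k').2 (b p.1).2 (i ⁻¹ᵁ V p)
            (notMem_of_mem_basicOpen 𝒜 (hWeq p).le) =
            fr 𝒜 (b k').1 (b p.1).1 (b k').2 (b p.1).2
              ((i ≫ fstP N (Spec (CommRingCat.of R))) ⁻¹ᵁ Dp N p.1)
              (notMem_of_mem_basicOpen 𝒜 hWk) := rfl
        rw [hfr, ← hc]
        exact ⟨((fstP N (Spec (CommRingCat.of R))).app (Dp N p.1)).hom _, rfl⟩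
      · intro c
        have h1 := toGlobal_strMap 𝒜 c
        have h2 : fr 𝒜 (algebraMap R A c) 1 (SetLike.algebraMap_mem_graded 𝒜 c)
            SetLike.GradedOne.one_mem (i ⁻¹ᵁ V p) (fun y _ => one_notMem 𝒜 y) =
            rr (Proj 𝒜) (le_top : i ⁻¹ᵁ V p ≤ ⊤) (ProjUP.toGlobal (strMap 𝒜) c) := by
          rw [h1]
          rfl
        rw [h2, ← hi]
        have h3 : ProjUP.toGlobal (i ≫ CohB1.ProjSpaceOver.toBase N (Spec (CommRingCat.of R))) c =
            i.appTop.hom (ProjUP.toGlobal (CohB1.ProjSpaceOver.toBase N (Spec (CommRingCat.of R))) c) :=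
          rfl
        rw [h3, ← app_rr]
        exact ⟨_, rfl⟩
    intro s
    have : s ∈ S := by rw [hS]; trivial
    exact this
  · intro x
    obtain ⟨k, hx, hk⟩ := hsp x
    refine ⟨⟨k, hk⟩, ?_⟩
    change x ∈ i ⁻¹ᵁ V ⟨k, hk⟩
    rw [hWeq]
    exact hx
  · exact hcl

end core'

end Groth.Agent.Lib.Helper60.Ver
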