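import Groth.Agent.Lib.Helper60.Ver6
import Groth.Agent.Lib.Helper60.TwistExtra

/-!
# `O_X(a · lcm)` is very ample on `Proj` of a graded algebra with `s` generators, `a ≥ max(1, s-1)`
-/

set_option autoImplicit false
universe u
open CategoryTheory CategoryTheory.Limits AlgebraicGeometry TopologicalSpace Opposite

namespace Groth.Agent.Lib.Helper60.Ver

open Groth.Agent.Lib.Helper35.Gen Groth.Agent.Lib.Helper35.AbSheaf
open Groth.Agent.Lib.Helper60.ProjUPLib Groth.Agent.Lib.Helper60.TwistLib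
open Groth.Agent.Lib.Helper60.ProjFrac Groth.Agent.Lib.Helper60.SecKer
open Groth.Agent.Lib.Helper60.PbComp Groth.Agent.Lib.Helper35.PbInv
open Groth.Agent.Lib.Helper60.Segre

variable {R A : Type u} [CommRing R] [CommRing A] [Algebra R A] (𝒜 : ℕ → Submodule R A)
  [GradedAlgebra 𝒜]

section lin

variable {n : ℕ} {F : A} (hF : F ∈ 𝒜 n) (W : (Proj 𝒜).Opens) (hW : W ≤ Proj.basicOpen 𝒜 F)
  (S : Subring Γ(Proj 𝒜, W)) (T : Set A)
  (hT : ∀ x ∈ T, ∃ hx : x ∈ 𝒜 n, fr 𝒜 x F hx hF W (notMem_of_mem_basicOpen 𝒜 hW) ∈ S)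
  (h0 : ∀ c : R, fr 𝒜 (algebraMap R A c) 1 (SetLike.algebraMap_mem_graded 𝒜 c)
      SetLike.GradedOne.one_mem W (fun y _ => one_notMem 𝒜 y) ∈ S)

include hT h0 in
theorem fr_mem_of_mem_span (b : A) (hb : b ∈ Submodule.span R T) :
    ∃ hx : b ∈ 𝒜 n, fr 𝒜 b F hx hF W (notMem_of_mem_basicOpen 𝒜 hW) ∈ S := by
  induction hb using Submodule.span_induction with
  | mem x hx => exact hT x hx
  | zero =>
    refine ⟨zero_mem _, ?_⟩
    rw [fr_zero]
    exact zero_mem S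
  | add x y _ _ hx hy =>
    obtain ⟨hx1, hx2⟩ := hx
    obtain ⟨hy1, hy2⟩ := hy
    refine ⟨add_mem hx1 hy1, ?_⟩
    rw [← fr_add 𝒜 x y F hx1 hy1 hF W (notMem_of_mem_basicOpen 𝒜 hW)]
    exact add_mem hx2 hy2
  | smul c x _ hx =>
    obtain ⟨hx1, hx2⟩ := hx
    refine ⟨Submodule.smul_mem _ c hx1, ?_⟩
    have e : fr 𝒜 (c • x) F (Submodule.smul_mem _ c hx1) hF W (notMem_of_mem_basicOpen 𝒜 hW) =
        fr 𝒜 (algebraMap R A c) 1 (SetLike.algebraMap_mem_graded 𝒜 c)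
          SetLike.GradedOne.one_mem W (fun y _ => one_notMem 𝒜 y) *
        fr 𝒜 x F hx1 hF W (notMem_of_mem_basicOpen 𝒜 hW) := by
      rw [fr_mul]
      apply fr_eq_of_mul_eq
      rw [Algebra.smul_def, one_mul]
    rw [e]
    exact mul_mem (h0 c) hx2

end lin

section main

variable {s : ℕ} (f : Fin s → A) (deg : Fin s → ℕ) (hdeg : ∀ i, 0 < deg i)
  (hf : ∀ i, f i ∈ 𝒜 (deg i)) (hgen : Algebra.adjoin R (Set.range f) = ⊤)
  (a : ℕ) (ha : 0 < a) (has : s - 1 ≤ a)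

include hdeg hf hgen ha has in
theorem exists_closedImmersion_lcm :
    ∃ (N : ℕ) (i : Proj 𝒜 ⟶ CohB1.ProjSpaceOver N (Spec (CommRingCat.of R))), IsClosedImmersion i ∧
      i ≫ CohB1.ProjSpaceOver.toBase N (Spec (CommRingCat.of R)) = strMap 𝒜 ∧
      Nonempty (Twist.twist 𝒜 ((a * Finset.univ.lcm deg : ℕ) : ℤ) ≅
        (Scheme.Modules.pullback i).obj (Twist.twistOver N (Spec (CommRingCat.of R)) 1)) := by
  classical
  set l := Finset.univ.lcm deg with hl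
  set n := a * l with hn
  have hdvd : ∀ i, deg i ∣ l := fun i => Finset.dvd_lcm (Finset.mem_univ i)
  have hl0 : 0 < l := by
    rw [Nat.pos_iff_ne_zero]
    intro h0
    rw [hl, Finset.lcm_eq_zero_iff] at h0
    obtain ⟨i, -, hi⟩ := h0
    exact (hdeg i).ne' hi
  have hn0 : 0 < n := Nat.mul_pos ha hl0
  have hft : Algebra.FiniteType R A :=
    ⟨⟨Finset.univ.image f, by rw [Finset.coe_image, Finset.coe_univ, Set.image_univ]; exact hgen⟩⟩
  have hGpos : ∀ x ∈ Set.range f, ∃ e, 0 < e ∧ x ∈ 𝒜 e := by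
    rintro _ ⟨i, rfl⟩
    exact ⟨deg i, hdeg i, hf i⟩
  have hproper : IsProper (strMap 𝒜) := isProper_strMap 𝒜 (Set.range f) hGpos hgen
  have hver : ∀ e, 𝒜 (e * n) ≤ (𝒜 n) ^ e := veronese_le 𝒜 f deg hdeg hf a ha has hgen
  -- the sections: monomials of degree n
  let I := {α : Fin s → Fin (n + 1) // mdeg deg (fun i => (α i : ℕ)) = n}
  let b₀ : Option I → 𝒜 n := fun o => match o with
    | none => 0
    | some α => ⟨mono f (fun i => (α.1 i : ℕ)), by
        have h := mono_mem 𝒜 hf (fun i => (α.1 i : ℕ))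
        rwa [α.2] at h⟩
  let N := Fintype.card I
  have hcard : Fintype.card (Option I) = N + 1 := Fintype.card_option
  let e : Fin (N + 1) ≃ Option I := (Fintype.equivFinOfCardEq hcard).symm
  let b : Fin (N + 1) → 𝒜 n := fun k => b₀ (e k)
  -- every monomial of degree n is among the sections
  have hmem : ∀ α : Fin s → ℕ, mdeg deg α = n → ∃ k, (b k : A) = mono f α := by
    intro α hα
    have hle : ∀ i, α i < n + 1 := by
      intro i
      have h1 : α i * deg i ≤ mdeg deg α :=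
        Finset.single_le_sum (f := fun j => α j * deg j) (fun j _ => Nat.zero_le _) (Finset.mem_univ i)
      have h2 : α i ≤ α i * deg i := Nat.le_mul_of_pos_right _ (hdeg i)
      omega
    let α' : I := ⟨fun i => ⟨α i, hle i⟩, hα⟩
    refine ⟨e.symm (some α'), ?_⟩
    show (b₀ (e (e.symm (some α')))).1 = _
    rw [Equiv.apply_symm_apply]
  have hspan : 𝒜 n ≤ Submodule.span R {x : A | ∃ k, x = (b k : A)} := by
    refine (le_span_mono 𝒜 hf hgen n).trans (Submodule.span_mono ?_)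
    rintro _ ⟨α, hα, rfl⟩
    obtain ⟨k, hk⟩ := hmem α hα
    exact ⟨k, hk.symm⟩
  have hsp : ∀ x : Proj 𝒜, ∃ k : Fin (N + 1), x ∈ Proj.basicOpen 𝒜 (b k : A) ∧
      ∀ (W : (Proj 𝒜).Opens) (hW : W = Proj.basicOpen 𝒜 (b k : A)) (S : Subring Γ(Proj 𝒜, W)),
        (∀ k', fr 𝒜 (b k').1 (b k).1 (b k').2 (b k).2 W (notMem_of_mem_basicOpen 𝒜 hW.le) ∈ S) →
        (∀ c : R, fr 𝒜 (algebraMap R A c) 1 (SetLike.algebraMap_mem_graded 𝒜 c)
          SetLike.GradedOne.one_mem W (fun y _ => one_notMem 𝒜 y) ∈ S) → S = ⊤ := by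
    intro x
    obtain ⟨i, hi⟩ := exists_notMem_of_adjoin_eq_top 𝒜 f hgen x
    have hdi : n / deg i * deg i = n := Nat.div_mul_cancel ((hdvd i).trans (Dvd.intro_left a rfl))
    obtain ⟨k, hk⟩ := hmem (Pi.single i (n / deg i)) (by rw [mdeg_single, hdi])
    rw [mono_single] at hk
    refine ⟨k, ?_, ?_⟩
    · rw [hk, Proj.mem_basicOpen]
      intro hcon
      exact hi (x.isPrime.mem_of_pow_mem _ hcon)
    · intro W hW S h1 h0
      refine subring_eq_top_of_veronese 𝒜 (b k).2 W hW.le S ?_ h0 hn0 hver hW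
      intro b' hb'
      have hT : ∀ y ∈ {x : A | ∃ k, x = (b k : A)}, ∃ hy : y ∈ 𝒜 n,
          fr 𝒜 y (b k).1 hy (b k).2 W (notMem_of_mem_basicOpen 𝒜 hW.le) ∈ S := by
        rintro _ ⟨k', rfl⟩
        exact ⟨(b k').2, h1 k'⟩
      obtain ⟨_, h2⟩ := fr_mem_of_mem_span 𝒜 (b k).2 W hW.le S _ hT h0 b' (hspan hb')
      exact h2
  let L := Twist.twist 𝒜 (n : ℤ)
  let v : Fin (N + 1) → ProjUP.Γm L := fun k => gsec 𝒜 (b k)
  have hcov' : ∀ x : Proj 𝒜, ∃ k, x ∈ genOpen L (v k) := by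
    intro x
    obtain ⟨k, hx, -⟩ := hsp x
    exact ⟨k, basicOpen_le_genOpen 𝒜 (b k) hx⟩
  obtain ⟨j, hj, τ, hτ⟩ := exists_projSpace' N
    (strMap 𝒜 ≫ specULiftZIsTerminal.from (Spec (CommRingCat.of R))) L v hcov'
  let i : Proj 𝒜 ⟶ CohB1.ProjSpaceOver N (Spec (CommRingCat.of R)) :=
    pullback.lift j (strMap 𝒜) hj
  have hi : i ≫ CohB1.ProjSpaceOver.toBase N (Spec (CommRingCat.of R)) = strMap 𝒜 :=
    pullback.lift_snd _ _ _
  have hij : i ≫ fstP N (Spec (CommRingCat.of R)) = j := pullback.lift_fst _ _ _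
  obtain ⟨τ', hτ'⟩ : ∃ τ' : (Scheme.Modules.pullback (i ≫ fstP N (Spec (CommRingCat.of R)))).obj
      (Twist.twistProjSpace N (ULift.{u} ℤ) 1) ≅ L,
      ∀ k, (τ'.hom.app ⊤).hom (tsec N (i ≫ fstP N (Spec (CommRingCat.of R))) k) = v k := by
    rw [hij]
    exact ⟨τ, hτ⟩
  have hpi : IsProper (i ≫ CohB1.ProjSpaceOver.toBase N (Spec (CommRingCat.of R))) := by
    rw [hi]; exact hproper
  have hpi' : IsProper i := IsProper.of_comp i (CohB1.ProjSpaceOver.toBase N (Spec (CommRingCat.of R)))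
  have hcl : IsClosed (Set.range i) := i.isClosedMap.isClosed_range
  refine ⟨N, i, isClosedImmersion_of_data' 𝒜 hn0 b hsp i hi τ' hτ' hcl, hi, ⟨?_⟩⟩
  exact τ'.symm ≪≫ compIso i (fstP N (Spec (CommRingCat.of R))) (Twist.twistProjSpace N (ULift.{u} ℤ) 1)

end main

end Groth.Agent.Lib.Helper60.Ver
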