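import Mathlib

set_option autoImplicit false

namespace Groth.Agent.Lib.Helper60.VeroneseFG

open DirectSum

variable {A σ : Type*} [CommRing A] [SetLike σ A] [AddSubgroupClass σ A] (𝒜 : ℕ → σ) [GradedRing 𝒜]
variable {M τ : Type*} [AddCommGroup M] [Module A M] [SetLike τ M] [AddSubgroupClass τ M]
  (ℳ : ℕ → τ) [SetLike.GradedSMul 𝒜 ℳ] [DirectSum.Decomposition ℳ]

/-- Homogeneous components of `a • z` for `z` homogeneous. -/
theorem coe_decompose_smul_of_mem {e D : ℕ} {z : M} (hz : z ∈ ℳ e) (a : A) :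
    ((decompose ℳ (a • z)) D : M) =
      if e ≤ D then ((decompose 𝒜 a (D - e) : 𝒜 (D - e)) : A) • z else 0 := by
  classical
  have hmem : ∀ k, ((decompose 𝒜 a k : 𝒜 k) : A) • z ∈ ℳ (k + e) := fun k =>
    SetLike.GradedSMul.smul_mem (decompose 𝒜 a k).2 hz
  have h1 : a • z = ∑ k ∈ (decompose 𝒜 a).support, ((decompose 𝒜 a k : 𝒜 k) : A) • z := by
    conv_lhs => rw [← DirectSum.sum_support_decompose 𝒜 a]
    rw [Finset.sum_smul]
  have h2 : ∀ k, ((decompose ℳ (((decompose 𝒜 a k : 𝒜 k) : A) • z)) D : M) =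
      if k + e = D then ((decompose 𝒜 a k : 𝒜 k) : A) • z else 0 := by
    intro k
    rw [decompose_of_mem ℳ (hmem k), DirectSum.of_apply]
    split_ifs with h
    · subst h
      rfl
    · rfl
  rw [h1, decompose_sum, DFinsupp.finsetSum_apply, AddSubmonoidClass.coe_finsetSum]
  simp_rw [h2]
  split_ifs with h
  · rw [Finset.sum_eq_single (D - e)]
    · rw [if_pos (by omega)]
    · intro k _ hk
      rw [if_neg (by omega)]
    · intro hk
      rw [DFinsupp.notMem_support_iff] at hk
      rw [hk]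
      simp
  · apply Finset.sum_eq_zero
    intro k _
    rw [if_neg (by omega)]

section Main

variable {ι κ : Type*} [Fintype ι] [DecidableEq ι] [Fintype κ] (g : ι → A) (dg : ι → ℕ) (z : κ → M) (e : κ → ℕ) (δ : ℕ)

/-- monomials in the `g j` -/
def mono (ρ : ι → ℕ) : A := ∏ j, g j ^ ρ j

/-- degree of a monomial -/
def mdeg (ρ : ι → ℕ) : ℕ := ∑ j, ρ j * dg j

omit [GradedRing 𝒜] in
theorem mono_mem [SetLike.GradedMonoid 𝒜] (hg : ∀ j, g j ∈ 𝒜 (dg j)) (ρ : ι → ℕ) :
    mono g ρ ∈ 𝒜 (mdeg dg ρ) := by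
  have := SetLike.prod_pow_mem_graded 𝒜 dg g (F := Finset.univ) ρ (fun k _ => hg k)
  simpa [mono, mdeg] using this

omit [SetLike σ A] [AddSubgroupClass σ A] in
theorem mono_update (ρ : ι → ℕ) (j : ι) (v : ℕ) :
    mono g (Function.update ρ j v) * g j ^ ρ j = mono g ρ * g j ^ v := by
  classical
  unfold mono
  have h1 : ∏ i, g i ^ (Function.update ρ j v) i =
      g j ^ v * ∏ i ∈ Finset.univ \ {j}, g i ^ ρ i := by
    have : (fun i => g i ^ (Function.update ρ j v) i) =
        Function.update (fun i => g i ^ ρ i) j (g j ^ v) := by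
      funext i
      by_cases h : i = j
      · subst h; simp
      · simp [h]
    rw [this, Finset.prod_update_of_mem (Finset.mem_univ j)]
  have h2 : ∏ i, g i ^ ρ i = g j ^ ρ j * ∏ i ∈ Finset.univ \ {j}, g i ^ ρ i :=
    Finset.prod_eq_mul_prod_sdiff_singleton_of_mem (Finset.mem_univ j) _
  rw [h1, h2]
  ring

theorem mdeg_update (ρ : ι → ℕ) (j : ι) (v : ℕ) :
    mdeg dg (Function.update ρ j v) + ρ j * dg j = mdeg dg ρ + v * dg j := by
  classical
  unfold mdeg
  have h1 : ∑ i, (Function.update ρ j v) i * dg i =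
      v * dg j + ∑ i ∈ Finset.univ \ {j}, ρ i * dg i := by
    have : (fun i => (Function.update ρ j v) i * dg i) =
        Function.update (fun i => ρ i * dg i) j (v * dg j) := by
      funext i
      by_cases h : i = j
      · subst h; simp
      · simp [h]
    rw [this, Finset.sum_update_of_mem (Finset.mem_univ j)]
  have h2 : ∑ i, ρ i * dg i = ρ j * dg j + ∑ i ∈ Finset.univ \ {j}, ρ i * dg i :=
    Finset.sum_eq_add_sum_sdiff_singleton_of_mem (Finset.mem_univ j) _
  rw [h1, h2]
  ring

/-- generators of the degree-`K δ` part over the Veronese subring -/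
def gens (K : ℕ) : Set M :=
  {m | ∃ (l : κ) (ρ : ι → ℕ) (k : ℕ) (a : A), (∀ j, ρ j < δ) ∧ a ∈ 𝒜 (k * δ) ∧
    mdeg dg ρ + e l + k * δ = K * δ ∧ m = a • (mono g ρ • z l)}

/-- the subgroup generated -/
def H (K : ℕ) : AddSubgroup M := AddSubgroup.closure (gens 𝒜 g dg z e δ K)

theorem smul_mem_H {K k' : ℕ} {a' : A} (ha' : a' ∈ 𝒜 (k' * δ)) {m : M}
    (hm : m ∈ H 𝒜 g dg z e δ K) : a' • m ∈ H 𝒜 g dg z e δ (K + k') := by
  unfold H at hm ⊢
  induction hm using AddSubgroup.closure_induction with
  | mem x hx =>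
    obtain ⟨l, ρ, k, a, hρ, ha, hdeg, rfl⟩ := hx
    apply AddSubgroup.subset_closure
    refine ⟨l, ρ, k' + k, a' * a, hρ, ?_, ?_, ?_⟩
    · rw [add_mul]
      exact SetLike.GradedMul.mul_mem ha' ha
    · rw [add_mul, add_mul]; omega
    · rw [mul_smul]
  | zero => rw [smul_zero]; exact zero_mem _
  | add x y _ _ hx hy => rw [smul_add]; exact add_mem hx hy
  | neg x _ hx => rw [smul_neg]; exact neg_mem hx

theorem mono_smul_mem_H (hδ : 0 < δ) (hg : ∀ j, g j ∈ 𝒜 (dg j)) :
    ∀ (n : ℕ) (ρ : ι → ℕ), ∑ j, ρ j = n → ∀ (l : κ) (K : ℕ),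
      mdeg dg ρ + e l = K * δ → mono g ρ • z l ∈ H 𝒜 g dg z e δ K := by
  classical
  intro n
  induction n using Nat.strong_induction_on with
  | _ n ih =>
    intro ρ hn l K hK
    by_cases hb : ∀ j, ρ j < δ
    · apply AddSubgroup.subset_closure
      refine ⟨l, ρ, 0, 1, hb, ?_, by omega, by rw [one_smul]⟩
      rw [zero_mul]
      exact SetLike.GradedOne.one_mem
    · push Not at hb
      obtain ⟨j, hj⟩ := hb
      have hupd := mono_update g ρ j (ρ j - δ)
      have hdegupd := mdeg_update dg ρ j (ρ j - δ)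
      -- `mono ρ = g j ^ δ * mono ρ'`
      have hmono : mono g ρ = g j ^ δ * mono g (Function.update ρ j (ρ j - δ)) := by
        have h3 : g j ^ ρ j = g j ^ δ * g j ^ (ρ j - δ) := by
          rw [← pow_add]; congr 1; omega
        by_cases hz : g j ^ (ρ j - δ) = 0
        · -- degenerate: both sides vanish
          have hz' : g j ^ ρ j = 0 := by rw [h3, hz, mul_zero]
          have e1 : mono g ρ = 0 := by
            unfold mono
            exact Finset.prod_eq_zero (Finset.mem_univ j) hz'
          have e2 : mono g (Function.update ρ j (ρ j - δ)) = 0 := by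
            unfold mono
            refine Finset.prod_eq_zero (Finset.mem_univ j) ?_
            simpa using hz
          rw [e1, e2, mul_zero]
        · -- generic: cancel (no domain assumption) -- use the explicit product formula instead
          unfold mono
          have h1 : ∏ i, g i ^ (Function.update ρ j (ρ j - δ)) i =
              g j ^ (ρ j - δ) * ∏ i ∈ Finset.univ \ {j}, g i ^ ρ i := by
            have : (fun i => g i ^ (Function.update ρ j (ρ j - δ)) i) =
                Function.update (fun i => g i ^ ρ i) j (g j ^ (ρ j - δ)) := by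
              funext i
              by_cases h : i = j
              · subst h; simp
              · simp [h]
            rw [this, Finset.prod_update_of_mem (Finset.mem_univ j)]
          have h2 : ∏ i, g i ^ ρ i = g j ^ ρ j * ∏ i ∈ Finset.univ \ {j}, g i ^ ρ i :=
            Finset.prod_eq_mul_prod_sdiff_singleton_of_mem (Finset.mem_univ j) _
          rw [h1, h2, h3]
          ring
      have hsum : ∑ i, (Function.update ρ j (ρ j - δ)) i < n := by
        have h1 : ∑ i, (Function.update ρ j (ρ j - δ)) i + ρ j = ∑ i, ρ i + (ρ j - δ) := by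
          have := mdeg_update (fun _ => 1) ρ j (ρ j - δ)
          simpa [mdeg] using this
        omega
      have hKge : dg j ≤ K := by
        by_contra hcon
        push Not at hcon
        have h1 : ρ j * dg j ≤ mdeg dg ρ := by
          unfold mdeg
          exact Finset.single_le_sum (f := fun i => ρ i * dg i) (fun i _ => Nat.zero_le _)
            (Finset.mem_univ j)
        have h2 : δ * dg j ≤ ρ j * dg j := Nat.mul_le_mul_right _ hj
        have h3 : K * δ < dg j * δ := Nat.mul_lt_mul_of_pos_right hcon hδ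
        have h4 : δ * dg j = dg j * δ := Nat.mul_comm _ _
        omega
      have hdeg' : mdeg dg (Function.update ρ j (ρ j - δ)) + e l = (K - dg j) * δ := by
        have h5 : (ρ j - δ) * dg j + δ * dg j = ρ j * dg j := by
          rw [← Nat.add_mul]; congr 1; omega
        have h6 : (K - dg j) * δ + dg j * δ = K * δ := by
          rw [← Nat.add_mul]; congr 1; omega
        have h4 : δ * dg j = dg j * δ := Nat.mul_comm _ _
        omega
      have hIH := ih _ hsum (Function.update ρ j (ρ j - δ)) rfl l (K - dg j) hdeg'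
      have hgj : g j ^ δ ∈ 𝒜 (dg j * δ) := by
        have := SetLike.pow_mem_graded δ (hg j)
        rwa [smul_eq_mul, Nat.mul_comm] at this
      have := smul_mem_H 𝒜 g dg z e δ hgj hIH
      rw [← mul_smul, ← hmono] at this
      have hK' : K - dg j + dg j = K := by omega
      rwa [hK'] at this

omit [SetLike σ A] [AddSubgroupClass σ A] in
theorem mono_succ (ρ : ι → ℕ) (j : ι) :
    mono g (Function.update ρ j (ρ j + 1)) = g j * mono g ρ := by
  classical
  unfold mono
  have h1 : ∏ i, g i ^ (Function.update ρ j (ρ j + 1)) i =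
      g j ^ (ρ j + 1) * ∏ i ∈ Finset.univ \ {j}, g i ^ ρ i := by
    have : (fun i => g i ^ (Function.update ρ j (ρ j + 1)) i) =
        Function.update (fun i => g i ^ ρ i) j (g j ^ (ρ j + 1)) := by
      funext i
      by_cases h : i = j
      · subst h; simp
      · simp [h]
    rw [this, Finset.prod_update_of_mem (Finset.mem_univ j)]
  have h2 : ∏ i, g i ^ ρ i = g j ^ ρ j * ∏ i ∈ Finset.univ \ {j}, g i ^ ρ i :=
    Finset.prod_eq_mul_prod_sdiff_singleton_of_mem (Finset.mem_univ j) _
  rw [h1, h2, pow_succ]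
  ring

omit [SetLike σ A] [AddSubgroupClass σ A] in
theorem mono_zero : mono g (fun _ => 0) = 1 := by simp [mono]

theorem mdeg_zero : mdeg dg (fun _ => 0) = 0 := by simp [mdeg]

theorem coeff_smul_mem_H (hδ : 0 < δ) (hg : ∀ j, g j ∈ 𝒜 (dg j)) (hpos : ∀ j, 0 < dg j)
    (hspan : (HomogeneousIdeal.irrelevant 𝒜).toIdeal = Ideal.span (Set.range g)) :
    ∀ (c : ℕ) (a : A), a ∈ 𝒜 c → ∀ (ρ : ι → ℕ) (l : κ) (K : ℕ),
      c + mdeg dg ρ + e l = K * δ → a • (mono g ρ • z l) ∈ H 𝒜 g dg z e δ K := by
  classical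
  intro c
  induction c using Nat.strong_induction_on with
  | _ c ih =>
    intro a ha ρ l K hK
    rcases Nat.eq_zero_or_pos c with hc | hc
    · subst hc
      have h1 := mono_smul_mem_H 𝒜 g dg z e δ hδ hg _ ρ rfl l K (by omega)
      have ha' : a ∈ 𝒜 (0 * δ) := by rwa [zero_mul]
      have := smul_mem_H 𝒜 g dg z e δ ha' h1
      simpa using this
    · have hirr : a ∈ (HomogeneousIdeal.irrelevant 𝒜).toIdeal :=
        HomogeneousIdeal.mem_irrelevant_of_mem 𝒜 hc ha
      rw [hspan, Ideal.mem_span_range_iff_exists_fun] at hirr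
      obtain ⟨b, hb⟩ := hirr
      have h1 : a = ∑ j, ((decompose 𝒜 (b j * g j) c : 𝒜 c) : A) := by
        have h2 : ((decompose 𝒜 a c : 𝒜 c) : A) = a := by
          rw [decompose_of_mem_same 𝒜 ha]
        rw [← h2, ← hb, decompose_sum, DFinsupp.finsetSum_apply, AddSubmonoidClass.coe_finsetSum]
      rw [h1, Finset.sum_smul]
      apply AddSubgroup.sum_mem
      intro j _
      rw [coe_decompose_mul_of_right_mem 𝒜 c (hg j)]
      split_ifs with hle
      · rw [mul_smul, ← mul_smul (g j), ← mono_succ]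
        have hlt : c - dg j < c := by have := hpos j; omega
        refine ih _ hlt _ (decompose 𝒜 (b j) (c - dg j)).2 _ l K ?_
        have := mdeg_update dg ρ j (ρ j + 1)
        rw [Nat.add_mul, one_mul] at this
        omega
      · rw [zero_smul]
        exact zero_mem _

theorem mem_H_of_mem_span (hδ : 0 < δ) (hg : ∀ j, g j ∈ 𝒜 (dg j)) (hpos : ∀ j, 0 < dg j)
    (hspan : (HomogeneousIdeal.irrelevant 𝒜).toIdeal = Ideal.span (Set.range g))
    (hz : ∀ l, z l ∈ ℳ (e l)) {K : ℕ} {m : M} (hm : m ∈ ℳ (K * δ))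
    (hm' : m ∈ Submodule.span A (Set.range z)) : m ∈ H 𝒜 g dg z e δ K := by
  classical
  rw [Submodule.mem_span_range_iff_exists_fun] at hm'
  obtain ⟨a, ha⟩ := hm'
  have h1 : m = ∑ l, ((decompose ℳ (a l • z l) (K * δ) : ℳ (K * δ)) : M) := by
    have h2 : ((decompose ℳ m (K * δ) : ℳ (K * δ)) : M) = m := by
      rw [decompose_of_mem_same ℳ hm]
    rw [← h2, ← ha, decompose_sum, DFinsupp.finsetSum_apply, AddSubmonoidClass.coe_finsetSum]
  rw [h1]
  apply AddSubgroup.sum_mem
  intro l _
  rw [coe_decompose_smul_of_mem 𝒜 ℳ (hz l)]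
  split_ifs with hle
  · have := coeff_smul_mem_H 𝒜 g dg z e δ hδ hg hpos hspan (K * δ - e l) _
      (decompose 𝒜 (a l) (K * δ - e l)).2 (fun _ => 0) l K (by rw [mdeg_zero]; omega)
    rwa [mono_zero, one_smul] at this
  · exact zero_mem _

end Main

section Gens

/-- A finitely generated irrelevant ideal is generated by finitely many homogeneous elements of
positive degree. -/
theorem exists_homogeneous_finset (hfg : (HomogeneousIdeal.irrelevant 𝒜).toIdeal.FG) :
    ∃ T : Finset A, (∀ t ∈ T, ∃ k, 0 < k ∧ t ∈ 𝒜 k) ∧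
      (HomogeneousIdeal.irrelevant 𝒜).toIdeal = Ideal.span (T : Set A) := by
  classical
  obtain ⟨S, hS⟩ := hfg
  have hSirr : ∀ s ∈ S, s ∈ (HomogeneousIdeal.irrelevant 𝒜).toIdeal := fun s hs => by
    rw [← hS]; exact Ideal.subset_span hs
  refine ⟨S.biUnion (fun s => (decompose 𝒜 s).support.image (fun k => ((decompose 𝒜 s k : 𝒜 k) : A))),
    ?_, ?_⟩
  · intro t ht
    rw [Finset.mem_biUnion] at ht
    obtain ⟨s, hs, ht⟩ := ht
    rw [Finset.mem_image] at ht
    obtain ⟨k, hk, rfl⟩ := ht
    refine ⟨k, ?_, (decompose 𝒜 s k).2⟩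
    rw [Nat.pos_iff_ne_zero]
    rintro rfl
    rw [DFinsupp.mem_support_iff] at hk
    apply hk
    have := hSirr s hs
    rw [HomogeneousIdeal.mem_iff, HomogeneousIdeal.mem_irrelevant_iff, GradedRing.proj_apply] at this
    exact Subtype.ext this
  · apply le_antisymm
    · rw [← hS, Ideal.span_le]
      intro s hs
      rw [← DirectSum.sum_support_decompose 𝒜 s]
      apply Ideal.sum_mem
      intro k hk
      apply Ideal.subset_span
      rw [Finset.mem_coe, Finset.mem_biUnion]
      exact ⟨s, hs, Finset.mem_image.2 ⟨k, hk, rfl⟩⟩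
    · rw [Ideal.span_le]
      intro t ht
      rw [Finset.mem_coe, Finset.mem_biUnion] at ht
      obtain ⟨s, hs, ht⟩ := ht
      rw [Finset.mem_image] at ht
      obtain ⟨k, -, rfl⟩ := ht
      exact (HomogeneousIdeal.irrelevant 𝒜).isHomogeneous k (hSirr s hs)

end Gens

end Groth.Agent.Lib.Helper60.VeroneseFG
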