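import Groth.Agent.Lib.Helper60.ZeroSch2
import Groth.Agent.Lib.Helper35.IntegralSec

/-!
# Zero schemes of sections differing by a unit (integral schemes)
-/

set_option autoImplicit false
universe u
open CategoryTheory CategoryTheory.Limits AlgebraicGeometry TopologicalSpace Opposite

namespace Groth.Agent.Lib.Helper60.ZeroSch

open Groth.Agent.Lib.Helper35.Gen Groth.Agent.Lib.Helper35.AbSheaf
open Groth.Agent.Lib.Helper35.QcohSec Groth.Agent.Lib.Helper60.SecKer
open Groth.Agent.Lib.Helper35.PbInv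

variable {X : Scheme.{u}} (L : X.Modules) (s s' : Coh.structureModule X ⟶ L)

theorem sval_smul_of_top (h : Γ(X, ⊤)) (hh : sval L s' ⊤ = h • sval L s ⊤) (U : X.Opens) :
    sval L s' U = rr X (le_top : U ≤ ⊤) h • sval L s U := by
  rw [← rs_sval L s' (le_top : U ≤ ⊤), hh, rs_smul, rs_sval]

theorem zeroIdealOn_le_of_smul (U : X.Opens) (v : Γ(X, U)) (hv : sval L s U = v • sval L s' U) :
    PicF2.zeroIdealOn L s U ≤ PicF2.zeroIdealOn L s' U := by
  intro a ha
  have ha' := (mem_zeroIdealOn L s U a).mp ha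
  refine (mem_zeroIdealOn L s' U a).mpr ?_
  intro m
  obtain ⟨b, hb⟩ := ha' m
  exact ⟨b * v, by rw [hb, hv, mul_smul]⟩

theorem zeroScheme_eq_of_unit (h : Γ(X, ⊤)) (hu : IsUnit h)
    (hh : sval L s' ⊤ = h • sval L s ⊤) : PicF2.zeroScheme L s' = PicF2.zeroScheme L s := by
  obtain ⟨u, rfl⟩ := hu
  have hh' : sval L s ⊤ = (↑u⁻¹ : Γ(X, ⊤)) • sval L s' ⊤ := by
    rw [hh, smul_smul, Units.inv_mul, one_smul]
  unfold PicF2.zeroScheme
  congr 1
  funext U
  apply le_antisymm
  · exact zeroIdealOn_le_of_smul L s' s U.1 _ (sval_smul_of_top L s s' _ hh U.1)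
  · exact zeroIdealOn_le_of_smul L s s' U.1 _ (sval_smul_of_top L s' s _ hh' U.1)

section integral

variable [IsIntegral X] (hL : PicF.IsInvertible L)

include hL in
/-- on an integral scheme a nonzero section of an invertible module is torsion free -/
theorem eq_zero_of_smul_sval (hs : s ≠ 0) {W : X.Opens} {e : Γ(L, W)} (he : IsGen L W e)
    (d : Γ(X, W)) (hd : d • sval L s W = 0) : d = 0 := by
  by_cases hW : (W : Set X).Nonempty
  · have : Nonempty W := hW.to_subtype
    obtain ⟨c, hc⟩ := he.exists_eq_smul (sval L s W)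
    have hc0 : c ≠ 0 := by
      rintro rfl
      rw [zero_smul] at hc
      exact Groth.Agent.Lib.Helper35.IntegralSec.val_ne_zero hL s hs W hW hc
    rw [hc, ← mul_smul] at hd
    have h1 : d * c = 0 := he.smul_injective (by rw [hd, zero_smul])
    exact (mul_eq_zero.mp h1).resolve_right hc0
  · have hbot : W = ⊥ := by
      ext x
      simp only [Opens.coe_bot, Set.mem_empty_iff_false, iff_false]
      exact fun hx => hW ⟨x, hx⟩
    subst hbot
    exact Subsingleton.elim _ _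

include hL in
theorem exists_unit_of_zeroScheme_eq (hs : s ≠ 0)
    (hZ : PicF2.zeroScheme L s' = PicF2.zeroScheme L s) :
    ∃ h : Γ(X, ⊤), IsUnit h ∧ sval L s' ⊤ = h • sval L s ⊤ := by
  have key : ∀ x : X, ∃ (V : X.Opens) (_ : x ∈ V) (e : Γ(L, V)) (_ : IsGen L V e) (u : Γ(X, V)),
      IsUnit u ∧ sval L s' V = u • sval L s V := by
    intro x
    obtain ⟨V₀, hxV₀, e₀, he₀⟩ := exists_isGen_of_isInvertible hL x
    obtain ⟨V, hV, hxV, hVV₀⟩ := exists_isAffineOpen_mem_and_subset (x := x) (U := V₀) hxV₀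
    have he : IsGen L V (rs L hVV₀ e₀) := he₀.mono hVV₀
    have : Nonempty V := ⟨⟨x, hxV⟩⟩
    obtain ⟨c, hc⟩ := he.exists_eq_smul (sval L s V)
    obtain ⟨c', hc'⟩ := he.exists_eq_smul (sval L s' V)
    have hI : PicF2.zeroIdealOn L s' V = PicF2.zeroIdealOn L s V := by
      rw [← zeroScheme_ideal L s' hL ⟨V, hV⟩, ← zeroScheme_ideal L s hL ⟨V, hV⟩, hZ]
    have h1 : c ∈ PicF2.zeroIdealOn L s V :=
      (mem_zeroIdealOn_of_isGen L s he c hc c).mpr ⟨1, (one_mul c).symm⟩
    have h2 : c' ∈ PicF2.zeroIdealOn L s' V :=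
      (mem_zeroIdealOn_of_isGen L s' he c' hc' c').mpr ⟨1, (one_mul c').symm⟩
    rw [← hI] at h1
    rw [hI] at h2
    obtain ⟨b, hb⟩ := (mem_zeroIdealOn_of_isGen L s' he c' hc' c).mp h1
    obtain ⟨b', hb'⟩ := (mem_zeroIdealOn_of_isGen L s he c hc c').mp h2
    have hc0 : c ≠ 0 := by
      rintro rfl
      rw [zero_smul] at hc
      exact Groth.Agent.Lib.Helper35.IntegralSec.val_ne_zero hL s hs V ⟨x, hxV⟩ hc
    have hbb : b * b' = 1 := by
      have h3 : (b * b' - 1) * c = 0 := by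
        rw [sub_mul, one_mul, mul_assoc, ← hb', ← hb, sub_self]
      exact sub_eq_zero.mp ((mul_eq_zero.mp h3).resolve_right hc0)
    refine ⟨V, hxV, _, he, b', IsUnit.of_mul_eq_one b (by rw [mul_comm]; exact hbb), ?_⟩
    rw [hc', hc, hb', mul_smul]
  choose V hxV e he u hu huv using key
  obtain ⟨h, hh⟩ := Groth.Agent.Lib.Lead.SheafGlue.exists_glue_ptsX (W := (⊤ : X.Opens))
    (fun x => V x.1) (fun x => le_top) (fun x => hxV x.1) (fun x => u x.1) (by
      intro x y
      have hx := congrArg (rs L (inf_le_left : V x.1 ⊓ V y.1 ≤ V x.1)) (huv x.1)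
      have hy := congrArg (rs L (inf_le_right : V x.1 ⊓ V y.1 ≤ V y.1)) (huv y.1)
      rw [rs_sval, rs_smul, rs_sval] at hx hy
      have hd : (rr X inf_le_left (u x.1) - rr X inf_le_right (u y.1)) •
          sval L s (V x.1 ⊓ V y.1) = 0 := by
        rw [sub_smul, ← hx, ← hy, sub_self]
      exact sub_eq_zero.mp
        (eq_zero_of_smul_sval L s hL hs ((he x.1).mono inf_le_left) _ hd))
  refine ⟨h, ?_, ?_⟩
  · apply X.toRingedSpace.isUnit_of_isUnit_germ ⊤ h
    intro x hx
    have h1 : X.presheaf.germ ⊤ x hx h =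
        X.presheaf.germ (V x) x (hxV x) (X.presheaf.map (homOfLE le_top).op h) :=
      (TopCat.Presheaf.germ_res_apply X.presheaf (homOfLE le_top) x (hxV x) h).symm
    rw [h1, hh ⟨x, hx⟩]
    exact (hu x).map _
  · apply Groth.Agent.Lib.Lead.SheafGlue.eq_of_locally_eq_pts
    intro x hx
    refine ⟨V x, le_top, hxV x, ?_⟩
    change rs L (le_top : V x ≤ ⊤) (sval L s' ⊤) = rs L (le_top : V x ≤ ⊤) (h • sval L s ⊤)
    rw [rs_sval, rs_smul, rs_sval, huv x]
    congr 1
    exact (hh ⟨x, hx⟩).symm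

end integral

end Groth.Agent.Lib.Helper60.ZeroSch
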